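import Cfsg.Agent.Lib.Char.CentD8b

/-! # Finite perfect groups with an involution whose centralizer is dihedral of order eight: the count. -/

set_option autoImplicit false
set_option linter.unusedSectionVars false
set_option linter.style.haveILetI false

namespace Cfsg.Agent.Lib.Char.CentD8

open Cfsg Subgroup Cfsg.Agent.Lib.Char Cfsg.Agent.Lib.Char.BrSuz
open scoped ComplexConjugate

universe u

section General

variable {G : Type u} [Group G] [Fintype G]

/-- The class of an element: sum of a character over products of two conjugates. -/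
theorem sum_sum_class' {χ : G → ℂ} (hχ : IsIrrCharacter G χ) (z : G) [Fintype {x : G // IsConj z x}] :
    χ 1 * ∑ y : {x : G // IsConj z x}, ∑ x : {x : G // IsConj z x}, χ (x * y) =
      ((Nat.card {x : G // IsConj z x} : ℂ) * χ z) ^ 2 := by
  classical
  have hcl := IsCharacter.isClassFunction (IsIrrCharacter.isCharacter hχ)
  rw [Finset.mul_sum]
  have h1 : ∀ y : {x : G // IsConj z x}, χ 1 * ∑ x : {x : G // IsConj z x}, χ (x * y) =
      (Nat.card {x : G // IsConj z x} : ℂ) * χ z * χ z := by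
    intro y
    rw [IsIrrCharacter.sum_class_mul hχ z y]
    obtain ⟨c, hc⟩ := isConj_iff.mp y.2
    rw [← hc, hcl z c]
  rw [Finset.sum_congr rfl (fun y _ => h1 y), Finset.sum_const, nsmul_eq_mul, Finset.card_univ,
    ← Nat.card_eq_fintype_card]
  ring

end General

namespace D8Data

variable {G : Type u} [Group G] [Fintype G] (D : D8Data G)

/-- The class of the involution. -/
abbrev II : Type u := {x : G // IsConj D.t x}

noncomputable instance : Fintype D.II := Fintype.ofFinite _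

theorem II_sq (x : D.II) : (x : G) * x = 1 := by
  obtain ⟨c, hc⟩ := isConj_iff.mp x.2
  rw [← hc]
  have : c * D.t * c⁻¹ * (c * D.t * c⁻¹) = c * (D.t * D.t) * c⁻¹ := by group
  rw [this, t_mul_t]
  group

theorem isConj_of_T (hperf : commutator G = ⊤) {g : G} (hg : g ∈ centralizer ({D.t} : Set G)) (hC : g ∉ D.CC) :
    IsConj D.t g := by
  obtain ⟨i, rfl⟩ := D.refl_of_mem_T hg hC
  exact D.isConj_refl hperf i

theorem w_sq {w : G} (hw : w = D.a ∨ w = D.a⁻¹) : w * w = D.t := by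
  rcases hw with rfl | rfl
  · exact D.a_mul_a
  · exact D.a_inv_mul_a_inv

theorem w_mem {w : G} (hw : w = D.a ∨ w = D.a⁻¹) : w ∈ D.CC := by
  rcases hw with rfl | rfl
  · exact mem_zpowers _
  · exact inv_mem (mem_zpowers _)

theorem w_ne_inv {w : G} (hw : w = D.a ∨ w = D.a⁻¹) : w ≠ w⁻¹ := by
  rcases hw with rfl | rfl
  · exact D.a_ne_inv
  · rw [inv_inv]
    exact D.a_ne_inv.symm

theorem pair_mem {w : G} (hw : w = D.a ∨ w = D.a⁻¹) (x y : D.II) (hxy : (x : G) * y = w) :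
    (y : G) ∈ centralizer ({D.t} : Set G) ∧ (y : G) ∉ D.CC := by
  have hx := D.II_sq x
  have hy := D.II_sq y
  have hyi : (y : G)⁻¹ = y := inv_eq_of_mul_eq_one_left hy
  have hxi : (x : G)⁻¹ = x := inv_eq_of_mul_eq_one_left hx
  have h1 : (y : G) * w * (y : G)⁻¹ = w⁻¹ := by
    rw [← hxy, mul_inv_rev, hyi, hxi, mul_assoc, mul_assoc, hy, mul_one]
  have h2 : (y : G) * D.t * (y : G)⁻¹ = D.t := by
    have h3 : (y : G) * (w * w) * (y : G)⁻¹ = w⁻¹ * w⁻¹ := by
      rw [← h1]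
      group
    rw [D.w_sq hw] at h3
    rw [h3, ← mul_inv_rev, D.w_sq hw, t_inv]
  constructor
  · rw [mem_T_iff]
    rw [mul_inv_eq_iff_eq_mul] at h2
    exact h2
  · intro hC
    have h4 : Commute (y : G) w := by
      obtain ⟨k, hk⟩ := mem_zpowers_iff.mp hC
      obtain ⟨l, hl⟩ := mem_zpowers_iff.mp (D.w_mem hw)
      rw [← hk, ← hl]
      exact (Commute.refl D.a).zpow_zpow k l
    apply D.w_ne_inv hw
    rw [← h1, h4.eq, mul_inv_cancel_right]

open scoped Classical in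
/-- The number of pairs of conjugates of `t` with a given product. -/
theorem pair_card (hperf : commutator G = ⊤) {w : G} (hw : w = D.a ∨ w = D.a⁻¹) :
    (Finset.univ.filter (fun p : D.II × D.II => (p.1 : G) * p.2 = w)).card = 4 := by
  classical
  have hu : ∀ i : Fin 4, IsConj D.t (D.s * D.a ^ (i : ℕ)) := fun i => D.isConj_refl hperf i
  have huT : ∀ i : Fin 4, w * (D.s * D.a ^ (i : ℕ)) ∈ centralizer ({D.t} : Set G) := fun i =>
    mul_mem (D.C_le_T (D.w_mem hw)) (D.refl_mem_T i)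
  have huC : ∀ i : Fin 4, w * (D.s * D.a ^ (i : ℕ)) ∉ D.CC := by
    intro i h
    apply D.refl_not_mem i
    have h2 := mul_mem (inv_mem (D.w_mem hw)) h
    simpa using h2
  let f : Fin 4 → D.II × D.II := fun i =>
    (⟨w * (D.s * D.a ^ (i : ℕ)), D.isConj_of_T hperf (huT i) (huC i)⟩, ⟨_, hu i⟩)
  have hinj : Function.Injective f := by
    intro i j hij
    have h1 : D.s * D.a ^ (i : ℕ) = D.s * D.a ^ (j : ℕ) := congrArg (fun p : D.II × D.II => (p.2 : G)) hij
    have h2 := mul_left_cancel h1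
    have h3 : (i : ℕ) < orderOf D.a := by rw [orderOf_a]; exact i.2
    have h4 : (j : ℕ) < orderOf D.a := by rw [orderOf_a]; exact j.2
    exact Fin.ext (pow_injOn_Iio_orderOf (Set.mem_Iio.mpr h3) (Set.mem_Iio.mpr h4) h2)
  have himg : Finset.univ.filter (fun p : D.II × D.II => (p.1 : G) * p.2 = w) = Finset.univ.image f := by
    ext ⟨x, y⟩
    simp only [Finset.mem_filter, Finset.mem_univ, true_and, Finset.mem_image]
    constructor
    · intro h
      obtain ⟨hT, hC⟩ := D.pair_mem hw x y h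
      obtain ⟨j, hj⟩ := D.refl_of_mem_T hT hC
      have hy2 : (y : G) * y = 1 := D.II_sq y
      have hmod : D.a ^ j = D.a ^ (j % 4) := by
        rw [← D.orderOf_a, pow_mod_orderOf]
      refine ⟨⟨j % 4, Nat.mod_lt _ (by norm_num)⟩, ?_⟩
      simp only [f]
      have e2 : D.s * D.a ^ (j % 4) = y := by rw [hj, hmod]
      apply Prod.ext
      · apply Subtype.ext
        show w * (D.s * D.a ^ (j % 4)) = x
        rw [e2, ← h, mul_assoc, hy2, mul_one]
      · exact Subtype.ext e2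
    · rintro ⟨i, hi⟩
      have h1 := congrArg (fun p : D.II × D.II => (p.1 : G) * (p.2 : G)) hi
      simp only [f] at h1
      rw [← h1]
      rw [mul_assoc, D.refl_sq, mul_one]
  rw [himg, Finset.card_image_of_injective _ hinj]
  simp

theorem t_ne_a : D.t ≠ D.a := by
  intro h
  apply D.a_ne_one
  have h1 := D.a_mul_a
  rw [h] at h1
  exact mul_eq_left.mp h1

theorem t_ne_a_inv : D.t ≠ D.a⁻¹ := by
  intro h
  apply D.t_ne_a
  rw [← D.t_inv, h, inv_inv]

open scoped Classical in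
/-- The extension by zero of `1 - lam`. -/
theorem ext_val (w : G) : extendByZero D.CC (thetaL D.lam) w =
    (if w = D.a then (2 : ℂ) else 0) + (if w = D.a⁻¹ then 2 else 0) := by
  classical
  by_cases hw : w ∈ D.CC
  · rw [extendByZero_of_mem _ _ hw]
    simp only [thetaL]
    rcases D.eq_gen_pow ⟨w, hw⟩ with h | h | h | h
    · have h1 : w = 1 := congrArg Subtype.val h
      rw [h, map_one, if_neg, if_neg]
      · simp
      · rw [h1]
        intro h2
        apply D.a_ne_one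
        simpa using h2.symm
      · rw [h1]
        exact D.a_ne_one.symm
    · have h1 : w = D.a := congrArg Subtype.val h
      rw [h, lam_gen, if_pos h1, if_neg]
      · simp
        norm_num
      · rw [h1]
        exact D.a_ne_inv
    · have h1 : w = D.t := (congrArg Subtype.val h).trans D.gen_sq
      rw [h, lam_gen_sq, if_neg, if_neg]
      · simp
      · rw [h1]
        exact D.t_ne_a_inv
      · rw [h1]
        exact D.t_ne_a
    · have h1 : w = D.a⁻¹ := (congrArg Subtype.val h).trans D.gen_cube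
      rw [h, lam_gen_cube, if_neg, if_pos h1]
      · simp
        norm_num
      · rw [h1]
        exact D.a_ne_inv.symm
  · rw [extendByZero_of_notMem _ _ hw, if_neg, if_neg]
    · simp
    · rintro rfl
      exact hw (inv_mem (mem_zpowers _))
    · rintro rfl
      exact hw (mem_zpowers _)

/-- Conjugation permutes the class. -/
def conjII (h : G) : D.II ≃ D.II where
  toFun x := ⟨h⁻¹ * x * h, x.2.trans (isConj_iff.mpr ⟨h⁻¹, by simp⟩)⟩
  invFun x := ⟨h * x * h⁻¹, x.2.trans (isConj_iff.mpr ⟨h, by simp⟩)⟩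
  left_inv x := by
    apply Subtype.ext
    simp [mul_assoc]
  right_inv x := by
    apply Subtype.ext
    simp [mul_assoc]

open scoped Classical in
theorem sum_ind (hperf : commutator G = ⊤) {w : G} (hw : w = D.a ∨ w = D.a⁻¹) :
    ∑ y : D.II, ∑ x : D.II, (if (x : G) * y = w then (2 : ℂ) else 0) = 8 := by
  have h1 : ∑ y : D.II, ∑ x : D.II, (if (x : G) * y = w then (2 : ℂ) else 0) =
      ∑ p : D.II × D.II, (if (p.1 : G) * p.2 = w then (2 : ℂ) else 0) := by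
    rw [Fintype.sum_prod_type_right]
  rw [h1, Finset.sum_ite, Finset.sum_const_zero, Finset.sum_const, D.pair_card hperf hw]
  norm_num

/-- The character sum of `Θ`. -/
theorem sum_Th (hperf : commutator G = ⊤) :
    ∑ y : D.II, ∑ x : D.II, D.Th ((x : G) * y) = 4 * (Nat.card G : ℂ) := by
  classical
  letI : Fintype D.CC := Fintype.ofFinite _
  let E := extendByZero D.CC (thetaL D.lam)
  have h1 : ∀ g, D.Th g = (1 / 4) * ∑ h : G, E (h⁻¹ * g * h) := by
    intro g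
    rw [Th, indFun_apply, card_C]
    simp only [E]
    norm_num
  have h2 : ∀ h : G, ∑ y : D.II, ∑ x : D.II, E (h⁻¹ * ((x : G) * y) * h) = 16 := by
    intro h
    have h3 : ∀ (x y : D.II), E (h⁻¹ * ((x : G) * y) * h) = E (((D.conjII h x : D.II) : G) * (D.conjII h y : D.II)) := by
      intro x y
      congr 1
      show _ = (h⁻¹ * x * h) * (h⁻¹ * y * h)
      group
    simp only [h3]
    have h4 : ∀ y : D.II, ∑ x : D.II, E (((D.conjII h x : D.II) : G) * (D.conjII h y : D.II)) =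
        ∑ x : D.II, E ((x : G) * (D.conjII h y : D.II)) := fun y =>
      (D.conjII h).sum_comp (fun x : D.II => E ((x : G) * (D.conjII h y : D.II)))
    simp only [h4]
    rw [(D.conjII h).sum_comp (fun y : D.II => ∑ x : D.II, E ((x : G) * (y : G)))]
    simp only [E, ext_val, Finset.sum_add_distrib]
    rw [D.sum_ind hperf (Or.inl rfl), D.sum_ind hperf (Or.inr rfl)]
    norm_num
  simp only [h1, ← Finset.mul_sum]
  have h5 : ∑ y : D.II, ∑ x : D.II, ∑ h : G, E (h⁻¹ * ((x : G) * y) * h) =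
      ∑ h : G, ∑ y : D.II, ∑ x : D.II, E (h⁻¹ * ((x : G) * y) * h) := by
    symm
    rw [Finset.sum_comm]
    refine Finset.sum_congr rfl fun y _ => ?_
    rw [Finset.sum_comm]
  rw [h5]
  simp only [h2]
  rw [Finset.sum_const, Finset.card_univ, nsmul_eq_mul, ← Nat.card_eq_fintype_card]
  ring

include D in
/-- The main theorem. -/
theorem card_eq (hperf : commutator G = ⊤) : Nat.card G = 168 ∨ Nat.card G = 360 := by
  classical
  obtain ⟨χ₁, χ₂, χ₃, h12, h13, h23, hn1, hn2, hn3, ε₁, ε₂, ε₃, hε₁, hε₂, hε₃, hi1, hi2, hi3, hval⟩ :=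
    exists_three_irr D.isGen_Th D.norm_Th D.inner_Th_one
  have hxval : ∀ (χ : IrrCharacter G) (ε : ℤ), classInner D.Th (χ : G → ℂ) = ε → (χ : G → ℂ) D.a = ε := by
    intro χ ε h
    rw [D.inner_Th (IsCharacter.isClassFunction (IsIrrCharacter.isCharacter χ.2))] at h
    have h2 := congrArg conj h
    rwa [Complex.conj_conj, map_intCast] at h2
  obtain ⟨d₁, b₁, hd₁, hb₁, hod₁, h4₁⟩ := D.irr_data χ₁.2 hε₁ (hxval χ₁ ε₁ hi1)
  obtain ⟨d₂, b₂, hd₂, hb₂, hod₂, h4₂⟩ := D.irr_data χ₂.2 hε₂ (hxval χ₂ ε₂ hi2)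
  obtain ⟨d₃, b₃, hd₃, hb₃, hod₃, h4₃⟩ := D.irr_data χ₃.2 hε₃ (hxval χ₃ ε₃ hi3)
  have horth := D.orth_t h12 h13 h23 hn1 hn2 hn3 hb₁ hb₂ hb₃
  -- the `b`'s are `±1`
  have hbodd : ∀ {d : ℕ} {b : ℤ}, Odd d → (4 : ℤ) ∣ (d : ℤ) - b → Odd b := by
    intro d b hd hb
    obtain ⟨k, hk⟩ := hd
    obtain ⟨m, hm⟩ := hb
    refine ⟨k - 2 * m, ?_⟩
    rw [hk] at hm
    push_cast at hm
    linarith
  have hbsq : ∀ {b : ℤ}, Odd b → b ^ 2 < 9 → b = 1 ∨ b = -1 := by
    intro b ho hb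
    have h2 : |b| < 3 := by
      apply abs_lt_of_sq_lt_sq <;> omega
    obtain ⟨k, hk⟩ := ho
    have := abs_lt.mp h2
    omega
  have hB₁ := hbsq (hbodd hod₁ h4₁) (by nlinarith [sq_nonneg b₂, sq_nonneg b₃])
  have hB₂ := hbsq (hbodd hod₂ h4₂) (by nlinarith [sq_nonneg b₁, sq_nonneg b₃])
  have hB₃ := hbsq (hbodd hod₃ h4₃) (by nlinarith [sq_nonneg b₁, sq_nonneg b₂])
  have hsq : ∀ {b : ℤ}, b = 1 ∨ b = -1 → b ^ 2 = 1 := by
    rintro b (rfl | rfl) <;> norm_num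
  have hT : Nat.card (centralizer ({D.t} : Set G)) = 8 := D.hcard
  -- the size of the class
  set n := (centralizer ({D.t} : Set G)).index with hn
  have hcardG : Nat.card G = 8 * n := by
    rw [← hT, hn]
    exact (Subgroup.card_mul_index _).symm
  have hnI : Nat.card D.II = n := by
    have h1 : Nat.card D.II * Nat.card (centralizer ({D.t} : Set G)) = Nat.card G :=
      card_conj_mul_card_centralizer D.t
    rw [hT, hcardG] at h1
    omega
  have hn0 : 0 < n := by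
    have h1 : 0 < Nat.card G := Nat.card_pos
    omega
  -- divisibility
  have hdv₁ := D.degree_dvd χ₁.2 hd₁ hb₁ (hsq hB₁)
  have hdv₂ := D.degree_dvd χ₂.2 hd₂ hb₂ (hsq hB₂)
  have hdv₃ := D.degree_dvd χ₃.2 hd₃ hb₃ (hsq hB₃)
  -- nonlinear
  have hlin : ∀ (χ : IrrCharacter G) (d : ℕ), (χ : G → ℂ) ≠ (fun _ => 1) → (χ : G → ℂ) 1 = d → d ≠ 1 := by
    rintro χ d hne hd rfl
    obtain ⟨μ, hμ⟩ := IsCharacter.exists_monoidHom (IsIrrCharacter.isCharacter χ.2) (by rw [hd]; simp)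
    apply hne
    funext g
    rw [hμ]
    have h1 : commutator G ≤ μ.ker := by
      rw [_root_.commutator_def, Subgroup.commutator_le]
      intro x _ y _
      rw [MonoidHom.mem_ker, commutatorElement_def, map_mul, map_mul, map_mul, map_inv, map_inv]
      rw [mul_comm (μ x) (μ y)]
      simp
    rw [hperf, top_le_iff] at h1
    have h2 : g ∈ μ.ker := by rw [h1]; trivial
    rw [MonoidHom.mem_ker] at h2
    show ((μ g : ℂˣ) : ℂ) = 1
    rw [h2]
    simp
  have hne₁ := hlin χ₁ d₁ hn1 hd₁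
  have hne₂ := hlin χ₂ d₂ hn2 hd₂
  have hne₃ := hlin χ₃ d₃ hn3 hd₃
  -- values at `1` and `t`
  have hdeg : (1 : ℤ) + ε₁ * d₁ + ε₂ * d₂ + ε₃ * d₃ = 0 := by
    have h1 := hval 1
    rw [D.Th_one, hd₁, hd₂, hd₃] at h1
    have h2 : (((1 : ℤ) + ε₁ * d₁ + ε₂ * d₂ + ε₃ * d₃ : ℤ) : ℂ) = ((0 : ℤ) : ℂ) := by
      push_cast
      exact h1.symm
    exact_mod_cast h2
  have hval_t : (1 : ℤ) + ε₁ * b₁ + ε₂ * b₂ + ε₃ * b₃ = 0 := by
    have h1 := hval D.t
    rw [D.Th_t, hb₁, hb₂, hb₃] at h1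
    have h2 : (((1 : ℤ) + ε₁ * b₁ + ε₂ * b₂ + ε₃ * b₃ : ℤ) : ℂ) = ((0 : ℤ) : ℂ) := by
      push_cast
      exact h1.symm
    exact_mod_cast h2
  -- the character sums
  have hS := D.sum_Th hperf
  have hcl : ∀ (χ : IrrCharacter G) (d : ℕ) (b : ℤ), (χ : G → ℂ) 1 = d → (χ : G → ℂ) D.t = b → (b = 1 ∨ b = -1) →
      (d : ℂ) * ∑ y : D.II, ∑ x : D.II, (χ : G → ℂ) ((x : G) * y) = (n : ℂ) ^ 2 := by
    intro χ d b hd hb hb1
    have h1 := sum_sum_class' χ.2 D.t
    rw [hd] at h1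
    change (d : ℂ) * ∑ y : D.II, ∑ x : D.II, (χ : G → ℂ) ((x : G) * y) =
      ((Nat.card D.II : ℂ) * (χ : G → ℂ) D.t) ^ 2 at h1
    rw [h1, hnI, hb]
    rcases hb1 with rfl | rfl <;> simp
  have hc₁ := hcl χ₁ d₁ b₁ hd₁ hb₁ hB₁
  have hc₂ := hcl χ₂ d₂ b₂ hd₂ hb₂ hB₂
  have hc₃ := hcl χ₃ d₃ b₃ hd₃ hb₃ hB₃
  have hSe : (n : ℂ) ^ 2 + (ε₁ : ℂ) * ∑ y : D.II, ∑ x : D.II, (χ₁ : G → ℂ) ((x : G) * y)
      + (ε₂ : ℂ) * ∑ y : D.II, ∑ x : D.II, (χ₂ : G → ℂ) ((x : G) * y)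
      + (ε₃ : ℂ) * ∑ y : D.II, ∑ x : D.II, (χ₃ : G → ℂ) ((x : G) * y) = 32 * (n : ℂ) := by
    have h1 : (4 : ℂ) * (Nat.card G : ℂ) = 32 * (n : ℂ) := by
      rw [hcardG]
      push_cast
      ring
    rw [← h1, ← hS]
    simp only [hval, Finset.sum_add_distrib, Finset.mul_sum, Finset.sum_const, Finset.card_univ, nsmul_eq_mul]
    rw [← Nat.card_eq_fintype_card, hnI]
    have h2 : ∀ c : ℂ, (n : ℂ) * ((n : ℂ) * c) = (n : ℂ) ^ 2 * c := by
      intro c
      ring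
    simp only [mul_one]
    ring
  have hnC : (n : ℂ) ≠ 0 := by exact_mod_cast hn0.ne'
  have hE0 : (32 : ℂ) * ((d₁ : ℂ) * d₂ * d₃) = (n : ℂ) * ((d₁ : ℂ) * d₂ * d₃ + ε₁ * d₂ * d₃ + ε₂ * d₁ * d₃ + ε₃ * d₁ * d₂) := by
    apply mul_left_cancel₀ hnC
    linear_combination (-(d₁ : ℂ) * d₂ * d₃) * hSe + ((ε₁ : ℂ) * d₂ * d₃) * hc₁ + ((ε₂ : ℂ) * d₁ * d₃) * hc₂
      + ((ε₃ : ℂ) * d₁ * d₂) * hc₃
  have hE1 : (32 : ℤ) * ((d₁ : ℤ) * d₂ * d₃) = (n : ℤ) * ((d₁ : ℤ) * d₂ * d₃ + ε₁ * d₂ * d₃ + ε₂ * d₁ * d₃ + ε₃ * d₁ * d₂) := by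
    exact_mod_cast hE0
  -- the final arithmetic
  set X₁ : ℤ := ε₁ * d₁ with hX₁
  set X₂ : ℤ := ε₂ * d₂ with hX₂
  set X₃ : ℤ := ε₃ * d₃ with hX₃
  have hsumX : X₁ + X₂ + X₃ = -1 := by linarith
  have hprodX : (n : ℤ) * ((1 + X₁) * (1 + X₂) * (1 + X₃)) = 32 * (X₁ * X₂ * X₃) := by
    have hE2 : 32 * (X₁ * X₂ * X₃) = (n : ℤ) * (X₁ * X₂ * X₃ + X₂ * X₃ + X₁ * X₃ + X₁ * X₂) := by
      rw [hX₁, hX₂, hX₃]
      rcases hε₁ with rfl | rfl <;> rcases hε₂ with rfl | rfl <;> rcases hε₃ with rfl | rfl <;>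
        first | linear_combination hE1 | linear_combination -hE1
    rw [hE2]
    linear_combination (n : ℤ) * hsumX
  have hdvd : ∀ {ε : ℤ} {d : ℕ}, (ε = 1 ∨ ε = -1) → d ∣ n → ε * d ∣ (n : ℤ) := by
    intro ε d hε hd
    have h1 : (d : ℤ) ∣ n := by exact_mod_cast hd
    rcases hε with rfl | rfl
    · simpa using h1
    · simpa using h1
  have hneX : ∀ {ε : ℤ} {d : ℕ}, (ε = 1 ∨ ε = -1) → d ≠ 1 → ε * d ≠ 1 := by
    intro ε d hε hd
    rcases hε with rfl | rfl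
    · simp
      exact hd
    · intro h
      omega
  have hsig : ∀ {ε b : ℤ}, (ε = 1 ∨ ε = -1) → (b = 1 ∨ b = -1) → (ε * b = 1 ∨ ε * b = -1) := by
    rintro ε b (rfl | rfl) (rfl | rfl) <;> norm_num
  have hmod : ∀ {ε b : ℤ} {d : ℕ}, (4 : ℤ) ∣ (d : ℤ) - b → (4 : ℤ) ∣ ε * d - ε * b := by
    intro ε b d h
    rw [← mul_sub]
    exact Dvd.dvd.mul_left h ε
  have hd₁' := hdvd hε₁ hdv₁
  have hd₂' := hdvd hε₂ hdv₂
  have hd₃' := hdvd hε₃ hdv₃
  have hm₁ : (4 : ℤ) ∣ X₁ - ε₁ * b₁ := hmod h4₁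
  have hm₂ : (4 : ℤ) ∣ X₂ - ε₂ * b₂ := hmod h4₂
  have hm₃ : (4 : ℤ) ∣ X₃ - ε₃ * b₃ := hmod h4₃
  have hn1' : 0 < (n : ℤ) := by exact_mod_cast hn0
  have hfin : (n : ℤ) = 21 ∨ (n : ℤ) = 45 := by
    rcases hsig hε₁ hB₁ with h₁ | h₁ <;> rcases hsig hε₂ hB₂ with h₂ | h₂ <;> rcases hsig hε₃ hB₃ with h₃ | h₃ <;>
      rw [h₁] at hm₁ <;> rw [h₂] at hm₂ <;> rw [h₃] at hm₃
    · omega
    · omega
    · omega
    · exact arith_main hn1' hsumX hd₁' hd₂' hd₃' (hneX hε₁ hne₁) hm₁ (by simpa using hm₂) (by simpa using hm₃) hprodX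
    · omega
    · exact arith_main hn1' (x₁ := X₂) (x₂ := X₁) (x₃ := X₃) (by linarith) hd₂' hd₁' hd₃' (hneX hε₂ hne₂) hm₂
        (by simpa using hm₁) (by simpa using hm₃) (by rw [mul_comm (1 + X₂), mul_comm X₂]; exact hprodX)
    · exact arith_main hn1' (x₁ := X₃) (x₂ := X₁) (x₃ := X₂) (by linarith) hd₃' hd₁' hd₂' (hneX hε₃ hne₃) hm₃
        (by simpa using hm₁) (by simpa using hm₂) (by linear_combination hprodX)
    · omega
  rcases hfin with h | h
  · left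
    have : n = 21 := by exact_mod_cast h
    rw [hcardG, this]
  · right
    have : n = 45 := by exact_mod_cast h
    rw [hcardG, this]

end D8Data

end Cfsg.Agent.Lib.Char.CentD8
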