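import Cfsg.Agent.Lib.Char.Basic

/-! # Irreducible characters of direct products. -/

set_option autoImplicit false

namespace Cfsg.Agent.Lib.Char

open Cfsg Module
open scoped ComplexConjugate

universe u v

variable {G : Type u} [Group G] {H : Type v} [Group H]

/-- The function `(g,h) ↦ φ g * ψ h`. -/
abbrev prodFun (φ : G → ℂ) (ψ : H → ℂ) : G × H → ℂ := fun x => φ x.1 * ψ x.2

theorem isCharacter_prodFun {φ : G → ℂ} {ψ : H → ℂ} (hφ : IsCharacter G φ) (hψ : IsCharacter H ψ) :
    IsCharacter (G × H) (prodFun φ ψ) :=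
  IsCharacter.mul (IsCharacter.comp hφ (MonoidHom.fst G H)) (IsCharacter.comp hψ (MonoidHom.snd G H))

variable [Fintype G] [Fintype H]

theorem classInner_prodFun (φ φ' : G → ℂ) (ψ ψ' : H → ℂ) :
    classInner (prodFun φ ψ) (prodFun φ' ψ') = classInner φ φ' * classInner ψ ψ' := by
  simp only [classInner, prodFun, Nat.card_prod, Nat.cast_mul, mul_inv, map_mul,
    Fintype.sum_prod_type]
  have : ∀ (a : G) (b : H), φ a * ψ b * (conj (φ' a) * conj (ψ' b)) =
      (φ a * conj (φ' a)) * (ψ b * conj (ψ' b)) := fun a b => by ring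
  simp only [this, ← Finset.mul_sum, ← Finset.sum_mul]
  ring

theorem isIrrCharacter_prodFun {φ : G → ℂ} {ψ : H → ℂ} (hφ : IsIrrCharacter G φ)
    (hψ : IsIrrCharacter H ψ) : IsIrrCharacter (G × H) (prodFun φ ψ) := by
  apply isIrrCharacter_of_classInner_self
    (isCharacter_prodFun (IsIrrCharacter.isCharacter hφ) (IsIrrCharacter.isCharacter hψ))
  rw [classInner_prodFun, classInner_irr_self hφ, classInner_irr_self hψ, one_mul]

/-- The map `Irr G × Irr H → Irr (G × H)`. -/
noncomputable def irrProd (p : IrrCharacter G × IrrCharacter H) : IrrCharacter (G × H) :=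
  ⟨prodFun p.1.1 p.2.1, isIrrCharacter_prodFun p.1.2 p.2.2⟩

theorem irrProd_injective : Function.Injective (irrProd (G := G) (H := H)) := by
  rintro ⟨⟨φ, hφ⟩, ⟨ψ, hψ⟩⟩ ⟨⟨φ', hφ'⟩, ⟨ψ', hψ'⟩⟩ h
  have h1 : prodFun φ ψ = prodFun φ' ψ' := congrArg Subtype.val h
  have h2 : classInner (prodFun φ ψ) (prodFun φ' ψ') = 1 := by
    rw [← h1]
    exact classInner_irr_self (isIrrCharacter_prodFun hφ hψ)
  rw [classInner_prodFun] at h2
  have h3 : φ = φ' := by
    by_contra hne
    rw [classInner_irr_of_ne hφ hφ' hne, zero_mul] at h2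
    exact zero_ne_one h2
  have h4 : ψ = ψ' := by
    by_contra hne
    rw [classInner_irr_of_ne hψ hψ' hne, mul_zero] at h2
    exact zero_ne_one h2
  subst h3
  subst h4
  rfl

omit [Fintype G] [Fintype H] in
/-- Conjugacy classes of a direct product. -/
theorem card_conjClasses_prod :
    Nat.card (ConjClasses (G × H)) = Nat.card (ConjClasses G) * Nat.card (ConjClasses H) := by
  rw [← Nat.card_prod]
  refine Nat.card_congr ⟨fun C => (ConjClasses.map (MonoidHom.fst G H) C, ConjClasses.map (MonoidHom.snd G H) C),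
    fun p => Quotient.liftOn₂' p.1 p.2 (fun a b => ConjClasses.mk (a, b)) ?_, ?_, ?_⟩
  · intro a b c d hac hbd
    apply ConjClasses.mk_eq_mk_iff_isConj.mpr
    obtain ⟨x, hx⟩ := isConj_iff.mp hac
    obtain ⟨y, hy⟩ := isConj_iff.mp hbd
    refine isConj_iff.mpr ⟨(x, y), ?_⟩
    simp [hx, hy]
  · intro C
    obtain ⟨⟨a, b⟩, rfl⟩ := ConjClasses.mk_surjective C
    rfl
  · rintro ⟨C, D⟩
    obtain ⟨a, rfl⟩ := ConjClasses.mk_surjective C
    obtain ⟨b, rfl⟩ := ConjClasses.mk_surjective D
    rfl

/-- Every irreducible character of a direct product is a product. -/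
theorem irrProd_surjective : Function.Surjective (irrProd (G := G) (H := H)) := by
  have hb := irrProd_injective (G := G) (H := H)
  refine (Function.Injective.bijective_of_nat_card_le hb ?_).2
  rw [Nat.card_prod, card_irr_eq_card_conjClasses, card_irr_eq_card_conjClasses,
    card_irr_eq_card_conjClasses, card_conjClasses_prod]

end Cfsg.Agent.Lib.Char
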