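import Cfsg.Agent.Lib.Char.Basic

/-! # Representations are determined by their characters; irreducible subrepresentations. -/

set_option autoImplicit false

namespace Cfsg.Agent.Lib.Char

open Cfsg Module
open scoped ComplexConjugate

universe u v w

section

variable {G : Type u} [Group G]
variable {V : Type v} [AddCommGroup V] [Module ℂ V]

/-- A subrepresentation of a subrepresentation, viewed in the big space. -/
def subrepMap {ρ : Representation ℂ G V} (A : Subrepresentation ρ)
    (A₁ : Subrepresentation A.toRepresentation) : Subrepresentation ρ where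
  toSubmodule := A₁.toSubmodule.map A.toSubmodule.subtype
  apply_mem_toSubmodule g := by
    rintro _ ⟨⟨x, hx⟩, hx1, rfl⟩
    exact ⟨A.toRepresentation g ⟨x, hx⟩, A₁.apply_mem_toSubmodule g hx1, rfl⟩

/-- The representation on a subrepresentation of a subrepresentation is the same as the
representation on its image. -/
noncomputable def subrepMapEquiv {ρ : Representation ℂ G V} (A : Subrepresentation ρ)
    (A₁ : Subrepresentation A.toRepresentation) :
    A₁.toRepresentation.Equiv (subrepMap A A₁).toRepresentation :=
  .mk (Submodule.equivMapOfInjective A.toSubmodule.subtype A.toSubmodule.injective_subtype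
    A₁.toSubmodule) (fun g => by
      ext x
      rfl)

/-- The subrepresentation `⊤` is the representation itself. -/
noncomputable def subrepTopEquiv (ρ : Representation ℂ G V) :
    (⊤ : Subrepresentation ρ).toRepresentation.Equiv ρ :=
  .mk (Submodule.topEquiv (R := ℂ) (M := V)) (fun g => by
    ext x
    rfl)

variable [Finite G]

/-- A nontrivial representation has an irreducible subrepresentation. -/
theorem exists_irreducible_subrep [FiniteDimensional ℂ V] (ρ : Representation ℂ G V)
    [Nontrivial V] : ∃ A : Subrepresentation ρ, A.toRepresentation.IsIrreducible := by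
  suffices h : ∀ (W : Type v) [AddCommGroup W] [Module ℂ W] [FiniteDimensional ℂ W]
      (ρ : Representation ℂ G W), Nontrivial W →
      ∃ A : Subrepresentation ρ, A.toRepresentation.IsIrreducible from h V ρ inferInstance
  refine rep_induction (P := fun W _ _ ρ => Nontrivial W →
      ∃ A : Subrepresentation ρ, A.toRepresentation.IsIrreducible) ?_ ?_ ?_
  · intro W _ _ _ ρ hs hn
    exact absurd hs (not_subsingleton_iff_nontrivial.mpr hn)
  · intro W _ _ _ ρ hρ _
    refine ⟨⊤, ?_⟩
    exact isIrreducible_of_equiv (subrepTopEquiv ρ).symm
  · intro W _ _ _ ρ A B hc hA hB hW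
    by_cases hAn : Nontrivial A.toSubmodule
    · obtain ⟨A₁, hA₁⟩ := hA hAn
      exact ⟨subrepMap A A₁, isIrreducible_of_equiv (subrepMapEquiv A A₁)⟩
    · have hBn : Nontrivial B.toSubmodule := by
        by_contra hBn
        rw [not_nontrivial_iff_subsingleton] at hAn hBn
        have h1 : A.toSubmodule = ⊥ := (Submodule.subsingleton_iff_eq_bot).mp hAn
        have h2 : B.toSubmodule = ⊥ := (Submodule.subsingleton_iff_eq_bot).mp hBn
        have h3 := hc.sup_eq_top
        rw [h1, h2] at h3
        rw [sup_idem] at h3
        exact (bot_ne_top (α := Submodule ℂ W)) h3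
      obtain ⟨B₁, hB₁⟩ := hB hBn
      exact ⟨subrepMap B B₁, isIrreducible_of_equiv (subrepMapEquiv B B₁)⟩

end

section

variable {G : Type u} [Group G] [Finite G]

/-- Range of an injective intertwining map is equivalent to the source. -/
noncomputable def rangeEquivOfInjective {V : Type v} [AddCommGroup V] [Module ℂ V] {W : Type w}
    [AddCommGroup W] [Module ℂ W] {ρ : Representation ℂ G V} {σ : Representation ℂ G W}
    (f : Representation.IntertwiningMap ρ σ) (hf : Function.Injective f) :
    ρ.Equiv (f.range).toRepresentation :=
  .mk (LinearEquiv.ofInjective f.toLinearMap hf) (fun g => by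
    ext x
    exact Representation.IntertwiningMap.isIntertwining ρ σ f g x)

/-- Products of equivalences. -/
noncomputable def prodCongrEquiv {V₁ V₂ W₁ W₂ : Type*} [AddCommGroup V₁] [Module ℂ V₁]
    [AddCommGroup V₂] [Module ℂ V₂] [AddCommGroup W₁] [Module ℂ W₁] [AddCommGroup W₂] [Module ℂ W₂]
    {ρ₁ : Representation ℂ G V₁} {ρ₂ : Representation ℂ G V₂} {σ₁ : Representation ℂ G W₁}
    {σ₂ : Representation ℂ G W₂} (φ₁ : ρ₁.Equiv σ₁) (φ₂ : ρ₂.Equiv σ₂) :
    (ρ₁.prod ρ₂).Equiv (σ₁.prod σ₂) :=
  .mk (φ₁.toLinearEquiv.prodCongr φ₂.toLinearEquiv) (fun g => by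
    ext x
    · exact Representation.IntertwiningMap.isIntertwining ρ₁ σ₁ φ₁.toIntertwiningMap g _
    · simp only [LinearMap.coe_comp, Function.comp_apply]
      simp
    · simp
    · exact Representation.IntertwiningMap.isIntertwining ρ₂ σ₂ φ₂.toIntertwiningMap g _)

/-- Complementary subrepresentations exist, and the direct sum is equivalent to the whole. -/
theorem equiv_of_character_eq_aux (n : ℕ) : ∀ (V W : Type v) [AddCommGroup V] [Module ℂ V]
    [FiniteDimensional ℂ V] [AddCommGroup W] [Module ℂ W] [FiniteDimensional ℂ W]
    (ρ : Representation ℂ G V) (σ : Representation ℂ G W), finrank ℂ V = n →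
    ρ.character = σ.character → Nonempty (ρ.Equiv σ) := by
  classical
  induction n using Nat.strong_induction_on with
  | _ n ih =>
    intro V W _ _ _ _ _ _ ρ σ hn hχ
    have hdim : finrank ℂ V = finrank ℂ W := by
      have := congrFun hχ 1
      rw [Representation.char_one, Representation.char_one] at this
      exact_mod_cast this
    by_cases hV : Subsingleton V
    · have hW : Subsingleton W := by
        rw [← Module.finrank_zero_iff (R := ℂ)]
        rw [← hdim]
        exact Module.finrank_zero_of_subsingleton
      refine ⟨.mk (LinearEquiv.ofFinrankEq V W hdim) (fun g => ?_)⟩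
      ext x
      exact Subsingleton.elim _ _
    rw [not_subsingleton_iff_nontrivial] at hV
    obtain ⟨A, hA⟩ := exists_irreducible_subrep ρ
    obtain ⟨B, hB⟩ := exists_isCompl_subrep ρ A
    have hAB := isCompl_toSubmodule hB
    have hsplit := character_eq_add_of_isCompl A B hAB
    -- a nonzero intertwiner from `A` to `σ`
    let _ := Fintype.ofFinite G
    have : Invertible ((Nat.card G : ℕ) : ℂ) := invertibleOfNonzero (NeZero.ne _)
    have hpos : 0 < finrank ℂ (Representation.IntertwiningMap A.toRepresentation σ) := by
      have h1 := Representation.card_inv_mul_sum_char_mul_char_eq_finrank A.toRepresentation σ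
      have h2 : (Nat.card G : ℂ)⁻¹ * ∑ g, σ.character g * A.toRepresentation.character g⁻¹ =
          classInner σ.character A.toRepresentation.character :=
        (classInner_eq_sum_inv _ (isCharacter_character _)).symm
      have h3 : classInner σ.character A.toRepresentation.character =
          1 + classInner B.toRepresentation.character A.toRepresentation.character := by
        rw [← hχ, hsplit, classInner_add_left, classInner_irr_self (isIrrCharacter_character _)]
      rw [h2, h3] at h1
      obtain ⟨m, hm⟩ : ∃ m : ℕ, classInner B.toRepresentation.character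
          A.toRepresentation.character = m :=
        IsCharacter.classInner_irr_eq_nat (isCharacter_character _) (isIrrCharacter_character _)
      rw [hm] at h1
      have h4 : 1 + m = finrank ℂ (Representation.IntertwiningMap A.toRepresentation σ) := by
        exact_mod_cast h1
      omega
    have hnz : Nontrivial (Representation.IntertwiningMap A.toRepresentation σ) :=
      Module.nontrivial_of_finrank_pos (R := ℂ) hpos
    obtain ⟨f, hf⟩ := exists_ne (0 : Representation.IntertwiningMap A.toRepresentation σ)
    have hinj : Function.Injective f :=
      (Representation.IsIrreducible.injective_or_eq_zero f).resolve_right hf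
    let eA := rangeEquivOfInjective f hinj
    obtain ⟨B', hB'⟩ := exists_isCompl_subrep σ f.range
    have hAB' := isCompl_toSubmodule hB'
    have hsplit' := character_eq_add_of_isCompl f.range B' hAB'
    have hchar : B.toRepresentation.character = B'.toRepresentation.character := by
      have h5 : A.toRepresentation.character = f.range.toRepresentation.character :=
        Representation.char_iso eA
      rw [hχ, hsplit', h5] at hsplit
      exact (add_left_cancel hsplit).symm
    have hrank := Submodule.finrank_add_eq_of_isCompl hAB
    have hApos : 0 < finrank ℂ A.toSubmodule := finrank_pos_of_irr A.toRepresentation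
    obtain ⟨eB⟩ := ih (finrank ℂ B.toSubmodule) (by omega) _ _ _ _ rfl hchar
    have e1 := prodEquivOfIsCompl A B hAB
    have e2 := prodEquivOfIsCompl f.range B' hAB'
    exact ⟨(e1.symm.trans (prodCongrEquiv eA eB)).trans e2⟩

end

section

variable {G : Type u} [Group G] [Finite G]

/-- Transport to coordinates, so that universes play no role. -/
theorem equiv_of_character_eq {V W : Type*} [AddCommGroup V] [Module ℂ V]
    [FiniteDimensional ℂ V] [AddCommGroup W] [Module ℂ W] [FiniteDimensional ℂ W]
    (ρ : Representation ℂ G V) (σ : Representation ℂ G W) (h : ρ.character = σ.character) :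
    Nonempty (ρ.Equiv σ) := by
  let e₁ := (Module.finBasis ℂ V).equivFun
  let e₂ := (Module.finBasis ℂ W).equivFun
  have h1 := transportEquiv ρ e₁
  have h2 := transportEquiv σ e₂
  have hdim : finrank ℂ V = finrank ℂ W := by
    have := congrFun h 1
    rw [Representation.char_one, Representation.char_one] at this
    exact_mod_cast this
  have e₃ : (Fin (finrank ℂ W) → ℂ) ≃ₗ[ℂ] (Fin (finrank ℂ V) → ℂ) :=
    LinearEquiv.ofFinrankEq _ _ (by simp [hdim])
  have h3 := transportEquiv (transportRep σ e₂) e₃
  have hc : (transportRep ρ e₁).character = (transportRep (transportRep σ e₂) e₃).character := by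
    rw [← Representation.char_iso h1, ← Representation.char_iso h3, ← Representation.char_iso h2, h]
  obtain ⟨φ⟩ := equiv_of_character_eq_aux _ _ _ _ _ rfl hc
  exact ⟨(h1.trans φ).trans (h2.trans h3).symm⟩

end

end Cfsg.Agent.Lib.Char
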