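import Cfsg.Agent.Lib.Char.ASylow
import Cfsg.Agent.Lib.Char.Equiv
import Cfsg.Agent.Lib.Char.Ito

/-! # Invariant characters: the central extension attached to an invariant irreducible
representation of a normal subgroup.

For an irreducible representation `ρ` of `N ◁ G` with `G`-invariant character, `Gam` is the group
of pairs `(g, T)` where `T` is an invertible intertwiner between `ρ` and `ρ^g` of bounded
determinant. It is a finite central extension of `G`. -/

set_option autoImplicit false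

namespace Cfsg.Agent.Lib.Char

open Cfsg Module
open scoped ComplexConjugate

universe u

namespace Triple

/-- The invertible operators. -/
abbrev UEnd (d : ℕ) := (Module.End ℂ (Fin d → ℂ))ˣ

/-- Invertible scalars. -/
noncomputable def scalU (d : ℕ) : ℂˣ →* UEnd d :=
  Units.map (algebraMap ℂ (Module.End ℂ (Fin d → ℂ))).toMonoidHom

@[simp] theorem scalU_val (d : ℕ) (c : ℂˣ) :
    ((scalU d c : UEnd d) : Module.End ℂ (Fin d → ℂ)) = (c : ℂ) • (1 : Module.End ℂ (Fin d → ℂ)) := by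
  simp [scalU, Algebra.algebraMap_eq_smul_one]

theorem scalU_commute (d : ℕ) (c : ℂˣ) (T : UEnd d) : scalU d c * T = T * scalU d c := by
  apply Units.ext
  simp

theorem det_scalU (d : ℕ) (c : ℂˣ) :
    LinearMap.det ((scalU d c : UEnd d) : Module.End ℂ (Fin d → ℂ)) = (c : ℂ) ^ d := by
  rw [scalU_val, LinearMap.det_smul]
  simp

theorem scalU_injective {d : ℕ} (hd : 0 < d) : Function.Injective (scalU d) := by
  intro a b h
  have h1 := congrArg (fun T : UEnd d => ((T : Module.End ℂ (Fin d → ℂ)))) h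
  simp only [scalU_val] at h1
  have hi : Nonempty (Fin d) := ⟨⟨0, hd⟩⟩
  obtain ⟨i⟩ := hi
  have h2 := congrFun (LinearMap.congr_fun h1 (fun _ => 1)) i
  simp at h2
  exact Units.ext h2

variable {G : Type u} [Group G] (N : Subgroup G) [hN : N.Normal] {d : ℕ}
  (ρ : Representation ℂ N (Fin d → ℂ))

/-- The representation with values in the units. -/
noncomputable def rhoU : N →* UEnd d := MonoidHom.toHomUnits ρ

@[simp] theorem rhoU_val (n : N) : ((rhoU N ρ n : UEnd d) : Module.End ℂ (Fin d → ℂ)) = ρ n := rfl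

/-- Conjugation on `N`. -/
noncomputable abbrev cn (g : G) : N ≃* N := MulAut.conjNormal g

@[simp] theorem cn_coe (g : G) (n : N) : ((cn N g n : N) : G) = g * n * g⁻¹ := by
  simp [cn]

theorem cn_mul (g h : G) (n : N) : cn N (g * h) n = cn N g (cn N h n) := by
  apply Subtype.ext
  simp [mul_assoc]

theorem cn_inv_cn (g : G) (n : N) : cn N g⁻¹ (cn N g n) = n := by
  apply Subtype.ext
  simp [mul_assoc]

theorem cn_cn_inv (g : G) (n : N) : cn N g (cn N g⁻¹ n) = n := by
  apply Subtype.ext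
  simp [mul_assoc]

/-- The central extension. -/
noncomputable def Gam : Subgroup (G × UEnd d) where
  carrier := {p | (∀ n : N, p.2 * rhoU N ρ n = rhoU N ρ (cn N p.1 n) * p.2) ∧
    (LinearMap.det ((p.2 : UEnd d) : Module.End ℂ (Fin d → ℂ))) ^ (Nat.card N) = 1}
  one_mem' := by
    refine ⟨fun n => ?_, ?_⟩
    · simp
    · simp
  mul_mem' := by
    rintro ⟨a, S⟩ ⟨b, T⟩ ⟨h1, h2⟩ ⟨h3, h4⟩
    simp only at h1 h2 h3 h4
    refine ⟨fun n => ?_, ?_⟩
    · simp only [Prod.mk_mul_mk]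
      rw [mul_assoc, h3 n, ← mul_assoc, h1, mul_assoc, cn_mul]
    · simp only [Prod.mk_mul_mk, Units.val_mul, map_mul, mul_pow, h2, h4, one_mul]
  inv_mem' := by
    rintro ⟨a, S⟩ ⟨h1, h2⟩
    simp only at h1 h2
    refine ⟨fun n => ?_, ?_⟩
    · simp only [Prod.inv_mk]
      have h3 := h1 (cn N a⁻¹ n)
      rw [cn_cn_inv] at h3
      rw [eq_mul_inv_iff_mul_eq, mul_assoc, ← h3, ← mul_assoc, inv_mul_cancel, one_mul]
    · simp only [Prod.inv_mk]
      have h3 : LinearMap.det ((S⁻¹ : UEnd d) : Module.End ℂ (Fin d → ℂ)) * LinearMap.det ((S : UEnd d) : Module.End ℂ (Fin d → ℂ)) = 1 := by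
        rw [← map_mul, ← Units.val_mul, inv_mul_cancel]
        simp
      have h4 := congrArg (· ^ Nat.card N) h3
      simp only [mul_pow, h2, mul_one, one_pow] at h4
      exact h4

/-- The projection. -/
noncomputable def piG : Gam N ρ →* G := (MonoidHom.fst G (UEnd d)).comp (Gam N ρ).subtype

@[simp] theorem piG_apply (x : Gam N ρ) : piG N ρ x = (x : G × UEnd d).1 := rfl

theorem Gam_intertwine (x : Gam N ρ) (n : N) :
    (x : G × UEnd d).2 * rhoU N ρ n = rhoU N ρ (cn N (x : G × UEnd d).1 n) * (x : G × UEnd d).2 :=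
  x.2.1 n

theorem mem_Gam_iff {p : G × UEnd d} : p ∈ Gam N ρ ↔
    (∀ n : N, p.2 * rhoU N ρ n = rhoU N ρ (cn N p.1 n) * p.2) ∧
    (LinearMap.det ((p.2 : UEnd d) : Module.End ℂ (Fin d → ℂ))) ^ (Nat.card N) = 1 := Iff.rfl

section Fin

variable [Finite N]

theorem det_rho_pow (n : N) :
    (LinearMap.det (ρ n)) ^ (Nat.card N) = 1 := by
  rw [← map_pow, ← map_pow, pow_card_eq_one']
  simp

/-- The embedding of `N`. -/
noncomputable def embN : N →* Gam N ρ where
  toFun n := ⟨((n : G), rhoU N ρ n), by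
    refine ⟨fun m => ?_, ?_⟩
    · simp only
      rw [← map_mul, ← map_mul]
      congr 1
      apply Subtype.ext
      simp
    · exact det_rho_pow N ρ n⟩
  map_one' := by
    apply Subtype.ext
    simp
  map_mul' a b := by
    apply Subtype.ext
    simp

@[simp] theorem embN_fst (n : N) : ((embN N ρ n : Gam N ρ) : G × UEnd d).1 = n := rfl
@[simp] theorem embN_snd (n : N) : ((embN N ρ n : Gam N ρ) : G × UEnd d).2 = rhoU N ρ n := rfl

theorem embN_injective : Function.Injective (embN N ρ) := by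
  intro a b h
  have := congrArg (fun x : Gam N ρ => (x : G × UEnd d).1) h
  exact Subtype.ext this

end Fin

section Irr

variable [Fintype N] [hirr : ρ.IsIrreducible]

include hirr in
theorem d_pos : 0 < d := by
  have := finrank_pos_of_irr ρ
  simpa using this

include hirr in
/-- Schur's lemma in the units. -/
theorem schur_units (T : UEnd d) (h : ∀ n, T * rhoU N ρ n = rhoU N ρ n * T) :
    ∃ c : ℂˣ, T = scalU d c := by
  have hd := d_pos N ρ
  obtain ⟨c, hc⟩ := schur_scalar ρ (T : Module.End ℂ (Fin d → ℂ)) (fun n => by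
    have := congrArg (fun S : UEnd d => (S : Module.End ℂ (Fin d → ℂ))) (h n)
    exact this)
  have hc0 : c ≠ 0 := by
    rintro rfl
    haveI : Nontrivial (Module.End ℂ (Fin d → ℂ)) := by
      haveI : Nonempty (Fin d) := ⟨⟨0, hd⟩⟩
      infer_instance
    have h1 : (T : Module.End ℂ (Fin d → ℂ)) = 0 := by
      rw [hc, zero_smul]
    exact T.ne_zero h1
  refine ⟨Units.mk0 c hc0, ?_⟩
  apply Units.ext
  rw [hc, scalU_val]
  rfl

include hirr in
/-- Two intertwiners differ by a scalar. -/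
theorem intertwine_scal (S T : UEnd d) (g : G) (hS : ∀ n, S * rhoU N ρ n = rhoU N ρ (cn N g n) * S)
    (hT : ∀ n, T * rhoU N ρ n = rhoU N ρ (cn N g n) * T) : ∃ c : ℂˣ, S = scalU d c * T := by
  obtain ⟨c, hc⟩ := schur_units N ρ (S * T⁻¹) (fun n => by
    have h1 := hT (cn N g⁻¹ n)
    rw [cn_cn_inv] at h1
    have h2 := hS (cn N g⁻¹ n)
    rw [cn_cn_inv] at h2
    have h3 : T⁻¹ * rhoU N ρ n = rhoU N ρ (cn N g⁻¹ n) * T⁻¹ := by
      rw [eq_mul_inv_iff_mul_eq, mul_assoc, ← h1, ← mul_assoc, inv_mul_cancel, one_mul]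
    rw [mul_assoc, h3, ← mul_assoc, h2, mul_assoc])
  refine ⟨c, ?_⟩
  rw [← hc, inv_mul_cancel_right]

variable (hinv : ∀ (g : G) (n : N), ρ.character (cn N g n) = ρ.character n)

include hinv in
/-- Every element of `G` lifts to the extension. -/
theorem exists_lift (g : G) : ∃ x : Gam N ρ, piG N ρ x = g := by
  classical
  have hd := d_pos N ρ
  let ρ' : Representation ℂ N (Fin d → ℂ) := ρ.comp (cn N g).toMonoidHom
  have hchar : ρ.character = ρ'.character := by
    funext n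
    exact (hinv g n).symm
  obtain ⟨e⟩ := equiv_of_character_eq ρ ρ' hchar
  let T₀ : UEnd d := ⟨e.toLinearEquiv.toLinearMap, e.toLinearEquiv.symm.toLinearMap,
    LinearMap.ext fun v => e.toLinearEquiv.apply_symm_apply v,
    LinearMap.ext fun v => e.toLinearEquiv.symm_apply_apply v⟩
  have hT₀ : ∀ n, T₀ * rhoU N ρ n = rhoU N ρ (cn N g n) * T₀ := by
    intro n
    apply Units.ext
    exact e.isIntertwining' n
  have hdet : LinearMap.det ((T₀ : UEnd d) : Module.End ℂ (Fin d → ℂ)) ≠ 0 := by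
    have : IsUnit (LinearMap.det ((T₀ : UEnd d) : Module.End ℂ (Fin d → ℂ))) :=
      (T₀.isUnit).map LinearMap.det
    exact this.ne_zero
  obtain ⟨c, hc⟩ := IsAlgClosed.exists_pow_nat_eq (LinearMap.det ((T₀ : UEnd d) : Module.End ℂ (Fin d → ℂ)))⁻¹ hd
  have hc0 : c ≠ 0 := by
    rintro rfl
    rw [zero_pow hd.ne'] at hc
    exact inv_ne_zero hdet hc.symm
  let T : UEnd d := scalU d (Units.mk0 c hc0) * T₀
  refine ⟨⟨(g, T), ?_, ?_⟩, rfl⟩
  · intro n
    simp only [T]
    rw [mul_assoc, hT₀, ← mul_assoc, ← mul_assoc, scalU_commute]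
  · simp only [T, Units.val_mul, map_mul, det_scalU, Units.val_mk0, hc]
    rw [inv_mul_cancel₀ hdet, one_pow]

include hirr in
/-- Membership of scalars in the extension. -/
theorem scal_mem (c : ℂˣ) (hc : (c : ℂ) ^ (d * Nat.card N) = 1) :
    ((1 : G), scalU d c) ∈ Gam N ρ := by
  refine ⟨fun n => ?_, ?_⟩
  · simp only
    rw [scalU_commute]
    congr 2
    apply Subtype.ext
    simp
  · simp only
    rw [det_scalU, ← pow_mul]
    exact hc

include hirr hinv in
/-- The extension is finite. -/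
theorem finite_Gam [Finite G] : Finite (Gam N ρ) := by
  classical
  have hd := d_pos N ρ
  have hcardN : 0 < d * Nat.card N := Nat.mul_pos hd Nat.card_pos
  haveI : NeZero (d * Nat.card N) := ⟨hcardN.ne'⟩
  choose s hs using exists_lift N ρ hinv
  let F : G × rootsOfUnity (d * Nat.card N) ℂ → G × UEnd d :=
    fun p => (p.1, scalU d (p.2 : ℂˣ) * (s p.1 : G × UEnd d).2)
  have hsub : ((Gam N ρ : Subgroup (G × UEnd d)) : Set (G × UEnd d)) ⊆ Set.range F := by
    rintro ⟨g, T⟩ hx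
    have hxG : (⟨(g, T), hx⟩ : Gam N ρ) = ⟨(g, T), hx⟩ := rfl
    have h1 : ((s g : Gam N ρ) : G × UEnd d).1 = g := hs g
    have h2 := Gam_intertwine N ρ (s g)
    rw [h1] at h2
    obtain ⟨c, hc⟩ := intertwine_scal N ρ T ((s g : Gam N ρ) : G × UEnd d).2 g (fun n => hx.1 n) h2
    have hdet1 := hx.2
    have hdet2 := (s g).2.2
    simp only at hdet1
    rw [hc, Units.val_mul, map_mul, mul_pow, hdet2, mul_one, det_scalU, ← pow_mul] at hdet1
    have hc1 : c ∈ rootsOfUnity (d * Nat.card N) ℂ := by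
      rw [mem_rootsOfUnity']
      exact hdet1
    exact ⟨(g, ⟨c, hc1⟩), by simp [F, hc]⟩
  have hfin : Set.Finite ((Gam N ρ : Subgroup (G × UEnd d)) : Set (G × UEnd d)) :=
    (Set.finite_range F).subset hsub
  exact hfin.to_subtype

/-- The preimage of `N` in the extension. -/
noncomputable def Bsub : Subgroup (Gam N ρ) := N.comap (piG N ρ)

instance Bsub_normal : (Bsub N ρ).Normal := Subgroup.Normal.comap hN _

include hirr in
theorem Bsub_decomp (x : Gam N ρ) (hx : (x : G × UEnd d).1 ∈ N) :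
    ∃ c : ℂˣ, (x : G × UEnd d).2 = scalU d c * rhoU N ρ ⟨_, hx⟩ := by
  apply intertwine_scal N ρ _ _ (x : G × UEnd d).1 (Gam_intertwine N ρ x)
  intro n
  rw [← map_mul, ← map_mul]
  congr 1
  apply Subtype.ext
  simp

/-- The scalar part of an element above `N`. -/
noncomputable def scalFun (x : Bsub N ρ) : ℂˣ :=
  Classical.choose (Bsub_decomp N ρ (x : Gam N ρ) x.2)

theorem scalFun_spec (x : Bsub N ρ) :
    ((x : Gam N ρ) : G × UEnd d).2 = scalU d (scalFun N ρ x) * rhoU N ρ ⟨_, x.2⟩ :=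
  Classical.choose_spec (Bsub_decomp N ρ (x : Gam N ρ) x.2)

include hirr in
theorem scalFun_eq (x : Bsub N ρ) (c : ℂˣ)
    (h : ((x : Gam N ρ) : G × UEnd d).2 = scalU d c * rhoU N ρ ⟨_, x.2⟩) : scalFun N ρ x = c := by
  have h1 := scalFun_spec N ρ x
  rw [h] at h1
  have h2 := mul_right_cancel h1
  exact (scalU_injective (d_pos N ρ) h2).symm

/-- The scalar part is a homomorphism. -/
noncomputable def scal : Bsub N ρ →* ℂˣ :=
  MonoidHom.mk' (scalFun N ρ) (fun a b => by
    apply scalFun_eq N ρ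
    have h1 : (((a * b : Bsub N ρ) : Gam N ρ) : G × UEnd d).2 =
        ((a : Gam N ρ) : G × UEnd d).2 * ((b : Gam N ρ) : G × UEnd d).2 := rfl
    rw [h1, scalFun_spec N ρ a, scalFun_spec N ρ b, map_mul, mul_assoc, mul_assoc]
    congr 1
    rw [← mul_assoc, ← scalU_commute, mul_assoc, ← map_mul]
    congr 2)

theorem scal_spec (x : Bsub N ρ) :
    ((x : Gam N ρ) : G × UEnd d).2 = scalU d (scal N ρ x) * rhoU N ρ ⟨_, x.2⟩ :=
  scalFun_spec N ρ x

include hirr in
theorem scal_eq (x : Bsub N ρ) (c : ℂˣ)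
    (h : ((x : Gam N ρ) : G × UEnd d).2 = scalU d c * rhoU N ρ ⟨_, x.2⟩) : scal N ρ x = c :=
  scalFun_eq N ρ x c h

include hirr in
/-- The scalar part is invariant under conjugation. -/
theorem scal_conj (γ : Gam N ρ) (x : Bsub N ρ) :
    scal N ρ ⟨γ * x * γ⁻¹, (Bsub_normal N ρ).conj_mem _ x.2 γ⟩ = scal N ρ x := by
  apply scal_eq N ρ
  have h1 : ((γ * (x : Gam N ρ) * γ⁻¹ : Gam N ρ) : G × UEnd d).2 =
      (γ : G × UEnd d).2 * ((x : Gam N ρ) : G × UEnd d).2 * (γ : G × UEnd d).2⁻¹ := rfl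
  have hR := Gam_intertwine N ρ γ ⟨_, x.2⟩
  have heq : (⟨piG N ρ (γ * (x : Gam N ρ) * γ⁻¹), (Bsub_normal N ρ).conj_mem _ x.2 γ⟩ : N) =
      cn N (γ : G × UEnd d).1 ⟨_, x.2⟩ := Subtype.ext (by simp)
  rw [h1, scal_spec N ρ x]
  change _ = _ * rhoU N ρ (⟨piG N ρ (γ * (x : Gam N ρ) * γ⁻¹), (Bsub_normal N ρ).conj_mem _ x.2 γ⟩ : N)
  rw [heq]
  have h2 := (scalU_commute d (scal N ρ x) (γ : G × UEnd d).2).symm
  rw [← mul_assoc (γ : G × UEnd d).2, h2, mul_assoc (scalU d _), hR]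
  simp only [mul_assoc, mul_inv_cancel, mul_one]

theorem scal_embN (n : N) (h : embN N ρ n ∈ Bsub N ρ) : scal N ρ ⟨embN N ρ n, h⟩ = 1 := by
  apply scal_eq N ρ
  simp

include hinv in
/-- A homomorphism on the extension inverting the scalars gives an extension of `ρ`. -/
theorem exists_rep_of_lin (μ : Gam N ρ →* ℂˣ) (hμ : ∀ x : Bsub N ρ, μ x = (scal N ρ x)⁻¹) :
    ∃ σ : Representation ℂ G (Fin d → ℂ), ∀ n : N, σ (n : G) = ρ n := by
  classical
  have hd := d_pos N ρ
  choose s hs using exists_lift N ρ hinv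
  let F : G → Module.End ℂ (Fin d → ℂ) := fun g =>
    ((μ (s g) : ℂˣ) : ℂ) • (((s g : Gam N ρ) : G × UEnd d).2 : Module.End ℂ (Fin d → ℂ))
  have hwd : ∀ x : Gam N ρ, ((μ x : ℂˣ) : ℂ) • (((x : G × UEnd d).2 : UEnd d) : Module.End ℂ (Fin d → ℂ)) = F (piG N ρ x) := by
    intro x
    set y := s (piG N ρ x) with hy
    have hxy : piG N ρ (x * y⁻¹) = 1 := by
      rw [map_mul, map_inv, hy, hs, mul_inv_cancel]
    have hz : x * y⁻¹ ∈ Bsub N ρ := by
      change piG N ρ (x * y⁻¹) ∈ N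
      rw [hxy]
      exact N.one_mem
    let z : Bsub N ρ := ⟨x * y⁻¹, hz⟩
    have h1 := scal_spec N ρ z
    have h2 : (⟨piG N ρ (z : Gam N ρ), z.2⟩ : N) = 1 := Subtype.ext hxy
    have h3 : ((z : Gam N ρ) : G × UEnd d).2 = (x : G × UEnd d).2 * (y : G × UEnd d).2⁻¹ := rfl
    change ((z : Gam N ρ) : G × UEnd d).2 = _ * rhoU N ρ (⟨piG N ρ (z : Gam N ρ), z.2⟩ : N) at h1
    rw [h2, map_one, mul_one, h3, mul_inv_eq_iff_eq_mul] at h1
    have h4 : μ x = μ (z : Gam N ρ) * μ y := by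
      rw [← map_mul]
      congr 1
      simp [z]
    have h5 := hμ z
    change _ = ((μ y : ℂˣ) : ℂ) • (((y : G × UEnd d).2 : UEnd d) : Module.End ℂ (Fin d → ℂ))
    rw [h1, h4, h5]
    simp only [Units.val_mul, scalU_val]
    rw [smul_mul_assoc, one_mul, smul_smul]
    congr 1
    have hc : ((scal N ρ z : ℂˣ) : ℂ) ≠ 0 := Units.ne_zero _
    simp only [Units.val_inv_eq_inv_val]
    field_simp
  have hF1 : F 1 = 1 := by
    have h1 := hwd 1
    have h0 : piG N ρ 1 = 1 := map_one _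
    rw [h0] at h1
    rw [← h1, map_one]
    simp
  have hFmul : ∀ a b, F (a * b) = F a * F b := by
    intro a b
    have h1 := hwd (s a * s b)
    have h0 : piG N ρ (s a * s b) = a * b := by rw [map_mul, hs, hs]
    rw [h0] at h1
    rw [← h1]
    have h2 : ((((s a * s b : Gam N ρ) : G × UEnd d).2 : UEnd d) : Module.End ℂ (Fin d → ℂ)) =
        (((s a : Gam N ρ) : G × UEnd d).2 : Module.End ℂ (Fin d → ℂ)) * (((s b : Gam N ρ) : G × UEnd d).2 : Module.End ℂ (Fin d → ℂ)) := rfl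
    rw [h2, map_mul]
    simp only [F, Units.val_mul]
    rw [smul_mul_smul_comm]
  refine ⟨{ toFun := F, map_one' := hF1, map_mul' := hFmul }, fun n => ?_⟩
  change F n = ρ n
  have h1 := hwd (embN N ρ n)
  have h2 : piG N ρ (embN N ρ n) = n := rfl
  rw [h2] at h1
  rw [← h1]
  have hmem : embN N ρ n ∈ Bsub N ρ := n.2
  have h3 := hμ ⟨_, hmem⟩
  rw [scal_embN N ρ n hmem] at h3
  have h4 : μ (embN N ρ n) = 1 := by
    rw [← inv_one]
    exact h3
  rw [h4]
  simp

end Irr

end Triple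

section LinExt

variable {Γ : Type u} [Group Γ] [Fintype Γ] (B : Subgroup Γ) [hB : B.Normal]

/-- An invariant linear character with cyclic quotient extends. -/
theorem lin_ext_of_cyclic (ι : B →* ℂˣ)
    (hinv : ∀ (γ : Γ) (x : B), ι ⟨γ * x * γ⁻¹, hB.conj_mem x x.2 γ⟩ = ι x)
    (hcyc : IsCyclic (Γ ⧸ B)) : ∃ μ : Γ →* ℂˣ, ∀ x : B, μ x = ι x := by
  classical
  letI : Fintype B := Fintype.ofFinite _
  let X : B → ℂ := fun x => (ι x : ℂ)
  have hX : IsIrrCharacter B X := isIrrCharacter_of_monoidHom ι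
  obtain ⟨χ, hχ, hcon⟩ := exists_over B hX
  have hχc := IsIrrCharacter.isCharacter hχ
  have hXinv : ∀ g, conjFun B g X = X := by
    intro g
    funext x
    simp only [conjFun_apply, X]
    have h1 := hinv g⁻¹ x
    rw [← h1]
    congr 3
    simp
  have hres := res_eq_smul_of_invariant B hχ hX hXinv hcon
  set e := classInner (resFun B χ) X with he
  have hval : ∀ x : B, χ x = e * (ι x : ℂ) := by
    intro x
    exact congrFun hres x
  have hval1 : χ 1 = e := by
    have := hval 1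
    simpa using this
  let K : Subgroup Γ := (ι.ker).map B.subtype
  have hKmem : ∀ x : B, (x : Γ) ∈ K ↔ ι x = 1 := by
    intro x
    constructor
    · rintro ⟨y, hy, hyx⟩
      have : y = x := Subtype.ext hyx
      rw [← this]
      exact hy
    · intro h
      exact ⟨x, h, rfl⟩
  have hKB : K ≤ B := by
    rintro _ ⟨y, -, rfl⟩
    exact y.2
  haveI hKn : K.Normal := by
    constructor
    rintro _ ⟨y, hy, rfl⟩ g
    have h1 := hinv g y
    have h2 : ι y = 1 := hy
    rw [h2] at h1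
    exact (hKmem ⟨g * y * g⁻¹, hB.conj_mem y y.2 g⟩).mpr h1
  have hKker : K ≤ charKer χ := by
    intro k hk
    rw [mem_charKer hχc, hval1]
    obtain ⟨y, hy, rfl⟩ := hk
    have h2 : ι y = 1 := hy
    have := hval y
    rw [h2] at this
    simpa using this
  letI : Fintype K := Fintype.ofFinite _
  letI : Fintype (Γ ⧸ K) := Fintype.ofFinite _
  obtain ⟨β, hβ, hχβ⟩ := exists_deflate K hχ hKker
  have hcomm : ∀ a b : Γ ⧸ K, a * b = b * a := by
    let f : Γ ⧸ K →* Γ ⧸ B := QuotientGroup.map K B (MonoidHom.id Γ) hKB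
    have hker : f.ker ≤ Subgroup.center (Γ ⧸ K) := by
      intro x hx
      induction x using QuotientGroup.induction_on with
      | H x =>
      have hxB : x ∈ B := by
        have : ((x : Γ) : Γ ⧸ B) = 1 := hx
        exact (QuotientGroup.eq_one_iff x).mp this
      rw [Subgroup.mem_center_iff]
      intro y
      induction y using QuotientGroup.induction_on with
      | H y =>
      rw [← QuotientGroup.mk_mul, ← QuotientGroup.mk_mul, QuotientGroup.eq]
      have hmem : (y * x)⁻¹ * (x * y) ∈ B := by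
        have : (y * x)⁻¹ * (x * y) = x⁻¹ * (y⁻¹ * x * y) := by group
        rw [this]
        exact B.mul_mem (B.inv_mem hxB) (hB.conj_mem' x hxB y)
      have h2 : (y * x)⁻¹ * (x * y) = x⁻¹ * (y⁻¹ * x * y) := by group
      refine (hKmem ⟨_, hmem⟩).mpr ?_
      have h3 : (⟨(y * x)⁻¹ * (x * y), hmem⟩ : B) =
          (⟨x, hxB⟩ : B)⁻¹ * ⟨y⁻¹ * x * y⁻¹⁻¹, hB.conj_mem x hxB y⁻¹⟩ := by
        apply Subtype.ext
        simp only [Subgroup.coe_mul, InvMemClass.coe_inv]
        rw [h2]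
        group
      rw [h3, map_mul, map_inv, hinv y⁻¹ ⟨x, hxB⟩, inv_mul_cancel]
    exact (f.isMulCommutative_of_isCyclic_of_ker_le_center hker).is_comm.comm
  have hβ1 : β 1 = 1 := (comm_iff_irr_degree_one (G := Γ ⧸ K)).mp hcomm ⟨β, hβ⟩
  have hχ1 : χ 1 = 1 := by
    rw [hχβ]
    exact hβ1
  obtain ⟨μ, hμ⟩ := IsCharacter.exists_monoidHom hχc hχ1
  refine ⟨μ, fun x => ?_⟩
  apply Units.ext
  have h1 := hval x
  rw [← hval1, hχ1, one_mul] at h1
  rw [← h1, hμ]

open Subgroup.leftTransversals in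
/-- The transfer of a homomorphism extending an invariant linear character of a normal subgroup. -/
theorem transfer_lin (ι : B →* ℂˣ)
    (hinv : ∀ (γ : Γ) (x : B), ι ⟨γ * x * γ⁻¹, hB.conj_mem x x.2 γ⟩ = ι x)
    {H : Subgroup Γ} (hBH : B ≤ H) (ϕ : H →* ℂˣ) (hϕ : ∀ x : B, ϕ ⟨x, hBH x.2⟩ = ι x) (x : B) :
    MonoidHom.transfer ϕ (x : Γ) = (ι x) ^ H.index := by
  classical
  rw [MonoidHom.transfer_eq_prod_quotient_orbitRel_zpowers_quot]
  have h1 : ∀ (k : ℕ) (q : Γ) (hq : q⁻¹ * (x : Γ) ^ k * q ∈ H),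
      ϕ ⟨q⁻¹ * (x : Γ) ^ k * q, hq⟩ = (ι x) ^ k := by
    intro k q hq
    let y : B := x ^ k
    have hm2 : q⁻¹ * (y : Γ) * q⁻¹⁻¹ ∈ B := hB.conj_mem _ y.2 q⁻¹
    have h2 := hϕ ⟨q⁻¹ * (y : Γ) * q⁻¹⁻¹, hm2⟩
    have h3 := hinv q⁻¹ y
    have h4 : ι y = (ι x) ^ k := map_pow _ _ _
    rw [← h4, ← h3, ← h2]
    congr 2
    simp [y]
  simp only [h1]
  rw [Finset.prod_pow_eq_pow_sum, ← Subgroup.index_eq_sum_minimalPeriod H (x : Γ)]

/-- The gcd argument: an invariant linear character extending to a subgroup of index prime to `p`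
for every prime `p` extends. -/
theorem lin_ext_of_local (ι : B →* ℂˣ)
    (hinv : ∀ (γ : Γ) (x : B), ι ⟨γ * x * γ⁻¹, hB.conj_mem x x.2 γ⟩ = ι x)
    (hloc : ∀ p : ℕ, p.Prime → ∃ (H : Subgroup Γ) (hBH : B ≤ H) (ϕ : H →* ℂˣ),
      Nat.Coprime H.index p ∧ ∀ x : B, ϕ ⟨x, hBH x.2⟩ = ι x) :
    ∃ μ : Γ →* ℂˣ, ∀ x : B, μ x = ι x := by
  classical
  let S : AddSubgroup ℤ :=
    { carrier := {k | ∃ μ : Γ →* ℂˣ, ∀ x : B, μ x = (ι x) ^ k}
      zero_mem' := ⟨1, fun x => by simp⟩
      add_mem' := by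
        rintro a b ⟨μ, hμ⟩ ⟨ν, hν⟩
        exact ⟨μ * ν, fun x => by
          rw [MonoidHom.mul_apply, hμ, hν, zpow_add]⟩
      neg_mem' := by
        rintro a ⟨μ, hμ⟩
        exact ⟨μ⁻¹, fun x => by
          rw [MonoidHom.inv_apply, hμ, zpow_neg]⟩ }
  have hmem : ∀ p : ℕ, p.Prime → ∃ k : ℕ, Nat.Coprime k p ∧ (k : ℤ) ∈ S := by
    intro p hp
    obtain ⟨H, hBH, ϕ, hcop, hϕ⟩ := hloc p hp
    refine ⟨H.index, hcop, MonoidHom.transfer ϕ, fun x => ?_⟩
    rw [transfer_lin B ι hinv hBH ϕ hϕ x, zpow_natCast]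
  obtain ⟨d, hd⟩ := Int.subgroup_cyclic S
  have h1 : (1 : ℤ) ∈ S := by
    by_cases hdn : d.natAbs = 1
    · rw [hd]
      rw [AddSubgroup.mem_closure_singleton]
      rcases Int.natAbs_eq d with h | h
      · rw [hdn] at h
        exact ⟨1, by rw [h]; simp⟩
      · rw [hdn] at h
        exact ⟨-1, by rw [h]; simp⟩
    · exfalso
      obtain ⟨p, hp, hpd⟩ := Nat.exists_prime_and_dvd hdn
      obtain ⟨k, hk, hkS⟩ := hmem p hp
      rw [hd, AddSubgroup.mem_closure_singleton] at hkS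
      obtain ⟨m, hm⟩ := hkS
      have h2 : (p : ℤ) ∣ (k : ℤ) := by
        rw [← hm]
        simp only [zsmul_eq_mul]
        exact Dvd.dvd.mul_left (Int.natCast_dvd.mpr hpd) m
      have h3 : p ∣ k := Int.natCast_dvd_natCast.mp h2
      have h4 : p ∣ Nat.gcd k p := Nat.dvd_gcd h3 dvd_rfl
      rw [hk] at h4
      exact hp.one_lt.ne' (Nat.dvd_one.mp h4)
  obtain ⟨μ, hμ⟩ := h1
  exact ⟨μ, fun x => by rw [hμ, zpow_one]⟩

end LinExt

/-- A character whose restriction to a normal subgroup is irreducible is irreducible. -/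
theorem isIrr_of_irr_res {G : Type u} [Group G] [Fintype G] (N : Subgroup G) [N.Normal] [Fintype N]
    {χ₀ : G → ℂ} (hχ₀ : IsCharacter G χ₀) (hθ : IsIrrCharacter N (resFun N χ₀)) : IsIrrCharacter G χ₀ := by
  classical
  letI : Fintype (G ⧸ N) := Fintype.ofFinite _
  have h1 : IsIrrCharacter (G ⧸ N) (fun _ => (1 : ℂ)) := by
    have := isIrrCharacter_of_monoidHom (1 : G ⧸ N →* ℂˣ)
    simpa using this
  have h2 := isIrrCharacter_gallagher N hχ₀ hθ h1
  simpa [inflate] using h2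

namespace Triple

section Main

variable {G : Type u} [Group G] [Fintype G] (N : Subgroup G) [hN : N.Normal] [Fintype N] {d : ℕ}
  (ρ : Representation ℂ N (Fin d → ℂ)) [hirr : ρ.IsIrreducible]
  (hinv : ∀ (g : G) (n : N), ρ.character (cn N g n) = ρ.character n)

include hinv in
/-- From a homomorphism on the extension to an irreducible extension of `ρ`. -/
theorem exists_irr_of_lin (μ : Gam N ρ →* ℂˣ) (hμ : ∀ x : Bsub N ρ, μ x = (scal N ρ x)⁻¹) :
    ∃ χ : G → ℂ, IsIrrCharacter G χ ∧ ∀ n : N, χ n = ρ.character n := by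
  obtain ⟨σ, hσ⟩ := exists_rep_of_lin N ρ hinv μ hμ
  have hres : resFun N σ.character = ρ.character := by
    funext n
    simp only [resFun, Representation.character, hσ]
  refine ⟨σ.character, isIrr_of_irr_res N ⟨d, σ, rfl⟩ ?_, fun n => congrFun hres n⟩
  rw [hres]
  exact ⟨d, ρ, hirr, rfl⟩

/-- The linear character on `B` that has to be extended. -/
noncomputable def iota : Bsub N ρ →* ℂˣ := (scal N ρ)⁻¹

@[simp] theorem iota_apply (x : Bsub N ρ) : iota N ρ x = (scal N ρ x)⁻¹ := rfl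

include hirr in
theorem iota_conj (γ : Gam N ρ) (x : Bsub N ρ) :
    iota N ρ ⟨γ * x * γ⁻¹, (Bsub_normal N ρ).conj_mem _ x.2 γ⟩ = iota N ρ x := by
  simp only [iota_apply]
  rw [scal_conj]

include hinv in
/-- The cyclic case. -/
theorem exists_irr_of_cyclic (hcyc : IsCyclic (G ⧸ N)) :
    ∃ χ : G → ℂ, IsIrrCharacter G χ ∧ ∀ n : N, χ n = ρ.character n := by
  classical
  haveI := finite_Gam N ρ hinv
  letI : Fintype (Gam N ρ) := Fintype.ofFinite _
  have hcyc2 : IsCyclic (Gam N ρ ⧸ Bsub N ρ) := by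
    let f : Gam N ρ ⧸ Bsub N ρ →* G ⧸ N := QuotientGroup.map _ _ (piG N ρ) (fun x hx => hx)
    have hf : Function.Injective f := by
      rw [injective_iff_map_eq_one]
      intro a ha
      induction a using QuotientGroup.induction_on with
      | H x =>
      have h1 : ((piG N ρ x : G) : G ⧸ N) = 1 := ha
      rw [QuotientGroup.eq_one_iff] at h1 ⊢
      exact h1
    exact isCyclic_of_injective f hf
  obtain ⟨μ, hμ⟩ := lin_ext_of_cyclic (Bsub N ρ) (iota N ρ) (iota_conj N ρ) hcyc2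
  exact exists_irr_of_lin N ρ hinv μ hμ

include hinv in
/-- The hom on the preimage of an intermediate subgroup attached to an extension. -/
theorem exists_phi_of_ext (P : Subgroup G) (hNP : N ≤ P) {η : P → ℂ} (hη : IsCharacter P η)
    (hres : ∀ n : N, η ⟨n, hNP n.2⟩ = ρ.character n) :
    ∃ ϕ : P.comap (piG N ρ) →* ℂˣ, ∀ x : Bsub N ρ, ϕ ⟨x, hNP x.2⟩ = iota N ρ x := by
  classical
  letI : Fintype P := Fintype.ofFinite _
  obtain ⟨k, τ, rfl⟩ := hη
  let τN : Representation ℂ N (Fin k → ℂ) := τ.comp (Subgroup.inclusion hNP)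
  have hchar : ρ.character = τN.character := by
    funext n
    exact (hres n).symm
  obtain ⟨e⟩ := equiv_of_character_eq ρ τN hchar
  let τ' : Representation ℂ P (Fin d → ℂ) := transportRep τ e.toLinearEquiv.symm
  have hτ'N : ∀ n : N, τ' (Subgroup.inclusion hNP n) = ρ n := by
    intro n
    apply LinearMap.ext
    intro v
    change e.toLinearEquiv.symm (τ (Subgroup.inclusion hNP n) (e.toLinearEquiv (v))) = ρ n v
    have h1 : e.toLinearEquiv (ρ n v) = τN n (e.toLinearEquiv v) := LinearMap.congr_fun (e.isIntertwining' n) v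
    have h2 : τ (Subgroup.inclusion hNP n) (e.toLinearEquiv v) = τN n (e.toLinearEquiv v) := rfl
    rw [h2, ← h1]
    exact LinearEquiv.symm_apply_apply _ _
  let U : P →* UEnd d := MonoidHom.toHomUnits τ'
  have hU : ∀ (p : P) (n : N), U p * rhoU N ρ n = rhoU N ρ (cn N p n) * U p := by
    intro p n
    have h1 : rhoU N ρ n = U (Subgroup.inclusion hNP n) := by
      apply Units.ext
      exact (hτ'N n).symm
    have h2 : rhoU N ρ (cn N p n) = U (Subgroup.inclusion hNP (cn N p n)) := by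
      apply Units.ext
      exact (hτ'N _).symm
    rw [h1, h2, ← map_mul, ← map_mul]
    congr 1
    apply Subtype.ext
    simp
  -- the scalar attached to an element
  have hex : ∀ x : P.comap (piG N ρ), ∃ c : ℂˣ,
      ((x : Gam N ρ) : G × UEnd d).2 = scalU d c * U ⟨_, x.2⟩ := by
    intro x
    apply intertwine_scal N ρ _ _ (((x : Gam N ρ) : G × UEnd d).1) (Gam_intertwine N ρ x)
    intro n
    exact hU ⟨_, x.2⟩ n
  choose c hc using hex
  have hcmul : ∀ a b, c (a * b) = c a * c b := by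
    intro a b
    have h1 := hc (a * b)
    have h2 : (((a * b : P.comap (piG N ρ)) : Gam N ρ) : G × UEnd d).2 =
        ((a : Gam N ρ) : G × UEnd d).2 * ((b : Gam N ρ) : G × UEnd d).2 := rfl
    rw [h2, hc a, hc b] at h1
    have h3 : (⟨piG N ρ ((a * b : P.comap (piG N ρ)) : Gam N ρ), (a * b).2⟩ : P) =
        ⟨piG N ρ (a : Gam N ρ), a.2⟩ * ⟨piG N ρ (b : Gam N ρ), b.2⟩ := rfl
    rw [h3, map_mul] at h1
    have h4 : scalU d (c a) * U ⟨_, a.2⟩ * (scalU d (c b) * U ⟨_, b.2⟩) =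
        scalU d (c a * c b) * (U ⟨_, a.2⟩ * U ⟨_, b.2⟩) := by
      rw [map_mul, mul_assoc, mul_assoc]
      congr 1
      rw [← mul_assoc, ← mul_assoc, ← scalU_commute]
    rw [h4] at h1
    have h5 := mul_right_cancel h1
    exact (scalU_injective (d_pos N ρ) h5).symm
  let C : P.comap (piG N ρ) →* ℂˣ := MonoidHom.mk' c hcmul
  refine ⟨C⁻¹, fun x => ?_⟩
  simp only [MonoidHom.inv_apply, iota_apply]
  congr 1
  -- on `B`
  have hxmem : (x : Gam N ρ) ∈ P.comap (piG N ρ) := hNP x.2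
  have h1 := hc ⟨x, hxmem⟩
  have h2 := scal_spec N ρ x
  have h3 : U ⟨piG N ρ (x : Gam N ρ), hxmem⟩ = rhoU N ρ ⟨_, x.2⟩ := by
    apply Units.ext
    exact hτ'N ⟨_, x.2⟩
  rw [h3] at h1
  rw [h2] at h1
  have h5 := mul_right_cancel h1
  exact (scalU_injective (d_pos N ρ) h5).symm

include hinv in
/-- Gallagher's theorem: an invariant irreducible character which extends to subgroups of index
prime to `p`, for every prime `p`, extends. -/
theorem exists_irr_of_local
    (hloc : ∀ p : ℕ, p.Prime → ∃ (P : Subgroup G) (hNP : N ≤ P) (η : P → ℂ), IsCharacter P η ∧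
      Nat.Coprime P.index p ∧ ∀ n : N, η ⟨n, hNP n.2⟩ = ρ.character n) :
    ∃ χ : G → ℂ, IsIrrCharacter G χ ∧ ∀ n : N, χ n = ρ.character n := by
  classical
  haveI := finite_Gam N ρ hinv
  letI : Fintype (Gam N ρ) := Fintype.ofFinite _
  have hsurj : Function.Surjective (piG N ρ) := exists_lift N ρ hinv
  obtain ⟨μ, hμ⟩ := lin_ext_of_local (Bsub N ρ) (iota N ρ) (iota_conj N ρ) (fun p hp => by
    obtain ⟨P, hNP, η, hη, hcop, hres⟩ := hloc p hp
    obtain ⟨ϕ, hϕ⟩ := exists_phi_of_ext N ρ hinv P hNP hη hres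
    refine ⟨P.comap (piG N ρ), fun x hx => hNP hx, ϕ, ?_, hϕ⟩
    rw [Subgroup.index_comap_of_surjective _ hsurj]
    exact hcop)
  exact exists_irr_of_lin N ρ hinv μ hμ

include hinv in
/-- The degree quotient for an invariant character. -/
theorem exists_degree_quotient_rep {χ : G → ℂ} (hχ : IsIrrCharacter G χ)
    (hcon : classInner (resFun N χ) ρ.character ≠ 0) :
    ∃ e : ℕ, χ 1 = (e : ℂ) * ρ.character 1 ∧ e ∣ N.index := by
  classical
  haveI := finite_Gam N ρ hinv
  letI : Fintype (Gam N ρ) := Fintype.ofFinite _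
  have hsurj : Function.Surjective (piG N ρ) := exists_lift N ρ hinv
  let yRep : Representation ℂ (Gam N ρ) (Fin d → ℂ) :=
    (Units.coeHom (Module.End ℂ (Fin d → ℂ))).comp ((MonoidHom.snd G (UEnd d)).comp (Gam N ρ).subtype)
  let Y : Gam N ρ → ℂ := yRep.character
  have hY : IsCharacter (Gam N ρ) Y := ⟨d, yRep, rfl⟩
  let N₀ : Subgroup (Gam N ρ) := (embN N ρ).range
  haveI hN₀ : N₀.Normal := by
    constructor
    rintro _ ⟨n, rfl⟩ γ
    refine ⟨cn N (γ : G × UEnd d).1 n, ?_⟩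
    apply Subtype.ext
    apply Prod.ext
    · simp
    · change rhoU N ρ _ = (γ : G × UEnd d).2 * rhoU N ρ n * (γ : G × UEnd d).2⁻¹
      rw [Gam_intertwine]
      simp
  letI : Fintype N₀ := Fintype.ofFinite _
  letI : Fintype (Gam N ρ ⧸ N₀) := Fintype.ofFinite _
  let e₀ : N ≃* N₀ := MonoidHom.ofInjective (embN_injective N ρ)
  have he₀ : ∀ n : N, ((e₀ n : N₀) : Gam N ρ) = embN N ρ n := fun n => rfl
  have hYN : resFun N₀ Y ∘ e₀ = ρ.character := by
    funext n
    rfl
  have hirrN₀ : IsIrrCharacter N₀ (resFun N₀ Y) := by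
    have h1 : resFun N₀ Y = ρ.character ∘ e₀.symm := by
      rw [← hYN]
      funext x
      simp
    rw [h1]
    exact isIrrCharacter_comp_mulEquiv e₀.symm ⟨d, ρ, hirr, rfl⟩
  let χ' : Gam N ρ → ℂ := χ ∘ piG N ρ
  have hχ' : IsIrrCharacter (Gam N ρ) χ' := isIrrCharacter_comp_surj (piG N ρ) hsurj hχ
  have hχN : resFun N₀ χ' ∘ e₀ = resFun N χ := by
    funext n
    rfl
  have hover : classInner (resFun N₀ χ') (resFun N₀ Y) ≠ 0 := by
    have h1 := classInner_comp_mulEquiv e₀ (resFun N₀ χ') (resFun N₀ Y)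
    rw [← h1, hχN, hYN]
    exact hcon
  obtain ⟨β, hβ, hχβ⟩ := exists_gallagher N₀ hY hirrN₀ hχ' hover
  refine ⟨charDegree β, ?_, ?_⟩
  · have h1 := congrFun hχβ 1
    have h2 : χ' 1 = χ 1 := by
      simp [χ']
    have h3 : Y 1 = ρ.character 1 := by
      simp [Y, Representation.character]
    have h4 : inflate N₀ β 1 = β 1 := rfl
    rw [h2, h3, h4, apply_one_eq_charDegree (IsIrrCharacter.isCharacter hβ)] at h1
    exact h1
  · have h1 := charDegree_dvd_index_center hβ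
    refine h1.trans ?_
    let Z : Subgroup (Gam N ρ) := (Subgroup.center (Gam N ρ ⧸ N₀)).comap (QuotientGroup.mk' N₀)
    have h2 : (Subgroup.center (Gam N ρ ⧸ N₀)).index = Z.index :=
      (Subgroup.index_comap_of_surjective _ (QuotientGroup.mk'_surjective N₀)).symm
    have h3 : (Bsub N ρ).index = N.index := Subgroup.index_comap_of_surjective _ hsurj
    rw [h2, ← h3]
    apply Subgroup.index_dvd_of_le
    intro x hx
    rw [Subgroup.mem_comap, Subgroup.mem_center_iff]
    intro y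
    induction y using QuotientGroup.induction_on with
    | H y =>
    simp only [QuotientGroup.mk'_apply]
    rw [← QuotientGroup.mk_mul, ← QuotientGroup.mk_mul, QuotientGroup.eq]
    -- the commutator lies in `N₀`
    let n : N := ⟨_, hx⟩
    have hx2 := scal_spec N ρ ⟨x, hx⟩
    set S := scalU d (scal N ρ ⟨x, hx⟩) with hS
    set R := rhoU N ρ n with hR
    set y₂ := (y : G × UEnd d).2 with hy₂
    have hx3 : (x : G × UEnd d).2 = S * R := hx2
    have hSy : y₂ * S = S * y₂ := (scalU_commute d _ y₂).symm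
    have h4 : ((y * x : Gam N ρ)⁻¹ * (x * y) : Gam N ρ).1.2 = R⁻¹ * (y₂⁻¹ * R * y₂) := by
      have h5 : ((y * x : Gam N ρ)⁻¹ * (x * y) : Gam N ρ).1.2 =
          (y₂ * (x : G × UEnd d).2)⁻¹ * ((x : G × UEnd d).2 * y₂) := rfl
      rw [h5, hx3]
      have h6 : y₂ * (S * R) = S * (y₂ * R) := by
        rw [← mul_assoc, hSy, mul_assoc]
      rw [h6]
      group
    have h7 : rhoU N ρ (cn N (y : G × UEnd d).1⁻¹ n) = y₂⁻¹ * R * y₂ := by
      have h8 := Gam_intertwine N ρ y (cn N (y : G × UEnd d).1⁻¹ n)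
      rw [cn_cn_inv] at h8
      rw [mul_assoc, eq_inv_mul_iff_mul_eq]
      exact h8
    refine ⟨n⁻¹ * cn N (y : G × UEnd d).1⁻¹ n, ?_⟩
    apply Subtype.ext
    apply Prod.ext
    · change (((n⁻¹ * cn N (y : G × UEnd d).1⁻¹ n : N)) : G) = (((y * x : Gam N ρ)⁻¹ * (x * y) : Gam N ρ) : G × UEnd d).1
      simp [n, mul_assoc]
    · change rhoU N ρ (n⁻¹ * cn N (y : G × UEnd d).1⁻¹ n) = _
      rw [h4, map_mul, map_inv, h7]

end Main

section Fun

variable {G : Type u} [Group G] [Fintype G] (N : Subgroup G) [hN : N.Normal] [Fintype N]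

/-- Degree divisibility over a normal subgroup. -/
theorem degree_ratio {χ : G → ℂ} (hχ : IsIrrCharacter G χ) {ϑ : N → ℂ} (hϑ : IsIrrCharacter N ϑ)
    (hcon : classInner (resFun N χ) ϑ ≠ 0) {c d : ℕ} (hc : χ 1 = c) (hd : ϑ 1 = d) :
    d ∣ c ∧ c / d ∣ N.index := by
  classical
  have hNT : N ≤ inertia N ϑ :=
    le_inertia N (IsCharacter.isClassFunction (IsIrrCharacter.isCharacter hϑ))
  letI : Fintype (inertia N ϑ) := Fintype.ofFinite _
  obtain ⟨ψ, hψ, hind, hmul⟩ := clifford_corr N hNT hχ hϑ (fun t ht => ht) (fun g hg => hg) hcon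
  let T := inertia N ϑ
  let NT : Subgroup T := N.subgroupOf T
  haveI : NT.Normal := Subgroup.normal_subgroupOf
  letI : Fintype NT := Fintype.ofFinite _
  let e : NT ≃* N := Subgroup.subgroupOfEquivOfLe hNT
  have hθ' : IsIrrCharacter NT (ϑ ∘ e) := isIrrCharacter_comp_mulEquiv e hϑ
  obtain ⟨m, ρ, hirr, hρ⟩ := hθ'
  haveI := hirr
  have hinv : ∀ (g : T) (n : NT), ρ.character (cn NT g n) = ρ.character n := by
    intro g n
    rw [hρ]
    have h1 : conjFun N (g : G)⁻¹ ϑ = ϑ := (inertia N ϑ).inv_mem g.2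
    have h2 := congrFun h1 (e n)
    simp only [conjFun_apply, inv_inv] at h2
    simp only [Function.comp_apply]
    rw [← h2]
    congr 1
  have hcon' : classInner (resFun NT ψ) ρ.character ≠ 0 := by
    rw [hρ]
    have h1 : classInner (resFun NT ψ) (ϑ ∘ e) = classInner (resTN N hNT ψ) ϑ :=
      classInner_comp_mulEquiv e (resTN N hNT ψ) ϑ
    rw [h1, hmul]
    exact hcon
  obtain ⟨e₀, he₀, hdvd⟩ := exists_degree_quotient_rep NT ρ hinv hψ hcon'
  have h1 : ρ.character 1 = (d : ℂ) := by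
    rw [hρ, ← hd]
    simp only [Function.comp_apply, map_one]
  have h2 : χ 1 = (T.index : ℂ) * ((e₀ : ℂ) * d) := by
    rw [← hind, indFun_one, he₀, h1]
  have h3 : c = T.index * (e₀ * d) := by
    rw [hc] at h2
    exact_mod_cast h2
  have hd0 : 0 < d := by
    obtain ⟨k, hk, hk2⟩ := IsIrrCharacter.apply_one hϑ
    rw [hd] at hk2
    have : d = k := by exact_mod_cast hk2
    omega
  have h4 : c / d = T.index * e₀ := by
    rw [h3, ← mul_assoc, Nat.mul_div_cancel _ hd0]
  refine ⟨⟨T.index * e₀, by rw [h3]; ring⟩, ?_⟩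
  rw [h4, mul_comm]
  have h5 : N.index = NT.index * T.index := (Subgroup.relIndex_mul_index hNT).symm
  rw [h5]
  exact Nat.mul_dvd_mul_right hdvd _

end Fun

end Triple

end Cfsg.Agent.Lib.Char
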