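import Cfsg.Agent.Lib.Char.ItoP
import Cfsg.Agent.Lib.Char.Degree

/-!
# A relative Ito–Michler theorem

`T` a `p`-soluble group, `z₀` a central `p`-element, `ζ` a primitive root of unity of the order
of `z₀`.  If all irreducible characters `χ` with `χ(z₀) = χ(1) ζ` have degree prime to `p`, then
the Sylow `p`-subgroups of `T` are normal and abelian.
-/

set_option autoImplicit false
set_option linter.unusedSectionVars false

namespace Cfsg.Agent.Lib.Char

open Cfsg Cfsg.Agent.Lib.Blocks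
open scoped ComplexConjugate Pointwise commutatorElement

universe u

section Formula

variable {T : Type u} [Group T] [Fintype T]

/-- The scalar by which a central element acts, on powers. -/
theorem apply_mul_pow_of_over {χ : T → ℂ} (hχ : IsIrrCharacter T χ) {z : T}
    (hz : z ∈ Subgroup.center T) {ω : ℂ} (hω : χ z = χ 1 * ω) (g : T) (i : ℕ) :
    χ (g * z ^ i) = χ g * ω ^ i := by
  have h0 := IsIrrCharacter.apply_one_ne_zero hχ
  induction i with
  | zero => simp
  | succ i ih =>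
    have h1 := apply_mul_of_mem_center hχ hz (g * z ^ i)
    rw [ih, hω, mul_assoc, ← pow_succ] at h1
    have h2 : χ 1 * χ (g * z ^ (i + 1)) = χ 1 * (χ g * ω ^ (i + 1)) := by
      rw [h1]
      ring
    exact mul_left_cancel₀ h0 h2

/-- The central scalar of an irreducible character. -/
theorem exists_central_scalar {χ : T → ℂ} (hχ : IsIrrCharacter T χ) {z : T} (_hz : z ∈ Subgroup.center T) :
    ∃ ω : ℂ, χ z = χ 1 * ω :=
  ⟨χ z / χ 1, by rw [mul_div_cancel₀ _ (IsIrrCharacter.apply_one_ne_zero hχ)]⟩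

/-- The central scalar is a root of unity. -/
theorem central_scalar_pow {χ : T → ℂ} (hχ : IsIrrCharacter T χ) {z : T}
    (hz : z ∈ Subgroup.center T) {ω : ℂ} (hω : χ z = χ 1 * ω) {m : ℕ} (hm : z ^ m = 1) :
    ω ^ m = 1 := by
  have h0 := IsIrrCharacter.apply_one_ne_zero hχ
  have h1 := apply_mul_pow_of_over hχ hz hω 1 m
  rw [hm, mul_one] at h1
  have h2 : χ 1 * ω ^ m = χ 1 * 1 := by rw [← h1, mul_one]
  exact mul_left_cancel₀ h0 h2

open scoped Classical in
/-- The sum of `χ(1) χ` over the characters lying over `ζ`. -/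
noncomputable def rhoFun (z₀ : T) (ζ : ℂ) : T → ℂ := fun g =>
  ∑ χ : IrrCharacter T, if (χ : T → ℂ) z₀ = (χ : T → ℂ) 1 * ζ then (χ : T → ℂ) 1 * (χ : T → ℂ) g else 0

open scoped Classical in
/-- The basic formula for `rhoFun`. -/
theorem card_mul_rhoFun {z₀ : T} (hz : z₀ ∈ Subgroup.center T) {ζ : ℂ}
    (hζ : IsPrimitiveRoot ζ (orderOf z₀)) (g : T) :
    (orderOf z₀ : ℂ) * rhoFun z₀ ζ g =
      (Nat.card T : ℂ) * ∑ i ∈ Finset.range (orderOf z₀), if g * z₀ ^ i = 1 then ζ⁻¹ ^ i else 0 := by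
  have hm : 0 < orderOf z₀ := orderOf_pos z₀
  have hζ0 : ζ ≠ 0 := hζ.ne_zero hm.ne'
  have hsum : ∀ χ : IrrCharacter T,
      ∑ i ∈ Finset.range (orderOf z₀), ζ⁻¹ ^ i * (χ : T → ℂ) (g * z₀ ^ i) =
        (orderOf z₀ : ℂ) * (if (χ : T → ℂ) z₀ = (χ : T → ℂ) 1 * ζ then (χ : T → ℂ) g else 0) := by
    intro χ
    obtain ⟨ω, hω⟩ := exists_central_scalar χ.2 hz
    have hω1 : ω ^ orderOf z₀ = 1 := central_scalar_pow χ.2 hz hω (pow_orderOf_eq_one z₀)
    have h1 : ∀ i, ζ⁻¹ ^ i * (χ : T → ℂ) (g * z₀ ^ i) = (χ : T → ℂ) g * (ζ⁻¹ * ω) ^ i := by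
      intro i
      rw [apply_mul_pow_of_over χ.2 hz hω, mul_pow]
      ring
    simp only [h1]
    rw [← Finset.mul_sum]
    have h0 := IsIrrCharacter.apply_one_ne_zero χ.2
    by_cases hov : (χ : T → ℂ) z₀ = (χ : T → ℂ) 1 * ζ
    · have hωζ : ω = ζ := by
        rw [hω] at hov
        exact mul_left_cancel₀ h0 hov
      rw [if_pos hov, hωζ, inv_mul_cancel₀ hζ0]
      simp
      ring
    · rw [if_neg hov, mul_zero]
      have hne : ζ⁻¹ * ω ≠ 1 := by
        intro h
        apply hov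
        rw [hω]
        congr 1
        field_simp at h
        exact h
      have hpow : (ζ⁻¹ * ω) ^ orderOf z₀ = 1 := by
        rw [mul_pow, hω1, inv_pow, hζ.pow_eq_one, inv_one, one_mul]
      rw [geom_sum_eq hne, hpow, sub_self, zero_div, mul_zero]
  have h2 : ∑ χ : IrrCharacter T, (χ : T → ℂ) 1 *
      ∑ i ∈ Finset.range (orderOf z₀), ζ⁻¹ ^ i * (χ : T → ℂ) (g * z₀ ^ i) =
      ∑ i ∈ Finset.range (orderOf z₀), ζ⁻¹ ^ i * ∑ χ : IrrCharacter T,
        (χ : T → ℂ) 1 * (χ : T → ℂ) (g * z₀ ^ i) := by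
    simp only [Finset.mul_sum]
    rw [Finset.sum_comm]
    refine Finset.sum_congr rfl fun i _ => Finset.sum_congr rfl fun χ _ => ?_
    ring
  have h3 : ∑ i ∈ Finset.range (orderOf z₀), ζ⁻¹ ^ i * ∑ χ : IrrCharacter T,
        (χ : T → ℂ) 1 * (χ : T → ℂ) (g * z₀ ^ i) =
      (Nat.card T : ℂ) * ∑ i ∈ Finset.range (orderOf z₀), if g * z₀ ^ i = 1 then ζ⁻¹ ^ i else 0 := by
    rw [Finset.mul_sum]
    refine Finset.sum_congr rfl fun i _ => ?_
    have := sum_irr_degree_mul_apply (G := T) (g * z₀ ^ i)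
    by_cases hi : g * z₀ ^ i = 1
    · rw [if_pos hi] at this ⊢
      convert congrArg (fun x => ζ⁻¹ ^ i * x) this using 1
      ring
    · rw [if_neg hi] at this ⊢
      convert congrArg (fun x => ζ⁻¹ ^ i * x) this using 1
      · simp
  rw [← h3, ← h2]
  simp only [hsum]
  rw [rhoFun, Finset.mul_sum]
  refine Finset.sum_congr rfl fun χ _ => ?_
  by_cases hov : (χ : T → ℂ) z₀ = (χ : T → ℂ) 1 * ζ
  · simp only [if_pos hov]
    ring
  · simp only [if_neg hov]
    ring

theorem rhoFun_eq_zero {z₀ : T} (hz : z₀ ∈ Subgroup.center T) {ζ : ℂ}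
    (hζ : IsPrimitiveRoot ζ (orderOf z₀)) {g : T} (hg : g ∉ Subgroup.zpowers z₀) :
    rhoFun z₀ ζ g = 0 := by
  classical
  have h1 := card_mul_rhoFun hz hζ g
  have h2 : ∑ i ∈ Finset.range (orderOf z₀), (if g * z₀ ^ i = 1 then ζ⁻¹ ^ i else 0) = 0 := by
    refine Finset.sum_eq_zero fun i _ => ?_
    rw [if_neg]
    intro h
    apply hg
    rw [eq_inv_of_mul_eq_one_left h]
    exact Subgroup.inv_mem _ (Subgroup.pow_mem _ (Subgroup.mem_zpowers z₀) i)
  rw [h2, mul_zero] at h1
  have hm : (orderOf z₀ : ℂ) ≠ 0 := by exact_mod_cast (orderOf_pos z₀).ne'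
  exact (mul_eq_zero.mp h1).resolve_left hm

theorem rhoFun_one_ne_zero {z₀ : T} (hz : z₀ ∈ Subgroup.center T) {ζ : ℂ}
    (hζ : IsPrimitiveRoot ζ (orderOf z₀)) : rhoFun z₀ ζ 1 ≠ 0 := by
  classical
  intro h0
  have h1 := card_mul_rhoFun hz hζ 1
  rw [h0, mul_zero] at h1
  have h2 : ∑ i ∈ Finset.range (orderOf z₀), (if 1 * z₀ ^ i = 1 then ζ⁻¹ ^ i else 0) = 1 := by
    rw [Finset.sum_eq_single 0]
    · simp
    · intro i hi hi0
      rw [if_neg]
      rw [one_mul]
      intro h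
      have h3 := orderOf_le_of_pow_eq_one (Nat.pos_of_ne_zero hi0) h
      rw [Finset.mem_range] at hi
      omega
    · intro h
      exfalso
      apply h
      rw [Finset.mem_range]
      exact orderOf_pos z₀
  rw [h2, mul_one] at h1
  have hc : (Nat.card T : ℂ) ≠ 0 := by exact_mod_cast Nat.card_pos.ne'
  exact hc h1.symm

theorem rhoFun_pow (z₀ : T) (hz : z₀ ∈ Subgroup.center T) (ζ : ℂ) (j : ℕ) :
    rhoFun z₀ ζ (z₀ ^ j) = rhoFun z₀ ζ 1 * ζ ^ j := by
  classical
  rw [rhoFun, rhoFun, Finset.sum_mul]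
  refine Finset.sum_congr rfl fun χ _ => ?_
  by_cases hov : (χ : T → ℂ) z₀ = (χ : T → ℂ) 1 * ζ
  · simp only [if_pos hov]
    have h1 := apply_mul_pow_of_over χ.2 hz hov 1 j
    rw [one_mul] at h1
    rw [h1]
    ring
  · simp only [if_neg hov]
    ring

/-- Every character of `M` compatible with `ζ` lies under an irreducible character of `T` lying
over `ζ`. -/
theorem exists_over_under {z₀ : T} (hz : z₀ ∈ Subgroup.center T) {ζ : ℂ}
    (hζ : IsPrimitiveRoot ζ (orderOf z₀)) (M : Subgroup T) [Fintype M] {μ : M → ℂ}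
    (hμ1 : IsIrrCharacter M μ)
    (hμ : ∀ (j : ℕ) (hx : z₀ ^ j ∈ M), μ ⟨z₀ ^ j, hx⟩ = μ 1 * ζ ^ j) :
    ∃ χ : IrrCharacter T, (χ : T → ℂ) z₀ = (χ : T → ℂ) 1 * ζ ∧
      classInner (resFun M (χ : T → ℂ)) μ ≠ 0 := by
  classical
  by_contra hcon
  push Not at hcon
  have hm0 : 0 < orderOf z₀ := orderOf_pos z₀
  have hζ0 : ζ ≠ 0 := hζ.ne_zero hm0.ne'
  have hnorm : ‖ζ‖ = 1 := hζ.norm'_eq_one hm0.ne'
  have hμ0 := IsIrrCharacter.apply_one_ne_zero hμ1
  have hsum : resFun M (rhoFun z₀ ζ) = ∑ χ : IrrCharacter T,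
      (if (χ : T → ℂ) z₀ = (χ : T → ℂ) 1 * ζ then (χ : T → ℂ) 1 else 0) • resFun M (χ : T → ℂ) := by
    funext x
    simp only [rhoFun, Finset.sum_apply, Pi.smul_apply, smul_eq_mul]
    refine Finset.sum_congr rfl fun χ _ => ?_
    by_cases hov : (χ : T → ℂ) z₀ = (χ : T → ℂ) 1 * ζ
    · simp only [if_pos hov]
    · simp only [if_neg hov, zero_mul]
  have h0 : classInner (resFun M (rhoFun z₀ ζ)) μ = 0 := by
    rw [hsum, classInner_sum_left]
    refine Finset.sum_eq_zero fun χ _ => ?_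
    rw [classInner_smul_left]
    by_cases hov : (χ : T → ℂ) z₀ = (χ : T → ℂ) 1 * ζ
    · rw [hcon χ hov, mul_zero]
    · rw [if_neg hov, zero_mul]
  -- compute directly
  have hterm : ∀ x : M, rhoFun z₀ ζ x * conj (μ x) =
      if (x : T) ∈ Subgroup.zpowers z₀ then rhoFun z₀ ζ 1 * conj (μ 1) else 0 := by
    intro x
    by_cases hx : (x : T) ∈ Subgroup.zpowers z₀
    · rw [if_pos hx]
      obtain ⟨j, hj'⟩ := (mem_powers_iff_mem_zpowers.mpr hx)
      have hj : z₀ ^ j = (x : T) := hj'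
      have hxe : x = ⟨z₀ ^ j, by rw [hj]; exact x.2⟩ := Subtype.ext hj.symm
      have h1 := hμ j (by rw [hj]; exact x.2)
      rw [← hxe] at h1
      rw [h1, ← hj, rhoFun_pow z₀ hz ζ j, map_mul, map_pow]
      have h2 : ζ ^ j * conj ζ ^ j = 1 := by
        rw [← mul_pow, Complex.mul_conj, Complex.normSq_eq_norm_sq, hnorm]
        simp
      calc rhoFun z₀ ζ 1 * ζ ^ j * (conj (μ 1) * conj ζ ^ j)
          = rhoFun z₀ ζ 1 * conj (μ 1) * (ζ ^ j * conj ζ ^ j) := by ring
        _ = rhoFun z₀ ζ 1 * conj (μ 1) := by rw [h2, mul_one]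
    · rw [if_neg hx, rhoFun_eq_zero hz hζ hx, zero_mul]
  rw [classInner] at h0
  simp only [resFun] at h0
  simp only [hterm] at h0
  rw [Finset.sum_ite, Finset.sum_const, Finset.sum_const_zero, add_zero] at h0
  have hc : (Nat.card M : ℂ)⁻¹ ≠ 0 := inv_ne_zero (by exact_mod_cast Nat.card_pos.ne')
  have h1 := (mul_eq_zero.mp h0).resolve_left hc
  rw [nsmul_eq_mul] at h1
  have hcard : ((Finset.univ.filter fun x : M => (x : T) ∈ Subgroup.zpowers z₀).card : ℂ) ≠ 0 := by
    have : 0 < (Finset.univ.filter fun x : M => (x : T) ∈ Subgroup.zpowers z₀).card := by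
      apply Finset.card_pos.mpr
      exact ⟨1, by simp [Subgroup.one_mem]⟩
    exact_mod_cast this.ne'
  have hc1 : conj (μ 1) ≠ 0 := by
    rw [Ne, map_eq_zero]
    exact hμ0
  exact mul_ne_zero hcard (mul_ne_zero (rhoFun_one_ne_zero hz hζ) hc1) h1

end Formula

section Main

variable {p : ℕ} [hp : Fact p.Prime]

/-- `p`-solubility passes to subgroups. -/
theorem isPSolvable_subgroup {G : Type*} [Group G] [Finite G] (h : IsPSolvable p G) (I : Subgroup G) :
    IsPSolvable p I := by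
  obtain ⟨n, H, h0, hl, hm, hn, hs⟩ := h
  refine ⟨n, fun i => (H i).subgroupOf I, ?_, ?_, fun i j hij => Subgroup.subgroupOf_mono I (hm hij),
    fun i => ?_, fun i => ?_⟩
  · show (H 0).subgroupOf I = ⊥
    rw [h0, Subgroup.bot_subgroupOf]
  · show (H (Fin.last n)).subgroupOf I = ⊤
    rw [hl, Subgroup.top_subgroupOf]
  · haveI := hn i
    exact Subgroup.normal_subgroupOf
  · have hle : H i.castSucc ≤ H i.succ := hm (Fin.castSucc_lt_succ).le
    haveI hAn := hn i.castSucc
    have hd : ((H i.castSucc).subgroupOf I).relIndex ((H i.succ).subgroupOf I) ∣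
        (H i.castSucc).relIndex (H i.succ) := by
      have h1 : ((H i.castSucc).subgroupOf I).relIndex ((H i.succ).subgroupOf I) =
          (H i.castSucc).relIndex (H i.succ ⊓ I) := by
        have h2 : (H i.castSucc).subgroupOf I = (H i.castSucc ⊓ I).subgroupOf I := by
          rw [Subgroup.inf_subgroupOf_right]
        have h3 : (H i.succ).subgroupOf I = (H i.succ ⊓ I).subgroupOf I := by
          rw [Subgroup.inf_subgroupOf_right]
        rw [h2, h3, Subgroup.relIndex_subgroupOf (inf_le_right : H i.succ ⊓ I ≤ I)]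
        have h4 : H i.castSucc ⊓ I = H i.castSucc ⊓ (H i.succ ⊓ I) := by
          rw [← inf_assoc, inf_eq_left.mpr hle]
        rw [h4, Subgroup.inf_relIndex_right]
      rw [h1, ← Subgroup.relIndex_sup_left]
      have h5 : H i.castSucc ⊔ (H i.succ ⊓ I) ≤ H i.succ := sup_le hle inf_le_left
      rw [← Subgroup.relIndex_mul_relIndex _ _ _ (le_sup_left : H i.castSucc ≤ H i.castSucc ⊔ (H i.succ ⊓ I)) h5]
      exact dvd_mul_right _ _
    rcases hs i with ⟨m, hm'⟩ | hc
    · left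
      rw [hm'] at hd
      obtain ⟨k, -, hk⟩ := (Nat.dvd_prime_pow hp.out).mp hd
      exact ⟨k, hk⟩
    · right
      exact Nat.Coprime.coprime_dvd_left hd hc

/-- Normal `p`-subgroups containing `z₀` are abelian. -/
theorem comm_of_normal_pgroup {T : Type u} [Group T] [Fintype T] {z₀ : T}
    (hz : z₀ ∈ Subgroup.center T) {ζ : ℂ} (hζ : IsPrimitiveRoot ζ (orderOf z₀))
    (hd : ∀ χ : IrrCharacter T, (χ : T → ℂ) z₀ = (χ : T → ℂ) 1 * ζ → ¬ p ∣ charDegree (χ : T → ℂ))
    (V : Subgroup T) [hVn : V.Normal] [Fintype V] (hV : IsPGroup p V) (hzV : z₀ ∈ V) :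
    ∀ a ∈ V, ∀ b ∈ V, a * b = b * a := by
  classical
  let y : V := ⟨z₀, hzV⟩
  have hyc : y ∈ Subgroup.center V := by
    rw [Subgroup.mem_center_iff]
    intro g
    apply Subtype.ext
    exact Subgroup.mem_center_iff.mp hz g
  have hyo : orderOf y = orderOf z₀ := Subgroup.orderOf_mk z₀ hzV
  have hζ' : IsPrimitiveRoot ζ (orderOf y) := hyo ▸ hζ
  have hlin : ∀ μ : IrrCharacter V, (μ : V → ℂ) y = (μ : V → ℂ) 1 * ζ → (μ : V → ℂ) 1 = 1 := by
    intro μ hμ
    have hμp : ∀ (j : ℕ) (hx : z₀ ^ j ∈ V), (μ : V → ℂ) ⟨z₀ ^ j, hx⟩ = (μ : V → ℂ) 1 * ζ ^ j := by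
      intro j hx
      have h3 := apply_mul_pow_of_over μ.2 hyc hμ 1 j
      rw [one_mul] at h3
      rw [← h3]
      rfl
    obtain ⟨χ, hχ, hne⟩ := exists_over_under hz hζ V μ.2 hμp
    obtain ⟨e, he⟩ := exists_multiplicity V (IsIrrCharacter.isCharacter χ.2) μ.2
    have hdeg := clifford_degree_nat V χ.2 μ.2 hne
      (apply_one_eq_charDegree (IsIrrCharacter.isCharacter χ.2))
      (apply_one_eq_charDegree (IsIrrCharacter.isCharacter μ.2)) he
    have h1 := hd χ hχ
    have h2 : ¬ p ∣ charDegree (μ : V → ℂ) := fun h => h1 (by rw [hdeg]; exact Dvd.dvd.mul_left h _)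
    have h3 := charDegree_dvd_card μ.2
    obtain ⟨n, hn'⟩ := IsPGroup.iff_card.mp hV
    rw [hn'] at h3
    obtain ⟨j, -, hj⟩ := (Nat.dvd_prime_pow hp.out).mp h3
    rcases Nat.eq_zero_or_pos j with rfl | hj0
    · rw [apply_one_eq_charDegree (IsIrrCharacter.isCharacter μ.2), hj]
      simp
    · exfalso
      apply h2
      rw [hj]
      exact dvd_pow_self p hj0.ne'
  intro a ha b hb
  let c : V := ⟨a, ha⟩ * ⟨b, hb⟩ * (⟨a, ha⟩ : V)⁻¹ * (⟨b, hb⟩ : V)⁻¹
  have hρ : rhoFun y ζ c = rhoFun y ζ 1 := by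
    rw [rhoFun, rhoFun]
    refine Finset.sum_congr rfl fun μ _ => ?_
    by_cases hov : (μ : V → ℂ) y = (μ : V → ℂ) 1 * ζ
    · simp only [if_pos hov]
      obtain ⟨lam, hlam⟩ := IsCharacter.exists_monoidHom (IsIrrCharacter.isCharacter μ.2) (hlin μ hov)
      congr 1
      rw [hlam]
      simp only [c, map_mul, map_inv]
      have : ∀ u v : ℂˣ, u * v * u⁻¹ * v⁻¹ = 1 := by
        intro u v
        rw [mul_comm u v, mul_assoc, mul_assoc]
        simp
      rw [this]
      simp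
    · simp only [if_neg hov]
  have hne : rhoFun y ζ c ≠ 0 := by
    rw [hρ]
    exact rhoFun_one_ne_zero hyc hζ'
  have hmem : c ∈ Subgroup.zpowers y := by
    by_contra h
    exact hne (rhoFun_eq_zero hyc hζ' h)
  obtain ⟨j, hj'⟩ := mem_powers_iff_mem_zpowers.mpr hmem
  have hj : y ^ j = c := hj'
  have h1 := rhoFun_pow y hyc ζ j
  rw [hj, hρ] at h1
  have h2 : ζ ^ j = 1 := by
    have h3 := rhoFun_one_ne_zero hyc hζ'
    have h4 : rhoFun y ζ 1 * ζ ^ j = rhoFun y ζ 1 * 1 := by rw [← h1, mul_one]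
    exact mul_left_cancel₀ h3 h4
  have h3 : orderOf y ∣ j := hζ'.dvd_of_pow_eq_one j h2
  have h4 : c = 1 := by
    rw [← hj]
    exact orderOf_dvd_iff_pow_eq_one.mp h3
  have h5 : a * b * a⁻¹ * b⁻¹ = 1 := congrArg Subtype.val h4
  have h6 : a * b * a⁻¹ = b := by
    rw [mul_inv_eq_one] at h5
    exact h5
  calc a * b = a * b * a⁻¹ * a := by group
    _ = b * a := by rw [h6]

/-- Lifting normality of a Sylow subgroup through a normal `p`-subgroup. -/
theorem normal_of_map_pgroup {G : Type u} [Group G] [Finite G] (N : Subgroup G) [N.Normal]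
    (hNp : IsPGroup p N) (P : Sylow p G)
    (hPn : ((P : Subgroup G).map (QuotientGroup.mk' N)).Normal) : (P : Subgroup G).Normal := by
  have h1 : IsPGroup p ((P : Subgroup G) ⊔ N : Subgroup G) :=
    IsPGroup.to_sup_of_normal_right P.isPGroup' hNp
  have h2 := P.is_maximal' h1 le_sup_left
  have hNP : N ≤ (P : Subgroup G) := by
    rw [← h2]
    exact le_sup_right
  constructor
  intro x hx g
  obtain ⟨y, hy, hyx⟩ := hPn.conj_mem _ ⟨x, hx, rfl⟩ (g : G ⧸ N)
  have h3 : y⁻¹ * (g * x * g⁻¹) ∈ N := QuotientGroup.eq.mp hyx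
  have h4 : g * x * g⁻¹ = y * (y⁻¹ * (g * x * g⁻¹)) := by group
  rw [h4]
  exact (P : Subgroup G).mul_mem hy (hNP h3)

/-- Lifting normality of a Sylow subgroup through a normal `p'`-subgroup all of whose irreducible
characters have inertia groups of index prime to `p`. -/
theorem normal_of_map_coprime {G : Type u} [Group G] [Fintype G] (N : Subgroup G) [hN : N.Normal]
    [Fintype N] (hNd : ¬ p ∣ Nat.card N) (P : Sylow p G)
    (hPn : ((P : Subgroup G).map (QuotientGroup.mk' N)).Normal)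
    (hidx : ∀ θ : IrrCharacter N, ¬ p ∣ (inertia N (θ : N → ℂ)).index) :
    (P : Subgroup G).Normal := by
  classical
  have hcomap : ∀ x : G, ((x : G ⧸ N) ∈ (P : Subgroup G).map (QuotientGroup.mk' N)) →
      ∃ y ∈ (P : Subgroup G), ∃ n ∈ N, x = y * n := by
    intro x hx
    obtain ⟨y, hy, hyx⟩ := hx
    refine ⟨y, hy, y⁻¹ * x, ?_, by group⟩
    exact QuotientGroup.eq.mp hyx
  have hinv : ∀ θ : IrrCharacter N, (P : Subgroup G) ≤ inertia N (θ : N → ℂ) := by
    intro θ
    obtain ⟨g, hg⟩ := Cfsg.Agent.Lib.Basic.IsPGroup.exists_le_conj_of_not_dvd_index P.isPGroup'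
      (hidx θ)
    intro y hy
    obtain ⟨y', hy', n, hn, hyy⟩ := hcomap (g * y * g⁻¹)
      (hPn.conj_mem _ ⟨y, hy, rfl⟩ (g : G ⧸ N))
    have h1 : y' ∈ MulAut.conj g • inertia N (θ : N → ℂ) := hg hy'
    obtain ⟨t, ht, hty⟩ := Subgroup.mem_smul_pointwise_iff_exists _ _ _ |>.mp h1
    have h2 : y' = g * t * g⁻¹ := hty.symm
    have h3 : y = t * (g⁻¹ * n * g) := by
      have h4 : g * y * g⁻¹ = g * t * g⁻¹ * n := by rw [hyy, h2]
      calc y = g⁻¹ * (g * y * g⁻¹) * g := by group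
        _ = g⁻¹ * (g * t * g⁻¹ * n) * g := by rw [h4]
        _ = t * (g⁻¹ * n * g) := by group
    rw [h3]
    apply (inertia N (θ : N → ℂ)).mul_mem ht
    apply le_inertia N (IsCharacter.isClassFunction (IsIrrCharacter.isCharacter θ.2))
    have := hN.conj_mem n hn g⁻¹
    simpa using this
  have hcomm := commute_of_le_inertia N (P : Subgroup G) P.isPGroup' hNd hinv
  constructor
  intro x hx g
  obtain ⟨y, hy, n, hn, hxy⟩ := hcomap (g * x * g⁻¹)
    (hPn.conj_mem _ ⟨x, hx, rfl⟩ (g : G ⧸ N))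
  have hn1 : n = 1 := by
    obtain ⟨a, ha⟩ := IsPGroup.iff_orderOf.mp P.isPGroup' ⟨x, hx⟩
    obtain ⟨b, hb⟩ := IsPGroup.iff_orderOf.mp P.isPGroup' ⟨y, hy⟩
    have ha' : orderOf x = p ^ a := by rw [← ha]; exact (Subgroup.orderOf_mk x hx).symm
    have hb' : orderOf y = p ^ b := by rw [← hb]; exact (Subgroup.orderOf_mk y hy).symm
    have h1 : (g * x * g⁻¹) ^ (p ^ (a + b)) = 1 := by
      rw [conj_pow, pow_add, pow_mul, ← ha', pow_orderOf_eq_one]
      simp
    have hc : Commute y n := hcomm y hy n hn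
    have hy1 : y ^ (p ^ (a + b)) = 1 := by
      rw [pow_add, mul_comm, pow_mul, ← hb', pow_orderOf_eq_one, one_pow]
    rw [hxy, hc.mul_pow, hy1, one_mul] at h1
    have h2 : orderOf n ∣ p ^ (a + b) := orderOf_dvd_of_pow_eq_one h1
    have h3 : orderOf n ∣ Nat.card N := by
      rw [← Subgroup.orderOf_mk n hn]
      exact orderOf_dvd_natCard _
    have h4 : Nat.Coprime (p ^ (a + b)) (Nat.card N) :=
      Nat.Coprime.pow_left _ ((Nat.Prime.coprime_iff_not_dvd hp.out).mpr hNd)
    exact orderOf_eq_one_iff.mp (Nat.eq_one_of_dvd_coprimes h4 h2 h3)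
  rw [hxy, hn1, mul_one]
  exact hy

/-- The transfer argument: a central `p`-element inside `[V, K]`, for `V` abelian normal in `K`
of index prime to `p`, is trivial. -/
theorem eq_one_of_mem_commutator_of_center {K : Type u} [Group K] [Finite K] (V : Subgroup K)
    (hVc : ∀ a ∈ V, ∀ b ∈ V, a * b = b * a) (hidx : ¬ p ∣ V.index)
    {z : K} (hz : z ∈ Subgroup.center K) (hzc : z ∈ ⁅V, (⊤ : Subgroup K)⁆) {e : ℕ}
    (hze : z ^ p ^ e = 1) : z = 1 := by
  classical
  haveI : V.FiniteIndex := Subgroup.finiteIndex_of_finite_quotient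
  letI : CommGroup V := { (inferInstance : Group V) with
    mul_comm := fun a b => Subtype.ext (hVc a a.2 b b.2) }
  let τ : K →* V := MonoidHom.transfer (MonoidHom.id V)
  have h1 : ⁅V, (⊤ : Subgroup K)⁆ ≤ τ.ker := by
    rw [Subgroup.commutator_le]
    intro a _ b _
    rw [MonoidHom.mem_ker, map_commutatorElement, commutatorElement_eq_one_iff_mul_comm]
    exact mul_comm _ _
  have h2 : τ z = 1 := h1 hzc
  have h3 : τ z = _ := MonoidHom.transfer_eq_pow (MonoidHom.id V) z (fun k g₀ hk => by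
    have hzk : z ^ k ∈ Subgroup.center K := Subgroup.pow_mem _ hz k
    rw [Subgroup.mem_center_iff.mp hzk g₀⁻¹]
    simp)
  rw [h2] at h3
  have h4 : z ^ V.index = 1 := (congrArg Subtype.val h3).symm
  have h5 : orderOf z ∣ V.index := orderOf_dvd_of_pow_eq_one h4
  have h6 : orderOf z ∣ p ^ e := orderOf_dvd_of_pow_eq_one hze
  have h7 : Nat.Coprime (p ^ e) V.index :=
    Nat.Coprime.pow_left _ ((Nat.Prime.coprime_iff_not_dvd hp.out).mpr hidx)
  exact orderOf_eq_one_iff.mp (Nat.eq_one_of_dvd_coprimes h7 h6 h5)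

/-- **Relative Ito–Michler**, normality. -/
theorem relIto_normal : ∀ (k : ℕ) (T : Type u) [Group T] [Finite T], Nat.card T = k →
    IsPSolvable p T → ∀ z₀ : T, z₀ ∈ Subgroup.center T → ∀ ζ : ℂ,
    IsPrimitiveRoot ζ (orderOf z₀) → (∃ e : ℕ, orderOf z₀ = p ^ e) →
    (∀ χ : IrrCharacter T, (χ : T → ℂ) z₀ = (χ : T → ℂ) 1 * ζ → ¬ p ∣ charDegree (χ : T → ℂ)) →
    ∀ P : Sylow p T, (P : Subgroup T).Normal := by
  intro k
  induction k using Nat.strong_induction_on with
  | _ k ih =>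
  intro T _ _ hk hsolv z₀ hz ζ hζ hzp hd P
  classical
  letI := Fintype.ofFinite T
  have hzpG : IsPGroup p (Subgroup.zpowers z₀) := by
    obtain ⟨e, he⟩ := hzp
    apply IsPGroup.iff_card.mpr
    exact ⟨e, by rw [Nat.card_zpowers, he]⟩
  have hzsn : (Subgroup.zpowers z₀).Normal := by
    constructor
    intro x hx g
    have hxc : x ∈ Subgroup.center T :=
      (Subgroup.zpowers_le.mpr hz) hx
    rw [Subgroup.mem_center_iff] at hxc
    rw [hxc g]
    simpa using hx
  by_cases H : ∃ M : Subgroup T, M.Normal ∧ M ≠ ⊥ ∧ M ⊓ Subgroup.zpowers z₀ = ⊥ ∧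
      (IsPGroup p M ∨ (Nat.card M).Coprime p)
  · obtain ⟨M, hMn, hM1, hMz, hMc⟩ := H
    haveI := hMn
    letI : Fintype M := Fintype.ofFinite _
    letI : Fintype (T ⧸ M) := Fintype.ofFinite _
    have hlt : Nat.card (T ⧸ M) < k := by
      have h1 := Subgroup.card_eq_card_quotient_mul_card_subgroup M
      have h2 : 1 < Nat.card M := (Subgroup.one_lt_card_iff_ne_bot M).mpr hM1
      rw [← hk, h1]
      exact lt_mul_of_one_lt_right Nat.card_pos h2
    have hsolv' : IsPSolvable p (T ⧸ M) :=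
      Cfsg.Agent.Lib.Coprime.isPSolvable_map (QuotientGroup.mk' M) (QuotientGroup.mk'_surjective M) hsolv
    let zb : T ⧸ M := (z₀ : T ⧸ M)
    have hzb : zb ∈ Subgroup.center (T ⧸ M) := by
      rw [Subgroup.mem_center_iff]
      intro g
      obtain ⟨g, rfl⟩ := QuotientGroup.mk'_surjective M g
      show ((g * z₀ : T) : T ⧸ M) = ((z₀ * g : T) : T ⧸ M)
      rw [Subgroup.mem_center_iff.mp hz g]
    have hzpow : ∀ i : ℕ, zb ^ i = 1 ↔ z₀ ^ i = 1 := by
      intro i
      constructor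
      · intro h
        have h1 : ((z₀ ^ i : T) : T ⧸ M) = 1 := h
        have h2 : z₀ ^ i ∈ M := (QuotientGroup.eq_one_iff _).mp h1
        have h3 : z₀ ^ i ∈ M ⊓ Subgroup.zpowers z₀ := ⟨h2, Subgroup.pow_mem _ (Subgroup.mem_zpowers z₀) i⟩
        rw [hMz] at h3
        exact h3
      · intro h
        show ((z₀ ^ i : T) : T ⧸ M) = 1
        rw [h]
        rfl
    have hzbo : orderOf zb = orderOf z₀ := by
      apply Nat.dvd_antisymm
      · exact orderOf_dvd_of_pow_eq_one ((hzpow _).mpr (pow_orderOf_eq_one z₀))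
      · exact orderOf_dvd_of_pow_eq_one ((hzpow _).mp (pow_orderOf_eq_one zb))
    have hd' : ∀ χ : IrrCharacter (T ⧸ M), (χ : T ⧸ M → ℂ) zb = (χ : T ⧸ M → ℂ) 1 * ζ →
        ¬ p ∣ charDegree (χ : T ⧸ M → ℂ) :=
      fun χ hχ => hd (irrInflate M χ) hχ
    have hPb : IsPGroup p ((P : Subgroup T).map (QuotientGroup.mk' M)) :=
      P.isPGroup'.map _
    have hPbi : ¬ p ∣ ((P : Subgroup T).map (QuotientGroup.mk' M)).index := fun h1 =>
      P.not_dvd_index (h1.trans (Subgroup.index_map_dvd _ (QuotientGroup.mk'_surjective M)))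
    have hPn : ((P : Subgroup T).map (QuotientGroup.mk' M)).Normal := by
      have := ih _ hlt (T ⧸ M) rfl hsolv' zb hzb ζ (hzbo ▸ hζ) (hzbo ▸ hzp) hd' (hPb.toSylow hPbi)
      rwa [IsPGroup.toSylow_coe] at this
    rcases hMc with hMp | hMc
    · exact normal_of_map_pgroup M hMp P hPn
    · have hMd : ¬ p ∣ Nat.card M := fun h1 =>
        (Nat.Prime.coprime_iff_not_dvd hp.out).mp hMc.symm h1
      refine normal_of_map_coprime M hMd P hPn fun θ => ?_
      have hμ : ∀ (j : ℕ) (hx : z₀ ^ j ∈ M), (θ : M → ℂ) ⟨z₀ ^ j, hx⟩ = (θ : M → ℂ) 1 * ζ ^ j := by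
        intro j hx
        have h3 : z₀ ^ j ∈ M ⊓ Subgroup.zpowers z₀ := ⟨hx, Subgroup.pow_mem _ (Subgroup.mem_zpowers z₀) j⟩
        rw [hMz] at h3
        have h4 : z₀ ^ j = 1 := h3
        have h5 : (⟨z₀ ^ j, hx⟩ : M) = 1 := Subtype.ext h4
        rw [h5]
        have h6 : ζ ^ j = 1 := by
          have h7 : orderOf z₀ ∣ j := orderOf_dvd_of_pow_eq_one h4
          obtain ⟨c, rfl⟩ := h7
          rw [pow_mul, hζ.pow_eq_one, one_pow]
        rw [h6, mul_one]
      obtain ⟨χ, hχ, hne⟩ := exists_over_under hz hζ M θ.2 hμ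
      obtain ⟨e, he⟩ := exists_multiplicity M (IsIrrCharacter.isCharacter χ.2) θ.2
      have hdeg := clifford_degree_nat M χ.2 θ.2 hne
        (apply_one_eq_charDegree (IsIrrCharacter.isCharacter χ.2))
        (apply_one_eq_charDegree (IsIrrCharacter.isCharacter θ.2)) he
      intro h2
      apply hd χ hχ
      rw [hdeg]
      exact Dvd.dvd.mul_right (Dvd.dvd.mul_left h2 _) _
  · push Not at H
    -- `O_{p'}` is trivial
    have hO : pPrimeCore p T = ⊥ := by
      by_contra hne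
      have h1 : pPrimeCore p T ⊓ Subgroup.zpowers z₀ = ⊥ := by
        rw [eq_bot_iff]
        rintro x ⟨hx1, hx2⟩
        have h2 : orderOf x ∣ Nat.card (pPrimeCore p T) := by
          rw [← Subgroup.orderOf_mk x hx1]
          exact orderOf_dvd_natCard _
        obtain ⟨c, hc⟩ := IsPGroup.iff_orderOf.mp hzpG ⟨x, hx2⟩
        rw [Subgroup.orderOf_mk] at hc
        have h3 : Nat.Coprime (p ^ c) (Nat.card (pPrimeCore p T)) :=
          Nat.Coprime.pow_left _ (Cfsg.Agent.Lib.Basic.pPrimeCore_coprime p).symm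
        have h4 : orderOf x = 1 := Nat.eq_one_of_dvd_coprimes h3 (by rw [hc]) h2
        exact orderOf_eq_one_iff.mp h4
      have h5 := H (pPrimeCore p T) inferInstance hne h1
      exact h5.2 (Cfsg.Agent.Lib.Basic.pPrimeCore_coprime p)
    let V : Subgroup T := pCore p T
    haveI hVn : V.Normal := Cfsg.Agent.Lib.Basic.pCore_normal p
    letI : Fintype V := Fintype.ofFinite _
    have hVp : IsPGroup p V := Cfsg.Agent.Lib.Basic.pCore_isPGroup p
    by_cases hVt : V = ⊤
    · have h1 : (P : Subgroup T) = ⊤ := by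
        rw [eq_top_iff, ← hVt]
        exact Cfsg.Agent.Lib.Basic.pCore_le_sylow P
      rw [h1]
      infer_instance
    · exfalso
      have hzV : Subgroup.zpowers z₀ ≤ V := Cfsg.Agent.Lib.Basic.le_pCore hzsn hzpG
      have hz₀V : z₀ ∈ V := hzV (Subgroup.mem_zpowers z₀)
      have hVc := comm_of_normal_pgroup hz hζ hd V hVp hz₀V
      have hcent : Subgroup.centralizer (V : Set T) ≤ V :=
        centralizer_pCore_le_of_isPSolvable hsolv hO
      haveI hnt : Nontrivial (T ⧸ V) := QuotientGroup.nontrivial_iff.mpr hVt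
      have hsolv' : IsPSolvable p (T ⧸ V) :=
        Cfsg.Agent.Lib.Coprime.isPSolvable_map (QuotientGroup.mk' V) (QuotientGroup.mk'_surjective V) hsolv
      obtain ⟨Nb, hNbn, hNb1, hNbc⟩ := Cfsg.Agent.Lib.Coprime.IsPSolvable_exists_normal hsolv'
      let K : Subgroup T := Nb.comap (QuotientGroup.mk' V)
      haveI hKn : K.Normal := hNbn.comap _
      have hVK : V ≤ K := by
        intro v hv
        show ((v : T) : T ⧸ V) ∈ Nb
        rw [(QuotientGroup.eq_one_iff v).mpr hv]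
        exact one_mem _
      have hKV : ¬ K ≤ V := by
        intro hle
        apply hNb1
        rw [eq_bot_iff]
        intro x hx
        obtain ⟨x, rfl⟩ := QuotientGroup.mk'_surjective V x
        have h1 : x ∈ V := hle hx
        exact (QuotientGroup.eq_one_iff x).mpr h1
      rcases hNbc with hNbp | hNbc
      · apply hKV
        apply Cfsg.Agent.Lib.Basic.le_pCore hKn
        apply IsPGroup.comap_of_ker_isPGroup hNbp
        rw [QuotientGroup.ker_mk']
        exact hVp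
      · -- the commutator `[V, K]`
        let U : Subgroup T := ⁅V, K⁆
        haveI hUn : U.Normal := Subgroup.commutator_normal V K
        have hUV : U ≤ V := Subgroup.commutator_le_left V K
        have hU1 : U ≠ ⊥ := by
          intro h
          apply hKV
          refine le_trans ?_ hcent
          intro k hk
          rw [Subgroup.mem_centralizer_iff]
          intro v hv
          have h1 : ⁅v, k⁆ ∈ U := Subgroup.commutator_mem_commutator hv hk
          rw [h] at h1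
          have h2 : ⁅v, k⁆ = 1 := h1
          exact commutatorElement_eq_one_iff_mul_comm.mp h2
        have hUp : IsPGroup p U := hVp.to_le hUV
        have hUz : U ⊓ Subgroup.zpowers z₀ ≠ ⊥ := fun h => by
          have h5 := H U hUn hU1 h
          exact h5.1 hUp
        obtain ⟨z, ⟨hzU, hzz⟩, hz1⟩ := (Subgroup.ne_bot_iff_exists_ne_one.mp hUz).elim fun w hw =>
          (⟨w.1, w.2, fun h => hw (Subtype.ext h)⟩ :
            ∃ z : T, z ∈ U ⊓ Subgroup.zpowers z₀ ∧ z ≠ 1)
        apply hz1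
        -- pass to `K`
        have hzV' : z ∈ V := hzV hzz
        have hzK : z ∈ K := hVK hzV'
        let V₁ : Subgroup K := V.subgroupOf K
        have hV₁c : ∀ a ∈ V₁, ∀ b ∈ V₁, a * b = b * a := by
          intro a ha b hb
          apply Subtype.ext
          exact hVc a ha b hb
        have hidx : ¬ p ∣ V₁.index := by
          let f : K →* T ⧸ V := (QuotientGroup.mk' V).comp K.subtype
          have hfk : f.ker = V₁ := by
            ext x
            rw [MonoidHom.mem_ker]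
            show ((x : T) : T ⧸ V) = 1 ↔ _
            rw [QuotientGroup.eq_one_iff]
            rfl
          have hfr : f.range = Nb := by
            ext y
            constructor
            · rintro ⟨x, rfl⟩
              exact x.2
            · intro hy
              obtain ⟨y, rfl⟩ := QuotientGroup.mk'_surjective V y
              exact ⟨⟨y, hy⟩, rfl⟩
          have h1 : V₁.index = Nat.card Nb := by
            rw [← hfk, Subgroup.index_ker, hfr]
          rw [h1]
          intro h2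
          exact (Nat.Prime.coprime_iff_not_dvd hp.out).mp hNbc.symm h2
        have hzc : (⟨z, hzK⟩ : K) ∈ Subgroup.center K := by
          rw [Subgroup.mem_center_iff]
          intro g
          apply Subtype.ext
          have hzcc : z ∈ Subgroup.center T := (Subgroup.zpowers_le.mpr hz) hzz
          exact Subgroup.mem_center_iff.mp hzcc g
        have hzcomm : (⟨z, hzK⟩ : K) ∈ ⁅V₁, (⊤ : Subgroup K)⁆ := by
          have h1 : U ≤ (⁅V₁, (⊤ : Subgroup K)⁆).map K.subtype := by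
            show ⁅V, K⁆ ≤ _
            rw [Subgroup.commutator_le]
            intro a ha b hb
            exact ⟨⁅(⟨a, hVK ha⟩ : K), (⟨b, hb⟩ : K)⁆,
              Subgroup.commutator_mem_commutator ha (Subgroup.mem_top _), rfl⟩
          obtain ⟨w, hw, hwe⟩ := h1 hzU
          have : w = ⟨z, hzK⟩ := Subtype.ext hwe
          rwa [← this]
        obtain ⟨e, he⟩ := hzp
        have hze : (⟨z, hzK⟩ : K) ^ p ^ e = 1 := by
          apply Subtype.ext
          show z ^ p ^ e = 1
          obtain ⟨c, hc⟩ := IsPGroup.iff_orderOf.mp hzpG ⟨z, hzz⟩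
          obtain ⟨i, hi⟩ := hzz
          show z ^ p ^ e = 1
          rw [← hi]
          show (z₀ ^ i) ^ p ^ e = 1
          rw [← zpow_natCast, ← zpow_mul, mul_comm, zpow_mul, zpow_natCast, ← he, pow_orderOf_eq_one, one_zpow]
        have := eq_one_of_mem_commutator_of_center (p := p) V₁ hV₁c hidx hzc hzcomm hze
        exact congrArg Subtype.val this

/-- **Relative Ito–Michler**. -/
theorem relIto {T : Type u} [Group T] [Finite T] (hsolv : IsPSolvable p T) {z₀ : T}
    (hz : z₀ ∈ Subgroup.center T) {ζ : ℂ} (hζ : IsPrimitiveRoot ζ (orderOf z₀))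
    (hzp : ∃ e : ℕ, orderOf z₀ = p ^ e)
    (hd : ∀ χ : IrrCharacter T, (χ : T → ℂ) z₀ = (χ : T → ℂ) 1 * ζ → ¬ p ∣ charDegree (χ : T → ℂ))
    (P : Sylow p T) : (P : Subgroup T).Normal ∧ ∀ a ∈ (P : Subgroup T), ∀ b ∈ (P : Subgroup T), a * b = b * a := by
  classical
  letI := Fintype.ofFinite T
  have hPn := relIto_normal _ T rfl hsolv z₀ hz ζ hζ hzp hd P
  refine ⟨hPn, ?_⟩
  haveI := hPn
  letI : Fintype (P : Subgroup T) := Fintype.ofFinite _
  have hzpG : IsPGroup p (Subgroup.zpowers z₀) := by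
    obtain ⟨e, he⟩ := hzp
    apply IsPGroup.iff_card.mpr
    exact ⟨e, by rw [Nat.card_zpowers, he]⟩
  have hzsn : (Subgroup.zpowers z₀).Normal := by
    constructor
    intro x hx g
    have hxc : x ∈ Subgroup.center T :=
      (Subgroup.zpowers_le.mpr hz) hx
    rw [Subgroup.mem_center_iff] at hxc
    rw [hxc g]
    simpa using hx
  have hz₀ : z₀ ∈ (P : Subgroup T) :=
    Cfsg.Agent.Lib.Basic.normal_pGroup_le_sylow hzsn hzpG P (Subgroup.mem_zpowers z₀)
  exact comm_of_normal_pgroup hz hζ hd (P : Subgroup T) P.isPGroup' hz₀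

end Main

end Cfsg.Agent.Lib.Char
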