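import Cfsg.Agent.Lib.Char.PBlock
import Cfsg.Agent.Lib.Char.Linear
import Cfsg.Agent.Lib.Char.CliffordBij
import Cfsg.Agent.Lib.Basic.Solv2
import Cfsg.Agent.Lib.Recog.PermBasic

/-!
# The Ito–Michler theorem for `p`-soluble groups
-/

set_option autoImplicit false
set_option linter.unusedSectionVars false

namespace Cfsg.Agent.Lib.Char

open Cfsg Cfsg.Agent.Lib.Blocks
open scoped ComplexConjugate Pointwise

universe u

section

variable {G : Type u} [Group G] [Fintype G] {p : ℕ} [hp : Fact p.Prime]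

/-- Degrees prime to `p` pass to normal subgroups, with inertia index prime to `p`. -/
theorem not_dvd_degree_of_normal (N : Subgroup G) [N.Normal] [Fintype N]
    (hd : ∀ χ : IrrCharacter G, ¬ p ∣ charDegree (χ : G → ℂ)) (θ : IrrCharacter N) :
    ¬ p ∣ charDegree (θ : N → ℂ) ∧ ¬ p ∣ (inertia N (θ : N → ℂ)).index := by
  obtain ⟨χ, hχ, hov⟩ := exists_over N θ.2
  obtain ⟨e, he⟩ := exists_multiplicity N (IsIrrCharacter.isCharacter hχ) θ.2
  have hdeg := clifford_degree_nat N hχ θ.2 hov
    (apply_one_eq_charDegree (IsIrrCharacter.isCharacter hχ))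
    (apply_one_eq_charDegree (IsIrrCharacter.isCharacter θ.2)) he
  have h1 := hd ⟨χ, hχ⟩
  constructor
  · intro h2
    apply h1
    show p ∣ charDegree χ
    rw [hdeg]
    exact Dvd.dvd.mul_left h2 _
  · intro h2
    apply h1
    show p ∣ charDegree χ
    rw [hdeg]
    exact Dvd.dvd.mul_right (Dvd.dvd.mul_left h2 _) _

/-- A `p`-group acting on a normal `p'`-subgroup and fixing all of its irreducible characters
acts trivially. -/
theorem commute_of_le_inertia (N : Subgroup G) [hNn : N.Normal] [Fintype N] (P : Subgroup G)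
    (hP : IsPGroup p P) (hN : ¬ p ∣ Nat.card N)
    (hinv : ∀ θ : IrrCharacter N, P ≤ inertia N (θ : N → ℂ)) :
    ∀ u ∈ P, ∀ y ∈ N, u * y = y * u := by
  classical
  -- conjugation by `P` preserves the classes of `N`
  have hconj : ∀ u ∈ P, ∀ y : N, IsConj y (⟨u * y * u⁻¹, hNn.conj_mem y y.2 u⟩ : N) := by
    intro u hu y
    by_contra hc
    have h1 := sum_irr_mul_conj_of_not_isConj hc
    have h2 : ∀ θ : IrrCharacter N, (θ : N → ℂ) y *
        conj ((θ : N → ℂ) ⟨u * y * u⁻¹, hNn.conj_mem y y.2 u⟩) = (θ : N → ℂ) y * conj ((θ : N → ℂ) y) := by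
      intro θ
      have h3 : conjFun N u⁻¹ (θ : N → ℂ) = θ := (mem_inertia N).mp ((inertia N (θ : N → ℂ)).inv_mem (hinv θ hu))
      have h4 := congrFun h3 y
      rw [conjFun_apply] at h4
      have h5 : (⟨u⁻¹⁻¹ * y * u⁻¹, hNn.conj_mem' y y.2 u⁻¹⟩ : N) = ⟨u * y * u⁻¹, hNn.conj_mem y y.2 u⟩ :=
        Subtype.ext (by simp)
      rw [h5] at h4
      rw [h4]
    rw [Finset.sum_congr rfl (fun θ _ => h2 θ), sum_irr_mul_conj_of_isConj (IsConj.refl y)] at h1
    have h3 : (Nat.card (Subgroup.centralizer ({y} : Set N)) : ℂ) ≠ 0 := by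
      exact_mod_cast Nat.card_pos.ne'
    exact h3 h1
  -- each class has a fixed point
  have hfix : ∀ y : N, ∃ z : N, IsConj y z ∧ ∀ u ∈ P, u * (z : G) * u⁻¹ = z := by
    intro y
    let X := {z : N // IsConj y z}
    letI : MulAction P X :=
      { smul := fun u z => ⟨⟨(u : G) * (z.1 : G) * (u : G)⁻¹, hNn.conj_mem z.1 z.1.2 u⟩,
          z.2.trans (hconj u u.2 z.1)⟩
        one_smul := fun z => by
          apply Subtype.ext
          apply Subtype.ext
          show ((1 : P) : G) * (z.1 : G) * ((1 : P) : G)⁻¹ = z.1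
          simp
        mul_smul := fun a b z => by
          apply Subtype.ext
          apply Subtype.ext
          show ((a * b : P) : G) * (z.1 : G) * ((a * b : P) : G)⁻¹ =
            (a : G) * ((b : G) * (z.1 : G) * (b : G)⁻¹) * (a : G)⁻¹
          simp only [Subgroup.coe_mul]
          group }
    have hX : ¬ p ∣ Nat.card X := by
      intro h1
      apply hN
      rw [← card_conj_mul_card_centralizer y]
      exact Dvd.dvd.mul_right h1 _
    obtain ⟨z, hz⟩ := hP.nonempty_fixed_point_of_prime_not_dvd_card X hX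
    refine ⟨z.1, z.2, fun u hu => ?_⟩
    have h1 := hz ⟨u, hu⟩
    have h2 := congrArg (fun w : X => ((w.1 : N) : G)) h1
    exact h2
  -- the fixed points form all of `N`
  let H : Subgroup N := (Subgroup.centralizer (P : Set G)).subgroupOf N
  have hH : H = ⊤ := by
    by_contra hne
    haveI : Nontrivial (N ⧸ H) := by
      by_contra hnt
      rw [not_nontrivial_iff_subsingleton] at hnt
      apply hne
      rw [← Subgroup.index_eq_one, Subgroup.index, Nat.card_eq_one_iff_unique]
      exact ⟨hnt, ⟨((1 : N) : N ⧸ H)⟩⟩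
    obtain ⟨g, hg⟩ := Cfsg.Agent.Lib.Recog.exists_derangement (G := N) (Ω := N ⧸ H)
    obtain ⟨z, hz, hzfix⟩ := hfix g
    obtain ⟨t, ht⟩ := isConj_iff.mp hz
    have hzH : z ∈ H := by
      rw [Subgroup.mem_subgroupOf, Subgroup.mem_centralizer_iff]
      intro u hu
      have h1 := hzfix u hu
      calc u * (z : G) = u * (z : G) * u⁻¹ * u := by group
        _ = z * u := by rw [h1]
    apply hg ((t⁻¹ : N) : N ⧸ H)
    rw [MulAction.Quotient.smul_coe, QuotientGroup.eq]
    have h2 : (g • t⁻¹)⁻¹ * t⁻¹ = z⁻¹ := by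
      rw [← ht, smul_eq_mul]
      group
    rw [h2]
    exact H.inv_mem hzH
  intro u hu y hy
  have h1 : (⟨y, hy⟩ : N) ∈ H := by
    rw [hH]
    trivial
  rw [Subgroup.mem_subgroupOf, Subgroup.mem_centralizer_iff] at h1
  exact h1 u hu

end

section Main

variable {p : ℕ} [hp : Fact p.Prime]

/-- A normal Sylow subgroup is abelian when all degrees are prime to `p`. -/
theorem isMulCommutative_sylow_of_normal {G : Type u} [Group G] [Finite G] (P : Sylow p G)
    (hn : (P : Subgroup G).Normal) (hd : ∀ χ : IrrCharacter G, ¬ p ∣ charDegree (χ : G → ℂ)) :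
    IsMulCommutative (P : Subgroup G) := by
  classical
  letI := Fintype.ofFinite G
  letI : Fintype (P : Subgroup G) := Fintype.ofFinite _
  haveI := hn
  have h1 : ∀ θ : IrrCharacter (P : Subgroup G), (θ : ↥(P : Subgroup G) → ℂ) 1 = 1 := by
    intro θ
    have h2 := (not_dvd_degree_of_normal (P : Subgroup G) hd θ).1
    have h3 := charDegree_dvd_card θ.2
    obtain ⟨n, hn'⟩ := IsPGroup.iff_card.mp P.isPGroup'
    rw [hn'] at h3
    obtain ⟨j, -, hj⟩ := (Nat.dvd_prime_pow hp.out).mp h3
    rcases Nat.eq_zero_or_pos j with rfl | hj0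
    · rw [apply_one_eq_charDegree (IsIrrCharacter.isCharacter θ.2), hj]
      simp
    · exfalso
      apply h2
      rw [hj]
      exact dvd_pow_self p hj0.ne'
  have h2 := comm_iff_irr_degree_one.mpr h1
  exact ⟨⟨h2⟩⟩

/-- Ito–Michler for `p`-soluble groups: the Sylow `p`-subgroups are normal. -/
theorem sylow_normal_of_isPSolvable : ∀ (k : ℕ) (G : Type u) [Group G] [Finite G], Nat.card G = k →
    IsPSolvable p G → (∀ χ : IrrCharacter G, ¬ p ∣ charDegree (χ : G → ℂ)) →
    ∀ P : Sylow p G, (P : Subgroup G).Normal := by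
  intro k
  induction k using Nat.strong_induction_on with
  | _ k ih =>
  intro G _ _ hk hsolv hd P
  classical
  letI := Fintype.ofFinite G
  by_cases hnt : Nontrivial G
  · obtain ⟨N, hN, hN1, hNc⟩ := Cfsg.Agent.Lib.Coprime.IsPSolvable_exists_normal hsolv
    haveI := hN
    letI : Fintype N := Fintype.ofFinite _
    letI : Fintype (G ⧸ N) := Fintype.ofFinite _
    have hlt : Nat.card (G ⧸ N) < k := by
      have h1 := Subgroup.card_eq_card_quotient_mul_card_subgroup N
      have h2 : 1 < Nat.card N := (Subgroup.one_lt_card_iff_ne_bot N).mpr hN1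
      rw [← hk, h1]
      exact lt_mul_of_one_lt_right Nat.card_pos h2
    have hsolv' : IsPSolvable p (G ⧸ N) :=
      Cfsg.Agent.Lib.Coprime.isPSolvable_map (QuotientGroup.mk' N) (QuotientGroup.mk'_surjective N) hsolv
    have hd' : ∀ χ : IrrCharacter (G ⧸ N), ¬ p ∣ charDegree (χ : G ⧸ N → ℂ) :=
      fun χ => hd (irrInflate N χ)
    have hPb : IsPGroup p ((P : Subgroup G).map (QuotientGroup.mk' N)) :=
      P.isPGroup'.map _
    have hPbi : ¬ p ∣ ((P : Subgroup G).map (QuotientGroup.mk' N)).index := fun h1 =>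
      P.not_dvd_index (h1.trans (Subgroup.index_map_dvd _ (QuotientGroup.mk'_surjective N)))
    have hPn : ((P : Subgroup G).map (QuotientGroup.mk' N)).Normal := by
      have := ih _ hlt (G ⧸ N) rfl hsolv' hd' (hPb.toSylow hPbi)
      rwa [IsPGroup.toSylow_coe] at this
    have hcomap : ∀ x : G, ((x : G ⧸ N) ∈ (P : Subgroup G).map (QuotientGroup.mk' N)) →
        ∃ y ∈ (P : Subgroup G), ∃ n ∈ N, x = y * n := by
      intro x hx
      obtain ⟨y, hy, hyx⟩ := hx
      refine ⟨y, hy, y⁻¹ * x, ?_, by group⟩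
      exact QuotientGroup.eq.mp hyx
    rcases hNc with hNp | hNc
    · -- `N` is a `p`-group
      have h1 : IsPGroup p ((P : Subgroup G) ⊔ N : Subgroup G) :=
        IsPGroup.to_sup_of_normal_right P.isPGroup' hNp
      have h2 := P.is_maximal' h1 le_sup_left
      have hNP : N ≤ (P : Subgroup G) := by
        rw [← h2]
        exact le_sup_right
      constructor
      intro x hx g
      obtain ⟨y, hy, n, hn, hxy⟩ := hcomap (g * x * g⁻¹)
        (hPn.conj_mem _ ⟨x, hx, rfl⟩ (g : G ⧸ N))
      rw [hxy]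
      exact (P : Subgroup G).mul_mem hy (hNP hn)
    · -- `N` is a `p'`-group
      have hNd : ¬ p ∣ Nat.card N := fun h1 =>
        (Nat.Prime.coprime_iff_not_dvd hp.out).mp hNc.symm h1
      have hinv : ∀ θ : IrrCharacter N, (P : Subgroup G) ≤ inertia N (θ : N → ℂ) := by
        intro θ
        obtain ⟨g, hg⟩ := Cfsg.Agent.Lib.Basic.IsPGroup.exists_le_conj_of_not_dvd_index P.isPGroup'
          (not_dvd_degree_of_normal N hd θ).2
        intro y hy
        obtain ⟨y', hy', n, hn, hyy⟩ := hcomap (g * y * g⁻¹)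
          (hPn.conj_mem _ ⟨y, hy, rfl⟩ (g : G ⧸ N))
        have h1 : y' ∈ MulAut.conj g • inertia N (θ : N → ℂ) := hg hy'
        obtain ⟨t, ht, hty⟩ := Subgroup.mem_smul_pointwise_iff_exists _ _ _ |>.mp h1
        have h2 : y' = g * t * g⁻¹ := hty.symm
        have h3 : y = t * (g⁻¹ * n * g) := by
          have h4 : g * y * g⁻¹ = g * t * g⁻¹ * n := by rw [hyy, h2]
          calc y = g⁻¹ * (g * y * g⁻¹) * g := by group
            _ = g⁻¹ * (g * t * g⁻¹ * n) * g := by rw [h4]
            _ = t * (g⁻¹ * n * g) := by group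
        rw [h3]
        apply (inertia N (θ : N → ℂ)).mul_mem ht
        apply le_inertia N (IsCharacter.isClassFunction (IsIrrCharacter.isCharacter θ.2))
        have := hN.conj_mem n hn g⁻¹
        simpa using this
      have hcomm := commute_of_le_inertia N (P : Subgroup G) P.isPGroup' hNd hinv
      constructor
      intro x hx g
      obtain ⟨y, hy, n, hn, hxy⟩ := hcomap (g * x * g⁻¹)
        (hPn.conj_mem _ ⟨x, hx, rfl⟩ (g : G ⧸ N))
      have hn1 : n = 1 := by
        obtain ⟨a, ha⟩ := IsPGroup.iff_orderOf.mp P.isPGroup' ⟨x, hx⟩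
        obtain ⟨b, hb⟩ := IsPGroup.iff_orderOf.mp P.isPGroup' ⟨y, hy⟩
        have ha' : orderOf x = p ^ a := by rw [← ha]; exact (Subgroup.orderOf_mk x hx).symm
        have hb' : orderOf y = p ^ b := by rw [← hb]; exact (Subgroup.orderOf_mk y hy).symm
        have h1 : (g * x * g⁻¹) ^ (p ^ (a + b)) = 1 := by
          rw [conj_pow, pow_add, pow_mul, ← ha', pow_orderOf_eq_one]
          simp
        have hc : Commute y n := hcomm y hy n hn
        have hy1 : y ^ (p ^ (a + b)) = 1 := by
          rw [pow_add, mul_comm, pow_mul, ← hb', pow_orderOf_eq_one, one_pow]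
        rw [hxy, hc.mul_pow, hy1, one_mul] at h1
        have h2 : orderOf n ∣ p ^ (a + b) := orderOf_dvd_of_pow_eq_one h1
        have h3 : orderOf n ∣ Nat.card N := by
          rw [← Subgroup.orderOf_mk n hn]
          exact orderOf_dvd_natCard _
        have h4 : Nat.Coprime (p ^ (a + b)) (Nat.card N) :=
          Nat.Coprime.pow_left _ ((Nat.Prime.coprime_iff_not_dvd hp.out).mpr hNd)
        exact orderOf_eq_one_iff.mp (Nat.eq_one_of_dvd_coprimes h4 h2 h3)
      rw [hxy, hn1, mul_one]
      exact hy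
  · rw [not_nontrivial_iff_subsingleton] at hnt
    constructor
    intro n hn g
    rwa [Subsingleton.elim (g * n * g⁻¹) n]

end Main

end Cfsg.Agent.Lib.Char
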