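import Mathlib
import Cfsg.Prelude.Def_Local
import Cfsg.Agent.Lib.Basic.Glauberman
import Cfsg.Agent.Lib.Coprime.PSolvable

/-!
# A Sylow `p`-subgroup normalizing a Sylow `q`-subgroup

If `G` is `p`-soluble or `q`-soluble and no `q`-element has class size divisible by `p`, then
some Sylow `p`-subgroup normalizes some Sylow `q`-subgroup.
-/

namespace Cfsg.Agent.Lib.Char.SylowNorm

open Subgroup Cfsg.Agent.Lib.Basic
open scoped Pointwise

universe u

section Basics

variable {G : Type u} [Group G] [Finite G]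

theorem exists_sylow_le {p : ℕ} [Fact p.Prime] (H : Subgroup G) (hp : ¬ p ∣ H.index) :
    ∃ P : Sylow p G, (P : Subgroup G) ≤ H := by
  let T : Sylow p H := default
  have hpg : IsPGroup p ((T : Subgroup H).map H.subtype) := T.2.map _
  have hi : ¬ p ∣ ((T : Subgroup H).map H.subtype).index := by
    rw [Subgroup.index_map_subtype]
    intro hd
    rcases (Fact.out : p.Prime).dvd_mul.mp hd with h | h
    · exact T.not_dvd_index h
    · exact hp h
  refine ⟨hpg.toSylow hi, ?_⟩
  rw [IsPGroup.toSylow_coe]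
  exact Subgroup.map_subtype_le _

theorem exists_qelement_lift {G' : Type*} [Group G'] (q : ℕ) [hq : Fact q.Prime] (f : G →* G')
    (hf : Function.Surjective f) (y' : G') (hy' : ∃ k : ℕ, orderOf y' = q ^ k) :
    ∃ y : G, (∃ k : ℕ, orderOf y = q ^ k) ∧ f y = y' := by
  obtain ⟨k, hk⟩ := hy'
  obtain ⟨g, rfl⟩ := hf y'
  rcases Nat.eq_zero_or_pos k with rfl | hk0
  · refine ⟨1, ⟨0, by simp⟩, ?_⟩
    rw [pow_zero, orderOf_eq_one_iff] at hk
    simp [hk]
  have hn : orderOf g ≠ 0 := (orderOf_pos g).ne'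
  obtain ⟨a, m, hm, hnm⟩ := Nat.exists_eq_pow_mul_and_not_dvd hn q hq.out.ne_one
  have hcop : Nat.Coprime m (q ^ k) := ((Nat.Prime.coprime_iff_not_dvd hq.out).2 hm).symm.pow_right k
  have h1 : 1 < q ^ k := Nat.one_lt_pow hk0.ne' hq.out.one_lt
  obtain ⟨u, -, hu⟩ := Nat.exists_mul_mod_eq_one_of_coprime hcop h1
  have hy : (g ^ (m * u)) ^ (q ^ a) = 1 := by
    rw [← pow_mul, show m * u * q ^ a = orderOf g * u by rw [hnm]; ring, pow_mul, pow_orderOf_eq_one,
      one_pow]
  have hd : orderOf (g ^ (m * u)) ∣ q ^ a := orderOf_dvd_of_pow_eq_one hy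
  obtain ⟨b, -, hb⟩ := (Nat.dvd_prime_pow hq.out).1 hd
  refine ⟨g ^ (m * u), ⟨b, hb⟩, ?_⟩
  rw [map_pow, ← pow_mod_orderOf, hk, hu, pow_one]

theorem hyp_map {G' : Type*} [Group G'] (p q : ℕ) [Fact q.Prime] (f : G →* G')
    (hf : Function.Surjective f)
    (h : ∀ y : G, (∃ k : ℕ, orderOf y = q ^ k) → ¬ p ∣ (Subgroup.centralizer ({y} : Set G)).index) :
    ∀ y : G', (∃ k : ℕ, orderOf y = q ^ k) → ¬ p ∣ (Subgroup.centralizer ({y} : Set G')).index := by
  intro y' hy' hd
  obtain ⟨y, hy, rfl⟩ := exists_qelement_lift q f hf y' hy'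
  refine h y hy (hd.trans ?_)
  have hle : (Subgroup.centralizer ({y} : Set G)).map f ≤ Subgroup.centralizer ({f y} : Set G') := by
    rintro _ ⟨z, hz, rfl⟩
    have hz' : z ∈ Subgroup.centralizer ({y} : Set G) := hz
    rw [Subgroup.mem_centralizer_singleton_iff] at hz' ⊢
    rw [← map_mul, ← map_mul, hz']
  exact (Subgroup.index_dvd_of_le hle).trans ((Subgroup.centralizer ({y} : Set G)).index_map_dvd hf)

theorem card_sup_mul_inf (N H : Subgroup G) [N.Normal] :
    Nat.card (N ⊔ H : Subgroup G) * Nat.card (N ⊓ H : Subgroup G) = Nat.card N * Nat.card H := by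
  have h1 : N.relIndex (N ⊔ H) = N.relIndex H := Subgroup.relIndex_sup_left H N
  have h2 : Nat.card (N ⊔ H : Subgroup G) = Nat.card N * N.relIndex (N ⊔ H) := by
    have := Subgroup.card_mul_index (N.subgroupOf (N ⊔ H))
    rw [Nat.card_congr (Subgroup.subgroupOfEquivOfLe (le_sup_left : N ≤ N ⊔ H)).toEquiv] at this
    exact this.symm
  have h3 : Nat.card H = Nat.card (N ⊓ H : Subgroup G) * N.relIndex H := by
    have := Subgroup.card_mul_index (N.subgroupOf H)
    have h4 : Nat.card (N.subgroupOf H) = Nat.card (N ⊓ H : Subgroup G) := by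
      have h5 : N.subgroupOf H = (N ⊓ H).subgroupOf H := by
        rw [Subgroup.inf_subgroupOf_right]
      rw [h5]
      exact Nat.card_congr (Subgroup.subgroupOfEquivOfLe (inf_le_right : N ⊓ H ≤ H)).toEquiv
    rw [h4] at this
    exact this.symm
  rw [h2, h1, h3]
  ring

theorem relIndex_normal_dvd_index (H N : Subgroup G) [N.Normal] : H.relIndex N ∣ H.index := by
  have h0 : H.relIndex N = H.relIndex (N ⊔ H) := by
    have hc := card_sup_mul_inf N H
    have h3 : Nat.card (N ⊔ H : Subgroup G) = Nat.card H * H.relIndex (N ⊔ H) := by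
      have := Subgroup.card_mul_index (H.subgroupOf (N ⊔ H))
      rw [Nat.card_congr (Subgroup.subgroupOfEquivOfLe (le_sup_right : H ≤ N ⊔ H)).toEquiv] at this
      exact this.symm
    have h4 : Nat.card N = Nat.card (H ⊓ N : Subgroup G) * H.relIndex N := by
      have := Subgroup.card_mul_index (H.subgroupOf N)
      have h5 : Nat.card (H.subgroupOf N) = Nat.card (H ⊓ N : Subgroup G) := by
        have h6 : H.subgroupOf N = (H ⊓ N).subgroupOf N := by
          rw [Subgroup.inf_subgroupOf_right]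
        rw [h6]
        exact Nat.card_congr (Subgroup.subgroupOfEquivOfLe (inf_le_right : H ⊓ N ≤ N)).toEquiv
      rw [h5] at this
      exact this.symm
    rw [h3, h4, inf_comm H N] at hc
    have hpos1 : 0 < Nat.card H := Nat.card_pos
    have hpos2 : 0 < Nat.card (N ⊓ H : Subgroup G) := Nat.card_pos
    have : (H.relIndex (N ⊔ H)) * (Nat.card H * Nat.card (N ⊓ H : Subgroup G)) =
        (H.relIndex N) * (Nat.card H * Nat.card (N ⊓ H : Subgroup G)) := by
      nlinarith [hc]
    exact (Nat.eq_of_mul_eq_mul_right (Nat.mul_pos hpos1 hpos2) this).symm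
  rw [h0]
  exact Subgroup.relIndex_dvd_index_of_le le_sup_right

/-- Conjugacy of subgroups of Sylow order inside a subgroup. -/
theorem exists_conj_sub {p : ℕ} [Fact p.Prime] (K R₁ R₂ : Subgroup G) (h₁ : R₁ ≤ K) (h₂ : R₂ ≤ K)
    (c₁ : Nat.card R₁ = p ^ (Nat.card K).factorization p)
    (c₂ : Nat.card R₂ = p ^ (Nat.card K).factorization p) :
    ∃ k ∈ K, MulAut.conj k • R₁ = R₂ := by
  have e₁ : Nat.card (R₁.subgroupOf K) = p ^ (Nat.card K).factorization p := by
    rw [Nat.card_congr (Subgroup.subgroupOfEquivOfLe h₁).toEquiv, c₁]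
  have e₂ : Nat.card (R₂.subgroupOf K) = p ^ (Nat.card K).factorization p := by
    rw [Nat.card_congr (Subgroup.subgroupOfEquivOfLe h₂).toEquiv, c₂]
  obtain ⟨k, hk⟩ := MulAction.exists_smul_eq K (Sylow.ofCard (R₁.subgroupOf K) e₁)
    (Sylow.ofCard (R₂.subgroupOf K) e₂)
  refine ⟨k, k.2, ?_⟩
  have hle : MulAut.conj (k : G) • R₁ ≤ R₂ := by
    intro y hy
    obtain ⟨r, hr, rfl⟩ := Subgroup.mem_smul_pointwise_iff_exists _ _ _ |>.1 hy
    have hr1 : (⟨r, h₁ hr⟩ : K) ∈ (Sylow.ofCard (R₁.subgroupOf K) e₁) := by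
      change (⟨r, h₁ hr⟩ : K) ∈ ((Sylow.ofCard (R₁.subgroupOf K) e₁ : Sylow p K) : Subgroup K)
      rw [Sylow.coe_ofCard, Subgroup.mem_subgroupOf]
      exact hr
    have hr2 : k • (⟨r, h₁ hr⟩ : K) • (1 : K) = k • (⟨r, h₁ hr⟩ : K) := by simp
    have hr3 : MulAut.conj k • (⟨r, h₁ hr⟩ : K) ∈ ((k • Sylow.ofCard (R₁.subgroupOf K) e₁ : Sylow p K) : Subgroup K) := by
      rw [Sylow.coe_subgroup_smul]
      exact Subgroup.smul_mem_pointwise_smul _ _ _ hr1
    rw [hk, Sylow.coe_ofCard, Subgroup.mem_subgroupOf] at hr3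
    exact hr3
  refine Subgroup.eq_of_le_of_card_ge hle ?_
  rw [Nat.card_congr (Subgroup.equivSMul (MulAut.conj (k : G)) R₁).toEquiv.symm, c₁, c₂]

theorem card_sylow_of_le {q : ℕ} [Fact q.Prime] (Q : Sylow q G) (K : Subgroup G)
    (h : (Q : Subgroup G) ≤ K) : Nat.card Q = q ^ (Nat.card K).factorization q := by
  have := (Q.subtype h).card_eq_multiplicity
  rw [← this]
  change _ = Nat.card ((Q.subtype h : Sylow q K) : Subgroup K)
  rw [Sylow.coe_subtype]
  exact (Nat.card_congr (Subgroup.subgroupOfEquivOfLe h).toEquiv).symm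

theorem exists_sylow_conj {q : ℕ} [Fact q.Prime] (Q₁ Q₂ : Sylow q G) (K : Subgroup G)
    (h₁ : (Q₁ : Subgroup G) ≤ K) (h₂ : (Q₂ : Subgroup G) ≤ K) : ∃ k ∈ K, k • Q₁ = Q₂ := by
  obtain ⟨k, hk, he⟩ := exists_conj_sub (p := q) K Q₁ Q₂ h₁ h₂ (card_sylow_of_le Q₁ K h₁)
    (card_sylow_of_le Q₂ K h₂)
  exact ⟨k, hk, Sylow.ext he⟩

theorem normalizer_iff_of_forall {Q : Subgroup G} (K : Subgroup G) (h : ∀ x ∈ K, ∀ z ∈ Q, x * z * x⁻¹ ∈ Q) :
    K ≤ normalizer (Q : Set G) := by
  intro x hx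
  rw [Subgroup.mem_normalizer_iff]
  intro z
  refine ⟨h x hx z, fun hz => ?_⟩
  have := h x⁻¹ (K.inv_mem hx) _ hz
  simpa [mul_assoc] using this

end Basics

variable {G : Type u} [Group G] [Finite G]

section Cases

variable {p q : ℕ} [hp : Fact p.Prime] [hq : Fact q.Prime]

theorem case_q {N : Subgroup G} [N.Normal] (hN : IsPGroup q N) (P : Sylow p G) (Q : Sylow q G)
    (hP : (P : Subgroup G) ≤ normalizer (((Q : Subgroup G) ⊔ N : Subgroup G) : Set G)) :
    (P : Subgroup G) ≤ normalizer ((Q : Subgroup G) : Set G) := by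
  have hle : N ≤ Q := hN.le_sylow_of_normal Q
  rwa [sup_eq_left.mpr hle] at hP

theorem case_p (hpq : p ≠ q) {N : Subgroup G} [N.Normal] (hN : IsPGroup p N)
    (h : ∀ y : G, (∃ k : ℕ, orderOf y = q ^ k) → ¬ p ∣ (Subgroup.centralizer ({y} : Set G)).index)
    (P : Sylow p G) (Q : Sylow q G)
    (hP : (P : Subgroup G) ≤ normalizer (((Q : Subgroup G) ⊔ N : Subgroup G) : Set G)) :
    (P : Subgroup G) ≤ normalizer ((Q : Subgroup G) : Set G) := by
  have hcomm : ∀ y ∈ (Q : Subgroup G), ∀ n ∈ N, y * n = n * y := by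
    intro y hy n hn
    have hord : ∃ k : ℕ, orderOf y = q ^ k := by
      obtain ⟨k, hk⟩ := (IsPGroup.iff_orderOf.1 Q.2) ⟨y, hy⟩
      exact ⟨k, by simpa using hk⟩
    obtain ⟨T, hT⟩ := exists_sylow_le (p := p) _ (h y hord)
    have hNT : N ≤ T := hN.le_sylow_of_normal T
    have := hT (hNT hn)
    rw [Subgroup.mem_centralizer_singleton_iff] at this
    exact this.symm
  refine normalizer_iff_of_forall _ ?_
  intro x hx z hz
  have hw : x * z * x⁻¹ ∈ ((Q : Subgroup G) ⊔ N : Subgroup G) := by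
    have h1 := (Subgroup.mem_normalizer_iff.1 (hP hx) z).1 (Subgroup.mem_sup_left hz)
    exact h1
  have hw' : x * z * x⁻¹ ∈ (((Q : Subgroup G) ⊔ N : Subgroup G) : Set G) := hw
  rw [Subgroup.mul_normal] at hw'
  obtain ⟨a, ha, b, hb, hab⟩ := Set.mem_mul.1 hw'
  set M := Nat.card (Q : Subgroup G) with hM
  have ha1 : a ^ M = 1 := by
    exact congrArg Subtype.val (pow_card_eq_one' (G := (Q : Subgroup G)) (x := ⟨a, ha⟩))
  have hz1 : z ^ M = 1 := by
    exact congrArg Subtype.val (pow_card_eq_one' (G := (Q : Subgroup G)) (x := ⟨z, hz⟩))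
  have hw1 : (x * z * x⁻¹) ^ M = 1 := by rw [conj_pow, hz1]; simp
  have hcab : Commute a b := hcomm a ha b hb
  have hb1 : b ^ M = 1 := by
    have : (a * b) ^ M = 1 := by rw [hab, hw1]
    rw [hcab.mul_pow, ha1, one_mul] at this
    exact this
  have hb2 : b ^ Nat.card N = 1 := by
    exact congrArg Subtype.val (pow_card_eq_one' (G := N) (x := ⟨b, hb⟩))
  obtain ⟨s, hs⟩ := IsPGroup.iff_card.1 Q.2
  obtain ⟨t, ht⟩ := IsPGroup.iff_card.1 hN
  have hcop : Nat.Coprime M (Nat.card N) := by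
    rw [hM, hs, ht]
    exact Nat.Coprime.pow _ _ ((Nat.coprime_primes hq.out hp.out).2 hpq.symm)
  have hb3 : b = 1 := by
    have := pow_gcd_eq_one.2 ⟨hb1, hb2⟩
    rw [hcop] at this
    simpa using this
  rw [← hab, hb3, mul_one]
  exact ha

theorem case_p' (hpq : p ≠ q) {N : Subgroup G} [N.Normal] (hN : (Nat.card N).Coprime p)
    (P : Sylow p G) (Q : Sylow q G)
    (hP : (P : Subgroup G) ≤ normalizer (((Q : Subgroup G) ⊔ N : Subgroup G) : Set G)) :
    ∃ Q' : Sylow q G, (P : Subgroup G) ≤ normalizer ((Q' : Subgroup G) : Set G) := by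
  set K : Subgroup G := (Q : Subgroup G) ⊔ N with hK
  obtain ⟨s, hs⟩ := IsPGroup.iff_card.1 Q.2
  obtain ⟨t, ht⟩ := IsPGroup.iff_card.1 P.2
  have hcK : (Nat.card K).Coprime p := by
    have h1 := card_sup_mul_inf N (Q : Subgroup G)
    rw [sup_comm] at h1
    have h2 : Nat.card K ∣ Nat.card N * Nat.card (Q : Subgroup G) := ⟨_, h1.symm⟩
    refine Nat.Coprime.coprime_dvd_left h2 (Nat.Coprime.mul_left hN ?_)
    rw [hs]
    exact Nat.Coprime.pow_left _ ((Nat.coprime_primes hq.out hp.out).2 hpq.symm)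
  have hsolv : Group.IsSolvable (P : Subgroup G) := by
    have := P.2.isNilpotent
    infer_instance
  have hcop : (Nat.card (P : Subgroup G)).Coprime (Nat.card K) := by
    rw [ht]
    exact Nat.Coprime.pow_left _ hcK.symm
  let S : Set (Subgroup G) := {R | ∃ R' : Sylow q G, (R' : Subgroup G) = R ∧ R ≤ K}
  have hconj : ∀ g ∈ normalizer (K : Set G), ∀ R ∈ S, MulAut.conj g • R ∈ S := by
    rintro g hg R ⟨R', rfl, hR⟩
    refine ⟨g • R', rfl, ?_⟩
    intro y hy
    obtain ⟨r, hr, rfl⟩ := Subgroup.mem_smul_pointwise_iff_exists _ _ _ |>.1 hy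
    exact (Subgroup.mem_normalizer_iff.1 hg r).1 (hR hr)
  obtain ⟨⟨R, ⟨R', rfl, hR⟩, hPR⟩, -⟩ := glauberman_subgroups hP hcop (Or.inl hsolv) S
    ⟨(Q : Subgroup G), Q, rfl, le_sup_left⟩
    (fun k hk R hR => hconj k (Subgroup.le_normalizer hk) R hR)
    (fun a ha R hR => hconj a (hP ha) R hR)
    (by
      rintro _ ⟨R₁, rfl, h₁⟩ _ ⟨R₂, rfl, h₂⟩
      obtain ⟨k, hk, he⟩ := exists_sylow_conj R₁ R₂ K h₁ h₂
      exact ⟨k, hk, congrArg (fun X : Sylow q G => (X : Subgroup G)) he⟩)
  exact ⟨R', hPR⟩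

theorem case_q' (hpq : p ≠ q) {N : Subgroup G} [hNn : N.Normal] (hN : (Nat.card N).Coprime q)
    (h : ∀ y : G, (∃ k : ℕ, orderOf y = q ^ k) → ¬ p ∣ (Subgroup.centralizer ({y} : Set G)).index)
    (P : Sylow p G) (Q : Sylow q G)
    (hP : (P : Subgroup G) ≤ normalizer (((Q : Subgroup G) ⊔ N : Subgroup G) : Set G)) :
    ∃ P' : Sylow p G, (P' : Subgroup G) ≤ normalizer ((Q : Subgroup G) : Set G) := by
  classical
  set K : Subgroup G := (Q : Subgroup G) ⊔ N with hK
  -- the Sylow `p`-subgroups of `N`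
  let S : Set (Subgroup G) := {R | R ≤ N ∧ Nat.card R = p ^ (Nat.card N).factorization p}
  have hconj : ∀ g : G, ∀ R ∈ S, MulAut.conj g • R ∈ S := by
    rintro g R ⟨hR, hc⟩
    refine ⟨?_, ?_⟩
    · intro y hy
      obtain ⟨r, hr, rfl⟩ := Subgroup.mem_smul_pointwise_iff_exists _ _ _ |>.1 hy
      exact hNn.conj_mem r (hR hr) g
    · rw [← hc]
      exact (Nat.card_congr (Subgroup.equivSMul (MulAut.conj g) R).toEquiv).symm
  have htrans : ∀ R₁ ∈ S, ∀ R₂ ∈ S, ∃ k ∈ N, MulAut.conj k • R₁ = R₂ := by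
    rintro R₁ ⟨h₁, c₁⟩ R₂ ⟨h₂, c₂⟩
    exact exists_conj_sub N R₁ R₂ h₁ h₂ c₁ c₂
  have hmem : ∀ T : Sylow p N, ((T : Subgroup N).map N.subtype) ∈ S := by
    intro T
    refine ⟨Subgroup.map_subtype_le _, ?_⟩
    rw [Subgroup.card_map_of_injective N.subtype_injective]
    exact T.card_eq_multiplicity
  have hnorm : ∀ A : Subgroup G, A ≤ normalizer (N : Set G) := by
    intro A x _
    rw [Subgroup.normalizer_eq_top]
    trivial
  obtain ⟨s, hs⟩ := IsPGroup.iff_card.1 Q.2
  have hcQ : (Nat.card (Q : Subgroup G)).Coprime (Nat.card N) := by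
    rw [hs]
    exact Nat.Coprime.pow_left _ hN.symm
  have hsolv : Group.IsSolvable (Q : Subgroup G) := by
    have := Q.2.isNilpotent
    infer_instance
  obtain ⟨⟨S₀, hS₀, hS₀Q⟩, -⟩ := glauberman_subgroups (hnorm Q) hcQ (Or.inl hsolv) S
    ⟨_, hmem default⟩ (fun k _ R hR => hconj k R hR) (fun a _ R hR => hconj a R hR) htrans
  -- each `y ∈ Q` centralizes `S₀`
  have hcomm : ∀ y ∈ (Q : Subgroup G), ∀ s ∈ S₀, y * s = s * y := by
    intro y hy s₀ hs₀
    have hord : ∃ k : ℕ, orderOf y = q ^ k := by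
      obtain ⟨k, hk⟩ := (IsPGroup.iff_orderOf.1 Q.2) ⟨y, hy⟩
      exact ⟨k, by simpa using hk⟩
    have hni := h y hord
    have hrel : ¬ p ∣ ((Subgroup.centralizer ({y} : Set G)).subgroupOf N).index := by
      intro hd
      exact hni (hd.trans (relIndex_normal_dvd_index _ N))
    obtain ⟨T, hT⟩ := exists_sylow_le (p := p) _ hrel
    have hTc : ∀ r ∈ ((T : Subgroup N).map N.subtype), y * r = r * y := by
      rintro _ ⟨r, hr, rfl⟩
      have := hT hr
      rw [Subgroup.mem_subgroupOf, Subgroup.mem_centralizer_singleton_iff] at this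
      exact this.symm
    let A : Subgroup G := Subgroup.zpowers y
    have hAQ : A ≤ (Q : Subgroup G) := by
      rw [Subgroup.zpowers_le]; exact hy
    have hcA : (Nat.card A).Coprime (Nat.card N) :=
      Nat.Coprime.coprime_dvd_left (Subgroup.card_dvd_of_le hAQ) hcQ
    have hAsolv : Group.IsSolvable A := by
      have : IsMulCommutative A := by infer_instance
      infer_instance
    have hAS : A ≤ normalizer ((S₀ : Subgroup G) : Set G) := hAQ.trans hS₀Q
    have hAR : A ≤ normalizer (((T : Subgroup N).map N.subtype : Subgroup G) : Set G) := by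
      have hyc : y ∈ normalizer (((T : Subgroup N).map N.subtype : Subgroup G) : Set G) := by
        rw [Subgroup.mem_normalizer_iff]
        intro r
        have hyi : y * r * y⁻¹ = r ↔ y * r = r * y := by
          rw [mul_inv_eq_iff_eq_mul]
        constructor
        · intro hr
          rw [(hyi).2 (hTc r hr)]
          exact hr
        · intro hr
          have h3 := hTc _ hr
          have h4 : y * r = r * y := by
            have h5 : y * (y * r * y⁻¹) * y⁻¹ = y * r * y⁻¹ * (y * y⁻¹) := by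
              rw [h3]; group
            have h6 : y * (y * r * y⁻¹) = (y * r * y⁻¹) * y := h3
            have h7 : y * r * y⁻¹ = r := by
              have h8 : y * (y * r * y⁻¹) * y⁻¹ = y * r * y⁻¹ := by
                rw [h6]; group
              have h9 : y * (y * r * y⁻¹) * y⁻¹ = y * (y * r * y⁻¹ * y⁻¹) := by group
              rw [h9] at h8
              have h10 : y * r * y⁻¹ * y⁻¹ = r * y⁻¹ := by
                exact mul_left_cancel (a := y) (by rw [h8]; group)
              exact mul_right_cancel h10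
            exact (hyi).1 h7
          rw [mul_inv_eq_iff_eq_mul.2 h4] at hr
          exact hr
      rw [Subgroup.zpowers_le]
      exact hyc
    obtain ⟨-, huniq⟩ := glauberman_subgroups (hnorm A) hcA (Or.inl hAsolv) S
      ⟨_, hmem default⟩ (fun k _ R hR => hconj k R hR) (fun a _ R hR => hconj a R hR) htrans
    obtain ⟨c, hc, hcS⟩ := huniq _ (hmem T) _ hS₀ hAR hAS
    have hcy : y * c = c * y := by
      have h1 : c ∈ Subgroup.centralizer (A : Set G) := hc.2
      rw [Subgroup.mem_centralizer_iff] at h1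
      exact h1 y (by change y ∈ Subgroup.zpowers y; exact Subgroup.mem_zpowers y)
    rw [← hcS] at hs₀
    obtain ⟨r, hr, rfl⟩ := Subgroup.mem_smul_pointwise_iff_exists _ _ _ |>.1 hs₀
    have hry := hTc r hr
    change y * (c * r * c⁻¹) = (c * r * c⁻¹) * y
    calc y * (c * r * c⁻¹) = (y * c) * r * c⁻¹ := by group
      _ = c * (y * r) * c⁻¹ := by rw [hcy]; group
      _ = c * (r * y) * c⁻¹ := by rw [hry]
      _ = c * r * (y * c⁻¹) := by group
      _ = c * r * (c⁻¹ * y) := by
        have : y * c⁻¹ = c⁻¹ * y := by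
          rw [mul_inv_eq_iff_eq_mul, mul_assoc, hcy]; group
        rw [this]
      _ = (c * r * c⁻¹) * y := by group
  set M : Subgroup G := normalizer ((Q : Subgroup G) : Set G) with hM
  have hS₀M : S₀ ≤ M := by
    refine normalizer_iff_of_forall _ ?_
    intro x hx z hz
    rw [show x * z * x⁻¹ = z from by rw [mul_inv_eq_iff_eq_mul]; exact (hcomm z hz x hx).symm]
    exact hz
  set W : Subgroup G := (P : Subgroup G) ⊔ N with hW
  set L : Subgroup G := W ⊓ M with hL
  have hNK : N ≤ K := le_sup_right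
  have hWK : W ≤ normalizer (K : Set G) :=
    sup_le hP (hNK.trans Subgroup.le_normalizer)
  have hWsup : N ⊔ L = W := by
    refine le_antisymm (sup_le le_sup_right inf_le_left) ?_
    intro w hw
    have hQle : ((w • Q : Sylow q G) : Subgroup G) ≤ K := by
      intro y hy
      obtain ⟨r, hr, rfl⟩ := Subgroup.mem_smul_pointwise_iff_exists _ _ _ |>.1 hy
      exact (Subgroup.mem_normalizer_iff.1 (hWK hw) r).1 (Subgroup.mem_sup_left hr)
    obtain ⟨k, hk, he⟩ := exists_sylow_conj (w • Q) Q K hQle le_sup_left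
    have hk' : k ∈ (K : Set G) := hk
    rw [hK, Subgroup.mul_normal] at hk'
    obtain ⟨a, ha, n, hn, rfl⟩ := Set.mem_mul.1 hk'
    have hm : a * n * w ∈ M := by
      have h9 : (a * n * w) • Q = Q := by
        rw [mul_smul]; exact he
      exact Sylow.smul_eq_iff_mem_normalizer.1 h9
    have hm2 : n * w ∈ M := by
      have : a⁻¹ * (a * n * w) ∈ M :=
        M.mul_mem (Subgroup.le_normalizer (M.inv_mem (Subgroup.le_normalizer ha) |> fun h =>
          (Q : Subgroup G).inv_mem ha)) hm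
      simpa [mul_assoc] using this
    have hnW : n ∈ W := Subgroup.mem_sup_right hn
    have hL1 : n * w ∈ L := ⟨W.mul_mem hnW hw, hm2⟩
    have : w = n⁻¹ * (n * w) := by group
    rw [this]
    exact Subgroup.mul_mem_sup (N.inv_mem hn) hL1
  -- counting
  have hcard := card_sup_mul_inf N L
  rw [hWsup] at hcard
  have hS₀L : S₀ ≤ N ⊓ L := le_inf hS₀.1 (le_inf (hS₀.1.trans le_sup_right) hS₀M)
  set e := (Nat.card N).factorization p with he
  obtain ⟨b, hb⟩ := Subgroup.card_dvd_of_le hS₀L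
  obtain ⟨a, ha⟩ := Subgroup.card_dvd_of_le (inf_le_left : N ⊓ L ≤ N)
  have hNpos : Nat.card N ≠ 0 := Nat.card_pos.ne'
  have hpna : ¬ p ∣ a := by
    intro hd
    have h1 : p ^ (e + 1) ∣ Nat.card N := by
      rw [ha, hb, hS₀.2, pow_succ, mul_assoc]
      exact Nat.mul_dvd_mul_left _ (hd.trans (Nat.dvd_mul_left _ _))
    exact Nat.pow_succ_factorization_not_dvd hNpos hp.out h1
  have hWa : Nat.card W = a * Nat.card L := by
    have hpos : 0 < Nat.card (N ⊓ L : Subgroup G) := Nat.card_pos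
    refine Nat.eq_of_mul_eq_mul_right hpos ?_
    rw [hcard, ha]
    ring
  have hPW : Nat.card (P : Subgroup G) ∣ a * Nat.card L := by
    rw [← hWa]
    exact Subgroup.card_dvd_of_le le_sup_left
  have hcopa : (Nat.card (P : Subgroup G)).Coprime a := by
    rw [P.card_eq_multiplicity]
    exact Nat.Coprime.pow_left _ ((Nat.Prime.coprime_iff_not_dvd hp.out).2 hpna)
  have hPL : Nat.card (P : Subgroup G) ∣ Nat.card L := hcopa.dvd_of_dvd_mul_left hPW
  rw [P.card_eq_multiplicity] at hPL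
  obtain ⟨T, hT⟩ := Sylow.exists_subgroup_card_pow_prime p hPL
  have hcT : Nat.card (T.map L.subtype) = p ^ (Nat.card G).factorization p := by
    rw [Subgroup.card_map_of_injective L.subtype_injective, hT]
  refine ⟨Sylow.ofCard _ hcT, ?_⟩
  rw [Sylow.coe_ofCard]
  exact (Subgroup.map_subtype_le T).trans inf_le_right

end Cases

theorem main (p q : ℕ) [hp : Fact p.Prime] [hq : Fact q.Prime] (n : ℕ) :
    ∀ (G : Type u) [Group G] [Finite G], Nat.card G = n →
      (Cfsg.IsPSolvable p G ∨ Cfsg.IsPSolvable q G) →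
      (∀ y : G, (∃ k : ℕ, orderOf y = q ^ k) → ¬ p ∣ (Subgroup.centralizer ({y} : Set G)).index) →
      ∃ (P : Sylow p G) (Q : Sylow q G),
        (P : Subgroup G) ≤ Subgroup.normalizer ((Q : Subgroup G) : Set G) := by
  induction n using Nat.strong_induction_on with
  | _ n ih =>
    intro G _ _ hn hsolv h
    by_cases hpq : p = q
    · subst hpq
      exact ⟨default, default, Subgroup.le_normalizer⟩
    rcases subsingleton_or_nontrivial G with hs | hnt
    · refine ⟨default, default, ?_⟩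
      intro x _
      rw [Subsingleton.elim x 1]
      exact Subgroup.one_mem _
    -- a normal subgroup
    have hex : ∃ N : Subgroup G, N.Normal ∧ N ≠ ⊥ ∧
        (IsPGroup p N ∨ (Nat.card N).Coprime p ∨ IsPGroup q N ∨ (Nat.card N).Coprime q) := by
      rcases hsolv with hs | hs
      · obtain ⟨N, h1, h2, h3⟩ := Cfsg.Agent.Lib.Coprime.IsPSolvable_exists_normal hs
        refine ⟨N, h1, h2, ?_⟩
        rcases h3 with h3 | h3
        · exact Or.inl h3
        · exact Or.inr (Or.inl h3)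
      · obtain ⟨N, h1, h2, h3⟩ := Cfsg.Agent.Lib.Coprime.IsPSolvable_exists_normal hs
        refine ⟨N, h1, h2, ?_⟩
        rcases h3 with h3 | h3
        · exact Or.inr (Or.inr (Or.inl h3))
        · exact Or.inr (Or.inr (Or.inr h3))
    obtain ⟨N, hNn, hNb, hNc⟩ := hex
    let π : G →* G ⧸ N := QuotientGroup.mk' N
    have hπ : Function.Surjective π := QuotientGroup.mk'_surjective N
    have hlt : Nat.card (G ⧸ N) < n := by
      rw [← hn]
      have h1 : Nat.card (G ⧸ N) * Nat.card N = Nat.card G := by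
        have := Subgroup.card_mul_index N
        rw [Subgroup.index_eq_card] at this
        rw [mul_comm]; exact this
      have h2 : 1 < Nat.card N := by
        have : Nontrivial N := (Subgroup.nontrivial_iff_ne_bot N).2 hNb
        exact Finite.one_lt_card
      have h3 : 0 < Nat.card (G ⧸ N) := Nat.card_pos
      nlinarith
    have hsolv' : Cfsg.IsPSolvable p (G ⧸ N) ∨ Cfsg.IsPSolvable q (G ⧸ N) := by
      rcases hsolv with hs | hs
      · exact Or.inl (Cfsg.Agent.Lib.Coprime.isPSolvable_map π hπ hs)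
      · exact Or.inr (Cfsg.Agent.Lib.Coprime.isPSolvable_map π hπ hs)
    obtain ⟨Pb, Qb, hPQ⟩ := ih _ hlt (G ⧸ N) rfl hsolv' (hyp_map p q π hπ h)
    obtain ⟨P, rfl⟩ := Sylow.mapSurjective_surjective hπ p Pb
    obtain ⟨Q, rfl⟩ := Sylow.mapSurjective_surjective hπ q Qb
    have hP : (P : Subgroup G) ≤ normalizer (((Q : Subgroup G) ⊔ N : Subgroup G) : Set G) := by
      intro x hx
      rw [Subgroup.mem_normalizer_iff]
      have hsup : ∀ y : G, y ∈ ((Q : Subgroup G) ⊔ N : Subgroup G) ↔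
          π y ∈ ((Q : Subgroup G).map π) := by
        intro y
        have h0 := Subgroup.comap_map_eq π (Q : Subgroup G)
        have h1 : π.ker = N := QuotientGroup.ker_mk' N
        rw [h1] at h0
        rw [← h0, Subgroup.mem_comap]
      have hx' : π x ∈ Subgroup.normalizer (((Q : Subgroup G).map π : Subgroup (G ⧸ N)) : Set (G ⧸ N)) := by
        have hm : π x ∈ ((P.mapSurjective hπ : Sylow p (G ⧸ N)) : Subgroup (G ⧸ N)) := by
          rw [Sylow.coe_mapSurjective]
          exact Subgroup.mem_map_of_mem _ hx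
        have := hPQ hm
        rwa [Sylow.coe_mapSurjective] at this
      intro y
      rw [hsup, hsup, map_mul, map_mul, map_inv]
      exact Subgroup.mem_normalizer_iff.1 hx' _
    rcases hNc with hc | hc | hc | hc
    · exact ⟨P, Q, case_p hpq hc h P Q hP⟩
    · obtain ⟨Q', hQ'⟩ := case_p' hpq hc P Q hP
      exact ⟨P, Q', hQ'⟩
    · exact ⟨P, Q, case_q hc P Q hP⟩
    · obtain ⟨P', hP'⟩ := case_q' hpq hc h P Q hP
      exact ⟨P', Q, hP'⟩

end Cfsg.Agent.Lib.Char.SylowNorm
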