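import Cfsg.Agent.Lib.Char.BrauerInd3

/-! # Artin's induction theorem. -/

set_option autoImplicit false

namespace Cfsg.Agent.Lib.Char

open Cfsg Module
open scoped ComplexConjugate

universe u

section Artin

/-- `|X|` on generators of `X`, zero elsewhere. -/
noncomputable def artinFun (X : Type u) [Group X] : X → ℂ := by
  classical
  exact fun x => if Subgroup.zpowers x = ⊤ then (Nat.card X : ℂ) else 0

variable {X : Type u} [Group X] [Fintype X]

theorem artinFun_apply (x : X) [Decidable (Subgroup.zpowers x = ⊤)] :
    artinFun X x = if Subgroup.zpowers x = ⊤ then (Nat.card X : ℂ) else 0 := by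
  simp only [artinFun]
  congr

/-- The value of the induced Artin function. -/
theorem indFun_artinFun_apply (B : Subgroup X) (x : X) :
    open scoped Classical in
    indFun B (artinFun B) x = ∑ g : X, if Subgroup.zpowers (g⁻¹ * x * g) = B then (1 : ℂ) else 0 := by
  classical
  rw [indFun_apply, Finset.mul_sum]
  apply Finset.sum_congr rfl
  intro g _
  set y := g⁻¹ * x * g with hy
  have hB : (Nat.card B : ℂ) ≠ 0 := by exact_mod_cast Nat.card_pos.ne'
  by_cases hyB : y ∈ B
  · rw [extendByZero_of_mem B _ hyB, artinFun_apply]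
    have hiff : Subgroup.zpowers (⟨y, hyB⟩ : B) = ⊤ ↔ Subgroup.zpowers y = B := by
      constructor
      · intro h
        have h1 := congrArg (Subgroup.map B.subtype) h
        rw [MonoidHom.map_zpowers, ← MonoidHom.range_eq_map, Subgroup.range_subtype] at h1
        exact h1
      · intro h
        rw [eq_top_iff]
        rintro ⟨b, hb⟩ -
        rw [← h] at hb
        obtain ⟨i, hi⟩ := hb
        refine ⟨i, ?_⟩
        apply Subtype.ext
        exact hi
    by_cases h : Subgroup.zpowers y = B
    · rw [if_pos h, if_pos (hiff.mpr h)]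
      field_simp
    · rw [if_neg h, if_neg (fun h' => h (hiff.mp h')), mul_zero]
  · rw [extendByZero_of_notMem B _ hyB, mul_zero, if_neg]
    intro h
    apply hyB
    rw [← h]
    exact Subgroup.mem_zpowers y

/-- The fundamental identity. -/
theorem sum_indFun_artinFun :
    ∑ B : Subgroup X, indFun B (artinFun B) = fun _ => (Nat.card X : ℂ) := by
  classical
  funext x
  rw [Finset.sum_apply]
  simp_rw [indFun_artinFun_apply]
  rw [Finset.sum_comm]
  have h1 : ∀ g : X, ∑ B : Subgroup X, (if Subgroup.zpowers (g⁻¹ * x * g) = B then (1 : ℂ) else 0) = 1 := by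
    intro g
    rw [Finset.sum_ite_eq]
    simp
  simp_rw [h1]
  simp [Nat.card_eq_fintype_card]

theorem IsGeneralizedCharacter.sum' {ι : Type*} (s : Finset ι) {f : ι → X → ℂ}
    (h : ∀ i ∈ s, IsGeneralizedCharacter X (f i)) : IsGeneralizedCharacter X (∑ i ∈ s, f i) := by
  classical
  induction s using Finset.induction_on with
  | empty => simpa using isGeneralizedCharacter_zero
  | insert a s ha ih =>
    rw [Finset.sum_insert ha]
    exact IsGeneralizedCharacter.add (h a (Finset.mem_insert_self a s))
      (ih (fun i hi => h i (Finset.mem_insert_of_mem hi)))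

theorem IsGeneralizedCharacter.of_character {f : X → ℂ} (h : IsCharacter X f) : IsGeneralizedCharacter X f :=
  ⟨f, 0, h, isCharacter_zero, by simp⟩

/-- In a cyclic group the Artin function is a generalized character. -/
theorem artinFun_gen : ∀ (n : ℕ) (X : Type u) [Group X] [Fintype X] [IsCyclic X], Nat.card X = n →
    IsGeneralizedCharacter X (artinFun X) := by
  intro n
  induction n using Nat.strong_induction_on with
  | _ n ih =>
  intro X _ _ hcyc hn
  classical
  have hcomm : ∀ a b : X, a * b = b * a := by
    intro a b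
    letI := IsCyclic.commGroup (α := X)
    exact mul_comm a b
  have htop : indFun (⊤ : Subgroup X) (artinFun (⊤ : Subgroup X)) = artinFun X := by
    funext x
    rw [indFun_artinFun_apply, artinFun_apply]
    have h1 : ∀ g : X, g⁻¹ * x * g = x := by
      intro g
      rw [mul_assoc, hcomm x g]
      group
    simp_rw [h1]
    by_cases h : Subgroup.zpowers x = ⊤
    · simp [h, Nat.card_eq_fintype_card]
    · simp [h]
  have hid := sum_indFun_artinFun (X := X)
  rw [← Finset.add_sum_erase Finset.univ _ (Finset.mem_univ (⊤ : Subgroup X)), htop] at hid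
  have heq : artinFun X = (fun _ => (Nat.card X : ℂ)) -
      ∑ B ∈ Finset.univ.erase (⊤ : Subgroup X), indFun B (artinFun B) := by
    rw [← hid]
    abel
  rw [heq]
  have h1 : IsGeneralizedCharacter X (fun _ : X => (Nat.card X : ℂ)) := by
    apply IsGeneralizedCharacter.of_character
    have h2 := IsCharacter.nsmul (IsIrrCharacter.isCharacter (isIrrCharacter_one (G := X))) (Nat.card X)
    have e : (Nat.card X) • (fun _ : X => (1 : ℂ)) = fun _ : X => (Nat.card X : ℂ) := by
      funext x
      simp
    rwa [e] at h2
  have h2 : IsGeneralizedCharacter X (∑ B ∈ Finset.univ.erase (⊤ : Subgroup X), indFun B (artinFun B)) := by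
    apply IsGeneralizedCharacter.sum'
    intro B hB
    have hBne : B ≠ ⊤ := Finset.ne_of_mem_erase hB
    letI : Fintype B := Fintype.ofFinite _
    have hlt : Nat.card B < n := by
      rw [← hn]
      have h1 : B.index ≠ 1 := fun h => hBne (Subgroup.index_eq_one.mp h)
      have h2 : B.index ≠ 0 := Subgroup.index_ne_zero_of_finite
      have h3 := Subgroup.card_mul_index B
      have h4 : 0 < Nat.card B := Nat.card_pos
      have h5 : 2 ≤ B.index := by omega
      nlinarith
    haveI : IsCyclic B := Subgroup.isCyclic B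
    have := ih _ hlt B rfl
    convert isGeneralizedCharacter_indFun B this
  obtain ⟨a, b, ha, hb, hab⟩ := h1
  obtain ⟨c, d, hc, hd, hcd⟩ := h2
  refine ⟨a + d, b + c, IsCharacter.add ha hd, IsCharacter.add hb hc, ?_⟩
  rw [hab, hcd]
  abel

/-- Combinations of functions induced from linear characters of cyclic subgroups. -/
def cycClosure (X : Type u) [Group X] [Fintype X] : AddSubgroup (X → ℂ) :=
  AddSubgroup.closure {f | ∃ (A : Subgroup X) (lam : A →* ℂˣ), IsCyclic A ∧ f = indFun A (fun e => (lam e : ℂ))}

theorem indFun_character_mem_cycClosure {A : Subgroup X} (hA : IsCyclic A) {f : A → ℂ}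
    (hf : IsCharacter A f) : indFun A f ∈ cycClosure X := by
  classical
  letI : Fintype A := Fintype.ofFinite _
  have hcomm : ∀ a b : A, a * b = b * a := by
    intro a b
    letI := IsCyclic.commGroup (α := A)
    exact mul_comm a b
  obtain ⟨m, -, hs⟩ := IsCharacter.exists_eq_sum hf
  rw [hs, indFun_sum]
  apply AddSubgroup.sum_mem
  intro ψ _
  have h1 : m ψ • (ψ : A → ℂ) = (m ψ : ℂ) • (ψ : A → ℂ) := by
    funext x
    simp
  rw [h1, indFun_smul]
  have h2 : (m ψ : ℂ) • indFun A (ψ : A → ℂ) = m ψ • indFun A (ψ : A → ℂ) := by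
    funext x
    simp
  rw [h2]
  apply AddSubgroup.nsmul_mem
  obtain ⟨lam, hlam⟩ := IsCharacter.exists_monoidHom (IsIrrCharacter.isCharacter ψ.2)
    ((comm_iff_irr_degree_one (G := A)).mp hcomm ψ)
  rw [hlam]
  exact AddSubgroup.subset_closure ⟨A, lam, hA, rfl⟩

theorem indFun_gen_mem_cycClosure {A : Subgroup X} (hA : IsCyclic A) {f : A → ℂ}
    (hf : IsGeneralizedCharacter A f) : indFun A f ∈ cycClosure X := by
  obtain ⟨a, b, ha, hb, rfl⟩ := hf
  rw [indFun_sub]
  exact AddSubgroup.sub_mem _ (indFun_character_mem_cycClosure hA ha) (indFun_character_mem_cycClosure hA hb)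

theorem card_mem_cycClosure : (fun _ : X => (Nat.card X : ℂ)) ∈ cycClosure X := by
  classical
  rw [← sum_indFun_artinFun]
  apply AddSubgroup.sum_mem
  intro B _
  by_cases hB : IsCyclic B
  · letI : Fintype B := Fintype.ofFinite _
    apply indFun_gen_mem_cycClosure hB
    exact artinFun_gen _ B rfl
  · have h0 : artinFun B = 0 := by
      funext b
      rw [artinFun_apply, if_neg]
      · rfl
      · intro h
        apply hB
        exact ⟨b, fun y => by
          have hy : y ∈ Subgroup.zpowers b := by rw [h]; trivial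
          exact hy⟩
    rw [h0, indFun_zero]
    exact AddSubgroup.zero_mem _

theorem mul_character_mem_cycClosure {f β : X → ℂ} (hf : f ∈ cycClosure X) (hβ : IsCharacter X β) :
    f * β ∈ cycClosure X := by
  classical
  have hcl := IsCharacter.isClassFunction hβ
  induction hf using AddSubgroup.closure_induction with
  | mem f hf =>
    obtain ⟨A, lam, hA, rfl⟩ := hf
    rw [← indFun_mul_res A _ hcl]
    apply indFun_character_mem_cycClosure hA
    exact IsCharacter.mul (IsIrrCharacter.isCharacter (isIrrCharacter_of_monoidHom lam)) (IsCharacter.comp hβ A.subtype)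
  | zero => simpa using AddSubgroup.zero_mem _
  | add a b _ _ ha hb =>
    rw [add_mul]
    exact AddSubgroup.add_mem _ ha hb
  | neg a _ ha =>
    rw [neg_mul]
    exact AddSubgroup.neg_mem _ ha

/-- Lists. -/
theorem exists_list_of_mem_cycClosure {f : X → ℂ} (hf : f ∈ cycClosure X) :
    ∃ l : List ((A : Subgroup X) × ((A →* ℂˣ) × ℤ)),
      (∀ t ∈ l, IsCyclic t.1) ∧
      f = (l.map fun t => (t.2.2 : ℂ) • indFun t.1 (fun a => (t.2.1 a : ℂ))).sum := by
  classical
  induction hf using AddSubgroup.closure_induction with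
  | mem f hf =>
    obtain ⟨E, lam, hE, rfl⟩ := hf
    refine ⟨[⟨E, lam, 1⟩], ?_, ?_⟩
    · intro t ht
      rw [List.mem_singleton] at ht
      rw [ht]
      exact hE
    · simp
  | zero =>
    exact ⟨[], by simp, by simp⟩
  | add a b _ _ ha hb =>
    obtain ⟨l₁, h₁, e₁⟩ := ha
    obtain ⟨l₂, h₂, e₂⟩ := hb
    refine ⟨l₁ ++ l₂, ?_, ?_⟩
    · intro t ht
      rcases List.mem_append.mp ht with h | h
      · exact h₁ t h
      · exact h₂ t h
    · rw [List.map_append, List.sum_append, ← e₁, ← e₂]
  | neg a _ ha =>
    obtain ⟨l, h, e⟩ := ha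
    refine ⟨l.map (fun t => ⟨t.1, t.2.1, - t.2.2⟩), ?_, ?_⟩
    · intro t ht
      obtain ⟨s, hs, rfl⟩ := List.mem_map.mp ht
      exact h s hs
    · rw [e]
      clear e h
      induction l with
      | nil => simp
      | cons s l ih =>
        simp only [List.map_cons, List.sum_cons, neg_add_rev]
        rw [← ih]
        push_cast
        simp only [neg_smul]
        abel

end Artin

end Cfsg.Agent.Lib.Char
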