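import Mathlib
import Cfsg.Agent.Lib.Transfer.Basic
import Cfsg.Agent.Lib.PGroups.CyclicSylow
import Cfsg.Agent.Lib.PGroups.Parts
import Cfsg.Agent.Lib.PGroups.Cyclic
import Cfsg.Agent.Lib.Basic.Factor
import Cfsg.Agent.Lib.OddLocal.Sup

/-! # Generalized quaternion Sylow 2-subgroups of order at least 16: the local structure.

We work with an abstract description of a quaternion Sylow 2-subgroup by generators `A`, `X`. -/

set_option autoImplicit false
set_option linter.unusedSectionVars false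
set_option linter.style.haveILetI false

namespace Cfsg.Agent.Lib.Char.BrSuz

open Subgroup

universe u

section Data

variable {G : Type u} [Group G]

/-- Generators and relations data for a generalized quaternion subgroup of order `4 m`. -/
structure QData (S : Subgroup G) (m : ℕ) (A X : G) : Prop where
  hA : A ∈ S
  hX : X ∈ S
  cover : ∀ s ∈ S, (∃ i : ℤ, s = A ^ i) ∨ (∃ i : ℤ, s = A ^ i * X)
  ordA : orderOf A = 2 * m
  conjX : X * A * X⁻¹ = A⁻¹
  sqX : X * X = A ^ m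
  hm : ∃ n : ℕ, m = 2 ^ (n + 2)

open QuaternionGroup in
/-- The quaternion data of an isomorphism with the quaternion group. -/
theorem qdata_of_equiv {S : Subgroup G} {n m : ℕ} (hm : m = 2 ^ (n + 2)) (e : S ≃* QuaternionGroup m) :
    QData S m ((e.symm (a 1) : S) : G) ((e.symm (xa 0) : S) : G) := by
  classical
  haveI : NeZero m := ⟨by rw [hm]; positivity⟩
  haveI : NeZero (2 * m) := ⟨by have := NeZero.ne m; omega⟩
  refine ⟨(e.symm (a 1)).2, (e.symm (xa 0)).2, ?_, ?_, ?_, ?_, ⟨n, hm⟩⟩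
  · intro s hs
    have h1 : e.symm (e ⟨s, hs⟩) = ⟨s, hs⟩ := e.symm_apply_apply _
    have hcoe : ∀ (q : QuaternionGroup m), ((e.symm q : S) : G) = ((e.symm q : S) : G) := fun _ => rfl
    rcases he : e ⟨s, hs⟩ with i | i
    · left
      refine ⟨(i.val : ℕ), ?_⟩
      rw [he] at h1
      have h2 : (a i : QuaternionGroup m) = (a 1) ^ (i.val) := by
        rw [a_one_pow]
        simp
      rw [h2, map_pow] at h1
      have h3 := congrArg Subtype.val h1
      simp only [SubgroupClass.coe_pow] at h3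
      rw [zpow_natCast]
      exact h3.symm
    · right
      refine ⟨((-i).val : ℕ), ?_⟩
      rw [he] at h1
      have h2 : (xa i : QuaternionGroup m) = (a 1) ^ ((-i).val) * xa 0 := by
        rw [a_one_pow]
        simp
      rw [h2, map_mul, map_pow] at h1
      have h3 := congrArg Subtype.val h1
      simp only [SubgroupClass.coe_pow, Subgroup.coe_mul] at h3
      rw [zpow_natCast]
      exact h3.symm
  · rw [Subgroup.orderOf_coe, MulEquiv.orderOf_eq]
    exact orderOf_a_one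
  · have h : (xa 0 : QuaternionGroup m) * a 1 * (xa 0)⁻¹ = (a 1)⁻¹ := by
      have h1 : (xa 0 : QuaternionGroup m) * a 1 = a (-1) * xa 0 := by
        simp only [xa_mul_a, a_mul_xa]
        simp
      rw [h1, mul_inv_cancel_right]
      apply eq_inv_of_mul_eq_one_left
      rw [a_mul_a, neg_add_cancel, a_zero]
    have h2 := congrArg (fun q => ((e.symm q : S) : G)) h
    simpa only [map_mul, map_inv, Subgroup.coe_mul, Subgroup.coe_inv] using h2
  · have h : (xa 0 : QuaternionGroup m) * xa 0 = (a 1) ^ m := by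
      rw [a_one_pow, xa_mul_xa]
      simp
    have h2 := congrArg (fun q => ((e.symm q : S) : G)) h
    simpa only [map_mul, map_pow, Subgroup.coe_mul, SubgroupClass.coe_pow] using h2

variable {S : Subgroup G} {m : ℕ} {A X : G}

namespace QData

variable (Q : QData S m A X)
include Q

theorem m_pos : 0 < m := by
  obtain ⟨n, rfl⟩ := Q.hm
  positivity

theorem four_le : 4 ≤ m := by
  obtain ⟨n, rfl⟩ := Q.hm
  rw [pow_add]
  have : 1 ≤ 2 ^ n := Nat.one_le_two_pow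
  omega

theorem conj_zpow (i : ℤ) : X * A ^ i * X⁻¹ = A ^ (-i) := by
  rw [← MulAut.conj_apply, map_zpow, MulAut.conj_apply, Q.conjX, inv_zpow, zpow_neg]

theorem ordA2 : orderOf (A ^ 2) = m := by
  rw [orderOf_pow' A two_ne_zero, Q.ordA]
  have : Nat.gcd (2 * m) 2 = 2 := Nat.gcd_eq_right (dvd_mul_right 2 m)
  rw [this]
  simp

theorem A_pow_m_ne : A ^ m ≠ 1 := by
  intro h
  have := orderOf_dvd_of_pow_eq_one h
  rw [Q.ordA] at this
  have hm := Q.m_pos
  have := Nat.le_of_dvd hm this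
  omega

theorem A_pow_m_sq : A ^ m * A ^ m = 1 := by
  rw [← pow_add, ← two_mul, ← Q.ordA, pow_orderOf_eq_one]

/-- Uniqueness of the involution in `⟨A⟩`. -/
theorem unique_inv_zpowers {y : G} (hy : y ∈ zpowers A) (h2 : y * y = 1) (h1 : y ≠ 1) : y = A ^ m := by
  obtain ⟨i, rfl⟩ := mem_zpowers_iff.mp hy
  have h3 : A ^ (2 * i) = 1 := by
    rw [two_mul, zpow_add]
    exact h2
  have h4 := orderOf_dvd_iff_zpow_eq_one.mpr h3
  rw [Q.ordA] at h4
  have hmpos := Q.m_pos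
  have h5 : ((2 : ℕ) * (m : ℕ) : ℕ) = 2 * m := rfl
  have h6 : (m : ℤ) ∣ i := by
    push_cast at h4
    have h7 : (2 : ℤ) ≠ 0 := by norm_num
    exact (mul_dvd_mul_iff_left h7).mp h4
  obtain ⟨j, rfl⟩ := h6
  rcases Int.even_or_odd' j with ⟨k, rfl | rfl⟩
  · exfalso
    apply h1
    have : (m : ℤ) * (2 * k) = ((2 * m : ℕ) : ℤ) * k := by push_cast; ring
    rw [this, zpow_mul, zpow_natCast, ← Q.ordA, pow_orderOf_eq_one, one_zpow]
  · have : (m : ℤ) * (2 * k + 1) = ((2 * m : ℕ) : ℤ) * k + m := by push_cast; ring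
    rw [this, zpow_add, zpow_mul, zpow_natCast, ← Q.ordA, pow_orderOf_eq_one, one_zpow, one_mul, zpow_natCast]

/-- Square of a nonpower element. -/
theorem sq_mul_X (i : ℤ) : (A ^ i * X) * (A ^ i * X) = A ^ m := by
  have h := Q.conj_zpow i
  calc (A ^ i * X) * (A ^ i * X) = A ^ i * (X * A ^ i * X⁻¹) * (X * X) := by group
    _ = A ^ m := by
      rw [h, Q.sqX]
      simp

/-- The involutions of `S`. -/
theorem unique_inv {y : G} (hy : y ∈ S) (h2 : y * y = 1) (h1 : y ≠ 1) : y = A ^ m := by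
  rcases Q.cover y hy with ⟨i, rfl⟩ | ⟨i, rfl⟩
  · exact Q.unique_inv_zpowers (zpow_mem_zpowers A i) h2 h1
  · exfalso
    rw [Q.sq_mul_X] at h2
    exact Q.A_pow_m_ne h2

theorem comm_le_zpowers : ⁅S, S⁆ ≤ zpowers (A ^ 2) := by
  rw [Subgroup.commutator_le]
  intro g hg h hh
  have hc := Q.conj_zpow
  rcases Q.cover g hg with ⟨i, rfl⟩ | ⟨i, rfl⟩ <;> rcases Q.cover h hh with ⟨j, rfl⟩ | ⟨j, rfl⟩
  · rw [commutatorElement_def, show A ^ i * A ^ j = A ^ j * A ^ i from (Commute.refl A).zpow_zpow i j |>.eq]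
    simp
  · refine mem_zpowers_iff.mpr ⟨i, ?_⟩
    rw [commutatorElement_def]
    have h1 := hc (-i)
    rw [neg_neg] at h1
    calc (A ^ 2) ^ i = A ^ i * A ^ i := by
            rw [← zpow_natCast, ← zpow_mul, ← zpow_add]
            congr 1
            push_cast
            ring
      _ = A ^ i * A ^ j * (X * A ^ (-i) * X⁻¹) * A ^ (-j) := by
            rw [h1, mul_assoc (A ^ i), (Commute.refl A).zpow_zpow j i |>.eq]
            group
      _ = _ := by group
  · refine mem_zpowers_iff.mpr ⟨-j, ?_⟩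
    rw [commutatorElement_def]
    have h1 := hc j
    calc (A ^ 2) ^ (-j) = A ^ (-j) * A ^ (-j) := by
            rw [← zpow_natCast, ← zpow_mul, ← zpow_add]
            congr 1
            push_cast
            ring
      _ = A ^ i * (X * A ^ j * X⁻¹) * A ^ (-i) * A ^ (-j) := by
            rw [h1, mul_assoc (A ^ i), (Commute.refl A).zpow_zpow (-j) (-i) |>.eq]
            group
      _ = _ := by group
  · refine mem_zpowers_iff.mpr ⟨i - j, ?_⟩
    rw [commutatorElement_def]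
    have h1 := hc (j - i)
    calc (A ^ 2) ^ (i - j) = A ^ i * A ^ (-(j - i)) * A ^ (-j) := by
            rw [← zpow_natCast, ← zpow_mul, ← zpow_add, ← zpow_add]
            congr 1
            push_cast
            ring
      _ = A ^ i * (X * A ^ (j - i) * X⁻¹) * A ^ (-j) := by rw [h1]
      _ = _ := by
            rw [zpow_sub A j i]
            group

theorem A2_mem_comm : A ^ 2 ∈ ⁅S, S⁆ := by
  have h := Subgroup.commutator_mem_commutator Q.hA Q.hX
  rw [commutatorElement_def] at h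
  have h2 : A * X * A⁻¹ * X⁻¹ = A ^ 2 := by
    have h1 := Q.conj_zpow (-1)
    simp only [zpow_neg, zpow_one, inv_inv] at h1
    calc A * X * A⁻¹ * X⁻¹ = A * (X * A⁻¹ * X⁻¹) := by group
      _ = A ^ 2 := by rw [h1, sq]
  rwa [h2] at h

theorem comm_eq : ⁅S, S⁆ = zpowers (A ^ 2) :=
  le_antisymm Q.comm_le_zpowers (by
    rw [zpowers_le]
    exact Q.A2_mem_comm)

end QData

end Data

section Local

variable {G : Type u} [Group G] [Finite G] {S : Subgroup G} {m : ℕ} {A X : G}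

local notation "𝐂" => centralizer ((zpowers (A ^ 2) : Subgroup G) : Set G)

namespace QData

variable (Q : QData S m A X)
include Q

/-- Membership in the centralizer of `D`. -/
theorem mem_C_iff {y : G} : y ∈ centralizer ((zpowers (A ^ 2) : Subgroup G) : Set G) ↔ y * A ^ 2 = A ^ 2 * y := by
  constructor
  · intro h
    exact (Subgroup.mem_centralizer_iff.mp h (A ^ 2) (mem_zpowers _)).symm
  · intro h
    rw [Subgroup.mem_centralizer_iff]
    intro d hd
    obtain ⟨i, rfl⟩ := mem_zpowers_iff.mp hd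
    have h2 : Commute (A ^ 2) y := Commute.symm h
    exact (h2.zpow_left i).eq

theorem A_mem_C : A ∈ centralizer ((zpowers (A ^ 2) : Subgroup G) : Set G) := by
  rw [Q.mem_C_iff, sq]
  group

theorem zpowers_A_le_C : zpowers A ≤ centralizer ((zpowers (A ^ 2) : Subgroup G) : Set G) := by
  rw [zpowers_le]
  exact Q.A_mem_C

/-- `y` normalizing `D`, by a one-sided check. -/
theorem mem_N_of_conj {g : G} (h : g * A ^ 2 * g⁻¹ ∈ zpowers (A ^ 2)) :
    g ∈ normalizer ((zpowers (A ^ 2) : Subgroup G) : Set G) := by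
  classical
  apply Cfsg.Agent.Lib.Basic.mem_normalizer_of_forall_conj_mem
  intro d hd
  obtain ⟨i, rfl⟩ := mem_zpowers_iff.mp hd
  have : g * (A ^ 2) ^ i * g⁻¹ = (g * A ^ 2 * g⁻¹) ^ i := by
    rw [← MulAut.conj_apply, map_zpow, MulAut.conj_apply]
  rw [this]
  exact zpow_mem h i

theorem X_conj_A2 : X * A ^ 2 * X⁻¹ = (A ^ 2)⁻¹ := by
  have h := Q.conj_zpow 2
  simp only [zpow_neg] at h
  exact_mod_cast h

theorem A4_ne : A ^ 2 * A ^ 2 ≠ 1 := by
  intro h
  have h2 : orderOf A ∣ 4 := orderOf_dvd_of_pow_eq_one (by rw [← h, ← pow_add])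
  rw [Q.ordA] at h2
  have := Nat.le_of_dvd (by norm_num) h2
  have := Q.four_le
  omega

theorem X_not_mem_C : X ∉ centralizer ((zpowers (A ^ 2) : Subgroup G) : Set G) := by
  intro h
  rw [Q.mem_C_iff] at h
  have h2 := Q.X_conj_A2
  rw [h, mul_inv_cancel_right] at h2
  apply Q.A4_ne
  nth_rw 1 [h2]
  simp

theorem S_le_N : S ≤ normalizer ((zpowers (A ^ 2) : Subgroup G) : Set G) := by
  intro s hs
  apply Q.mem_N_of_conj
  have hcomm : ∀ i : ℤ, A ^ i * (A ^ 2) * (A ^ i)⁻¹ = A ^ 2 := by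
    intro i
    have : Commute (A ^ i) (A ^ 2) := (Commute.refl A).zpow_left i |>.pow_right 2
    rw [this.eq]
    simp
  rcases Q.cover s hs with ⟨i, rfl⟩ | ⟨i, rfl⟩
  · rw [hcomm]
    exact mem_zpowers _
  · have h1 : (A ^ i * X) * A ^ 2 * (A ^ i * X)⁻¹ = A ^ i * (X * A ^ 2 * X⁻¹) * (A ^ i)⁻¹ := by group
    rw [h1, Q.X_conj_A2]
    have h2 : Commute (A ^ i) ((A ^ 2)⁻¹) := ((Commute.refl A).zpow_left i |>.pow_right 2).inv_right
    rw [h2.eq]
    simp

theorem C_le_N : centralizer ((zpowers (A ^ 2) : Subgroup G) : Set G) ≤ normalizer ((zpowers (A ^ 2) : Subgroup G) : Set G) :=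
  Subgroup.centralizer_le_normalizer _

/-- Conjugation by `N` preserves `C`. -/
theorem conj_mem_C {g y : G} (hg : g ∈ normalizer ((zpowers (A ^ 2) : Subgroup G) : Set G))
    (hy : y ∈ centralizer ((zpowers (A ^ 2) : Subgroup G) : Set G)) :
    g * y * g⁻¹ ∈ centralizer ((zpowers (A ^ 2) : Subgroup G) : Set G) := by
  rw [Subgroup.mem_centralizer_iff] at hy ⊢
  intro d hd
  have hd' : g⁻¹ * d * g ∈ zpowers (A ^ 2) := by
    have := (Subgroup.mem_normalizer_iff.mp (inv_mem hg) d).mp hd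
    simpa using this
  have h := hy _ hd'
  calc d * (g * y * g⁻¹) = g * ((g⁻¹ * d * g) * y) * g⁻¹ := by group
    _ = g * (y * (g⁻¹ * d * g)) * g⁻¹ := by rw [h]
    _ = _ := by group

theorem inf_C_le {s : G} (hs : s ∈ S) (hC : s ∈ centralizer ((zpowers (A ^ 2) : Subgroup G) : Set G)) :
    s ∈ zpowers A := by
  rcases Q.cover s hs with ⟨i, rfl⟩ | ⟨i, rfl⟩
  · exact zpow_mem_zpowers A i
  · exfalso
    apply Q.X_not_mem_C
    have h1 : A ^ i ∈ centralizer ((zpowers (A ^ 2) : Subgroup G) : Set G) :=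
      Q.zpowers_A_le_C (zpow_mem_zpowers A i)
    have h2 := mul_mem (inv_mem h1) hC
    simpa using h2

/-- An odd order element of `N` centralizes `D`. -/
theorem odd_mem_C {g : G} (hg : g ∈ normalizer ((zpowers (A ^ 2) : Subgroup G) : Set G))
    (hodd : ¬ 2 ∣ orderOf g) : g ∈ centralizer ((zpowers (A ^ 2) : Subgroup G) : Set G) := by
  rw [Q.mem_C_iff]
  obtain ⟨n, hn⟩ := Q.hm
  haveI : Fact (Nat.Prime 2) := ⟨Nat.prime_two⟩
  have hz : A ^ m ∈ zpowers (A ^ 2) := by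
    obtain ⟨k, hk⟩ : 2 ∣ m := by rw [hn, pow_succ]; exact dvd_mul_left _ _
    refine mem_zpowers_iff.mpr ⟨k, ?_⟩
    rw [hk, pow_mul, zpow_natCast]
  have hconj : g * A ^ 2 * g⁻¹ ∈ zpowers (A ^ 2) := (Subgroup.mem_normalizer_iff.mp hg _).mp (mem_zpowers _)
  have hzc : Commute g (A ^ m) := by
    have h1 : g * A ^ m * g⁻¹ ∈ zpowers (A ^ 2) := (Subgroup.mem_normalizer_iff.mp hg _).mp hz
    have h2 : zpowers (A ^ 2) ≤ zpowers A := by
      rw [zpowers_le]
      exact pow_mem (mem_zpowers A) 2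
    have h3 : g * A ^ m * g⁻¹ * (g * A ^ m * g⁻¹) = 1 := by
      have h4 := Q.A_pow_m_sq
      calc g * A ^ m * g⁻¹ * (g * A ^ m * g⁻¹) = g * (A ^ m * A ^ m) * g⁻¹ := by group
        _ = 1 := by rw [h4]; group
    have h5 : g * A ^ m * g⁻¹ ≠ 1 := by
      intro h
      apply Q.A_pow_m_ne
      have : A ^ m = g⁻¹ * (g * A ^ m * g⁻¹) * g := by group
      rw [this, h]
      simp
    have h6 := Q.unique_inv_zpowers (h2 h1) h3 h5
    show g * A ^ m = A ^ m * g
    calc g * A ^ m = (g * A ^ m * g⁻¹) * g := by group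
      _ = _ := by rw [h6]
  have hcomm := Cfsg.Agent.Lib.PGroups.commute_of_cyclic_of_fix (p := 2) (pow_orderOf_eq_one g)
    ((Nat.Prime.coprime_iff_not_dvd Nat.prime_two).mpr hodd).symm (n + 2) (A ^ 2) (A ^ m)
    (by rw [Q.ordA2, hn]) hconj hz Q.A_pow_m_ne hzc
  exact hcomm.eq

theorem zpow_two_m (k : ℤ) : A ^ (((2 * m : ℕ) : ℤ) * k) = 1 := by
  rw [zpow_mul, zpow_natCast, ← Q.ordA, pow_orderOf_eq_one, one_zpow]

theorem A2_mem_of_not_four_dvd {j : ℤ} (hj : ¬ (4 : ℤ) ∣ j) : A ^ 2 ∈ zpowers (A ^ j) := by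
  obtain ⟨n, hn⟩ := Q.hm
  have hcop : ∀ j' : ℤ, Odd j' → ∃ u : ℤ, A ^ (j' * u) = A := by
    intro j' hodd
    have h1 : IsCoprime j' ((2 * m : ℕ) : ℤ) := by
      rw [hn]
      have : ((2 * 2 ^ (n + 2) : ℕ) : ℤ) = 2 ^ (n + 3) := by push_cast; ring
      rw [this]
      apply IsCoprime.pow_right
      obtain ⟨k, rfl⟩ := hodd
      exact ⟨1, -k, by ring⟩
    obtain ⟨u, v, huv⟩ := h1
    refine ⟨u, ?_⟩
    have h2 : j' * u = 1 + ((2 * m : ℕ) : ℤ) * (-v) := by linarith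
    rw [h2, zpow_add, zpow_one, Q.zpow_two_m, mul_one]
  rcases Int.even_or_odd' j with ⟨j', rfl | rfl⟩
  · have hj' : Odd j' := by
      by_contra hcon
      rw [Int.not_odd_iff_even] at hcon
      obtain ⟨k, rfl⟩ := hcon
      exact hj ⟨k, by ring⟩
    obtain ⟨u, hu⟩ := hcop j' hj'
    refine mem_zpowers_iff.mpr ⟨u, ?_⟩
    rw [← zpow_mul, show 2 * j' * u = (j' * u) * 2 by ring, zpow_mul, hu]
    exact zpow_ofNat A 2
  · obtain ⟨u, hu⟩ := hcop _ (⟨j', rfl⟩ : Odd (2 * j' + 1))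
    refine mem_zpowers_iff.mpr ⟨u * 2, ?_⟩
    rw [← zpow_mul, show (2 * j' + 1) * (u * 2) = ((2 * j' + 1) * u) * 2 by ring, zpow_mul, hu]
    exact zpow_ofNat A 2

theorem A2_mem_of_dvd {j : ℤ} (h : m ∣ orderOf (A ^ j)) : A ^ 2 ∈ zpowers (A ^ j) := by
  apply Q.A2_mem_of_not_four_dvd
  rintro ⟨k, rfl⟩
  obtain ⟨n, hn⟩ := Q.hm
  have h1 : (A ^ (4 * k)) ^ (2 ^ (n + 1)) = 1 := by
    rw [← zpow_natCast, ← zpow_mul]
    have : 4 * k * ((2 ^ (n + 1) : ℕ) : ℤ) = ((2 * m : ℕ) : ℤ) * k := by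
      rw [hn]
      push_cast
      ring
    rw [this, Q.zpow_two_m]
  have h2 := orderOf_dvd_of_pow_eq_one h1
  have h3 := Nat.le_of_dvd (by positivity) (h.trans h2)
  rw [hn, pow_succ 2 (n + 1)] at h3
  have : 0 < 2 ^ (n + 1) := by positivity
  omega

theorem four_dvd_m : 4 ∣ m := by
  obtain ⟨n, rfl⟩ := Q.hm
  rw [pow_add]
  exact Dvd.intro_left _ rfl

/-- The quotient `N/C` is a `2`-group; hence `N = S C`. -/
theorem exists_mem_S_of_mem_N (hS2 : IsPGroup 2 S) (hSi : ¬ 2 ∣ S.index)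
    {g : G} (hg : g ∈ normalizer ((zpowers (A ^ 2) : Subgroup G) : Set G)) :
    ∃ s ∈ S, s⁻¹ * g ∈ centralizer ((zpowers (A ^ 2) : Subgroup G) : Set G) := by
  classical
  haveI : Fact (Nat.Prime 2) := ⟨Nat.prime_two⟩
  set N := normalizer ((zpowers (A ^ 2) : Subgroup G) : Set G) with hN
  set C := centralizer ((zpowers (A ^ 2) : Subgroup G) : Set G) with hC
  haveI hnorm : (C.subgroupOf N).Normal := by
    constructor
    intro n hn g
    rw [Subgroup.mem_subgroupOf] at hn ⊢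
    exact Q.conj_mem_C g.2 hn
  have hP : IsPGroup 2 ((N : Subgroup G) ⧸ C.subgroupOf N) := by
    rw [IsPGroup.iff_orderOf]
    intro q
    induction q using QuotientGroup.induction_on with
    | H x =>
    obtain ⟨a, b, hab, -, ⟨k, hk⟩, hb, -, -⟩ := Cfsg.Agent.Lib.PGroups.exists_pPart 2 x
    have hbC : b ∈ C.subgroupOf N := by
      rw [Subgroup.mem_subgroupOf]
      apply Q.odd_mem_C b.2
      rwa [Subgroup.orderOf_coe]
    have h1 : ((x : N) : (N : Subgroup G) ⧸ C.subgroupOf N) = (a : (N : Subgroup G) ⧸ C.subgroupOf N) := by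
      rw [hab, QuotientGroup.mk_mul, (QuotientGroup.eq_one_iff b).mpr hbC, mul_one]
    rw [h1]
    have h2 : orderOf (a : (N : Subgroup G) ⧸ C.subgroupOf N) ∣ 2 ^ k := by
      rw [← hk]
      exact orderOf_map_dvd (QuotientGroup.mk' (C.subgroupOf N)) a
    obtain ⟨j, -, hj⟩ := (Nat.dvd_prime_pow Nat.prime_two).mp h2
    exact ⟨j, hj⟩
  have hSN : S ≤ N := Q.S_le_N
  let T := (S.subgroupOf N).map (QuotientGroup.mk' (C.subgroupOf N))
  have hT1 : T.index ∣ S.relIndex N :=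
    Subgroup.index_map_dvd _ (QuotientGroup.mk'_surjective _)
  have hT2 : S.relIndex N ∣ S.index := by
    rw [← Subgroup.relIndex_mul_index hSN]
    exact dvd_mul_right _ _
  have hTo : ¬ 2 ∣ T.index := fun h => hSi (h.trans (hT1.trans hT2))
  have hTc : T.index ∣ Nat.card ((N : Subgroup G) ⧸ C.subgroupOf N) := Subgroup.index_dvd_card T
  obtain ⟨j, hj⟩ := IsPGroup.iff_card.mp hP
  rw [hj] at hTc
  obtain ⟨i, -, hi⟩ := (Nat.dvd_prime_pow Nat.prime_two).mp hTc
  have hT1' : T.index = 1 := by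
    cases i with
    | zero => simpa using hi
    | succ i =>
      exfalso
      apply hTo
      rw [hi, pow_succ]
      exact dvd_mul_left _ _
  have hTtop : T = ⊤ := Subgroup.index_eq_one.mp hT1'
  have hgT : ((⟨g, hg⟩ : N) : (N : Subgroup G) ⧸ C.subgroupOf N) ∈ T := by
    rw [hTtop]
    trivial
  obtain ⟨s, hs, hse⟩ := hgT
  refine ⟨s, Subgroup.mem_subgroupOf.mp hs, ?_⟩
  have h3 : (s : (N : Subgroup G) ⧸ C.subgroupOf N) = ((⟨g, hg⟩ : N) : (N : Subgroup G) ⧸ C.subgroupOf N) := hse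
  have h4 := QuotientGroup.eq.mp h3
  rw [Subgroup.mem_subgroupOf] at h4
  exact h4

/-- The index of `C` in `N` is two. -/
theorem index_C_N (hS2 : IsPGroup 2 S) (hSi : ¬ 2 ∣ S.index) :
    ((centralizer ((zpowers (A ^ 2) : Subgroup G) : Set G)).subgroupOf
      (normalizer ((zpowers (A ^ 2) : Subgroup G) : Set G))).index = 2 := by
  classical
  set N := normalizer ((zpowers (A ^ 2) : Subgroup G) : Set G) with hN
  set C := centralizer ((zpowers (A ^ 2) : Subgroup G) : Set G) with hC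
  have hXN : X ∈ N := Q.S_le_N Q.hX
  rw [Subgroup.index_eq_two_iff]
  refine ⟨⟨X, hXN⟩, ?_⟩
  rintro ⟨b, hb⟩
  simp only [Subgroup.mem_subgroupOf, Subgroup.coe_mul]
  obtain ⟨s, hs, hsC⟩ := Q.exists_mem_S_of_mem_N hS2 hSi hb
  have hX2 : X * X ∈ C := by
    rw [Q.sqX]
    exact pow_mem Q.A_mem_C m
  rcases Q.cover s hs with ⟨i, rfl⟩ | ⟨i, rfl⟩
  · have hAi : A ^ i ∈ C := zpow_mem Q.A_mem_C i
    have hbC : b ∈ C := by
      have := mul_mem hAi hsC
      simpa using this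
    refine Or.inr ⟨hbC, ?_⟩
    intro h
    apply Q.X_not_mem_C
    have := mul_mem (inv_mem hbC) h
    simpa using this
  · have hAi : A ^ i ∈ C := zpow_mem Q.A_mem_C i
    refine Or.inl ⟨?_, ?_⟩
    · have h1 : b * X = (A ^ i) * (X * ((A ^ i * X)⁻¹ * b) * X⁻¹) * (X * X) := by group
      rw [h1]
      exact mul_mem (mul_mem hAi (Q.conj_mem_C hXN hsC)) hX2
    · intro hbC
      apply Q.X_not_mem_C
      have h1 : X = (A ^ i)⁻¹ * b * ((A ^ i * X)⁻¹ * b)⁻¹ := by group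
      rw [h1]
      exact mul_mem (mul_mem (inv_mem hAi) hbC) (inv_mem hsC)

/-- `⟨A⟩` has index two in `S`. -/
theorem index_zpowers_S : (zpowers A).relIndex S = 2 := by
  classical
  rw [Subgroup.relIndex, Subgroup.index_eq_two_iff]
  refine ⟨⟨X, Q.hX⟩, ?_⟩
  rintro ⟨b, hb⟩
  simp only [Subgroup.mem_subgroupOf, Subgroup.coe_mul]
  have hXn : X ∉ zpowers A := by
    intro h
    exact Q.X_not_mem_C (Q.zpowers_A_le_C h)
  rcases Q.cover b hb with ⟨i, rfl⟩ | ⟨i, rfl⟩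
  · refine Or.inr ⟨zpow_mem_zpowers A i, ?_⟩
    intro h
    apply hXn
    have := mul_mem (inv_mem (zpow_mem_zpowers A i)) h
    simpa using this
  · refine Or.inl ⟨?_, ?_⟩
    · rw [mul_assoc, Q.sqX]
      exact mul_mem (zpow_mem_zpowers A i) (pow_mem (mem_zpowers A) m)
    · intro h
      apply hXn
      have := mul_mem (inv_mem (zpow_mem_zpowers A i)) h
      simpa using this

theorem zpowers_A_le_S : zpowers A ≤ S := by
  rw [zpowers_le]
  exact Q.hA

theorem not_two_dvd_index_C (hS2 : IsPGroup 2 S) (hSi : ¬ 2 ∣ S.index) :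
    ¬ 2 ∣ ((zpowers A).subgroupOf (centralizer ((zpowers (A ^ 2) : Subgroup G) : Set G))).index := by
  classical
  have h1 := Subgroup.relIndex_mul_index (Q.zpowers_A_le_C)
  have h2 := Subgroup.relIndex_mul_index (Q.C_le_N)
  have h3 := Subgroup.relIndex_mul_index (Q.zpowers_A_le_S)
  have h4 := Subgroup.relIndex_mul_index (Q.S_le_N)
  have h5 := Q.index_C_N hS2 hSi
  have h6 := Q.index_zpowers_S
  rw [Subgroup.relIndex] at h2
  rw [h5] at h2
  rw [h6] at h3
  rw [← h1, ← h2, ← h4] at h3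
  have hNpos : 0 < (normalizer ((zpowers (A ^ 2) : Subgroup G) : Set G)).index :=
    Nat.pos_of_ne_zero Subgroup.index_ne_zero_of_finite
  have h7 : (zpowers A).relIndex (centralizer ((zpowers (A ^ 2) : Subgroup G) : Set G)) =
      S.relIndex (normalizer ((zpowers (A ^ 2) : Subgroup G) : Set G)) := by
    have h8 : 2 * (normalizer ((zpowers (A ^ 2) : Subgroup G) : Set G)).index ≠ 0 := by positivity
    apply Nat.eq_of_mul_eq_mul_right (Nat.pos_of_ne_zero h8)
    linarith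
  intro hd
  apply hSi
  rw [← h4]
  apply Dvd.dvd.mul_right
  rw [← h7]
  exact hd

/-- The cyclic Sylow `2`-subgroup of `C`. -/
theorem isPGroup_zpowers_C (hS2 : IsPGroup 2 S) :
    IsPGroup 2 ((zpowers A).subgroupOf (centralizer ((zpowers (A ^ 2) : Subgroup G) : Set G))) :=
  (hS2.to_le Q.zpowers_A_le_S).comap_subtype

/-- Structure of `C`: the `2`-transfer. -/
theorem exists_transfer (hS2 : IsPGroup 2 S) (hSi : ¬ 2 ∣ S.index) :
    ∃ (P : Sylow 2 (centralizer ((zpowers (A ^ 2) : Subgroup G) : Set G)))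
      (hN : normalizer (((P : Subgroup (centralizer ((zpowers (A ^ 2) : Subgroup G) : Set G)))) : Set (centralizer ((zpowers (A ^ 2) : Subgroup G) : Set G))) ≤ centralizer (((P : Subgroup (centralizer ((zpowers (A ^ 2) : Subgroup G) : Set G)))) : Set (centralizer ((zpowers (A ^ 2) : Subgroup G) : Set G)))),
      (P : Subgroup (centralizer ((zpowers (A ^ 2) : Subgroup G) : Set G))) = (zpowers A).subgroupOf (centralizer ((zpowers (A ^ 2) : Subgroup G) : Set G)) ∧
        (MonoidHom.transferSylow P hN).ker.IsComplement' (P : Subgroup (centralizer ((zpowers (A ^ 2) : Subgroup G) : Set G))) := by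
  classical
  haveI : Fact (Nat.Prime 2) := ⟨Nat.prime_two⟩
  set C := centralizer ((zpowers (A ^ 2) : Subgroup G) : Set G) with hC
  let P : Sylow 2 C := (Q.isPGroup_zpowers_C hS2).toSylow (Q.not_two_dvd_index_C hS2 hSi)
  have hP : (P : Subgroup C) = (zpowers A).subgroupOf C := IsPGroup.toSylow_coe _ _
  have hcyc : IsCyclic (P : Subgroup C) := by
    rw [hP]
    have e := Subgroup.subgroupOfEquivOfLe (Q.zpowers_A_le_C)
    exact isCyclic_of_surjective e.symm.toMonoidHom e.symm.surjective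
  have hzmem : A ^ m ∈ C := pow_mem Q.A_mem_C m
  have hz : A ^ m ∈ zpowers (A ^ 2) := by
    obtain ⟨n, hn⟩ := Q.hm
    obtain ⟨k, hk⟩ : 2 ∣ m := by rw [hn, pow_succ]; exact dvd_mul_left _ _
    refine mem_zpowers_iff.mpr ⟨k, ?_⟩
    rw [hk, pow_mul, zpow_natCast]
  have hN : normalizer (((P : Subgroup C)) : Set C) ≤ centralizer (((P : Subgroup C)) : Set C) := by
    refine Cfsg.Agent.Lib.PGroups.normalizer_le_centralizer_of_cyclic P hcyc (z := ⟨A ^ m, hzmem⟩) ?_ ?_ ?_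
    · rw [hP, Subgroup.mem_subgroupOf]
      exact pow_mem (mem_zpowers A) m
    · intro h
      exact Q.A_pow_m_ne (congrArg Subtype.val h)
    · rintro ⟨x, hx⟩
      apply Subtype.ext
      exact (Subgroup.mem_centralizer_iff.mp hx _ hz)
  exact ⟨P, hN, hP, MonoidHom.ker_transferSylow_isComplement' P hN⟩

/-- The odd elements of `C` and the normal complement. -/
theorem exists_K (hS2 : IsPGroup 2 S) (hSi : ¬ 2 ∣ S.index) :
    ∃ K : Subgroup G, (∀ y : G, y ∈ K ↔ y ∈ centralizer ((zpowers (A ^ 2) : Subgroup G) : Set G) ∧ ¬ 2 ∣ orderOf y) ∧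
      ¬ 2 ∣ Nat.card K ∧
      (∀ y ∈ centralizer ((zpowers (A ^ 2) : Subgroup G) : Set G), ∃ k ∈ K, ∃ i : ℤ, y = k * A ^ i) := by
  classical
  haveI : Fact (Nat.Prime 2) := ⟨Nat.prime_two⟩
  set C := centralizer ((zpowers (A ^ 2) : Subgroup G) : Set G) with hC
  obtain ⟨P, hN, hP, hc⟩ := Q.exists_transfer hS2 hSi
  let K' := (MonoidHom.transferSylow P hN).ker
  have hK'n : K'.Normal := MonoidHom.normal_ker _
  refine ⟨K'.map C.subtype, ?_, ?_, ?_⟩
  · intro y
    constructor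
    · rintro ⟨k, hk, rfl⟩
      refine ⟨k.2, ?_⟩
      have h1 := (Cfsg.Agent.Lib.Transfer.mem_iff_coprime_of_isComplement' P hc k).mp hk
      have h2 : orderOf ((C.subtype k : G)) = orderOf k := by
        simp [Subgroup.orderOf_coe]
      rw [h2]
      exact (Nat.Prime.coprime_iff_not_dvd Nat.prime_two).mp h1.symm
    · rintro ⟨hy, h2⟩
      refine ⟨⟨y, hy⟩, ?_, rfl⟩
      apply (Cfsg.Agent.Lib.Transfer.mem_iff_coprime_of_isComplement' P hc _).mpr
      have h3 : orderOf (⟨y, hy⟩ : C) = orderOf y := Subgroup.orderOf_mk _ _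
      rw [h3]
      exact ((Nat.Prime.coprime_iff_not_dvd Nat.prime_two).mpr h2).symm
  · have h1 : Nat.card (K'.map C.subtype) = Nat.card K' :=
      Nat.card_congr (Subgroup.equivMapOfInjective K' _ C.subtype_injective).toEquiv.symm
    rw [h1]
    have h2 := Cfsg.Agent.Lib.Transfer.card_coprime_of_isComplement' P hc
    exact (Nat.Prime.coprime_iff_not_dvd Nat.prime_two).mp h2.symm
  · intro y hy
    obtain ⟨⟨k, p⟩, hkp⟩ := hc.2 ⟨y, hy⟩
    have hp : ((p : _) : C) ∈ (zpowers A).subgroupOf C := hP ▸ p.2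
    rw [Subgroup.mem_subgroupOf] at hp
    obtain ⟨i, hi⟩ := mem_zpowers_iff.mp hp
    refine ⟨k, ⟨k, k.2, rfl⟩, i, ?_⟩
    have h1 := congrArg Subtype.val hkp
    simp only [Subgroup.coe_mul] at h1
    rw [← h1, hi]

/-- The statement of `S0842`, in terms of the data. -/
theorem local_structure (hS2 : IsPGroup 2 S) (hSi : ¬ 2 ∣ S.index) :
    ∃ K : Subgroup G, Odd (Nat.card K) ∧ K ≤ centralizer ((zpowers (A ^ 2) : Subgroup G) : Set G) ∧
      normalizer ((zpowers (A ^ 2) : Subgroup G) : Set G) ≤ normalizer (K : Set G) ∧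
      K ⊔ S = normalizer ((zpowers (A ^ 2) : Subgroup G) : Set G) ∧
      K ⊔ (S ⊓ centralizer ((zpowers (A ^ 2) : Subgroup G) : Set G)) = centralizer ((zpowers (A ^ 2) : Subgroup G) : Set G) ∧
      ((centralizer ((zpowers (A ^ 2) : Subgroup G) : Set G)).subgroupOf
        (normalizer ((zpowers (A ^ 2) : Subgroup G) : Set G))).index = 2 := by
  classical
  obtain ⟨K, hK, hodd, hdec⟩ := Q.exists_K hS2 hSi
  have hKC : K ≤ centralizer ((zpowers (A ^ 2) : Subgroup G) : Set G) := fun y hy => ((hK y).mp hy).1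
  have hAC := Q.A_mem_C
  have hASC : ∀ i : ℤ, A ^ i ∈ S ⊓ centralizer ((zpowers (A ^ 2) : Subgroup G) : Set G) :=
    fun i => ⟨zpow_mem Q.hA i, zpow_mem hAC i⟩
  refine ⟨K, Nat.odd_iff.mpr (by omega), hKC, ?_, ?_, ?_, Q.index_C_N hS2 hSi⟩
  · intro g hg
    rw [Subgroup.mem_normalizer_iff]
    intro y
    have horder : ∀ h y : G, orderOf (h * y * h⁻¹) = orderOf y := fun h y => by
      rw [← MulAut.conj_apply, MulEquiv.orderOf_eq]
    constructor
    · intro hy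
      obtain ⟨h1, h2⟩ := (hK y).mp hy
      exact (hK _).mpr ⟨Q.conj_mem_C hg h1, by rwa [horder]⟩
    · intro hy
      obtain ⟨h1, h2⟩ := (hK _).mp hy
      have h3 := Q.conj_mem_C (inv_mem hg) h1
      simp only [inv_inv] at h3
      have h4 : g⁻¹ * (g * y * g⁻¹) * g = y := by group
      rw [h4] at h3
      refine (hK y).mpr ⟨h3, ?_⟩
      rwa [horder] at h2
  · apply le_antisymm
    · exact sup_le (hKC.trans Q.C_le_N) Q.S_le_N
    · intro g hg
      obtain ⟨s, hs, hsC⟩ := Q.exists_mem_S_of_mem_N hS2 hSi hg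
      obtain ⟨k, hk, i, hi⟩ := hdec _ hsC
      have h1 : g = s * k * A ^ i := by
        rw [mul_assoc, ← hi]
        group
      rw [h1]
      exact mul_mem (mul_mem (Subgroup.mem_sup_right hs) (Subgroup.mem_sup_left hk))
        (Subgroup.mem_sup_right (zpow_mem Q.hA i))
  · apply le_antisymm
    · exact sup_le hKC inf_le_right
    · intro y hy
      obtain ⟨k, hk, i, rfl⟩ := hdec _ hy
      exact mul_mem (Subgroup.mem_sup_left hk) (Subgroup.mem_sup_right (hASC i))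

/-- `2`-elements of `C` are conjugate into `⟨A⟩`. -/
theorem exists_conj_zpowers (hS2 : IsPGroup 2 S) (hSi : ¬ 2 ∣ S.index) {a : G}
    (ha : a ∈ centralizer ((zpowers (A ^ 2) : Subgroup G) : Set G)) (hk : ∃ k : ℕ, orderOf a = 2 ^ k) :
    ∃ c ∈ centralizer ((zpowers (A ^ 2) : Subgroup G) : Set G), c * a * c⁻¹ ∈ zpowers A := by
  classical
  haveI : Fact (Nat.Prime 2) := ⟨Nat.prime_two⟩
  set C := centralizer ((zpowers (A ^ 2) : Subgroup G) : Set G) with hC
  obtain ⟨P, hN, hP, hc⟩ := Q.exists_transfer hS2 hSi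
  have h1 : IsPGroup 2 (zpowers (⟨a, ha⟩ : C)) := by
    rw [Cfsg.Agent.Lib.PGroups.isPGroup_zpowers_iff]
    obtain ⟨k, hk⟩ := hk
    refine ⟨k, ?_⟩
    rw [Subgroup.orderOf_mk, hk]
  obtain ⟨Q', hQ'⟩ := h1.exists_le_sylow
  obtain ⟨c, hc'⟩ := MulAction.exists_smul_eq C Q' P
  refine ⟨c, c.2, ?_⟩
  have h2 : (⟨a, ha⟩ : C) ∈ (Q' : Subgroup C) := hQ' (mem_zpowers _)
  have h3 : (MulAut.conj c) • (⟨a, ha⟩ : C) ∈ (P : Subgroup C) := by
    rw [← hc', Sylow.coe_subgroup_smul]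
    exact Subgroup.smul_mem_pointwise_smul _ _ _ h2
  rw [hP, Subgroup.mem_subgroupOf] at h3
  exact h3

/-- First statement of `S0843`. -/
theorem A2_mem_zpowers (hS2 : IsPGroup 2 S) (hSi : ¬ 2 ∣ S.index) {y : G}
    (hy : y ∈ centralizer ((zpowers (A ^ 2) : Subgroup G) : Set G)) (hd : m ∣ orderOf y) :
    A ^ 2 ∈ zpowers y := by
  classical
  haveI : Fact (Nat.Prime 2) := ⟨Nat.prime_two⟩
  obtain ⟨n, hn⟩ := Q.hm
  obtain ⟨a, b, hab, hcomm, ⟨k, hk⟩, hb, ha', hb'⟩ := Cfsg.Agent.Lib.PGroups.exists_pPart 2 y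
  have hyC : zpowers y ≤ centralizer ((zpowers (A ^ 2) : Subgroup G) : Set G) := by
    rw [zpowers_le]
    exact hy
  have hcop : Nat.Coprime (orderOf a) (orderOf b) := by
    rw [hk]
    exact Nat.Coprime.pow_left _ ((Nat.Prime.coprime_iff_not_dvd Nat.prime_two).mpr hb)
  have hord : orderOf y = orderOf a * orderOf b := by
    rw [hab]
    exact hcomm.orderOf_mul_eq_mul_orderOf_of_coprime hcop
  have hda : m ∣ orderOf a := by
    rw [hord] at hd
    refine Nat.Coprime.dvd_of_dvd_mul_right ?_ hd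
    rw [hn]
    exact Nat.Coprime.pow_left _ ((Nat.Prime.coprime_iff_not_dvd Nat.prime_two).mpr hb)
  obtain ⟨c, hcC, hca⟩ := Q.exists_conj_zpowers hS2 hSi (hyC ha') ⟨k, hk⟩
  obtain ⟨j, hj⟩ := mem_zpowers_iff.mp hca
  have hordc : orderOf (A ^ j) = orderOf a := by
    rw [hj, ← MulAut.conj_apply, MulEquiv.orderOf_eq]
  have h1 := Q.A2_mem_of_dvd (j := j) (by rw [hordc]; exact hda)
  obtain ⟨t, ht⟩ := mem_zpowers_iff.mp h1
  have hcomm2 : c * A ^ 2 * c⁻¹ = A ^ 2 := by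
    rw [(Q.mem_C_iff).mp hcC]
    group
  have h2 : A ^ 2 = a ^ t := by
    have h3 : c * a ^ t * c⁻¹ = A ^ 2 := by
      rw [← ht, hj, ← MulAut.conj_apply, map_zpow, MulAut.conj_apply]
    have h4 : c * a ^ t * c⁻¹ = c * A ^ 2 * c⁻¹ := by rw [h3, hcomm2]
    have h5 := mul_left_cancel (mul_right_cancel h4)
    exact h5.symm
  rw [h2]
  exact zpow_mem ha' t

/-- Second statement of `S0843`. -/
theorem mem_N_of_conj_mem_C (hS2 : IsPGroup 2 S) (hSi : ¬ 2 ∣ S.index) {g y : G}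
    (hy : y ∈ centralizer ((zpowers (A ^ 2) : Subgroup G) : Set G)) (hd : m ∣ orderOf y)
    (hg : g * y * g⁻¹ ∈ centralizer ((zpowers (A ^ 2) : Subgroup G) : Set G)) :
    g ∈ normalizer ((zpowers (A ^ 2) : Subgroup G) : Set G) := by
  classical
  have hord : orderOf (g * y * g⁻¹) = orderOf y := by
    rw [← MulAut.conj_apply, MulEquiv.orderOf_eq]
  have h1 := Q.A2_mem_zpowers hS2 hSi hy hd
  have h2 := Q.A2_mem_zpowers hS2 hSi hg (by rw [hord]; exact hd)
  have h3 : g * A ^ 2 * g⁻¹ ∈ zpowers (g * y * g⁻¹) := by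
    obtain ⟨t, ht⟩ := mem_zpowers_iff.mp h1
    refine mem_zpowers_iff.mpr ⟨t, ?_⟩
    rw [← ht]
    have h5 : (MulAut.conj g) (y ^ t) = (MulAut.conj g y) ^ t := map_zpow _ _ _
    simpa only [MulAut.conj_apply] using h5.symm
  apply Q.mem_N_of_conj
  set Z := zpowers (g * y * g⁻¹) with hZ
  have hle1 : zpowers (A ^ 2) ≤ Z := by rwa [zpowers_le]
  have hle2 : zpowers (g * A ^ 2 * g⁻¹) ≤ Z := by rwa [zpowers_le]
  have hcard : Nat.card ((zpowers (A ^ 2)).subgroupOf Z) = Nat.card ((zpowers (g * A ^ 2 * g⁻¹)).subgroupOf Z) := by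
    rw [Nat.card_congr (Subgroup.subgroupOfEquivOfLe hle1).toEquiv,
      Nat.card_congr (Subgroup.subgroupOfEquivOfLe hle2).toEquiv, Nat.card_zpowers, Nat.card_zpowers,
      ← MulAut.conj_apply, MulEquiv.orderOf_eq]
  have he := Cfsg.Agent.Lib.OddLocal.eq_of_card_eq_of_isCyclic hcard
  have h4 : (⟨g * A ^ 2 * g⁻¹, h3⟩ : Z) ∈ (zpowers (g * A ^ 2 * g⁻¹)).subgroupOf Z := by
    rw [Subgroup.mem_subgroupOf]
    exact mem_zpowers _
  rw [← he, Subgroup.mem_subgroupOf] at h4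
  exact h4

/-- The linear character of order four of `C`. -/
theorem exists_lam (hS2 : IsPGroup 2 S) (hSi : ¬ 2 ∣ S.index) :
    ∃ lam : centralizer ((zpowers (A ^ 2) : Subgroup G) : Set G) →* ℂˣ,
      ((lam ⟨A, Q.A_mem_C⟩ : ℂˣ) : ℂ) ^ 2 = -1 ∧
      (∀ y, lam y ≠ 1 → m ∣ orderOf (y : G)) ∧
      (∀ y, (lam y) ^ 4 = 1) := by
  classical
  haveI : Fact (Nat.Prime 2) := ⟨Nat.prime_two⟩
  set C := centralizer ((zpowers (A ^ 2) : Subgroup G) : Set G) with hC
  obtain ⟨P, hN, hP, hc⟩ := Q.exists_transfer hS2 hSi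
  have hAP : (⟨A, Q.A_mem_C⟩ : C) ∈ (P : Subgroup C) := by
    rw [hP, Subgroup.mem_subgroupOf]
    exact mem_zpowers A
  let gen : (P : Subgroup C) := ⟨⟨A, Q.A_mem_C⟩, hAP⟩
  have hgen : ∀ x : (P : Subgroup C), x ∈ zpowers gen := by
    intro x
    have h1 : ((x : C) : G) ∈ zpowers A := by
      have h2 : (x : C) ∈ (zpowers A).subgroupOf C := hP ▸ x.2
      exact Subgroup.mem_subgroupOf.mp h2
    obtain ⟨i, hi⟩ := mem_zpowers_iff.mp h1
    refine mem_zpowers_iff.mpr ⟨i, ?_⟩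
    apply Subtype.ext
    apply Subtype.ext
    exact hi
  have hgenA : ∀ i : ℤ, (((gen ^ i : (P : Subgroup C)) : C) : G) = A ^ i := fun i => rfl
  let I' : ℂˣ := Units.mk0 Complex.I Complex.I_ne_zero
  have hI4 : I' ^ 4 = 1 := by
    apply Units.ext
    simp [I']
  have hord : orderOf I' ∣ orderOf gen := by
    have h1 : orderOf gen = 2 * m := by
      rw [← Q.ordA, Subgroup.orderOf_mk, Subgroup.orderOf_mk]
    rw [h1]
    exact (orderOf_dvd_of_pow_eq_one hI4).trans (Q.four_dvd_m.trans (dvd_mul_left _ _))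
  let ρ : (P : Subgroup C) →* ℂˣ := monoidHomOfForallMemZpowers hgen hord
  have hρ : ρ gen = I' := monoidHomOfForallMemZpowers_apply_gen hgen hord
  let τ := MonoidHom.transferSylow P hN
  have hρ4 : ∀ x, (ρ x) ^ 4 = 1 := by
    intro x
    obtain ⟨j, rfl⟩ := mem_zpowers_iff.mp (hgen x)
    rw [map_zpow, hρ, ← zpow_natCast, ← zpow_mul, mul_comm, zpow_mul, zpow_natCast, hI4, one_zpow]
  refine ⟨ρ.comp τ, ?_, ?_, ?_⟩
  · have h1 : τ ⟨A, Q.A_mem_C⟩ = gen ^ ((P : Subgroup C).index) := by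
      have := MonoidHom.transferSylow_eq_pow P hN ⟨A, Q.A_mem_C⟩ hAP
      rw [show τ = MonoidHom.transferSylow P hN from rfl, this]
      rfl
    have h2 : Odd ((P : Subgroup C).index) := by
      have := P.not_dvd_index
      exact Nat.odd_iff.mpr (by omega)
    simp only [MonoidHom.comp_apply]
    rw [h1, map_pow, hρ]
    simp only [Units.val_pow_eq_pow_val, I', Units.val_mk0]
    rw [← pow_mul, mul_comm, pow_mul, Complex.I_sq, h2.neg_one_pow]
  · intro y hy
    obtain ⟨j, hj⟩ := mem_zpowers_iff.mp (hgen (τ y))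
    have h4 : ¬ (4 : ℤ) ∣ j := by
      rintro ⟨k, rfl⟩
      apply hy
      simp only [MonoidHom.comp_apply]
      rw [← hj, map_zpow, hρ, zpow_mul, ]
      have : I' ^ (4 : ℤ) = 1 := by
        rw [zpow_ofNat]
        exact hI4
      rw [this, one_zpow]
    have h5 := Q.A2_mem_of_not_four_dvd h4
    have h6 : m ∣ orderOf (A ^ j) := by
      have := orderOf_dvd_of_mem_zpowers h5
      rwa [Q.ordA2] at this
    have h7 : orderOf (A ^ j) = orderOf (τ y) := by
      rw [← hj, ← hgenA j, Subgroup.orderOf_coe, Subgroup.orderOf_coe]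
    rw [h7] at h6
    have h8 : orderOf (τ y) ∣ orderOf y := orderOf_map_dvd τ y
    rw [Subgroup.orderOf_coe]
    exact h6.trans h8
  · intro y
    exact hρ4 _

/-- Odd elements of `C` are in the kernel of `lam`. -/
theorem lam_odd {lam : centralizer ((zpowers (A ^ 2) : Subgroup G) : Set G) →* ℂˣ} (h4 : ∀ y, (lam y) ^ 4 = 1)
    (y : centralizer ((zpowers (A ^ 2) : Subgroup G) : Set G)) (hy : ¬ 2 ∣ orderOf (y : G)) : lam y = 1 := by
  have h1 : orderOf (lam y) ∣ 4 := orderOf_dvd_of_pow_eq_one (h4 y)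
  have h2 : orderOf (lam y) ∣ orderOf y := orderOf_map_dvd lam y
  have h3 : orderOf y = orderOf (y : G) := (Subgroup.orderOf_coe y).symm
  rw [h3] at h2
  have h5 : Nat.Coprime 4 (orderOf (y : G)) := by
    have : Nat.Coprime 2 (orderOf (y : G)) := (Nat.Prime.coprime_iff_not_dvd Nat.prime_two).mpr hy
    exact Nat.Coprime.pow_left 2 this
  have h6 : orderOf (lam y) = 1 := Nat.eq_one_of_dvd_coprimes h5 h1 h2
  exact orderOf_eq_one_iff.mp h6

/-- Conjugation by `X` inverts `lam`. -/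
theorem lam_conj_X (hS2 : IsPGroup 2 S) (hSi : ¬ 2 ∣ S.index)
    {lam : centralizer ((zpowers (A ^ 2) : Subgroup G) : Set G) →* ℂˣ} (h4 : ∀ y, (lam y) ^ 4 = 1)
    (y : centralizer ((zpowers (A ^ 2) : Subgroup G) : Set G)) :
    lam ⟨X * y * X⁻¹, Q.conj_mem_C (Q.S_le_N Q.hX) y.2⟩ = (lam y)⁻¹ := by
  classical
  obtain ⟨K, hK, -, hdec⟩ := Q.exists_K hS2 hSi
  have hXN := Q.S_le_N Q.hX
  obtain ⟨k, hk, i, hi⟩ := hdec y y.2
  obtain ⟨hk1, hk2⟩ := (hK k).mp hk
  have hAi : A ^ i ∈ 𝐂 := zpow_mem Q.A_mem_C i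
  have hy : y = (⟨k, hk1⟩ : 𝐂) * (⟨A ^ i, hAi⟩ : 𝐂) := Subtype.ext hi
  have hk3 : lam ⟨k, hk1⟩ = 1 := Q.lam_odd h4 _ hk2
  have hk4 : X * k * X⁻¹ ∈ 𝐂 := Q.conj_mem_C hXN hk1
  have hk5 : lam ⟨X * k * X⁻¹, hk4⟩ = 1 := by
    apply Q.lam_odd h4
    show ¬ 2 ∣ orderOf (X * k * X⁻¹)
    rwa [← MulAut.conj_apply, MulEquiv.orderOf_eq]
  have hAi' : A ^ (-i) ∈ 𝐂 := zpow_mem Q.A_mem_C (-i)
  have h6 : (⟨X * y * X⁻¹, Q.conj_mem_C hXN y.2⟩ : 𝐂) = (⟨X * k * X⁻¹, hk4⟩ : 𝐂) * (⟨A ^ (-i), hAi'⟩ : 𝐂) := by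
    apply Subtype.ext
    show X * (y : G) * X⁻¹ = X * k * X⁻¹ * A ^ (-i)
    rw [hi, ← Q.conj_zpow i]
    group
  have h7 : (⟨A ^ (-i), hAi'⟩ : 𝐂) = (⟨A ^ i, hAi⟩ : 𝐂)⁻¹ := by
    apply Subtype.ext
    simp
  rw [h6, map_mul, hk5, one_mul, hy, map_mul, hk3, one_mul, h7, map_inv]

/-- Conjugation by `N \ 𝐂` inverts `lam`. -/
theorem lam_conj_N (hS2 : IsPGroup 2 S) (hSi : ¬ 2 ∣ S.index)
    {lam : centralizer ((zpowers (A ^ 2) : Subgroup G) : Set G) →* ℂˣ} (h4 : ∀ y, (lam y) ^ 4 = 1)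
    {g : G} (hg : g ∈ normalizer ((zpowers (A ^ 2) : Subgroup G) : Set G))
    (hgC : g ∉ centralizer ((zpowers (A ^ 2) : Subgroup G) : Set G))
    (y : centralizer ((zpowers (A ^ 2) : Subgroup G) : Set G)) :
    lam ⟨g * y * g⁻¹, Q.conj_mem_C hg y.2⟩ = (lam y)⁻¹ := by
  classical
  have hXN := Q.S_le_N Q.hX
  obtain ⟨s, hs, hsC⟩ := Q.exists_mem_S_of_mem_N hS2 hSi hg
  rcases Q.cover s hs with ⟨i, rfl⟩ | ⟨i, rfl⟩
  · exfalso
    apply hgC
    have := mul_mem (zpow_mem Q.A_mem_C i) hsC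
    simpa using this
  · set c : 𝐂 := ⟨_, hsC⟩ with hc
    have hAi : A ^ i ∈ 𝐂 := zpow_mem Q.A_mem_C i
    let a' : 𝐂 := ⟨A ^ i, hAi⟩
    have h1 : g * y * g⁻¹ = a' * (X * ((c * y * c⁻¹ : 𝐂) : G) * X⁻¹) * (a' : G)⁻¹ := by
      simp only [Subgroup.coe_mul, Subgroup.coe_inv, a', hc]
      group
    have h2 : (⟨g * y * g⁻¹, Q.conj_mem_C hg y.2⟩ : 𝐂) =
        a' * (⟨X * ((c * y * c⁻¹ : 𝐂) : G) * X⁻¹, Q.conj_mem_C hXN (c * y * c⁻¹ : 𝐂).2⟩ : 𝐂) * a'⁻¹ :=
      Subtype.ext h1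
    rw [h2, map_mul, map_mul, map_inv, Q.lam_conj_X hS2 hSi h4, map_mul, map_mul, map_inv]
    rw [mul_comm (lam c) (lam y), mul_inv_cancel_right, mul_comm (lam a'), mul_inv_cancel_right]

end QData

end Local

end Cfsg.Agent.Lib.Char.BrSuz
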