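import Cfsg.Agent.Lib.Char.BrSuz
import Cfsg.Agent.Lib.Char.Exceptional
import Cfsg.Agent.Lib.Char.Kernel
import Cfsg.Agent.Lib.Char.ClassSum
import Cfsg.Agent.Lib.Char.Linear

/-! # Generalized quaternion Sylow 2-subgroups of order at least 16: the characters. -/

set_option autoImplicit false
set_option linter.unusedSectionVars false
set_option linter.style.haveILetI false

namespace Cfsg.Agent.Lib.Char.BrSuz

open Cfsg Subgroup Cfsg.Agent.Lib.Char
open scoped ComplexConjugate

universe u

section General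

variable {G : Type u} [Group G] [Fintype G]

/-- A generalized character of norm two. -/
theorem exists_irr_of_norm_two {θ : G → ℂ} (hθ : IsGeneralizedCharacter G θ)
    (h2 : classInner θ θ = 2) :
    ∃ a b : IrrCharacter G, a ≠ b ∧ ∃ ε ε' : ℤ, (ε = 1 ∨ ε = -1) ∧ (ε' = 1 ∨ ε' = -1) ∧
      θ = (ε : ℂ) • (a : G → ℂ) + (ε' : ℂ) • (b : G → ℂ) := by
  classical
  obtain ⟨c, hc, hs⟩ := IsGeneralizedCharacter.exists_int_coeffs hθ
  have hθcl : IsClassFunction G θ := by
    obtain ⟨χ, φ, hχ, hφ, rfl⟩ := hθ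
    exact IsClassFunction.sub (IsCharacter.isClassFunction hχ) (IsCharacter.isClassFunction hφ)
  have hsum : ∑ ψ : IrrCharacter G, c ψ ^ 2 = 2 := by
    have h3 := classInner_eq_sum_coeffs θ θ hθcl hθcl
    rw [h2] at h3
    simp only [hc, map_intCast] at h3
    have h4 : ((∑ ψ : IrrCharacter G, c ψ ^ 2 : ℤ) : ℂ) = ((2 : ℤ) : ℂ) := by
      push_cast
      rw [h3]
      refine Finset.sum_congr rfl fun ψ _ => ?_
      ring
    exact_mod_cast h4
  have hne : ∃ a, c a ≠ 0 := by
    by_contra hcon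
    push Not at hcon
    simp [hcon] at hsum
  obtain ⟨a, ha⟩ := hne
  have hposa : 1 ≤ c a ^ 2 := by
    have := sq_pos_of_ne_zero ha
    omega
  have hsplit := Finset.add_sum_erase Finset.univ (fun ψ : IrrCharacter G => c ψ ^ 2) (Finset.mem_univ a)
  rw [hsum] at hsplit
  have hrestnn : 0 ≤ ∑ ψ ∈ Finset.univ.erase a, c ψ ^ 2 := Finset.sum_nonneg fun ψ _ => sq_nonneg _
  have hne2 : ∃ b, b ≠ a ∧ c b ≠ 0 := by
    by_contra hcon
    push Not at hcon
    have h0 : ∑ ψ ∈ Finset.univ.erase a, c ψ ^ 2 = 0 :=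
      Finset.sum_eq_zero fun ψ hψ => by rw [hcon ψ (Finset.ne_of_mem_erase hψ)]; simp
    rw [h0, add_zero] at hsplit
    have h5 : c a ^ 2 = 2 := hsplit
    have h6 : |c a| < 2 := by
      apply abs_lt_of_sq_lt_sq <;> omega
    have h7 : c a = 1 ∨ c a = -1 ∨ c a = 0 := by
      have := abs_lt.mp h6
      omega
    rcases h7 with h | h | h <;> rw [h] at h5 <;> norm_num at h5
  obtain ⟨b, hba, hb⟩ := hne2
  have hposb : 1 ≤ c b ^ 2 := by
    have := sq_pos_of_ne_zero hb
    omega
  have hsplit2 := Finset.add_sum_erase (Finset.univ.erase a) (fun ψ : IrrCharacter G => c ψ ^ 2)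
    (Finset.mem_erase.mpr ⟨hba, Finset.mem_univ b⟩)
  have hrest2nn : 0 ≤ ∑ ψ ∈ (Finset.univ.erase a).erase b, c ψ ^ 2 :=
    Finset.sum_nonneg fun ψ _ => sq_nonneg _
  have hrest2 : ∑ ψ ∈ (Finset.univ.erase a).erase b, c ψ ^ 2 = 0 := by omega
  have hothers : ∀ ψ ∈ (Finset.univ.erase a).erase b, c ψ = 0 := by
    have := (Finset.sum_eq_zero_iff_of_nonneg (fun ψ _ => sq_nonneg (c ψ))).mp hrest2
    intro ψ hψ
    exact pow_eq_zero_iff (two_ne_zero) |>.mp (this ψ hψ)
  have hca : c a ^ 2 = 1 := by omega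
  have hcb : c b ^ 2 = 1 := by omega
  have hsq1 : ∀ x : ℤ, x ^ 2 = 1 → x = 1 ∨ x = -1 := by
    intro x hx
    have h1 : (x - 1) * (x + 1) = 0 := by nlinarith
    rcases mul_eq_zero.mp h1 with h | h
    · left; omega
    · right; omega
  refine ⟨a, b, hba.symm, c a, c b, hsq1 _ hca, hsq1 _ hcb, ?_⟩
  rw [hs, ← Finset.add_sum_erase Finset.univ _ (Finset.mem_univ a),
    ← Finset.add_sum_erase (Finset.univ.erase a) _ (Finset.mem_erase.mpr ⟨hba, Finset.mem_univ b⟩),
    Finset.sum_eq_zero (s := (Finset.univ.erase a).erase b), add_zero]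
  intro ψ hψ
  rw [hothers ψ hψ]
  simp

/-- A generalized character of norm three, of degree zero, containing the principal character. -/
theorem exists_two_irr_of_norm_three {Θ : G → ℂ} (hΘ : IsGeneralizedCharacter G Θ)
    (h3 : classInner Θ Θ = 3) (h1 : classInner Θ (fun _ => (1 : ℂ)) = 1) (h0 : Θ 1 = 0) :
    ∃ χ₁ χ₂ : G → ℂ, IsIrrCharacter G χ₁ ∧ IsIrrCharacter G χ₂ ∧ χ₁ ≠ (fun _ => 1) ∧ χ₂ ≠ (fun _ => 1) ∧
      χ₁ 1 = χ₂ 1 + 1 ∧ ∀ g, Θ g = 1 + χ₂ g - χ₁ g := by
  classical
  have hone := isIrrCharacter_one (G := G)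
  have hone' := IsIrrCharacter.isCharacter hone
  let θ : G → ℂ := Θ - fun _ => (1 : ℂ)
  have hθ : IsGeneralizedCharacter G θ := by
    obtain ⟨χ, φ, hχ, hφ, rfl⟩ := hΘ
    refine ⟨χ, φ + fun _ => (1 : ℂ), hχ, IsCharacter.add hφ hone', ?_⟩
    funext g
    simp [θ]
    ring
  have h11 : classInner (fun _ : G => (1 : ℂ)) (fun _ : G => (1 : ℂ)) = 1 := classInner_irr_self hone
  have h1' : classInner (fun _ : G => (1 : ℂ)) Θ = 1 := by
    rw [classInner_conj_symm, h1]
    simp
  have h2 : classInner θ θ = 2 := by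
    simp only [θ]
    rw [classInner_sub_left, classInner_sub_right, classInner_sub_right, h3, h1, h1', h11]
    norm_num
  have hθ1 : classInner θ (fun _ => (1 : ℂ)) = 0 := by
    simp only [θ]
    rw [classInner_sub_left, h1, h11]
    norm_num
  obtain ⟨a, b, hab, ε, ε', hε, hε', hexp⟩ := exists_irr_of_norm_two hθ h2
  let ψ₀ : IrrCharacter G := ⟨fun _ => 1, hone⟩
  have hinner : ∀ x y : IrrCharacter G, classInner (x : G → ℂ) (y : G → ℂ) = if x = y then 1 else 0 := by
    intro x y
    rw [classInner_irr x.2 y.2]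
    by_cases h : x = y
    · simp [h]
    · have h' : (x : G → ℂ) ≠ y := fun hh => h (Subtype.ext hh)
      simp [h, h']
  have hθ1' : (ε : ℂ) * (if a = ψ₀ then 1 else 0) + (ε' : ℂ) * (if b = ψ₀ then 1 else 0) = 0 := by
    have h5 := hθ1
    rw [hexp] at h5
    rw [classInner_add_left, classInner_smul_left, classInner_smul_left] at h5
    have h6 := hinner a ψ₀
    have h7 := hinner b ψ₀
    change classInner (a : G → ℂ) (fun _ => (1 : ℂ)) = _ at h6
    change classInner (b : G → ℂ) (fun _ => (1 : ℂ)) = _ at h7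
    rwa [h6, h7] at h5
  have hεne : (ε : ℂ) ≠ 0 := by
    rcases hε with h | h <;> rw [h] <;> norm_num
  have hεne' : (ε' : ℂ) ≠ 0 := by
    rcases hε' with h | h <;> rw [h] <;> norm_num
  have haψ : a ≠ ψ₀ := by
    rintro rfl
    rw [if_pos rfl, if_neg hab.symm] at hθ1'
    simp [hεne] at hθ1'
  have hbψ : b ≠ ψ₀ := by
    rintro rfl
    rw [if_neg hab, if_pos rfl] at hθ1'
    simp [hεne'] at hθ1'
  have hane : (a : G → ℂ) ≠ fun _ => 1 := fun h => haψ (Subtype.ext h)
  have hbne : (b : G → ℂ) ≠ fun _ => 1 := fun h => hbψ (Subtype.ext h)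
  obtain ⟨na, hna, hna'⟩ := IsIrrCharacter.apply_one a.2
  obtain ⟨nb, hnb, hnb'⟩ := IsIrrCharacter.apply_one b.2
  have hdeg : (ε : ℂ) * na + (ε' : ℂ) * nb = -1 := by
    have h5 := congrFun hexp 1
    simp only [θ, Pi.sub_apply, h0, Pi.add_apply, Pi.smul_apply, smul_eq_mul, hna', hnb'] at h5
    rw [← h5]
    ring
  have hval : ∀ g, Θ g = 1 + (ε : ℂ) * (a : G → ℂ) g + (ε' : ℂ) * (b : G → ℂ) g := by
    intro g
    have h5 := congrFun hexp g
    simp only [θ, Pi.sub_apply, Pi.add_apply, Pi.smul_apply, smul_eq_mul] at h5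
    linear_combination h5
  rcases hε with rfl | rfl <;> rcases hε' with rfl | rfl
  · exfalso
    have h5 : ((na + nb + 1 : ℕ) : ℂ) = 0 := by
      push_cast at hdeg ⊢
      linear_combination hdeg
    have : na + nb + 1 = 0 := by exact_mod_cast h5
    omega
  · refine ⟨b, a, b.2, a.2, hbne, hane, ?_, ?_⟩
    · rw [hna', hnb']
      push_cast at hdeg
      linear_combination -hdeg
    · intro g
      rw [hval]
      push_cast
      ring
  · refine ⟨a, b, a.2, b.2, hane, hbne, ?_, ?_⟩
    · rw [hna', hnb']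
      push_cast at hdeg
      linear_combination -hdeg
    · intro g
      rw [hval]
      push_cast
      ring
  · exfalso
    have h5 : ((na + nb : ℕ) : ℂ) = 1 := by
      push_cast at hdeg ⊢
      linear_combination -hdeg
    have h6 : na + nb = 1 := by exact_mod_cast h5
    omega

/-- The class function `1 - lam` on a subgroup. -/
def thetaL {C : Subgroup G} (lam : C →* ℂˣ) : C → ℂ := fun y => 1 - (lam y : ℂ)

section Ind

variable {C N : Subgroup G} (hCN : C ≤ N) (hidx : (C.subgroupOf N).index = 2) (lam : C →* ℂˣ)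
  (hTI : ∀ (y : C) (g : G), lam y ≠ 1 → g * y * g⁻¹ ∈ C → g ∈ N)
  (hconj : ∀ (g : G) (_ : g ∈ N) (_ : g ∉ C) (y : C) (h : g * y * g⁻¹ ∈ C), lam ⟨_, h⟩ = (lam y)⁻¹)

include hTI hconj hCN hidx in
/-- The value of the induced function on `C`. -/
theorem ind_thetaL_apply (y : C) :
    indFun C (thetaL lam) y = (1 - (lam y : ℂ)) + (1 - ((lam y)⁻¹ : ℂˣ)) := by
  classical
  letI : Fintype C := Fintype.ofFinite C
  rw [indFun_apply]
  set a : ℂ := 1 - (lam y : ℂ) with ha
  set b : ℂ := 1 - ((lam y)⁻¹ : ℂˣ) with hb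
  have h1 : ∀ x : G, extendByZero C (thetaL lam) (x⁻¹ * y * x) =
      (if x ∈ C then a else 0) + (if x ∈ N ∧ x ∉ C then b else 0) := by
    intro x
    by_cases hx : x ∈ C
    · have hmem : x⁻¹ * y * x ∈ C := C.mul_mem (C.mul_mem (C.inv_mem hx) y.2) hx
      rw [extendByZero_of_mem _ _ hmem, if_pos hx, if_neg (fun h => h.2 hx), add_zero]
      have h2 : (⟨x⁻¹ * y * x, hmem⟩ : C) = (⟨x, hx⟩ : C)⁻¹ * y * (⟨x, hx⟩ : C) := rfl
      simp only [thetaL, ha]
      rw [h2, map_mul, map_mul, map_inv, mul_comm ((lam ⟨x, hx⟩)⁻¹), inv_mul_cancel_right]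
    · rw [if_neg hx, zero_add]
      by_cases hxN : x ∈ N
      · rw [if_pos ⟨hxN, hx⟩]
        have hx' : x⁻¹ ∉ C := fun h => hx (by simpa using C.inv_mem h)
        by_cases hmem : x⁻¹ * y * x ∈ C
        · rw [extendByZero_of_mem _ _ hmem]
          have h3 : x⁻¹ * y * (x⁻¹)⁻¹ ∈ C := by simpa using hmem
          have h4 := hconj x⁻¹ (N.inv_mem hxN) hx' y h3
          have h5 : (⟨x⁻¹ * y * x, hmem⟩ : C) = ⟨x⁻¹ * y * (x⁻¹)⁻¹, h3⟩ := by
            apply Subtype.ext
            simp
          simp only [thetaL, hb]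
          rw [h5, h4]
        · exfalso
          -- `C` is normal in `N`
          have hCnorm : (C.subgroupOf N).Normal := Subgroup.normal_of_index_eq_two hidx
          apply hmem
          have h6 := hCnorm.conj_mem ⟨y, hCN y.2⟩ (by simp [Subgroup.mem_subgroupOf]) (⟨x, hxN⟩⁻¹ : N)
          rw [Subgroup.mem_subgroupOf] at h6
          simpa using h6
      · rw [if_neg (fun h => hxN h.1)]
        by_cases hmem : x⁻¹ * y * x ∈ C
        · rw [extendByZero_of_mem _ _ hmem]
          simp only [thetaL]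
          have h7 : lam ⟨x⁻¹ * y * x, hmem⟩ = 1 := by
            by_contra hne
            apply hxN
            apply hTI ⟨_, hmem⟩ x hne
            have : x * (x⁻¹ * y * x) * x⁻¹ = y := by group
            show x * (x⁻¹ * y * x) * x⁻¹ ∈ C
            rw [this]
            exact y.2
          rw [h7]
          simp
        · exact extendByZero_of_notMem _ _ hmem
  simp only [h1]
  rw [Finset.sum_add_distrib, Finset.sum_ite, Finset.sum_ite, Finset.sum_const_zero, Finset.sum_const_zero,
    add_zero, add_zero, Finset.sum_const, Finset.sum_const, nsmul_eq_mul, nsmul_eq_mul]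
  have hcC : ((Finset.univ.filter (· ∈ C)).card : ℂ) = (Nat.card C : ℂ) := by
    rw [Nat.card_eq_fintype_card, Fintype.card_subtype]
  have hcN : (Finset.univ.filter (fun x : G => x ∈ N ∧ x ∉ C)).card = Nat.card C := by
    have h2 : Nat.card N = 2 * Nat.card C := by
      have h3 := Subgroup.card_mul_index (C.subgroupOf N)
      rw [hidx, Nat.card_congr (Subgroup.subgroupOfEquivOfLe hCN).toEquiv] at h3
      omega
    have h4 : (Finset.univ.filter (fun x : G => x ∈ N)).card = Nat.card N := by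
      rw [Nat.card_eq_fintype_card, Fintype.card_subtype]
    have h5 : (Finset.univ.filter (fun x : G => x ∈ C)).card = Nat.card C := by
      rw [Nat.card_eq_fintype_card, Fintype.card_subtype]
    have h6 : Finset.univ.filter (fun x : G => x ∈ N) =
        Finset.univ.filter (fun x : G => x ∈ C) ∪ Finset.univ.filter (fun x : G => x ∈ N ∧ x ∉ C) := by
      ext x
      simp only [Finset.mem_filter, Finset.mem_univ, true_and, Finset.mem_union]
      constructor
      · intro h
        by_cases hc : x ∈ C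
        · exact Or.inl hc
        · exact Or.inr ⟨h, hc⟩
      · rintro (h | h)
        · exact hCN h
        · exact h.1
    have h7 : Disjoint (Finset.univ.filter (fun x : G => x ∈ C)) (Finset.univ.filter (fun x : G => x ∈ N ∧ x ∉ C)) := by
      rw [Finset.disjoint_filter]
      intro x _ h1 h2
      exact h2.2 h1
    have h8 := Finset.card_union_of_disjoint h7
    rw [← h6, h4, h5, h2] at h8
    omega
  rw [hcC, hcN]
  have hc0 : (Nat.card C : ℂ) ≠ 0 := by exact_mod_cast Nat.card_pos.ne'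
  field_simp

/-- Vanishing of the induced function. -/
theorem ind_thetaL_zero (g : G) (h : ∀ (x : G) (hx : x⁻¹ * g * x ∈ C), lam ⟨_, hx⟩ = 1) :
    indFun C (thetaL lam) g = 0 := by
  classical
  rw [indFun_apply, Finset.sum_eq_zero, mul_zero]
  intro x _
  by_cases hx : x⁻¹ * g * x ∈ C
  · rw [extendByZero_of_mem _ _ hx]
    simp only [thetaL]
    rw [h x hx]
    simp
  · exact extendByZero_of_notMem _ _ hx

include hTI hconj hCN hidx in
/-- The norm and degree of the induced function. -/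
theorem ind_thetaL_main (y₀ : C) (hy₀ : (lam y₀ : ℂ) ^ 2 ≠ 1) :
    ∃ χ₁ χ₂ : G → ℂ, IsIrrCharacter G χ₁ ∧ IsIrrCharacter G χ₂ ∧ χ₁ ≠ (fun _ => 1) ∧ χ₂ ≠ (fun _ => 1) ∧
      χ₁ 1 = χ₂ 1 + 1 ∧ ∀ g, indFun C (thetaL lam) g = 1 + χ₂ g - χ₁ g := by
  classical
  letI : Fintype C := Fintype.ofFinite C
  let L : C → ℂ := fun y => (lam y : ℂ)
  let L' : C → ℂ := fun y => (((lam⁻¹) y : ℂˣ) : ℂ)
  let U : C → ℂ := fun _ => 1
  have hL : IsIrrCharacter C L := isIrrCharacter_of_monoidHom lam
  have hL' : IsIrrCharacter C L' := isIrrCharacter_of_monoidHom lam⁻¹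
  have hU : IsIrrCharacter C U := isIrrCharacter_one
  have hUL : U ≠ L := by
    intro h
    apply hy₀
    have := congrFun h y₀
    simp only [U, L] at this
    rw [← this]
    simp
  have hLL' : L ≠ L' := by
    intro h
    apply hy₀
    have := congrFun h y₀
    simp only [L, L', MonoidHom.inv_apply] at this
    rw [sq]
    nth_rw 1 [this]
    simp
  have hUL' : U ≠ L' := by
    intro h
    apply hy₀
    have := congrFun h y₀
    simp only [U, L', MonoidHom.inv_apply, Units.val_inv_eq_inv_val] at this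
    have h2 : (lam y₀ : ℂ) ≠ 0 := (lam y₀).ne_zero
    field_simp at this
    rw [this]
    simp
  have hθ : thetaL lam = U - L := rfl
  have hgen : IsGeneralizedCharacter C (thetaL lam) :=
    ⟨U, L, IsIrrCharacter.isCharacter hU, IsIrrCharacter.isCharacter hL, hθ⟩
  have hΘ := isGeneralizedCharacter_indFun C hgen
  have hcl : IsClassFunction G (indFun C (thetaL lam)) := isClassFunction_indFun C _
  have hres : (fun y : C => indFun C (thetaL lam) y) = (U - L) + (U - L') := by
    funext y
    rw [ind_thetaL_apply hCN hidx lam hTI hconj]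
    rfl
  have hUU := classInner_irr_self hU
  have hLL := classInner_irr_self hL
  have h1 := classInner_irr_of_ne hU hL hUL
  have h2 := classInner_irr_of_ne hU hL' hUL'
  have h3 := classInner_irr_of_ne hL hU hUL.symm
  have h4 := classInner_irr_of_ne hL hL' hLL'
  have h3' : classInner (indFun C (thetaL lam)) (indFun C (thetaL lam)) = 3 := by
    rw [classInner_indFun_left C _ _ hcl, hres, hθ]
    rw [classInner_add_right, classInner_sub_left, classInner_sub_left, classInner_sub_right,
      classInner_sub_right, classInner_sub_right, classInner_sub_right, hUU, hLL, h1, h2, h3, h4]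
    norm_num
  have h1' : classInner (indFun C (thetaL lam)) (fun _ : G => (1 : ℂ)) = 1 := by
    rw [classInner_indFun_left C _ _ (IsCharacter.isClassFunction (IsIrrCharacter.isCharacter isIrrCharacter_one)), hθ]
    change classInner (U - L) U = 1
    rw [classInner_sub_left, hUU, h3]
    norm_num
  have h0 : indFun C (thetaL lam) 1 = 0 := by
    rw [indFun_one]
    simp [thetaL]
  exact exists_two_irr_of_norm_three hΘ h3' h1' h0

end Ind

end General

end Cfsg.Agent.Lib.Char.BrSuz
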