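import Cfsg.Agent.Lib.Char.BrSuz2

/-! # Generalized quaternion Sylow 2-subgroups of order at least 16: the main consequences. -/

set_option autoImplicit false
set_option linter.unusedSectionVars false
set_option linter.style.haveILetI false

namespace Cfsg.Agent.Lib.Char.BrSuz

open Cfsg Subgroup Cfsg.Agent.Lib.Char
open scoped ComplexConjugate commutatorElement

universe u

section Main

variable {G : Type u} [Group G] {m : ℕ} {A X : G} {P : Sylow 2 G}

local notation "𝐂" => centralizer ((zpowers (A ^ 2) : Subgroup G) : Set G)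

namespace QData

variable (Q : QData (P : Subgroup G) m A X)
include Q

/-- The two characters. -/
theorem exists_chars [Fintype G] :
    ∃ χ₁ χ₂ : G → ℂ, IsIrrCharacter G χ₁ ∧ IsIrrCharacter G χ₂ ∧ χ₁ ≠ (fun _ => 1) ∧ χ₂ ≠ (fun _ => 1) ∧
      χ₁ 1 = χ₂ 1 + 1 ∧ (∀ g, ¬ m ∣ orderOf g → χ₁ g - χ₂ g = 1) ∧ χ₁ (A ^ 2) - χ₂ (A ^ 2) = -3 := by
  classical
  have hS2 := P.isPGroup'
  have hSi := P.not_dvd_index
  obtain ⟨lam, hA, hdvd, h4⟩ := Q.exists_lam hS2 hSi
  have hTI : ∀ (y : 𝐂) (g : G), lam y ≠ 1 → g * y * g⁻¹ ∈ 𝐂 →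
      g ∈ normalizer ((zpowers (A ^ 2) : Subgroup G) : Set G) := fun y g hne h =>
    Q.mem_N_of_conj_mem_C hS2 hSi y.2 (hdvd y hne) h
  have hconj : ∀ (g : G) (_ : g ∈ normalizer ((zpowers (A ^ 2) : Subgroup G) : Set G)) (_ : g ∉ 𝐂) (y : 𝐂)
      (h : g * y * g⁻¹ ∈ 𝐂), lam ⟨_, h⟩ = (lam y)⁻¹ := fun g hg hgC y _ =>
    Q.lam_conj_N hS2 hSi h4 hg hgC y
  have hidx := Q.index_C_N hS2 hSi
  have hy₀ : (lam ⟨A, Q.A_mem_C⟩ : ℂ) ^ 2 ≠ 1 := by
    rw [hA]
    norm_num
  obtain ⟨χ₁, χ₂, h1, h2, h3, h5, h6, h7⟩ :=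
    ind_thetaL_main Q.C_le_N hidx lam hTI hconj ⟨A, Q.A_mem_C⟩ hy₀
  refine ⟨χ₁, χ₂, h1, h2, h3, h5, h6, ?_, ?_⟩
  · intro g hg
    have h8 := ind_thetaL_zero lam g (by
      intro x hx
      by_contra hne
      apply hg
      have h9 := hdvd _ hne
      have h10 : orderOf (x⁻¹ * g * x) = orderOf g := by
        have := MulEquiv.orderOf_eq (MulAut.conj x⁻¹) g
        rw [MulAut.conj_apply, inv_inv] at this
        exact this
      simpa only [h10] using h9)
    rw [h7] at h8
    linear_combination -h8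
  · have hAC : A ^ 2 ∈ 𝐂 := pow_mem Q.A_mem_C 2
    have h8 := ind_thetaL_apply Q.C_le_N hidx lam hTI hconj ⟨A ^ 2, hAC⟩
    have h9 : (⟨A ^ 2, hAC⟩ : 𝐂) = (⟨A, Q.A_mem_C⟩ : 𝐂) ^ 2 := rfl
    have h10 : (lam ⟨A ^ 2, hAC⟩ : ℂ) = -1 := by
      rw [h9, map_pow, Units.val_pow_eq_pow_val, hA]
    have h11 : (((lam ⟨A ^ 2, hAC⟩)⁻¹ : ℂˣ) : ℂ) = -1 := by
      rw [Units.val_inv_eq_inv_val, h10]
      norm_num
    rw [h10, h11, show ((⟨A ^ 2, hAC⟩ : 𝐂) : G) = A ^ 2 from rfl, h7] at h8
    linear_combination -h8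

/-- Every `2`-element is conjugate into `S`. -/
theorem exists_conj_S [Finite G] {t : G} (ht : ∃ k : ℕ, orderOf t = 2 ^ k) :
    ∃ c : G, c * t * c⁻¹ ∈ (P : Subgroup G) := by
  have h1 : IsPGroup 2 (zpowers t) := Cfsg.Agent.Lib.PGroups.isPGroup_zpowers_iff.mpr ht
  obtain ⟨Q', hQ'⟩ := h1.exists_le_sylow
  obtain ⟨c, hc⟩ := MulAction.exists_smul_eq G Q' P
  refine ⟨c, ?_⟩
  have h2 : t ∈ (Q' : Subgroup G) := hQ' (mem_zpowers _)
  have h3 : (MulAut.conj c) • t ∈ (P : Subgroup G) := by
    rw [← hc, Sylow.coe_subgroup_smul]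
    exact Subgroup.smul_mem_pointwise_smul _ _ _ h2
  exact h3

/-- Every involution is conjugate to the involution of `S`. -/
theorem exists_conj_inv [Finite G] {t : G} (h2 : t * t = 1) (h1 : t ≠ 1) : ∃ c : G, c * t * c⁻¹ = A ^ m := by
  have hord : orderOf t = 2 ^ 1 := by
    rw [pow_one]
    exact orderOf_eq_prime (by rw [sq]; exact h2) h1
  obtain ⟨c, hc⟩ := Q.exists_conj_S ⟨1, hord⟩
  refine ⟨c, Q.unique_inv hc ?_ ?_⟩
  · calc c * t * c⁻¹ * (c * t * c⁻¹) = c * (t * t) * c⁻¹ := by group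
      _ = 1 := by rw [h2]; group
  · intro h
    apply h1
    have : t = c⁻¹ * (c * t * c⁻¹) * c := by group
    rw [this, h]
    group

/-- Two commuting involutions coincide. -/
theorem inv_eq_of_commute [Finite G] {x w : G} (hx2 : x * x = 1) (hx1 : x ≠ 1) (hw2 : w * w = 1) (hw1 : w ≠ 1)
    (hc : x * w = w * x) : x = w := by
  have hordx : orderOf x = 2 ^ 1 := by
    rw [pow_one]
    exact orderOf_eq_prime (by rw [sq]; exact hx2) hx1
  have hordw : orderOf w = 2 ^ 1 := by
    rw [pow_one]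
    exact orderOf_eq_prime (by rw [sq]; exact hw2) hw1
  have h1 : IsPGroup 2 (zpowers x) := Cfsg.Agent.Lib.PGroups.isPGroup_zpowers_iff.mpr ⟨1, hordx⟩
  have h2 : IsPGroup 2 (zpowers w) := Cfsg.Agent.Lib.PGroups.isPGroup_zpowers_iff.mpr ⟨1, hordw⟩
  have hn : zpowers x ≤ normalizer ((zpowers w : Subgroup G) : Set G) := by
    rw [zpowers_le]
    apply Cfsg.Agent.Lib.Basic.mem_normalizer_of_forall_conj_mem
    intro d hd
    obtain ⟨i, rfl⟩ := mem_zpowers_iff.mp hd
    have h3 : Commute x (w ^ i) := (show Commute x w from hc).zpow_right i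
    rw [h3.eq, mul_inv_cancel_right]
    exact zpow_mem_zpowers w i
  have h3 : IsPGroup 2 (zpowers x ⊔ zpowers w : Subgroup G) := h1.to_sup_of_normal_right' h2 hn
  obtain ⟨Q', hQ'⟩ := h3.exists_le_sylow
  obtain ⟨c, hc'⟩ := MulAction.exists_smul_eq G Q' P
  have hconj : ∀ y ∈ (Q' : Subgroup G), c * y * c⁻¹ ∈ (P : Subgroup G) := by
    intro y hy
    have h4 : (MulAut.conj c) • y ∈ (P : Subgroup G) := by
      rw [← hc', Sylow.coe_subgroup_smul]
      exact Subgroup.smul_mem_pointwise_smul _ _ _ hy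
    exact h4
  have hxQ : x ∈ (Q' : Subgroup G) := hQ' (Subgroup.mem_sup_left (mem_zpowers x))
  have hwQ : w ∈ (Q' : Subgroup G) := hQ' (Subgroup.mem_sup_right (mem_zpowers w))
  have hu : ∀ y, y * y = 1 → y ≠ 1 → y ∈ (Q' : Subgroup G) → c * y * c⁻¹ = A ^ m := by
    intro y hy2 hy1 hy
    refine Q.unique_inv (hconj y hy) ?_ ?_
    · calc c * y * c⁻¹ * (c * y * c⁻¹) = c * (y * y) * c⁻¹ := by group
        _ = 1 := by rw [hy2]; group
    · intro h
      apply hy1
      have : y = c⁻¹ * (c * y * c⁻¹) * c := by group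
      rw [this, h]
      group
  have h5 := (hu x hx2 hx1 hxQ).trans (hu w hw2 hw1 hwQ).symm
  exact mul_left_cancel (mul_right_cancel h5)

/-- Products of two involutions have odd order. -/
theorem not_two_dvd_orderOf_mul [Finite G] {x y : G} (hx2 : x * x = 1) (hx1 : x ≠ 1) (hy2 : y * y = 1) (hy1 : y ≠ 1) :
    ¬ 2 ∣ orderOf (x * y) := by
  rintro ⟨k, hk⟩
  set g := x * y with hg
  have hk0 : k ≠ 0 := by
    rintro rfl
    have := orderOf_pos g
    omega
  set w := g ^ k with hw
  have hw2 : w * w = 1 := by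
    rw [hw, ← pow_add, ← two_mul, ← hk, pow_orderOf_eq_one]
  have hw1 : w ≠ 1 := by
    intro h
    have h1 := orderOf_dvd_of_pow_eq_one h
    rw [hk] at h1
    have h2 := Nat.le_of_dvd (Nat.pos_of_ne_zero hk0) h1
    omega
  have hxinv : x⁻¹ = x := inv_eq_of_mul_eq_one_left hx2
  have hyinv : y⁻¹ = y := inv_eq_of_mul_eq_one_left hy2
  have hconj : x * g * x⁻¹ = g⁻¹ := by
    rw [hg, mul_inv_rev, hxinv, hyinv]
    calc x * (x * y) * x = (x * x) * y * x := by group
      _ = y * x := by rw [hx2, one_mul]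
  have hwconj : x * w * x⁻¹ = w := by
    rw [hw, ← conj_pow, hconj, inv_pow]
    exact inv_eq_of_mul_eq_one_left hw2
  have hcomm : x * w = w * x := by
    calc x * w = x * w * x⁻¹ * x := by group
      _ = w * x := by rw [hwconj]
  have hxw := Q.inv_eq_of_commute hx2 hx1 hw2 hw1 hcomm
  -- `x` lies in `⟨g⟩`, hence commutes with `g`
  have hxg : x * g = g * x := by
    rw [hxw, hw]
    exact ((Commute.refl g).pow_left k).eq
  have hgg : g = g⁻¹ := by
    rw [← hconj, hxg, mul_inv_cancel_right]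
  have hg2 : g ^ 2 = 1 := by
    rw [sq]
    nth_rw 1 [hgg]
    simp
  have hd := orderOf_dvd_of_pow_eq_one hg2
  rw [hk] at hd
  have hk1 : k = 1 := by
    have := Nat.le_of_dvd (by norm_num) hd
    omega
  rw [hk1, pow_one] at hw
  apply hy1
  have h5 : x = x * y := hxw.trans (hw.trans hg)
  exact (mul_eq_left.mp h5.symm)

/-- The class of the involution: sum of a character over products of two conjugates. -/
theorem sum_sum_class [Fintype G] {χ : G → ℂ} (hχ : IsIrrCharacter G χ) (z : G) [Fintype {x : G // IsConj z x}] :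
    χ 1 * ∑ y : {x : G // IsConj z x}, ∑ x : {x : G // IsConj z x}, χ (x * y) =
      ((Nat.card {x : G // IsConj z x} : ℂ) * χ z) ^ 2 := by
  classical
  have hcl := IsCharacter.isClassFunction (IsIrrCharacter.isCharacter hχ)
  rw [Finset.mul_sum]
  have h1 : ∀ y : {x : G // IsConj z x}, χ 1 * ∑ x : {x : G // IsConj z x}, χ (x * y) =
      (Nat.card {x : G // IsConj z x} : ℂ) * χ z * χ z := by
    intro y
    rw [IsIrrCharacter.sum_class_mul hχ z y]
    obtain ⟨c, hc⟩ := isConj_iff.mp y.2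
    rw [← hc, hcl z c]
  rw [Finset.sum_congr rfl (fun y _ => h1 y), Finset.sum_const, nsmul_eq_mul, Finset.card_univ,
    ← Nat.card_eq_fintype_card]
  ring

/-- The involutions lie in the kernels of the two characters. -/
theorem exists_chars_ker [Fintype G] :
    ∃ χ₁ χ₂ : G → ℂ, IsIrrCharacter G χ₁ ∧ IsIrrCharacter G χ₂ ∧ χ₁ ≠ (fun _ => 1) ∧ χ₂ ≠ (fun _ => 1) ∧
      χ₁ 1 = χ₂ 1 + 1 ∧ (∀ g, ¬ m ∣ orderOf g → χ₁ g - χ₂ g = 1) ∧ χ₁ (A ^ 2) - χ₂ (A ^ 2) = -3 ∧
      ∀ t, t * t = 1 → χ₁ t = χ₁ 1 ∧ χ₂ t = χ₂ 1 := by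
  classical
  obtain ⟨χ₁, χ₂, h1, h2, h3, h4, h5, h6, h7⟩ := Q.exists_chars
  refine ⟨χ₁, χ₂, h1, h2, h3, h4, h5, h6, h7, ?_⟩
  set z := A ^ m with hz
  have hz2 : z * z = 1 := Q.A_pow_m_sq
  have hz1 : z ≠ 1 := Q.A_pow_m_ne
  have hm2 : 2 ∣ m := (by norm_num : 2 ∣ 4).trans Q.four_dvd_m
  letI : Fintype {x : G // IsConj z x} := Fintype.ofFinite _
  have hinvT : ∀ x : {x : G // IsConj z x}, (x : G) * x = 1 ∧ (x : G) ≠ 1 := by
    intro x
    obtain ⟨c, hc⟩ := isConj_iff.mp x.2
    rw [← hc]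
    constructor
    · calc c * z * c⁻¹ * (c * z * c⁻¹) = c * (z * z) * c⁻¹ := by group
        _ = 1 := by rw [hz2]; group
    · intro h
      apply hz1
      have : z = c⁻¹ * (c * z * c⁻¹) * c := by group
      rw [this, h]
      group
  have hvan : ∀ x y : {x : G // IsConj z x}, χ₁ (x * y) - χ₂ (x * y) = 1 := by
    intro x y
    apply h6
    intro hd
    exact Q.not_two_dvd_orderOf_mul (hinvT x).1 (hinvT x).2 (hinvT y).1 (hinvT y).2 (hm2.trans hd)
  set a : ℂ := (Nat.card {x : G // IsConj z x} : ℂ) with ha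
  have ha0 : a ≠ 0 := by
    rw [ha]
    have : 0 < Nat.card {x : G // IsConj z x} := by
      haveI : Nonempty {x : G // IsConj z x} := ⟨⟨z, IsConj.refl z⟩⟩
      exact Nat.card_pos
    exact_mod_cast this.ne'
  set F₁ : ℂ := ∑ y : {x : G // IsConj z x}, ∑ x : {x : G // IsConj z x}, χ₁ (x * y) with hF₁
  set F₂ : ℂ := ∑ y : {x : G // IsConj z x}, ∑ x : {x : G // IsConj z x}, χ₂ (x * y) with hF₂
  have hF : F₁ - F₂ = a ^ 2 := by
    rw [hF₁, hF₂, ← Finset.sum_sub_distrib]
    simp_rw [← Finset.sum_sub_distrib, hvan]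
    simp only [Finset.sum_const, Finset.card_univ, nsmul_eq_mul, mul_one]
    rw [ha, Nat.card_eq_fintype_card]
    ring
  have hF1 := Q.sum_sum_class h1 z
  have hF2 := Q.sum_sum_class h2 z
  rw [← ha, ← hF₁] at hF1
  rw [← ha, ← hF₂] at hF2
  have hzd : χ₁ z - χ₂ z = 1 := by
    apply h6
    intro hd
    have h8 : orderOf z = 2 := by
      apply orderOf_eq_prime (by rw [sq]; exact hz2) hz1
    rw [h8] at hd
    have := Nat.le_of_dvd (by norm_num) hd
    have := Q.four_le
    omega
  set d := χ₂ 1 with hd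
  set b := χ₂ z with hb
  have hc1 : χ₁ z = b + 1 := by linear_combination hzd
  rw [h5, hc1] at hF1
  have hkey : a ^ 2 * (d - b) ^ 2 = 0 := by
    linear_combination (-(d * (d + 1))) * hF + (d + 1) * hF2 * (-1) + d * hF1
  have hdb : d = b := by
    have h8 := (mul_eq_zero.mp hkey).resolve_left (pow_ne_zero 2 ha0)
    have h9 := pow_eq_zero_iff (two_ne_zero) |>.mp h8
    linear_combination h9
  have hzker : χ₁ z = χ₁ 1 ∧ χ₂ z = χ₂ 1 := by
    constructor
    · rw [hc1, h5, hdb]
    · exact hdb.symm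
  intro t ht
  by_cases ht1 : t = 1
  · rw [ht1]
    exact ⟨rfl, rfl⟩
  obtain ⟨c, hc⟩ := Q.exists_conj_inv ht ht1
  have hcl1 := IsCharacter.isClassFunction (IsIrrCharacter.isCharacter h1)
  have hcl2 := IsCharacter.isClassFunction (IsIrrCharacter.isCharacter h2)
  constructor
  · rw [← hcl1 t c, hc]
    exact hzker.1
  · rw [← hcl2 t c, hc]
    exact hzker.2

omit Q in
/-- The consequence for normal subgroups containing the involutions. -/
theorem A2_not_mem_of_le_ker [Fintype G] {χ₁ χ₂ : G → ℂ} (h5 : χ₁ 1 = χ₂ 1 + 1)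
    (h6 : χ₁ (A ^ 2) - χ₂ (A ^ 2) = -3) (h1 : IsCharacter G χ₁) (h2 : IsCharacter G χ₂)
    (hA : A ^ 2 ∈ charKer χ₁ ⊓ charKer χ₂) : False := by
  have h3 := (mem_charKer h1).mp hA.1
  have h4 := (mem_charKer h2).mp hA.2
  rw [h3, h4, h5] at h6
  norm_num at h6

/-- The existence of a large normal quotient: `S0845`. -/
theorem exists_normal_even [Finite G] :
    ∃ M : Subgroup G, M.Normal ∧ Even (Nat.card M) ∧ ¬ commutator G ≤ M := by
  classical
  letI : Fintype G := Fintype.ofFinite G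
  obtain ⟨χ₁, χ₂, h1, h2, h3, h4, h5, h6, h7, h8⟩ := Q.exists_chars_ker
  haveI hn : (charKer χ₁).Normal := charKer_normal (IsIrrCharacter.isCharacter h1)
  refine ⟨charKer χ₁, hn, ?_, ?_⟩
  · have hz : A ^ m ∈ charKer χ₁ :=
      (mem_charKer (IsIrrCharacter.isCharacter h1)).mpr (h8 _ Q.A_pow_m_sq).1
    have hord : orderOf (A ^ m) = 2 := orderOf_eq_prime (by rw [sq]; exact Q.A_pow_m_sq) Q.A_pow_m_ne
    have := Subgroup.orderOf_dvd_natCard _ hz
    rw [hord] at this
    exact even_iff_two_dvd.mpr this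
  · intro hle
    letI : Fintype (charKer χ₁) := Fintype.ofFinite _
    letI : Fintype (G ⧸ charKer χ₁) := Fintype.ofFinite _
    obtain ⟨β, hβ, hχβ⟩ := exists_deflate (charKer χ₁) h1 le_rfl
    have hcomm : ∀ a b : G ⧸ charKer χ₁, a * b = b * a := by
      intro a b
      induction a using QuotientGroup.induction_on with
      | H x =>
      induction b using QuotientGroup.induction_on with
      | H y =>
      rw [← QuotientGroup.mk_mul, ← QuotientGroup.mk_mul, QuotientGroup.eq]
      have h9 : (x * y)⁻¹ * (y * x) = ⁅y⁻¹, x⁻¹⁆ := by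
        rw [commutatorElement_def]
        group
      rw [h9]
      exact hle (Subgroup.commutator_mem_commutator (mem_top _) (mem_top _))
    have h10 := (comm_iff_irr_degree_one (G := G ⧸ charKer χ₁)).mp hcomm ⟨β, hβ⟩
    have h11 : χ₁ 1 = 1 := by
      rw [hχβ]
      exact h10
    rw [h11] at h5
    obtain ⟨n, hn0, hn'⟩ := IsIrrCharacter.apply_one h2
    rw [hn'] at h5
    have h12 : (n : ℂ) = 0 := by linear_combination -h5
    have h13 : n = 0 := by exact_mod_cast h12
    omega

omit Q in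
/-- The normality of the subgroup generated by the involutions. -/
theorem normal_closure_inv (G : Type u) [Group G] : (closure {g : G | orderOf g = 2}).Normal := by
  constructor
  intro n hn g
  induction hn using Subgroup.closure_induction with
  | mem x hx =>
    apply Subgroup.subset_closure
    show orderOf (g * x * g⁻¹) = 2
    rw [← MulAut.conj_apply, MulEquiv.orderOf_eq]
    exact hx
  | one => simp
  | mul x y _ _ hx hy =>
    have : g * (x * y) * g⁻¹ = (g * x * g⁻¹) * (g * y * g⁻¹) := by group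
    rw [this]
    exact mul_mem hx hy
  | inv x _ hx =>
    have : g * x⁻¹ * g⁻¹ = (g * x * g⁻¹)⁻¹ := by group
    rw [this]
    exact inv_mem hx

/-- `A²` is not in the subgroup generated by involutions. -/
theorem A2_not_mem_closure [Finite G] : A ^ 2 ∉ closure {g : G | orderOf g = 2} := by
  classical
  letI : Fintype G := Fintype.ofFinite G
  obtain ⟨χ₁, χ₂, h1, h2, h3, h4, h5, h6, h7, h8⟩ := Q.exists_chars_ker
  intro hA
  have hle : closure {g : G | orderOf g = 2} ≤ charKer χ₁ ⊓ charKer χ₂ := by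
    rw [closure_le]
    intro t ht
    have ht2 : t * t = 1 := by
      rw [← sq, ← (show orderOf t = 2 from ht)]
      exact pow_orderOf_eq_one t
    exact ⟨(mem_charKer (IsIrrCharacter.isCharacter h1)).mpr (h8 t ht2).1,
      (mem_charKer (IsIrrCharacter.isCharacter h2)).mpr (h8 t ht2).2⟩
  exact A2_not_mem_of_le_ker h5 h7 (IsIrrCharacter.isCharacter h1) (IsIrrCharacter.isCharacter h2) (hle hA)

/-- `S ⊓ I ≤ ⟨A⟩`. -/
theorem mem_zpowers_of_mem_closure [Finite G] {s : G} (hs : s ∈ (P : Subgroup G))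
    (hI : s ∈ closure {g : G | orderOf g = 2}) : s ∈ zpowers A := by
  rcases Q.cover s hs with ⟨i, rfl⟩ | ⟨i, rfl⟩
  · exact zpow_mem_zpowers A i
  · exfalso
    apply Q.A2_not_mem_closure
    haveI := normal_closure_inv G
    have h1 := (normal_closure_inv G).conj_mem _ hI A
    have h2 := mul_mem h1 (inv_mem hI)
    have h3 : A * (A ^ i * X) * A⁻¹ * (A ^ i * X)⁻¹ = A ^ 2 := by
      have h4 := Q.conj_zpow (-1)
      simp only [zpow_neg, zpow_one, inv_inv] at h4
      calc A * (A ^ i * X) * A⁻¹ * (A ^ i * X)⁻¹ = A * A ^ i * (X * A⁻¹ * X⁻¹) * (A ^ i)⁻¹ := by group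
        _ = A * (A ^ i * A * (A ^ i)⁻¹) := by rw [h4]; group
        _ = A * A := by
            have h5 : A ^ i * A = A * A ^ i := ((Commute.refl A).zpow_left i).eq
            rw [h5, mul_inv_cancel_right]
        _ = A ^ 2 := (sq A).symm
    rwa [h3] at h2

/-- `S0846`. -/
theorem isCyclic_sylow_closure [Finite G] (R : Sylow 2 ↥(closure {g : G | orderOf g = 2})) : IsCyclic R := by
  classical
  have hIn : (closure {g : G | orderOf g = 2}).Normal := normal_closure_inv G
  have h1 : IsPGroup 2 ((R : Subgroup (closure {g : G | orderOf g = 2})).map (closure {g : G | orderOf g = 2}).subtype) := R.isPGroup'.map _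
  obtain ⟨T, hT⟩ := h1.exists_le_sylow
  obtain ⟨c, hc⟩ := MulAction.exists_smul_eq G T P
  have hmem : ∀ r : (R : Subgroup (closure {g : G | orderOf g = 2})), c * ((r : (closure {g : G | orderOf g = 2})) : G) * c⁻¹ ∈ zpowers A := by
    intro r
    apply Q.mem_zpowers_of_mem_closure
    · have h2 : ((r : (closure {g : G | orderOf g = 2})) : G) ∈ (T : Subgroup G) := hT ⟨r, r.2, rfl⟩
      have h3 : (MulAut.conj c) • ((r : (closure {g : G | orderOf g = 2})) : G) ∈ (P : Subgroup G) := by
        rw [← hc, Sylow.coe_subgroup_smul]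
        exact Subgroup.smul_mem_pointwise_smul _ _ _ h2
      exact h3
    · exact hIn.conj_mem _ (r : (closure {g : G | orderOf g = 2})).2 c
  let f : (R : Subgroup (closure {g : G | orderOf g = 2})) →* zpowers A :=
    { toFun := fun r => ⟨c * ((r : (closure {g : G | orderOf g = 2})) : G) * c⁻¹, hmem r⟩
      map_one' := by
        apply Subtype.ext
        simp
      map_mul' := by
        intro x y
        apply Subtype.ext
        simp only [Subgroup.coe_mul]
        group }
  have hf : Function.Injective f := by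
    intro x y hxy
    have h2 : c * ((x : (closure {g : G | orderOf g = 2})) : G) * c⁻¹ = c * ((y : (closure {g : G | orderOf g = 2})) : G) * c⁻¹ := congrArg Subtype.val hxy
    apply Subtype.ext
    apply Subtype.ext
    exact mul_left_cancel (mul_right_cancel h2)
  exact isCyclic_of_injective f hf

end QData

/-- A cyclic Sylow `2`-subgroup is central in its normalizer. -/
theorem normalizer_le_centralizer_two {Y : Type*} [Group Y] [Finite Y] (R : Sylow 2 Y)
    (hR : IsCyclic (R : Subgroup Y)) (hne : (R : Subgroup Y) ≠ ⊥) :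
    normalizer ((R : Subgroup Y) : Set Y) ≤ centralizer ((R : Subgroup Y) : Set Y) := by
  classical
  haveI : Fact (Nat.Prime 2) := ⟨Nat.prime_two⟩
  obtain ⟨⟨c, hcS⟩, hc⟩ := hR.exists_generator
  have hS_eq : ∀ s ∈ (R : Subgroup Y), s ∈ zpowers c := by
    intro s hs
    obtain ⟨i, hi⟩ := mem_zpowers_iff.mp (hc ⟨s, hs⟩)
    refine mem_zpowers_iff.mpr ⟨i, ?_⟩
    have := congrArg Subtype.val hi
    simpa using this
  obtain ⟨n, hn⟩ : ∃ n, orderOf c = 2 ^ n := by
    obtain ⟨n, hn⟩ := IsPGroup.iff_orderOf.mp R.isPGroup' ⟨c, hcS⟩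
    exact ⟨n, by rw [← hn, Subgroup.orderOf_mk]⟩
  have hn0 : n ≠ 0 := by
    rintro rfl
    apply hne
    rw [eq_bot_iff]
    intro s hs
    have h1 : c = 1 := orderOf_eq_one_iff.mp (by simpa using hn)
    have h2 := hS_eq s hs
    rw [h1] at h2
    simpa using h2
  obtain ⟨k, rfl⟩ : ∃ k, n = k + 1 := ⟨n - 1, by omega⟩
  set z := c ^ (2 ^ k) with hz
  have hz2 : z ^ 2 = 1 := by
    rw [hz, ← pow_mul, ← pow_succ, ← hn, pow_orderOf_eq_one]
  have hz1 : z ≠ 1 := by
    intro h
    have h1 := orderOf_dvd_of_pow_eq_one h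
    rw [hn, pow_succ] at h1
    have h2 := Nat.le_of_dvd (by positivity) h1
    have h3 : 0 < 2 ^ k := by positivity
    omega
  have hzS : z ∈ zpowers c := pow_mem (mem_zpowers c) _
  have huniq : ∀ x ∈ zpowers c, x * x = 1 → x = 1 ∨ x = z := by
    intro x hx hx2
    obtain ⟨i, rfl⟩ := mem_zpowers_iff.mp hx
    have h3 : c ^ (2 * i) = 1 := by
      rw [two_mul, zpow_add]
      exact hx2
    have h4 := orderOf_dvd_iff_zpow_eq_one.mpr h3
    rw [hn] at h4
    have h5 : ((2 : ℤ) ^ k) ∣ i := by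
      have h6 : ((2 ^ (k + 1) : ℕ) : ℤ) = 2 * 2 ^ k := by push_cast; ring
      rw [h6] at h4
      exact (mul_dvd_mul_iff_left (by norm_num : (2 : ℤ) ≠ 0)).mp h4
    obtain ⟨j, rfl⟩ := h5
    have h7 : c ^ ((2 : ℤ) ^ k * j) = z ^ j := by
      rw [zpow_mul, hz]
      congr 1
      rw [← zpow_natCast]
      push_cast
      rfl
    rw [h7]
    rcases Int.even_or_odd' j with ⟨t, rfl | rfl⟩
    · left
      rw [zpow_mul]
      simp [hz2]
    · right
      rw [zpow_add, zpow_mul, zpow_one]
      simp [hz2]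
  intro y hy
  obtain ⟨a, b, hyab, -, ⟨t, ht⟩, hb, ha', hb'⟩ := Cfsg.Agent.Lib.PGroups.exists_pPart 2 y
  have haN : a ∈ normalizer ((R : Subgroup Y) : Set Y) := (zpowers_le.mpr hy) ha'
  have hbN : b ∈ normalizer ((R : Subgroup Y) : Set Y) := (zpowers_le.mpr hy) hb'
  have haS : a ∈ (R : Subgroup Y) := Cfsg.Agent.Lib.PGroups.mem_sylow_of_mem_normalizer R ⟨t, ht⟩ haN
  have hbcop : (orderOf b).Coprime 2 := ((Nat.Prime.coprime_iff_not_dvd Nat.prime_two).mpr hb).symm
  have hbconj : b * c * b⁻¹ ∈ zpowers c := hS_eq _ ((Subgroup.mem_normalizer_iff.mp hbN c).mp hcS)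
  have hzS' : z ∈ (R : Subgroup Y) := pow_mem hcS _
  have hbz : b * z * b⁻¹ ∈ zpowers c := hS_eq _ ((Subgroup.mem_normalizer_iff.mp hbN z).mp hzS')
  have hbz2 : b * z * b⁻¹ * (b * z * b⁻¹) = 1 := by
    calc b * z * b⁻¹ * (b * z * b⁻¹) = b * (z ^ 2) * b⁻¹ := by
          rw [sq]
          group
      _ = 1 := by rw [hz2]; group
  have hzc : Commute b z := by
    rcases huniq _ hbz hbz2 with h | h
    · exfalso
      apply hz1
      have : z = b⁻¹ * (b * z * b⁻¹) * b := by group
      rw [this, h]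
      group
    · show b * z = z * b
      calc b * z = (b * z * b⁻¹) * b := by group
        _ = z * b := by rw [h]
  have hbc : Commute b c := Cfsg.Agent.Lib.PGroups.commute_of_cyclic_of_fix (pow_orderOf_eq_one b) hbcop (k + 1) c z hn
    hbconj hzS hz1 hzc
  rw [Subgroup.mem_centralizer_iff]
  intro s hs
  have hs' := hS_eq s hs
  obtain ⟨i, rfl⟩ := mem_zpowers_iff.mp hs'
  obtain ⟨j, rfl⟩ := mem_zpowers_iff.mp (hS_eq a haS)
  rw [hyab]
  have h1 : Commute (c ^ j) (c ^ i) := (Commute.refl c).zpow_zpow j i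
  have h2 : Commute b (c ^ i) := hbc.zpow_right i
  have h3 : Commute (c ^ j * b) (c ^ i) := h1.mul_left h2
  exact h3.eq.symm

namespace QData

variable (Q : QData (P : Subgroup G) m A X)
include Q

/-- `S0847`. -/
theorem card_center_eq_two [Finite G] (hO : ∀ N : Subgroup G, N.Normal → Odd (Nat.card N) → N = ⊥) :
    Nat.card (center G) = 2 := by
  classical
  haveI : Fact (Nat.Prime 2) := ⟨Nat.prime_two⟩
  set I := closure {g : G | orderOf g = 2} with hI
  have hIn : I.Normal := normal_closure_inv G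
  set z := A ^ m with hz
  have hz2 : z * z = 1 := Q.A_pow_m_sq
  have hz1 : z ≠ 1 := Q.A_pow_m_ne
  have hordz : orderOf z = 2 := orderOf_eq_prime (by rw [sq]; exact hz2) hz1
  have hzI : z ∈ I := Subgroup.subset_closure hordz
  -- a Sylow subgroup of `I`
  obtain ⟨R⟩ : Nonempty (Sylow 2 I) := inferInstance
  have hRc : IsCyclic (R : Subgroup I) := Q.isCyclic_sylow_closure R
  have hRne : (R : Subgroup I) ≠ ⊥ := by
    apply R.ne_bot_of_dvd_card
    have := Subgroup.orderOf_dvd_natCard I hzI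
    rwa [hordz] at this
  have hN := normalizer_le_centralizer_two R hRc hRne
  have hcompl := MonoidHom.ker_transferSylow_isComplement' R hN
  set K' := (MonoidHom.transferSylow R hN).ker with hK'
  have hK'n : K'.Normal := MonoidHom.normal_ker _
  have hmemK : ∀ x : I, x ∈ K' ↔ Nat.Coprime (orderOf x) 2 :=
    Cfsg.Agent.Lib.Transfer.mem_iff_coprime_of_isComplement' R hcompl
  have hK'odd := Cfsg.Agent.Lib.Transfer.card_coprime_of_isComplement' R hcompl
  -- the image of `K'` is normal in `G`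
  have hKn : (K'.map I.subtype).Normal := by
    constructor
    rintro _ ⟨k, hk, rfl⟩ g
    refine ⟨⟨g * k * g⁻¹, hIn.conj_mem _ k.2 g⟩, ?_, rfl⟩
    apply (hmemK _).mpr
    have h1 : orderOf (⟨g * k * g⁻¹, hIn.conj_mem _ k.2 g⟩ : I) = orderOf (g * (k : G) * g⁻¹) := Subgroup.orderOf_mk _ _
    rw [h1, ← MulAut.conj_apply, MulEquiv.orderOf_eq, Subgroup.orderOf_coe]
    exact (hmemK k).mp hk
  have hKodd : Odd (Nat.card (K'.map I.subtype)) := by
    rw [Nat.card_congr (Subgroup.equivMapOfInjective K' _ I.subtype_injective).toEquiv.symm]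
    exact Nat.Coprime.odd_of_right hK'odd
  have hKbot := hO _ hKn hKodd
  have hK'bot : K' = ⊥ := by
    rw [eq_bot_iff]
    intro x hx
    have h1 : (x : G) ∈ K'.map I.subtype := ⟨x, hx, rfl⟩
    rw [hKbot] at h1
    exact Subtype.ext (by simpa using h1)
  have hRtop : (R : Subgroup I) = ⊤ := by
    have h2 := hcompl.sup_eq_top
    rwa [hK'bot, bot_sup_eq] at h2
  haveI hIc : IsCyclic I := by
    have e : (R : Subgroup I) ≃* I := by
      rw [hRtop]
      exact Subgroup.topEquiv
    exact isCyclic_of_surjective e.toMonoidHom e.surjective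
  -- all involutions coincide
  have hallinv : ∀ t : G, t * t = 1 → t ≠ 1 → t = z := by
    intro t ht2 ht1
    have hordt : orderOf t = 2 := orderOf_eq_prime (by rw [sq]; exact ht2) ht1
    have htI : t ∈ I := Subgroup.subset_closure hordt
    have hc : Nat.card (zpowers (⟨t, htI⟩ : I)) = Nat.card (zpowers (⟨z, hzI⟩ : I)) := by
      rw [Nat.card_zpowers, Nat.card_zpowers, Subgroup.orderOf_mk, Subgroup.orderOf_mk, hordt, hordz]
    have he := Cfsg.Agent.Lib.OddLocal.eq_of_card_eq_of_isCyclic hc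
    have h1 : (⟨t, htI⟩ : I) ∈ zpowers (⟨z, hzI⟩ : I) := by
      rw [← he]
      exact mem_zpowers _
    obtain ⟨i, hi⟩ := mem_zpowers_iff.mp h1
    have h2 : z ^ i = t := congrArg Subtype.val hi
    rcases Int.even_or_odd' i with ⟨k, rfl | rfl⟩
    · exfalso
      apply ht1
      rw [← h2, zpow_mul]
      simp [sq, hz2]
    · rw [← h2, zpow_add, zpow_mul]
      simp [sq, hz2]
  have hzcen : ∀ g : G, g * z = z * g := by
    intro g
    have h1 : g * z * g⁻¹ = z := by
      apply hallinv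
      · calc g * z * g⁻¹ * (g * z * g⁻¹) = g * (z * z) * g⁻¹ := by group
          _ = 1 := by rw [hz2]; group
      · intro h
        apply hz1
        have : z = g⁻¹ * (g * z * g⁻¹) * g := by group
        rw [this, h]
        group
    calc g * z = (g * z * g⁻¹) * g := by group
      _ = z * g := by rw [h1]
  -- the centre
  have hcenter : center G = zpowers z := by
    apply le_antisymm
    · intro y hy
      have hyc : ∀ g : G, g * y = y * g := fun g => (Subgroup.mem_center_iff.mp hy) g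
      obtain ⟨a, b, hyab, -, ⟨t, ht⟩, hb, ha', hb'⟩ := Cfsg.Agent.Lib.PGroups.exists_pPart 2 y
      have hbc : ∀ g : G, g * b = b * g := by
        intro g
        obtain ⟨i, rfl⟩ := mem_zpowers_iff.mp hb'
        have : Commute g y := hyc g
        exact (this.zpow_right i).eq
      have hac : ∀ g : G, g * a = a * g := by
        intro g
        obtain ⟨i, rfl⟩ := mem_zpowers_iff.mp ha'
        have : Commute g y := hyc g
        exact (this.zpow_right i).eq
      have hbn : (zpowers b).Normal := by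
        constructor
        intro n hn g
        obtain ⟨i, rfl⟩ := mem_zpowers_iff.mp hn
        have h1 : Commute g (b ^ i) := ((show Commute g b from hbc g).zpow_right i)
        rw [h1.eq, mul_inv_cancel_right]
        exact zpow_mem_zpowers b i
      have hbodd : Odd (Nat.card (zpowers b)) := by
        rw [Nat.card_zpowers]
        exact Nat.odd_iff.mpr (by omega)
      have hb1 : b = 1 := by
        have h1 := hO _ hbn hbodd
        exact Subgroup.zpowers_eq_bot.mp h1
      obtain ⟨c, hc⟩ := Q.exists_conj_S (t := a) ⟨t, ht⟩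
      have hac2 : c * a * c⁻¹ = a := by
        rw [hac c, mul_inv_cancel_right]
      rw [hac2] at hc
      have hy1 : y = a := by rw [hyab, hb1, mul_one]
      rw [hy1] at hyc ⊢
      have hcase : a ∈ zpowers A := by
        rcases Q.cover a hc with ⟨i, hi⟩ | ⟨i, hi⟩
        · rw [hi]
          exact zpow_mem_zpowers A i
        · exfalso
          have h1 : A * a = a * A := hyc A
          rw [hi] at h1
          have h2 : A * (A ^ i * X) = A ^ i * X * A := h1
          have h3 : A ^ i * A = A * A ^ i := ((Commute.refl A).zpow_left i).eq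
          have h4 : X * A * X⁻¹ = A := by
            have h5 : A * X = X * A := by
              have h6 : A ^ i * (A * X) = A ^ i * (X * A) := by
                calc A ^ i * (A * X) = (A ^ i * A) * X := by group
                  _ = A * (A ^ i * X) := by rw [h3]; group
                  _ = A ^ i * X * A := h2
                  _ = A ^ i * (X * A) := by group
              exact mul_left_cancel h6
            rw [← h5, mul_inv_cancel_right]
          rw [Q.conjX] at h4
          have h7 : A * A = 1 := by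
            nth_rw 1 [← h4]
            simp
          have h8 := orderOf_dvd_of_pow_eq_one (show A ^ 2 = 1 by rw [sq]; exact h7)
          rw [Q.ordA] at h8
          have h9 := Nat.le_of_dvd (by norm_num) h8
          have := Q.four_le
          omega
      -- `a` commutes with `X`
      obtain ⟨i, hi⟩ := mem_zpowers_iff.mp hcase
      have h1 : X * a = a * X := hyc X
      have h2 : X * a * X⁻¹ = a := by rw [h1, mul_inv_cancel_right]
      have h3 := Q.conj_zpow i
      rw [hi, h2, zpow_neg, hi] at h3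
      have h4 : a * a = 1 := by
        nth_rw 1 [h3]
        simp
      by_cases ha1 : a = 1
      · rw [ha1]
        exact one_mem _
      · rw [Q.unique_inv_zpowers hcase h4 ha1]
        exact mem_zpowers _
    · rw [zpowers_le, Subgroup.mem_center_iff]
      exact fun g => hzcen g
  rw [hcenter, Nat.card_zpowers, hordz]

end QData

end Main

end Cfsg.Agent.Lib.Char.BrSuz
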