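import Cfsg.Agent.Lib.Char.BrSuz3
import Cfsg.Agent.S0111

/-! # Finite perfect groups with an involution whose centralizer is dihedral of order eight. -/

set_option autoImplicit false
set_option linter.unusedSectionVars false
set_option linter.style.haveILetI false

namespace Cfsg.Agent.Lib.Char.CentD8

open Cfsg Subgroup Cfsg.Agent.Lib.Char Cfsg.Agent.Lib.Char.BrSuz
open scoped ComplexConjugate

universe u

/-- The diophantine core. -/
theorem arith_core {n u v w : ℤ} (hn : 0 < n)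
    (hsum : u + 2 * v + 2 * w = 1)
    (h1 : (2 * u - 1) ∣ n) (h2 : (4 * v - 1) ∣ n) (h3 : (4 * w - 1) ∣ n)
    (hu1 : u ≠ 1)
    (hprod : n * (u * v * w) = (2 * u - 1) * (4 * v - 1) * (4 * w - 1)) :
    n = 21 ∨ n = 45 := by
  set x₁ := 2 * u - 1 with hx₁
  set x₂ := 4 * v - 1 with hx₂
  set x₃ := 4 * w - 1 with hx₃
  have hx₁0 : x₁ ≠ 0 := by omega
  have hx₂0 : x₂ ≠ 0 := by omega
  have hx₃0 : x₃ ≠ 0 := by omega
  have hn0 : n ≠ 0 := hn.ne'
  -- the divisibilities
  obtain ⟨m₁, hm₁⟩ := h1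
  obtain ⟨m₂, hm₂⟩ := h2
  obtain ⟨m₃, hm₃⟩ := h3
  have e1 : m₁ * (u * v * w) = x₂ * x₃ := by
    apply mul_left_cancel₀ hx₁0
    rw [← mul_assoc, ← hm₁, hprod]; ring
  have e2 : m₂ * (u * v * w) = x₁ * x₃ := by
    apply mul_left_cancel₀ hx₂0
    rw [← mul_assoc, ← hm₂, hprod]; ring
  have e3 : m₃ * (u * v * w) = x₁ * x₂ := by
    apply mul_left_cancel₀ hx₃0
    rw [← mul_assoc, ← hm₃, hprod]; ring
  have cu : IsCoprime u x₁ := ⟨2, -1, by rw [hx₁]; ring⟩
  have cv : IsCoprime v x₂ := ⟨4, -1, by rw [hx₂]; ring⟩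
  have cw : IsCoprime w x₃ := ⟨4, -1, by rw [hx₃]; ring⟩
  have d_u3 : u ∣ x₃ := cu.dvd_of_dvd_mul_left ⟨m₂ * (v * w), by rw [← e2]; ring⟩
  have d_u2 : u ∣ x₂ := cu.dvd_of_dvd_mul_left ⟨m₃ * (v * w), by rw [← e3]; ring⟩
  have d_v3 : v ∣ x₃ := cv.dvd_of_dvd_mul_left ⟨m₁ * (u * w), by rw [← e1]; ring⟩
  have d_w2 : w ∣ x₂ := cw.dvd_of_dvd_mul_right ⟨m₁ * (u * v), by rw [← e1]; ring⟩
  have d_v1 : v ∣ x₁ := by
    have : x₁ = -4 * v - x₃ := by rw [hx₁, hx₃]; linarith
    rw [this]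
    exact dvd_sub (Dvd.intro_left _ rfl) d_v3
  have d_w1 : w ∣ x₁ := by
    have : x₁ = -4 * w - x₂ := by rw [hx₁, hx₂]; linarith
    rw [this]
    exact dvd_sub (Dvd.intro_left _ rfl) d_w2
  have cuv : IsCoprime u v := cu.of_isCoprime_of_dvd_right d_v1
  have cuw : IsCoprime u w := cu.of_isCoprime_of_dvd_right d_w1
  have cvw : IsCoprime v w := (cw.of_isCoprime_of_dvd_right d_v3).symm
  have d_uv : u * v ∣ x₃ := cuv.mul_dvd d_u3 d_v3
  have d_uw : u * w ∣ x₂ := cuw.mul_dvd d_u2 d_w2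
  have d_vw : v * w ∣ x₁ := cvw.mul_dvd d_v1 d_w1
  have hu0 : u ≠ 0 := by
    rintro rfl
    omega
  have hv0 : v ≠ 0 := by
    rintro rfl
    simp [hx₂] at *
    omega
  have hw0 : w ≠ 0 := by
    rintro rfl
    simp [hx₃] at *
    omega
  -- parity
  have hodd : Odd (n * (u * v * w)) := by
    rw [hprod]
    refine Odd.mul (Odd.mul ?_ ?_) ?_
    · exact ⟨u - 1, by rw [hx₁]; ring⟩
    · exact ⟨2 * v - 1, by rw [hx₂]; ring⟩
    · exact ⟨2 * w - 1, by rw [hx₃]; ring⟩
  have hoddv : Odd v := by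
    have := (Int.odd_mul.mp hodd).2
    exact (Int.odd_mul.mp (Int.odd_mul.mp this).1).2
  have hoddw : Odd w := by
    have := (Int.odd_mul.mp hodd).2
    exact (Int.odd_mul.mp this).2
  obtain ⟨k, hk⟩ := hoddv
  obtain ⟨l, hl⟩ := hoddw
  have hu4 : u = -3 - 4 * (k + l) := by rw [hk, hl] at hsum; linarith
  -- the bound on `u`
  have hb1 : |u| * |v| ≤ 4 * |w| + 1 := by
    have h1 : |u * v| ≤ |x₃| := Int.le_of_dvd (abs_pos.mpr hx₃0) ((abs_dvd_abs _ _).mpr d_uv)
    rw [abs_mul] at h1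
    have h2 : |x₃| ≤ 4 * |w| + 1 := by
      rw [hx₃]
      calc |4 * w - 1| ≤ |4 * w| + |(1 : ℤ)| := abs_sub _ _
        _ = 4 * |w| + 1 := by rw [abs_mul]; norm_num
    linarith
  have hb2 : |u| * |w| ≤ 4 * |v| + 1 := by
    have h1 : |u * w| ≤ |x₂| := Int.le_of_dvd (abs_pos.mpr hx₂0) ((abs_dvd_abs _ _).mpr d_uw)
    rw [abs_mul] at h1
    have h2 : |x₂| ≤ 4 * |v| + 1 := by
      rw [hx₂]
      calc |4 * v - 1| ≤ |4 * v| + |(1 : ℤ)| := abs_sub _ _
        _ = 4 * |v| + 1 := by rw [abs_mul]; norm_num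
    linarith
  have hvpos : 1 ≤ |v| := Int.one_le_abs hv0
  have hwpos : 1 ≤ |w| := Int.one_le_abs hw0
  have hu5 : |u| ≤ 5 := by
    by_contra hcon
    push Not at hcon
    have h6 : 6 ≤ |u| := hcon
    nlinarith [mul_le_mul_of_nonneg_right h6 (abs_nonneg v), mul_le_mul_of_nonneg_right h6 (abs_nonneg w)]
  have hcases : u = -3 ∨ u = 5 := by
    have := abs_le.mp hu5
    omega
  have hx₁' : x₁ = 2 * u - 1 := hx₁
  rcases hcases with rfl | rfl
  · -- `u = -3`
    have hvw : v + w = 2 := by linarith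
    have hw' : w = 2 - v := by linarith
    subst hw'
    have hd : v * (2 - v) ∣ (-7 : ℤ) := by
      have : x₁ = -7 := by rw [hx₁]; norm_num
      rwa [this] at d_vw
    have hv7 : v ∣ (7 : ℤ) := by
      have : v ∣ (-7 : ℤ) := dvd_trans (Dvd.intro _ rfl) hd
      simpa using this
    have hb : |v| ≤ 7 := by
      have := Int.le_of_dvd (by norm_num) ((abs_dvd _ _).mpr hv7)
      exact this
    have hb' := abs_le.mp hb
    have hv1 : v = 1 := by
      obtain ⟨hl, hr⟩ := hb'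
      interval_cases v <;> first | rfl | (exfalso; revert hd; decide) | (exfalso; revert hv7; decide) | exact absurd rfl hv0
    subst hv1
    left
    simp only [hx₂, hx₃, hx₁] at hprod
    norm_num at hprod
    linarith
  · -- `u = 5`
    have hvw : v + w = -2 := by linarith
    have hw' : w = -2 - v := by linarith
    subst hw'
    have hd : v * (-2 - v) ∣ (9 : ℤ) := by
      have : x₁ = 9 := by rw [hx₁]; norm_num
      rwa [this] at d_vw
    have hv9 : v ∣ (9 : ℤ) := dvd_trans (Dvd.intro _ rfl) hd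
    have hb : |v| ≤ 9 := by
      have := Int.le_of_dvd (by norm_num) ((abs_dvd _ _).mpr hv9)
      exact this
    have hb' := abs_le.mp hb
    have hdu : 5 * v ∣ 4 * (-2 - v) - 1 := d_uv
    have hv1 : v = -1 := by
      obtain ⟨hl, hr⟩ := hb'
      interval_cases v <;> first | rfl | (exfalso; revert hd; decide) | (exfalso; revert hv9; decide) | exact absurd rfl hv0 | (exfalso; revert hdu; decide)
    subst hv1
    right
    simp only [hx₂, hx₃, hx₁] at hprod
    norm_num at hprod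
    linarith

/-- The diophantine lemma. -/
theorem arith_main {n x₁ x₂ x₃ : ℤ} (hn : 0 < n) (hsum : x₁ + x₂ + x₃ = -1)
    (h1 : x₁ ∣ n) (h2 : x₂ ∣ n) (h3 : x₃ ∣ n) (hne : x₁ ≠ 1)
    (h41 : (4 : ℤ) ∣ x₁ - 1) (h42 : (4 : ℤ) ∣ x₂ + 1) (h43 : (4 : ℤ) ∣ x₃ + 1)
    (hprod : n * ((1 + x₁) * (1 + x₂) * (1 + x₃)) = 32 * (x₁ * x₂ * x₃)) :
    n = 21 ∨ n = 45 := by
  obtain ⟨p, hp⟩ := h41
  obtain ⟨v, hv⟩ := h42
  obtain ⟨w, hw⟩ := h43
  have e1 : x₁ = 2 * (2 * p + 1) - 1 := by linarith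
  have e2 : x₂ = 4 * v - 1 := by linarith
  have e3 : x₃ = 4 * w - 1 := by linarith
  subst e1 e2 e3
  refine arith_core (u := 2 * p + 1) (v := v) (w := w) hn (by linarith) h1 h2 h3 ?_ ?_
  · intro h
    apply hne
    rw [h]
    norm_num
  · have : (32 : ℤ) * (n * ((2 * p + 1) * v * w)) =
        32 * ((2 * (2 * p + 1) - 1) * (4 * v - 1) * (4 * w - 1)) := by
      rw [← hprod]
      ring
    exact mul_left_cancel₀ (by norm_num) this

/-- The data of an involution with centralizer dihedral of order eight. -/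
structure D8Data (G : Type u) [Group G] where
  t : G
  a : G
  s : G
  ht1 : t ≠ 1
  ha2 : a ^ 2 = t
  ha4 : a ^ 4 = 1
  hs2 : s * s = 1
  hsa : s * a * s⁻¹ = a⁻¹
  hsC : s ∉ zpowers a
  hcen : ∀ g, g * t = t * g → ∃ i : ℕ, g = a ^ i ∨ g = s * a ^ i
  hcard : Nat.card (centralizer ({t} : Set G)) = 8

/-- The dihedral data from an isomorphism. -/
noncomputable def D8Data.ofEquiv {G : Type u} [Group G] (t : G) (ht : orderOf t = 2)
    (e : centralizer ({t} : Set G) ≃* DihedralGroup 4) : D8Data G := by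
  classical
  have htT : t ∈ centralizer ({t} : Set G) := by
    rw [mem_centralizer_iff]
    intro h hh
    rw [Set.mem_singleton_iff.mp hh]
  have ht1 : t ≠ 1 := by
    rintro rfl
    simp at ht
  have hcent : ∀ x : DihedralGroup 4, (∀ y, x * y = y * x) → x = 1 ∨ x = DihedralGroup.r 2 := by decide
  have het : e ⟨t, htT⟩ = DihedralGroup.r 2 := by
    have h1 : ∀ y : DihedralGroup 4, e ⟨t, htT⟩ * y = y * e ⟨t, htT⟩ := by
      intro y
      obtain ⟨z, rfl⟩ := e.surjective y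
      rw [← map_mul, ← map_mul]
      congr 1
      apply Subtype.ext
      have := z.2
      rw [mem_centralizer_iff] at this
      exact (this t rfl)
    rcases hcent _ h1 with h | h
    · exfalso
      apply ht1
      have h2 : (⟨t, htT⟩ : centralizer ({t} : Set G)) = 1 := by
        apply e.injective
        rw [h, map_one]
      exact congrArg Subtype.val h2
    · exact h
  let ι : DihedralGroup 4 →* G := (centralizer ({t} : Set G)).subtype.comp e.symm.toMonoidHom
  have hιr2 : ι (DihedralGroup.r 2) = t := by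
    simp only [ι, MonoidHom.comp_apply, MulEquiv.coe_toMonoidHom]
    rw [← het, MulEquiv.symm_apply_apply]
    rfl
  have hinj : Function.Injective ι := by
    intro x y h
    exact e.symm.injective (Subtype.ext h)
  have hp : ∀ i : ZMod 4, ι (DihedralGroup.r 1) ^ i.val = ι (DihedralGroup.r i) := by
    intro i
    rw [← map_pow, DihedralGroup.r_one_pow]
    simp
  refine ⟨t, ι (DihedralGroup.r 1), ι (DihedralGroup.sr 0), ht1, ?_, ?_, ?_, ?_, ?_, ?_, ?_⟩
  · rw [← map_pow, ← hιr2]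
    rfl
  · rw [← map_pow, show (DihedralGroup.r 1 : DihedralGroup 4) ^ 4 = 1 from by decide, map_one]
  · rw [← map_mul, show (DihedralGroup.sr 0 : DihedralGroup 4) * DihedralGroup.sr 0 = 1 from by decide, map_one]
  · rw [← map_inv, ← map_inv, ← map_mul, ← map_mul]
    congr 1
  · intro hmem
    obtain ⟨k, hk⟩ := mem_zpowers_iff.mp hmem
    rw [← map_zpow] at hk
    have h2 := hinj hk
    have h3 : ∀ y ∈ (zpowers (DihedralGroup.r 1 : DihedralGroup 4)), y ≠ DihedralGroup.sr 0 := by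
      intro y hy
      obtain ⟨m, rfl⟩ := mem_zpowers_iff.mp hy
      rw [show (DihedralGroup.r 1 : DihedralGroup 4) ^ m = DihedralGroup.r (m : ZMod 4) from by
        cases m with
        | ofNat n => simp [DihedralGroup.r_one_pow]
        | negSucc n =>
          rw [zpow_negSucc, DihedralGroup.r_one_pow, DihedralGroup.inv_r]
          simp]
      simp
    exact h3 _ (zpow_mem_zpowers _ k) h2
  · intro g hg
    have hgT : g ∈ centralizer ({t} : Set G) := by
      rw [mem_centralizer_iff]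
      intro h hh
      rw [Set.mem_singleton_iff.mp hh]
      exact hg.symm
    have hιg : ι (e ⟨g, hgT⟩) = g := by
      simp [ι]
    rcases hx : e ⟨g, hgT⟩ with i | i
    · refine ⟨i.val, Or.inl ?_⟩
      rw [hp, ← hιg, hx]
    · refine ⟨i.val, Or.inr ?_⟩
      rw [hp, ← map_mul, ← hιg, hx]
      congr 1
      simp
  · rw [Nat.card_congr e.toEquiv, DihedralGroup.nat_card]

namespace D8Data

variable {G : Type u} [Group G] (D : D8Data G)

theorem a_ne_one : D.a ≠ 1 := by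
  intro h
  apply D.ht1
  rw [← D.ha2, h, one_pow]

theorem orderOf_a : orderOf D.a = 4 := by
  have h := orderOf_eq_prime_pow (x := D.a) (p := 2) (n := 1) (by
    simp only [pow_one]
    rw [D.ha2]
    exact D.ht1) (by
    simpa using D.ha4)
  simpa using h

theorem t_eq : D.t = D.a * D.a := by rw [← D.ha2, sq]

theorem t_mul_t : D.t * D.t = 1 := by
  rw [← D.ha2, ← pow_add]
  exact D.ha4

theorem orderOf_t : orderOf D.t = 2 := orderOf_eq_prime (by rw [sq, t_mul_t]) D.ht1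

theorem a_inv : D.a⁻¹ = D.a * D.t := by
  rw [inv_eq_iff_mul_eq_one, ← D.ha4, ← D.ha2]
  group

theorem a_ne_inv : D.a ≠ D.a⁻¹ := by
  intro h
  apply D.ht1
  rw [← D.ha2, sq]
  nth_rw 1 [h]
  simp

theorem mem_C {y : G} (hy : y ∈ zpowers D.a) : y = 1 ∨ y = D.a ∨ y = D.t ∨ y = D.a⁻¹ := by
  obtain ⟨k, rfl⟩ := mem_zpowers_iff.mp hy
  have h1 : D.a ^ k = D.a ^ (k % (orderOf D.a : ℤ)) := (zpow_mod_orderOf D.a k).symm
  rw [orderOf_a] at h1
  have h2 : k % ((4 : ℕ) : ℤ) = 0 ∨ k % ((4 : ℕ) : ℤ) = 1 ∨ k % ((4 : ℕ) : ℤ) = 2 ∨ k % ((4 : ℕ) : ℤ) = 3 := by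
    omega
  rcases h2 with h | h | h | h <;> rw [h] at h1
  · left
    simpa using h1
  · right; left
    simpa using h1
  · right; right; left
    rw [h1, ← D.ha2]
    exact zpow_natCast D.a 2
  · right; right; right
    rw [h1, eq_inv_iff_mul_eq_one, ← D.ha4]
    rw [show ((3 : ℤ)) = ((3 : ℕ) : ℤ) from rfl, zpow_natCast, ← pow_succ]

theorem t_mem_C : D.t ∈ zpowers D.a := by
  rw [← D.ha2]
  exact pow_mem (mem_zpowers _) 2

theorem inv_of_mem_C {y : G} (hy : y ∈ zpowers D.a) : D.s * y * D.s⁻¹ = y⁻¹ := by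
  obtain ⟨k, rfl⟩ := mem_zpowers_iff.mp hy
  rw [← conj_zpow, D.hsa, inv_zpow]

theorem s_inv : D.s⁻¹ = D.s := by
  rw [inv_eq_iff_mul_eq_one]
  exact D.hs2

theorem refl_inv {y : G} (hy : y ∈ zpowers D.a) (i : ℕ) :
    (D.s * D.a ^ i) * y * (D.s * D.a ^ i)⁻¹ = y⁻¹ := by
  have h1 : Commute (D.a ^ i) y := by
    obtain ⟨k, rfl⟩ := mem_zpowers_iff.mp hy
    exact ((Commute.refl D.a).pow_left i).zpow_right k
  calc (D.s * D.a ^ i) * y * (D.s * D.a ^ i)⁻¹ = D.s * (D.a ^ i * y) * (D.a ^ i)⁻¹ * D.s⁻¹ := by group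
    _ = D.s * (y * D.a ^ i) * (D.a ^ i)⁻¹ * D.s⁻¹ := by rw [h1.eq]
    _ = D.s * y * D.s⁻¹ := by group
    _ = y⁻¹ := D.inv_of_mem_C hy

theorem refl_sq (i : ℕ) : (D.s * D.a ^ i) * (D.s * D.a ^ i) = 1 := by
  calc (D.s * D.a ^ i) * (D.s * D.a ^ i) = (D.s * D.a ^ i * D.s⁻¹) * (D.s * D.s) * D.a ^ i := by group
    _ = 1 := by
      rw [D.inv_of_mem_C (pow_mem (mem_zpowers _) i), D.hs2]
      group

theorem refl_not_mem (i : ℕ) : D.s * D.a ^ i ∉ zpowers D.a := by
  intro h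
  apply D.hsC
  have h2 := mul_mem h (inv_mem (pow_mem (mem_zpowers D.a) i))
  simpa using h2

theorem refl_ne_one (i : ℕ) : D.s * D.a ^ i ≠ 1 := by
  intro h
  exact D.refl_not_mem i (h ▸ one_mem _)

theorem orderOf_refl (i : ℕ) : orderOf (D.s * D.a ^ i) = 2 :=
  orderOf_eq_prime (by rw [sq, refl_sq]) (D.refl_ne_one i)

theorem mem_T_iff {g : G} : g ∈ centralizer ({D.t} : Set G) ↔ g * D.t = D.t * g := by
  rw [mem_centralizer_iff]
  constructor
  · intro h
    exact (h D.t rfl).symm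
  · intro h x hx
    rw [Set.mem_singleton_iff.mp hx]
    exact h.symm

theorem C_le_T : zpowers D.a ≤ centralizer ({D.t} : Set G) := by
  rw [zpowers_le, mem_T_iff, ← D.ha2]
  exact ((Commute.refl D.a).pow_right 2).eq

theorem refl_mem_T (i : ℕ) : D.s * D.a ^ i ∈ centralizer ({D.t} : Set G) := by
  rw [mem_T_iff]
  have h := D.refl_inv D.t_mem_C i
  have h2 : D.t⁻¹ = D.t := by
    rw [inv_eq_iff_mul_eq_one, t_mul_t]
  rw [h2] at h
  rw [mul_inv_eq_iff_eq_mul] at h
  exact h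

theorem refl_of_mem_T {g : G} (hg : g ∈ centralizer ({D.t} : Set G)) (hC : g ∉ zpowers D.a) :
    ∃ i : ℕ, g = D.s * D.a ^ i := by
  obtain ⟨i, hi | hi⟩ := D.hcen g (D.mem_T_iff.mp hg)
  · exact absurd (hi ▸ pow_mem (mem_zpowers _) i) hC
  · exact ⟨i, hi⟩

/-- Conjugation on `C`. -/
theorem inv_of_mem_T {g y : G} (hg : g ∈ centralizer ({D.t} : Set G)) (hC : g ∉ zpowers D.a)
    (hy : y ∈ zpowers D.a) : g * y * g⁻¹ = y⁻¹ := by
  obtain ⟨i, rfl⟩ := D.refl_of_mem_T hg hC
  exact D.refl_inv hy i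

theorem eq_t_of_involution {y : G} (hy : y ∈ zpowers D.a) (h1 : y ≠ 1) (h2 : y * y = 1) : y = D.t := by
  rcases D.mem_C hy with h | h | h | h
  · exact absurd h h1
  · exfalso
    apply D.ht1
    rw [← D.ha2, sq, ← h, h2]
  · exact h
  · exfalso
    apply D.ht1
    rw [h] at h2
    rw [← D.ha2, sq]
    have : D.a * D.a = (D.a⁻¹ * D.a⁻¹)⁻¹ := by simp
    rw [this, h2, inv_one]

/-- The centre of `T` has the unique involution. -/
theorem eq_t_of_central {z : G} (h1 : z ≠ 1) (ha : z * D.a = D.a * z) (hs : z * D.s = D.s * z) : z = D.t := by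
  have hzt : z * D.t = D.t * z := by
    rw [← D.ha2]
    exact ((show Commute z D.a from ha).pow_right 2).eq
  obtain ⟨i, hi | hi⟩ := D.hcen z hzt
  · have hmem : z ∈ zpowers D.a := hi ▸ pow_mem (mem_zpowers _) i
    rcases D.mem_C hmem with h | h | h | h
    · exact absurd h h1
    · exfalso
      apply D.a_ne_inv
      rw [← D.hsa, ← h, ← hs, mul_inv_cancel_right]
    · exact h
    · exfalso
      apply D.a_ne_inv
      have h2 := D.inv_of_mem_C (y := z) hmem
      rw [← hs, mul_inv_cancel_right, h] at h2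
      rw [inv_inv] at h2
      exact h2.symm
  · exfalso
    apply D.a_ne_inv
    have h2 := D.refl_inv (mem_zpowers D.a) i
    rw [← hi, ha, mul_inv_cancel_right] at h2
    exact h2

theorem a_not_mul_eq_of_refl (i : ℕ) : (D.s * D.a ^ i) * D.a ≠ D.a * (D.s * D.a ^ i) := by
  intro h
  apply D.a_ne_inv
  have h2 := D.refl_inv (mem_zpowers D.a) i
  rw [h, mul_inv_cancel_right] at h2
  exact h2

/-- The centralizer of `a`. -/
theorem centralizer_a : centralizer ({D.a} : Set G) = zpowers D.a := by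
  apply le_antisymm
  · intro g hg
    rw [mem_centralizer_iff] at hg
    have h1 : D.a * g = g * D.a := hg D.a rfl
    have hzt : g * D.t = D.t * g := by
      rw [← D.ha2]
      exact ((show Commute g D.a from h1.symm).pow_right 2).eq
    obtain ⟨i, hi | hi⟩ := D.hcen g hzt
    · exact hi ▸ pow_mem (mem_zpowers _) i
    · exact absurd (hi ▸ h1.symm) (D.a_not_mul_eq_of_refl i)
  · rw [zpowers_le, mem_centralizer_iff]
    intro h hh
    rw [Set.mem_singleton_iff.mp hh]

theorem card_C : Nat.card (zpowers D.a) = 4 := by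
  rw [Nat.card_zpowers, orderOf_a]

theorem relIndex_C : (zpowers D.a).relIndex (centralizer ({D.t} : Set G)) = 2 := by
  have h1 := Subgroup.card_mul_index ((zpowers D.a).subgroupOf (centralizer ({D.t} : Set G)))
  rw [Nat.card_congr (Subgroup.subgroupOfEquivOfLe D.C_le_T).toEquiv, D.card_C, D.hcard] at h1
  show ((zpowers D.a).subgroupOf (centralizer ({D.t} : Set G))).index = 2
  omega

/-- `T` is a Sylow `2`-subgroup. -/
theorem exists_sylow [Finite G] : ∃ P : Sylow 2 G, (P : Subgroup G) = centralizer ({D.t} : Set G) := by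
  classical
  haveI : Fact (Nat.Prime 2) := ⟨Nat.prime_two⟩
  have hT : IsPGroup 2 (centralizer ({D.t} : Set G)) :=
    IsPGroup.of_card (n := 3) (by rw [D.hcard]; norm_num)
  obtain ⟨P, hP⟩ := hT.exists_le_sylow
  refine ⟨P, le_antisymm ?_ hP⟩
  haveI : Nontrivial (P : Subgroup G) := by
    refine ⟨⟨⟨D.t, hP (D.mem_T_iff.mpr rfl)⟩, 1, ?_⟩⟩
    intro h
    exact D.ht1 (congrArg Subtype.val h)
  have hc := P.isPGroup'.center_nontrivial
  obtain ⟨z, hz⟩ := exists_ne (1 : center (P : Subgroup G))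
  have hz1 : ((z : P) : G) ≠ 1 := by
    intro h
    apply hz
    apply Subtype.ext
    apply Subtype.ext
    exact h
  have hcomm : ∀ g, g ∈ centralizer ({D.t} : Set G) → ((z : P) : G) * g = g * ((z : P) : G) := by
    intro g hg
    have h1 := (mem_center_iff.mp z.2) ⟨g, hP hg⟩
    exact (congrArg Subtype.val h1).symm
  have hzt : ((z : P) : G) = D.t :=
    D.eq_t_of_central hz1 (hcomm _ (D.C_le_T (mem_zpowers _)))
      (by simpa using hcomm _ (D.refl_mem_T 0))
  intro g hg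
  rw [D.mem_T_iff]
  have h1 := (mem_center_iff.mp z.2) ⟨g, hg⟩
  have h2 := congrArg Subtype.val h1
  rw [← hzt]
  exact h2

/-- Thompson transfer: the reflections are conjugate to `t`. -/
theorem isConj_refl [Finite G] (hperf : commutator G = ⊤) (i : ℕ) : IsConj D.t (D.s * D.a ^ i) := by
  obtain ⟨P, hP⟩ := D.exists_sylow
  have hQi : (zpowers D.a).relIndex (P : Subgroup G) = 2 := by
    rw [hP]
    exact D.relIndex_C
  have hres := Cfsg.Agent.S0111.result P (zpowers D.a) (hP ▸ D.C_le_T) hQi (D.s * D.a ^ i) (D.orderOf_refl i)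
    (hP ▸ D.refl_mem_T i) (D.refl_not_mem i)
  rcases hres with ⟨M, hM, hMi, _⟩ | ⟨g, hg⟩
  · exfalso
    have hcomm : commutator G ≤ M := by
      haveI : Fact (Nat.Prime 2) := ⟨Nat.prime_two⟩
      haveI hc : IsCyclic (G ⧸ M) := isCyclic_of_prime_card (p := 2) hMi
      rw [commutator_def, Subgroup.commutator_le]
      intro x _ y _
      rw [← QuotientGroup.eq_one_iff]
      have h1 : ((x : G ⧸ M)) * (y : G ⧸ M) = (y : G ⧸ M) * (x : G ⧸ M) := by
        obtain ⟨g, hg⟩ := hc.exists_generator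
        obtain ⟨k, hk⟩ := mem_zpowers_iff.mp (hg (x : G ⧸ M))
        obtain ⟨l, hl⟩ := mem_zpowers_iff.mp (hg (y : G ⧸ M))
        rw [← hk, ← hl]
        exact ((Commute.refl g).zpow_zpow k l).eq
      rw [commutatorElement_def, QuotientGroup.mk_mul, QuotientGroup.mk_mul, QuotientGroup.mk_mul,
        QuotientGroup.mk_inv, QuotientGroup.mk_inv, h1]
      group
    rw [hperf, top_le_iff] at hcomm
    rw [hcomm, Subgroup.index_top] at hMi
    norm_num at hMi
  · have h1 : g * (D.s * D.a ^ i) * g⁻¹ ≠ 1 := by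
      intro h
      apply D.refl_ne_one i
      have : D.s * D.a ^ i = g⁻¹ * (g * (D.s * D.a ^ i) * g⁻¹) * g := by group
      rw [this, h]
      group
    have h2 : (g * (D.s * D.a ^ i) * g⁻¹) * (g * (D.s * D.a ^ i) * g⁻¹) = 1 := by
      have : (g * (D.s * D.a ^ i) * g⁻¹) * (g * (D.s * D.a ^ i) * g⁻¹) =
          g * ((D.s * D.a ^ i) * (D.s * D.a ^ i)) * g⁻¹ := by group
      rw [this, refl_sq]
      group
    have h3 := D.eq_t_of_involution hg h1 h2
    rw [isConj_comm, isConj_iff]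
    exact ⟨g, h3⟩

end D8Data

end Cfsg.Agent.Lib.Char.CentD8
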