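import Cfsg.Agent.Lib.Char.CentD8

/-! # Finite perfect groups with an involution whose centralizer is dihedral of order eight: characters. -/

set_option autoImplicit false
set_option linter.unusedSectionVars false
set_option linter.style.haveILetI false

namespace Cfsg.Agent.Lib.Char.CentD8

open Cfsg Subgroup Cfsg.Agent.Lib.Char Cfsg.Agent.Lib.Char.BrSuz
open scoped ComplexConjugate

universe u

section General

variable {G : Type u} [Group G] [Fintype G]

theorem exists_step {ι : Type*} [DecidableEq ι] {S : Finset ι} {c : ι → ℤ} {k : ℤ} (h : ∑ a ∈ S, c a ^ 2 = k)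
    (hk : 1 ≤ k) (hk3 : k ≤ 3) :
    ∃ a ∈ S, (c a = 1 ∨ c a = -1) ∧ ∑ b ∈ S.erase a, c b ^ 2 = k - 1 := by
  have hne : ∃ a ∈ S, c a ≠ 0 := by
    by_contra hcon
    push Not at hcon
    have : ∑ a ∈ S, c a ^ 2 = 0 := Finset.sum_eq_zero fun a ha => by rw [hcon a ha]; simp
    omega
  obtain ⟨a, ha, hca⟩ := hne
  have hsplit := Finset.add_sum_erase S (fun b => c b ^ 2) ha
  have hrest : 0 ≤ ∑ b ∈ S.erase a, c b ^ 2 := Finset.sum_nonneg fun b _ => sq_nonneg _
  have hle : c a ^ 2 ≤ 3 := by omega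
  have h1 : c a = 1 ∨ c a = -1 := by
    have h2 : |c a| < 2 := by
      apply abs_lt_of_sq_lt_sq <;> omega
    have := abs_lt.mp h2
    omega
  refine ⟨a, ha, h1, ?_⟩
  have h3 : c a ^ 2 = 1 := by
    rcases h1 with h | h <;> rw [h] <;> norm_num
  omega

/-- A generalized character of norm four containing the principal character once. -/
theorem exists_three_irr {Θ : G → ℂ} (hΘ : IsGeneralizedCharacter G Θ)
    (h4 : classInner Θ Θ = 4) (h1 : classInner Θ (fun _ => (1 : ℂ)) = 1) :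
    ∃ χ₁ χ₂ χ₃ : IrrCharacter G, χ₁ ≠ χ₂ ∧ χ₁ ≠ χ₃ ∧ χ₂ ≠ χ₃ ∧
      (χ₁ : G → ℂ) ≠ (fun _ => 1) ∧ (χ₂ : G → ℂ) ≠ (fun _ => 1) ∧ (χ₃ : G → ℂ) ≠ (fun _ => 1) ∧
      ∃ ε₁ ε₂ ε₃ : ℤ, (ε₁ = 1 ∨ ε₁ = -1) ∧ (ε₂ = 1 ∨ ε₂ = -1) ∧ (ε₃ = 1 ∨ ε₃ = -1) ∧
        classInner Θ (χ₁ : G → ℂ) = ε₁ ∧ classInner Θ (χ₂ : G → ℂ) = ε₂ ∧ classInner Θ (χ₃ : G → ℂ) = ε₃ ∧
        ∀ g, Θ g = 1 + ε₁ * (χ₁ : G → ℂ) g + ε₂ * (χ₂ : G → ℂ) g + ε₃ * (χ₃ : G → ℂ) g := by
  classical
  obtain ⟨c, hc, hs⟩ := IsGeneralizedCharacter.exists_int_coeffs hΘ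
  have hcl : IsClassFunction G Θ := by
    obtain ⟨χ, φ, hχ, hφ, rfl⟩ := hΘ
    exact IsClassFunction.sub (IsCharacter.isClassFunction hχ) (IsCharacter.isClassFunction hφ)
  have hsum : ∑ ψ : IrrCharacter G, c ψ ^ 2 = 4 := by
    have h3 := classInner_eq_sum_coeffs Θ Θ hcl hcl
    rw [h4] at h3
    simp only [hc, map_intCast] at h3
    have h5 : ((∑ ψ : IrrCharacter G, c ψ ^ 2 : ℤ) : ℂ) = ((4 : ℤ) : ℂ) := by
      push_cast
      rw [h3]
      refine Finset.sum_congr rfl fun ψ _ => ?_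
      ring
    exact_mod_cast h5
  let ψ₀ : IrrCharacter G := ⟨fun _ => 1, isIrrCharacter_one⟩
  have hc0 : c ψ₀ = 1 := by
    have h5 := hc ψ₀
    change classInner Θ (fun _ => (1 : ℂ)) = _ at h5
    rw [h1] at h5
    exact_mod_cast h5.symm
  have hsplit := Finset.add_sum_erase Finset.univ (fun ψ : IrrCharacter G => c ψ ^ 2) (Finset.mem_univ ψ₀)
  rw [hsum, hc0] at hsplit
  have hS0 : ∑ ψ ∈ Finset.univ.erase ψ₀, c ψ ^ 2 = 3 := by linarith
  obtain ⟨a, ha, hca, hS1⟩ := exists_step hS0 (by norm_num) (by norm_num)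
  obtain ⟨b, hb, hcb, hS2⟩ := exists_step hS1 (by norm_num) (by norm_num)
  obtain ⟨d, hd, hcd, hS3⟩ := exists_step hS2 (by norm_num) (by norm_num)
  have haψ : a ≠ ψ₀ := Finset.ne_of_mem_erase ha
  have hba : b ≠ a := Finset.ne_of_mem_erase hb
  have hb' := Finset.mem_of_mem_erase hb
  have hbψ : b ≠ ψ₀ := Finset.ne_of_mem_erase hb'
  have hdb : d ≠ b := Finset.ne_of_mem_erase hd
  have hd' := Finset.mem_of_mem_erase hd
  have hda : d ≠ a := Finset.ne_of_mem_erase hd'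
  have hd'' := Finset.mem_of_mem_erase hd'
  have hdψ : d ≠ ψ₀ := Finset.ne_of_mem_erase hd''
  have hrest : ∀ ψ ∈ ((((Finset.univ.erase ψ₀).erase a).erase b).erase d), c ψ = 0 := by
    have h0 : ∑ ψ ∈ ((((Finset.univ.erase ψ₀).erase a).erase b).erase d), c ψ ^ 2 = 0 := by
      rw [hS3]; norm_num
    have := (Finset.sum_eq_zero_iff_of_nonneg (fun ψ _ => sq_nonneg (c ψ))).mp h0
    intro ψ hψ
    exact pow_eq_zero_iff (two_ne_zero) |>.mp (this ψ hψ)
  have hne : ∀ x : IrrCharacter G, x ≠ ψ₀ → (x : G → ℂ) ≠ fun _ => 1 := fun x hx h => hx (Subtype.ext h)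
  refine ⟨a, b, d, hba.symm, hda.symm, hdb.symm, hne a haψ, hne b hbψ, hne d hdψ, c a, c b, c d, hca, hcb, hcd,
    hc a, hc b, hc d, ?_⟩
  intro g
  rw [hs, Finset.sum_apply, ← Finset.add_sum_erase Finset.univ _ (Finset.mem_univ ψ₀),
    ← Finset.add_sum_erase (Finset.univ.erase ψ₀) _ ha,
    ← Finset.add_sum_erase ((Finset.univ.erase ψ₀).erase a) _ hb,
    ← Finset.add_sum_erase (((Finset.univ.erase ψ₀).erase a).erase b) _ hd,
    Finset.sum_eq_zero (s := (((Finset.univ.erase ψ₀).erase a).erase b).erase d)]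
  · simp only [Pi.smul_apply, smul_eq_mul, hc0]
    have : (ψ₀ : G → ℂ) g = 1 := rfl
    rw [this]
    push_cast
    ring
  · intro ψ hψ
    rw [Pi.smul_apply, hrest ψ hψ]
    simp

end General

namespace D8Data

variable {G : Type u} [Group G] (D : D8Data G)

/-- The cyclic subgroup of order four. -/
abbrev CC : Subgroup G := zpowers D.a

/-- The generator. -/
def gen : D.CC := ⟨D.a, mem_zpowers _⟩

theorem mem_gen (x : D.CC) : x ∈ zpowers D.gen := by
  obtain ⟨i, hi⟩ := mem_zpowers_iff.mp x.2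
  refine mem_zpowers_iff.mpr ⟨i, ?_⟩
  apply Subtype.ext
  exact hi

theorem orderOf_gen : orderOf D.gen = 4 := by
  rw [gen, Subgroup.orderOf_mk, orderOf_a]

theorem gen_sq : ((D.gen ^ 2 : D.CC) : G) = D.t := D.ha2

theorem gen_cube : ((D.gen ^ 3 : D.CC) : G) = D.a⁻¹ := by
  show D.a ^ 3 = D.a⁻¹
  rw [eq_inv_iff_mul_eq_one, ← pow_succ]
  exact D.ha4

/-- A character of the cyclic subgroup of order four. -/
noncomputable def chi (w : ℂˣ) (hw : w ^ 4 = 1) : D.CC →* ℂˣ :=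
  monoidHomOfForallMemZpowers D.mem_gen (by
    rw [orderOf_gen]
    exact orderOf_dvd_of_pow_eq_one hw)

theorem chi_gen (w : ℂˣ) (hw : w ^ 4 = 1) : D.chi w hw D.gen = w :=
  monoidHomOfForallMemZpowers_apply_gen D.mem_gen _

/-- The sum over the cyclic subgroup. -/
theorem sum_C [Fintype D.CC] (F : D.CC → ℂ) :
    ∑ y : D.CC, F y = F 1 + F D.gen + F (D.gen ^ 2) + F (D.gen ^ 3) := by
  let f : Fin 4 → D.CC := fun i => D.gen ^ (i : ℕ)
  have hinj : Function.Injective f := by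
    intro i j hij
    have h1 : (i : ℕ) < orderOf D.gen := by rw [orderOf_gen]; exact i.2
    have h2 : (j : ℕ) < orderOf D.gen := by rw [orderOf_gen]; exact j.2
    exact Fin.ext (pow_injOn_Iio_orderOf (Set.mem_Iio.mpr h1) (Set.mem_Iio.mpr h2) hij)
  have hcard : Fintype.card (Fin 4) = Fintype.card D.CC := by
    rw [Fintype.card_fin, ← Nat.card_eq_fintype_card, card_C]
  have hbij : Function.Bijective f := (Fintype.bijective_iff_injective_and_card f).mpr ⟨hinj, hcard⟩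
  rw [← (Equiv.ofBijective f hbij).sum_comp, Fin.sum_univ_four]
  simp [f]

/-- The character sending the generator to `-1`. -/
noncomputable def lam : D.CC →* ℂˣ := D.chi (-1) (Even.neg_one_pow (by decide))

theorem lam_gen : D.lam D.gen = -1 := chi_gen _ _ _

theorem lam_gen_sq : D.lam (D.gen ^ 2) = 1 := by
  rw [map_pow, lam_gen]
  simp

theorem lam_gen_cube : D.lam (D.gen ^ 3) = -1 := by
  rw [map_pow, lam_gen]
  exact Odd.neg_one_pow (by decide)

theorem eq_gen_pow (y : D.CC) : y = 1 ∨ y = D.gen ∨ y = D.gen ^ 2 ∨ y = D.gen ^ 3 := by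
  rcases D.mem_C y.2 with h | h | h | h
  · left; exact Subtype.ext h
  · right; left; exact Subtype.ext h
  · right; right; left; exact Subtype.ext (h.trans D.gen_sq.symm)
  · right; right; right; exact Subtype.ext (h.trans D.gen_cube.symm)

theorem lam_ne_one {y : D.CC} (h : D.lam y ≠ 1) : (y : G) = D.a ∨ (y : G) = D.a⁻¹ := by
  rcases D.eq_gen_pow y with rfl | rfl | rfl | rfl
  · simp at h
  · left; rfl
  · exact absurd D.lam_gen_sq h
  · right; exact D.gen_cube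

theorem isConj_a_inv : IsConj D.a D.a⁻¹ := isConj_iff.mpr ⟨D.s, D.hsa⟩

theorem a_mul_a : D.a * D.a = D.t := by rw [← D.ha2, sq]

theorem t_inv : D.t⁻¹ = D.t := by
  rw [inv_eq_iff_mul_eq_one, t_mul_t]

theorem a_inv_mul_a_inv : D.a⁻¹ * D.a⁻¹ = D.t := by
  rw [← mul_inv_rev, a_mul_a, t_inv]

theorem TI (y : D.CC) (g : G) (h : D.lam y ≠ 1) (hg : g * y * g⁻¹ ∈ D.CC) : g ∈ centralizer ({D.t} : Set G) := by
  have hyy : (y : G) * y = D.t := by
    rcases D.lam_ne_one h with h' | h' <;> rw [h']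
    · exact D.a_mul_a
    · exact D.a_inv_mul_a_inv
  have h1 : (g * y * g⁻¹) * (g * y * g⁻¹) = g * D.t * g⁻¹ := by
    rw [← hyy]
    group
  have h2 : g * D.t * g⁻¹ ∈ D.CC := h1 ▸ mul_mem hg hg
  have h3 : g * D.t * g⁻¹ ≠ 1 := by
    intro h4
    apply D.ht1
    have : D.t = g⁻¹ * (g * D.t * g⁻¹) * g := by group
    rw [this, h4]
    group
  have h4 : (g * D.t * g⁻¹) * (g * D.t * g⁻¹) = 1 := by
    have : (g * D.t * g⁻¹) * (g * D.t * g⁻¹) = g * (D.t * D.t) * g⁻¹ := by group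
    rw [this, t_mul_t]
    group
  have h5 := D.eq_t_of_involution h2 h3 h4
  rw [mem_T_iff]
  rw [mul_inv_eq_iff_eq_mul] at h5
  exact h5

theorem conj_lam (g : G) (hN : g ∈ centralizer ({D.t} : Set G)) (hC : g ∉ D.CC) (y : D.CC)
    (h : g * y * g⁻¹ ∈ D.CC) : D.lam ⟨_, h⟩ = (D.lam y)⁻¹ := by
  have h1 : (⟨_, h⟩ : D.CC) = y⁻¹ := Subtype.ext (D.inv_of_mem_T hN hC y.2)
  rw [h1, map_inv]

variable [Fintype G]

/-- The induced function. -/
noncomputable def Th : G → ℂ := indFun D.CC (thetaL D.lam)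

theorem Th_val (y : D.CC) : D.Th y = (1 - (D.lam y : ℂ)) + (1 - ((D.lam y)⁻¹ : ℂˣ)) :=
  ind_thetaL_apply D.C_le_T D.relIndex_C D.lam D.TI D.conj_lam y

theorem Th_a : D.Th D.a = 4 := by
  have h := D.Th_val D.gen
  rw [lam_gen] at h
  have h1 : ((D.gen : D.CC) : G) = D.a := rfl
  rw [h1] at h
  rw [h]
  simp
  norm_num

theorem Th_t : D.Th D.t = 0 := by
  have h := D.Th_val (D.gen ^ 2)
  rw [lam_gen_sq, D.gen_sq] at h
  rw [h]
  simp

theorem Th_one : D.Th 1 = 0 := by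
  have h := D.Th_val 1
  rw [map_one] at h
  rw [← Subgroup.coe_one (H := D.CC), h]
  simp

theorem Th_cl : IsClassFunction G D.Th := isClassFunction_indFun _ _

theorem Th_of_isConj {g : G} (h : IsConj D.a g) : D.Th g = 4 := by
  rw [← IsClassFunction.congr_isConj D.Th_cl h, Th_a]

theorem Th_of_not_isConj {g : G} (h : ¬ IsConj D.a g) : D.Th g = 0 := by
  apply ind_thetaL_zero
  intro x hx
  by_contra hne
  apply h
  have h1 : IsConj (x⁻¹ * g * x) g := by
    rw [isConj_iff]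
    exact ⟨x, by group⟩
  rcases D.lam_ne_one hne with h' | h'
  · rw [← show ((⟨x⁻¹ * g * x, hx⟩ : D.CC) : G) = x⁻¹ * g * x from rfl, h'] at h1
    exact h1
  · rw [← show ((⟨x⁻¹ * g * x, hx⟩ : D.CC) : G) = x⁻¹ * g * x from rfl, h'] at h1
    exact D.isConj_a_inv.trans h1


/-! ### Inner products -/

/-- The value of the inner product with a class function of `C`. -/
theorem classInner_C [Fintype D.CC] (F H : D.CC → ℂ) :
    classInner F H = (1 / 4) * (F 1 * conj (H 1) + F D.gen * conj (H D.gen) + F (D.gen ^ 2) * conj (H (D.gen ^ 2))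
      + F (D.gen ^ 3) * conj (H (D.gen ^ 3))) := by
  rw [classInner, D.sum_C, card_C]
  norm_num

theorem lam_inv_eq (y : D.CC) : (D.lam y)⁻¹ = D.lam y := by
  rcases D.eq_gen_pow y with rfl | rfl | rfl | rfl
  · simp
  · rw [lam_gen]; simp
  · rw [lam_gen_sq]; simp
  · rw [lam_gen_cube]; simp

theorem norm_Th : classInner D.Th D.Th = 4 := by
  classical
  letI : Fintype D.CC := Fintype.ofFinite _
  rw [Th, classInner_indFun_left _ _ _ (isClassFunction_indFun _ _)]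
  rw [classInner_C]
  have h1 : ∀ y : D.CC, indFun D.CC (thetaL D.lam) y = (1 - (D.lam y : ℂ)) + (1 - ((D.lam y)⁻¹ : ℂˣ)) := D.Th_val
  simp only [thetaL, h1, lam_inv_eq, map_one, lam_gen, lam_gen_sq, lam_gen_cube]
  simp
  norm_num

theorem inner_Th_one : classInner D.Th (fun _ => (1 : ℂ)) = 1 := by
  classical
  letI : Fintype D.CC := Fintype.ofFinite _
  rw [Th, classInner_indFun_left _ _ _ (IsCharacter.isClassFunction (IsIrrCharacter.isCharacter isIrrCharacter_one))]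
  rw [classInner_C]
  simp only [thetaL, map_one, lam_gen, lam_gen_sq, lam_gen_cube]
  simp
  norm_num

theorem isGen_Th : IsGeneralizedCharacter G D.Th := by
  classical
  letI : Fintype D.CC := Fintype.ofFinite _
  apply isGeneralizedCharacter_indFun
  exact ⟨fun _ => 1, fun y => (D.lam y : ℂ), IsIrrCharacter.isCharacter isIrrCharacter_one,
    IsIrrCharacter.isCharacter (isIrrCharacter_of_monoidHom D.lam), rfl⟩

theorem coe_gen : ((D.gen : D.CC) : G) = D.a := rfl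

/-- Inner product with a class function. -/
theorem inner_Th {χ : G → ℂ} (hχ : IsClassFunction G χ) : classInner D.Th χ = conj (χ D.a) := by
  classical
  letI : Fintype D.CC := Fintype.ofFinite _
  rw [Th, classInner_indFun_left _ _ _ hχ, classInner_C]
  have h3 : χ ((D.gen ^ 3 : D.CC) : G) = χ D.a := by
    rw [gen_cube]
    exact (IsClassFunction.congr_isConj hχ D.isConj_a_inv).symm
  simp only [thetaL, map_one, lam_gen, lam_gen_sq, lam_gen_cube, h3, coe_gen]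
  simp
  ring

/-- The principal multiplicity on `C`. -/
theorem mult_one {χ : G → ℂ} (hχ : IsCharacter G χ) :
    ∃ m : ℕ, χ 1 + 2 * χ D.a + χ D.t = 4 * m := by
  classical
  letI : Fintype D.CC := Fintype.ofFinite _
  obtain ⟨m, hm⟩ := IsCharacter.classInner_irr_eq_nat (isCharacter_resFun D.CC hχ)
    (isIrrCharacter_one (G := D.CC))
  refine ⟨m, ?_⟩
  rw [classInner_C] at hm
  have h3 : χ ((D.gen ^ 3 : D.CC) : G) = χ D.a := by
    rw [gen_cube]
    exact (IsClassFunction.congr_isConj (IsCharacter.isClassFunction hχ) D.isConj_a_inv).symm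
  simp only [resFun, coe_gen, gen_sq, h3, map_one, OneMemClass.coe_one] at hm
  rw [← hm]
  simp
  ring

/-- The multiplicity of the faithful character on `C`. -/
theorem mult_i {χ : G → ℂ} (hχ : IsCharacter G χ) :
    ∃ m : ℕ, χ 1 - χ D.t = 4 * m := by
  classical
  letI : Fintype D.CC := Fintype.ofFinite _
  let w : ℂˣ := Units.mk0 Complex.I Complex.I_ne_zero
  have hw : w ^ 4 = 1 := by
    apply Units.ext
    simp [w]
  let μ := D.chi w hw
  have hμ1 : (μ D.gen : ℂ) = Complex.I := by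
    rw [chi_gen]
    rfl
  obtain ⟨m, hm⟩ := IsCharacter.classInner_irr_eq_nat (isCharacter_resFun D.CC hχ)
    (isIrrCharacter_of_monoidHom μ)
  refine ⟨m, ?_⟩
  rw [classInner_C] at hm
  have h3 : χ ((D.gen ^ 3 : D.CC) : G) = χ D.a := by
    rw [gen_cube]
    exact (IsClassFunction.congr_isConj (IsCharacter.isClassFunction hχ) D.isConj_a_inv).symm
  simp only [resFun, coe_gen, gen_sq, h3, map_one, OneMemClass.coe_one, map_pow, Units.val_pow_eq_pow_val, hμ1] at hm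
  have hI3 : Complex.I ^ 3 = -Complex.I := by
    rw [pow_succ, Complex.I_sq]
    ring
  rw [← hm]
  simp
  linear_combination (χ D.a) * hI3

/-- The basic numerical data of an irreducible constituent. -/
theorem irr_data {χ : G → ℂ} (hχ : IsIrrCharacter G χ) {ε : ℤ} (hε : ε = 1 ∨ ε = -1) (hx : χ D.a = ε) :
    ∃ (d : ℕ) (b : ℤ), χ 1 = d ∧ χ D.t = b ∧ Odd d ∧ (4 : ℤ) ∣ (d : ℤ) - b := by
  obtain ⟨d, -, hd⟩ := IsIrrCharacter.apply_one hχ
  obtain ⟨m₁, hm₁⟩ := D.mult_i (IsIrrCharacter.isCharacter hχ)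
  obtain ⟨m₀, hm₀⟩ := D.mult_one (IsIrrCharacter.isCharacter hχ)
  have hb : χ D.t = (((d : ℤ) - 4 * m₁ : ℤ) : ℂ) := by
    rw [hd] at hm₁
    push_cast
    linear_combination -hm₁
  refine ⟨d, (d : ℤ) - 4 * m₁, hd, hb, ?_, ⟨m₁, by ring⟩⟩
  have h1 : ((d : ℤ) + 2 * ε + ((d : ℤ) - 4 * m₁) : ℂ) = ((4 * m₀ : ℤ) : ℂ) := by
    rw [hb, hd, hx] at hm₀
    push_cast at hm₀ ⊢
    linear_combination hm₀
  have h2 : (d : ℤ) + 2 * ε + ((d : ℤ) - 4 * m₁) = 4 * m₀ := by
    exact_mod_cast h1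
  have h3 : Odd (d : ℤ) := by
    rcases hε with rfl | rfl
    · exact ⟨m₀ + m₁ - 1, by linarith⟩
    · exact ⟨m₀ + m₁, by linarith⟩
  exact_mod_cast h3

/-- Second orthogonality at the involution. -/
theorem orth_t {χ₁ χ₂ χ₃ : IrrCharacter G} (h12 : χ₁ ≠ χ₂) (h13 : χ₁ ≠ χ₃) (h23 : χ₂ ≠ χ₃)
    (h1 : (χ₁ : G → ℂ) ≠ fun _ => 1) (h2 : (χ₂ : G → ℂ) ≠ fun _ => 1) (h3 : (χ₃ : G → ℂ) ≠ fun _ => 1)
    {b₁ b₂ b₃ : ℤ} (hb₁ : (χ₁ : G → ℂ) D.t = b₁) (hb₂ : (χ₂ : G → ℂ) D.t = b₂) (hb₃ : (χ₃ : G → ℂ) D.t = b₃) :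
    1 + b₁ ^ 2 + b₂ ^ 2 + b₃ ^ 2 ≤ 8 := by
  classical
  have h := sum_irr_mul_conj_of_isConj (IsConj.refl D.t)
  rw [D.hcard] at h
  have hreal : ∀ χ : IrrCharacter G, (χ : G → ℂ) D.t * conj ((χ : G → ℂ) D.t) =
      ((Complex.normSq ((χ : G → ℂ) D.t) : ℝ) : ℂ) := fun χ => Complex.mul_conj _
  simp only [hreal] at h
  have hR : ∑ χ : IrrCharacter G, Complex.normSq ((χ : G → ℂ) D.t) = 8 := by
    have : ((∑ χ : IrrCharacter G, Complex.normSq ((χ : G → ℂ) D.t) : ℝ) : ℂ) = ((8 : ℝ) : ℂ) := by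
      push_cast
      rw [h]
      norm_num
    exact_mod_cast this
  let ψ₀ : IrrCharacter G := ⟨fun _ => 1, isIrrCharacter_one⟩
  have hne : ∀ x : IrrCharacter G, (x : G → ℂ) ≠ (fun _ => 1) → x ≠ ψ₀ := fun x hx h => hx (congrArg Subtype.val h)
  have hsub : ({ψ₀, χ₁, χ₂, χ₃} : Finset (IrrCharacter G)) ⊆ Finset.univ := Finset.subset_univ _
  have hle := Finset.sum_le_sum_of_subset_of_nonneg (f := fun χ : IrrCharacter G => Complex.normSq ((χ : G → ℂ) D.t))
    hsub (fun _ _ _ => Complex.normSq_nonneg _)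
  rw [hR, Finset.sum_insert, Finset.sum_insert, Finset.sum_insert, Finset.sum_singleton] at hle
  · have hns : ∀ b : ℤ, Complex.normSq (b : ℂ) = ((b ^ 2 : ℤ) : ℝ) := by
      intro b
      rw [Complex.normSq_intCast]
      push_cast
      ring
    simp only [hb₁, hb₂, hb₃, hns] at hle
    have h0 : Complex.normSq ((ψ₀ : G → ℂ) D.t) = 1 := by
      show Complex.normSq (1 : ℂ) = 1
      simp
    rw [h0] at hle
    have : (1 + b₁ ^ 2 + b₂ ^ 2 + b₃ ^ 2 : ℝ) ≤ 8 := by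
      push_cast at hle
      linarith
    exact_mod_cast this
  · simp [h23]
  · simp [h12, h13]
  · simp only [Finset.mem_insert, Finset.mem_singleton, not_or]
    exact ⟨(hne _ h1).symm, (hne _ h2).symm, (hne _ h3).symm⟩

/-- A central character divisibility. -/
theorem degree_dvd {χ : G → ℂ} (hχ : IsIrrCharacter G χ) {d : ℕ} {b : ℤ} (hd : χ 1 = d) (hb : χ D.t = b)
    (hb2 : b ^ 2 = 1) : d ∣ (centralizer ({D.t} : Set G)).index := by
  set c := (centralizer ({D.t} : Set G)).index with hc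
  have h1 : IsIntegral ℤ ((c : ℂ) * χ D.t / χ 1) := Blocks.isIntegral_centralChar ⟨χ, hχ⟩ D.t
  have hb' : (b : ℂ) * b = 1 := by
    have : ((b ^ 2 : ℤ) : ℂ) = 1 := by rw [hb2]; simp
    push_cast at this
    rw [← this]
    ring
  have h2 : ((c : ℂ) / (d : ℂ)) = (b : ℂ) * ((c : ℂ) * χ D.t / χ 1) := by
    rw [hb, hd]
    linear_combination (-(c : ℂ) / (d : ℂ)) * hb'
  have h3 : IsIntegral ℤ ((c : ℂ) / (d : ℂ)) := by
    rw [h2]
    exact IsIntegral.mul isIntegral_algebraMap h1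
  have hd0 : d ≠ 0 := by
    rintro rfl
    apply IsIrrCharacter.apply_one_ne_zero hχ
    rw [hd]
    simp
  exact H8Group.nat_dvd_of_isIntegral_div hd0 h3

end D8Data

end Cfsg.Agent.Lib.Char.CentD8
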