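import Cfsg.Agent.Lib.Char.Degree

/-!
# Codegrees
`|G| / (|{g | χ g = χ 1}| χ(1))`, the form in which the codegree of a character appears in the
statements.
-/

set_option autoImplicit false

namespace Cfsg.Agent.Lib.Char

open Cfsg

variable {G : Type*} [Group G] [Finite G]

/-- The kernel as a subtype. -/
theorem card_subtype_eq_charKer {χ : G → ℂ} (hχ : IsCharacter G χ) :
    Nat.card {g : G // χ g = χ 1} = Nat.card (charKer χ) := by
  apply Nat.card_congr
  exact Equiv.subtypeEquivRight fun g => (mem_charKer hχ).symm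

/-- The codegree equals index of kernel divided by the degree. -/
theorem codegree_eq {χ : G → ℂ} (hχ : IsCharacter G χ) :
    Nat.card G / (Nat.card {g : G // χ g = χ 1} * charDegree χ) =
      (charKer χ).index / charDegree χ := by
  rw [card_subtype_eq_charKer hχ, ← Subgroup.card_mul_index (charKer χ)]
  have h0 : 0 < Nat.card (charKer χ) := Nat.card_pos
  rw [Nat.mul_div_mul_left _ _ h0]

/-- The codegree of an irreducible character times the degree is the index of the kernel. -/
theorem codegree_mul_charDegree {χ : G → ℂ} (hχ : IsIrrCharacter G χ) :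
    Nat.card G / (Nat.card {g : G // χ g = χ 1} * charDegree χ) * charDegree χ = (charKer χ).index := by
  rw [codegree_eq (IsIrrCharacter.isCharacter hχ)]
  letI : Fintype G := Fintype.ofFinite G
  exact Nat.div_mul_cancel (charDegree_dvd_index_charKer hχ)

/-- The codegree divides the order of the group. -/
theorem codegree_dvd_card {χ : G → ℂ} (hχ : IsIrrCharacter G χ) :
    Nat.card G / (Nat.card {g : G // χ g = χ 1} * charDegree χ) ∣ Nat.card G := by
  have h1 := codegree_mul_charDegree hχ
  refine Dvd.intro (charDegree χ * Nat.card (charKer χ)) ?_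
  rw [← mul_assoc, h1, mul_comm]
  exact Subgroup.card_mul_index _

/-- The codegree is positive. -/
theorem codegree_pos {χ : G → ℂ} (hχ : IsIrrCharacter G χ) :
    0 < Nat.card G / (Nat.card {g : G // χ g = χ 1} * charDegree χ) :=
  Nat.pos_of_dvd_of_pos (codegree_dvd_card hχ) Nat.card_pos

omit [Finite G] in
/-- A faithful character has trivial kernel subtype. -/
theorem card_subtype_of_faithful {χ : G → ℂ} (hf : ∀ g, χ g = χ 1 → g = 1) :
    Nat.card {g : G // χ g = χ 1} = 1 := by
  have : Unique {g : G // χ g = χ 1} := {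
    default := ⟨1, rfl⟩
    uniq := fun g => Subtype.ext (hf g g.2) }
  exact Nat.card_unique

/-- The kernel is trivial if the character is faithful. -/
theorem charKer_eq_bot_of_faithful {χ : G → ℂ} (hχ : IsCharacter G χ) (hf : ∀ g, χ g = χ 1 → g = 1) :
    charKer χ = ⊥ := by
  rw [eq_bot_iff]
  intro g hg
  rw [Subgroup.mem_bot]
  exact hf g ((mem_charKer hχ).mp hg)

/-- The sum of the squares of the degrees, in `ℕ`. -/
theorem sum_charDegree_sq [Fintype G] :
    ∑ χ : IrrCharacter G, charDegree (χ : G → ℂ) ^ 2 = Nat.card G := by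
  have h1 := sum_irr_degree_sq (G := G)
  have h2 : ∀ ψ : IrrCharacter G, ((ψ : G → ℂ) 1) ^ 2 = ((charDegree (ψ : G → ℂ) ^ 2 : ℕ) : ℂ) := by
    intro ψ
    rw [apply_one_eq_charDegree (IsIrrCharacter.isCharacter ψ.2)]
    push_cast
    rfl
  simp only [h2] at h1
  exact_mod_cast h1

/-- If `p` divides `|G|` then a non-principal irreducible character has degree prime to `p`. -/
theorem exists_irr_not_dvd_degree [Fintype G] {p : ℕ} (hp : p.Prime) (hdvd : p ∣ Nat.card G) :
    ∃ χ : IrrCharacter G, (χ : G → ℂ) ≠ (fun _ => 1) ∧ ¬ p ∣ charDegree (χ : G → ℂ) := by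
  classical
  by_contra hcon
  push Not at hcon
  have h1 := sum_charDegree_sq (G := G)
  let one : IrrCharacter G := ⟨fun _ => 1, isIrrCharacter_one⟩
  rw [← Finset.add_sum_erase _ _ (Finset.mem_univ one)] at h1
  have h2 : p ∣ ∑ χ ∈ Finset.univ.erase one, charDegree (χ : G → ℂ) ^ 2 := by
    apply Finset.dvd_sum
    intro χ hχ
    have hne : (χ : G → ℂ) ≠ fun _ => 1 := by
      intro h
      exact (Finset.mem_erase.mp hχ).1 (Subtype.ext h)
    exact dvd_pow (hcon χ hne) two_ne_zero
  have h3 : charDegree ((one : IrrCharacter G) : G → ℂ) ^ 2 = 1 := by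
    have : charDegree ((one : IrrCharacter G) : G → ℂ) = 1 := charDegree_eq (by simp [one])
    rw [this, one_pow]
  rw [h3] at h1
  have h4 : p ∣ 1 := (Nat.dvd_add_left h2).mp (h1 ▸ hdvd)
  exact hp.one_lt.ne' (Nat.dvd_one.mp h4)

/-- A nonprincipal irreducible character of a simple group is faithful. -/
theorem charKer_eq_bot_of_isSimpleGroup (hS : IsSimpleGroup G) {χ : G → ℂ} (hχ : IsIrrCharacter G χ)
    (hne : χ ≠ fun _ => 1) : charKer χ = ⊥ := by
  have hχc := IsIrrCharacter.isCharacter hχ
  haveI := charKer_normal hχc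
  rcases hS.eq_bot_or_eq_top_of_normal _ (charKer_normal hχc) with h | h
  · exact h
  · exfalso
    apply hne
    letI : Fintype G := Fintype.ofFinite G
    have h1 : ∀ g, χ g = χ 1 := fun g => (mem_charKer hχc).mp (h ▸ Subgroup.mem_top g)
    have h2 : classInner χ χ = 1 := classInner_irr_self hχ
    have hd := charDegree_pos hχ
    have h3 : χ 1 = (charDegree χ : ℂ) := apply_one_eq_charDegree hχc
    have h4 : classInner χ χ = (charDegree χ : ℂ) ^ 2 := by
      unfold classInner
      simp only [h1, h3, Complex.conj_natCast]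
      simp only [Finset.sum_const, Finset.card_univ, nsmul_eq_mul, ← Nat.card_eq_fintype_card]
      have : (Nat.card G : ℂ) ≠ 0 := by exact_mod_cast Nat.card_pos.ne'
      field_simp
    rw [h2] at h4
    have h5 : charDegree χ ^ 2 = 1 := by exact_mod_cast h4.symm
    have h6 : charDegree χ = 1 := by
      rcases Nat.pow_eq_one.mp h5 with h | h
      · exact h
      · omega
    funext g
    rw [h1, h3, h6]
    simp

end Cfsg.Agent.Lib.Char
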