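import Mathlib

/-!
# Arithmetic for the principal block with inertial index three
-/

set_option autoImplicit false

namespace Cfsg.Agent.Lib.Char.E3

/-- A natural number times a nonzero square is a square only if it is a square. -/
theorem isSquare_of_mul_sq {A : ℕ} {b c : ℤ} (hb : b ≠ 0) (h : b ^ 2 * (A : ℤ) = c ^ 2) : IsSquare A := by
  have h1 : (b.natAbs ^ 2) * A = c.natAbs ^ 2 := by
    zify
    rw [sq_abs, sq_abs]
    exact h
  have hB : b.natAbs ≠ 0 := Int.natAbs_ne_zero.mpr hb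
  have h2 : b.natAbs ^ 2 ∣ c.natAbs ^ 2 := ⟨A, h1.symm⟩
  have h3 : b.natAbs ∣ c.natAbs := (Nat.pow_dvd_pow_iff two_ne_zero).mp h2
  obtain ⟨k, hk⟩ := h3
  refine ⟨k, ?_⟩
  rw [hk, mul_pow] at h1
  have h4 : b.natAbs ^ 2 ≠ 0 := pow_ne_zero 2 hB
  have h5 := Nat.eq_of_mul_eq_mul_left (Nat.pos_of_ne_zero h4) h1
  rw [h5]
  ring

/-- Three positive terms against one. -/
theorem single_neg {x y z tx ty tz : ℤ} (hx : 0 < x) (hy : 0 < y) (hz : z = 1 + x + y) (htz : tz = 1 + tx + ty)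
    (hE : x * y * z + tx ^ 2 * y * z + ty ^ 2 * x * z = tz ^ 2 * x * y) : tx = x := by
  have key : y * (tx - x) ^ 2 + x * (ty - y) ^ 2 + (x * ty - y * tx) ^ 2 = 0 := by
    subst hz htz
    linear_combination hE
  have h1 : 0 ≤ y * (tx - x) ^ 2 := by positivity
  have h2 : 0 ≤ x * (ty - y) ^ 2 := by positivity
  have h3 : 0 ≤ (x * ty - y * tx) ^ 2 := by positivity
  have h4 : y * (tx - x) ^ 2 = 0 := by linarith
  rcases mul_eq_zero.mp h4 with h5 | h5
  · omega
  · have := pow_eq_zero_iff (two_ne_zero) |>.mp h5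
    omega

/-- Two positive against two negative: the degrees multiply to a square. -/
theorem square_core {x y z : ℕ} {tx ty tz : ℤ} (hz : (z : ℤ) = x + y - 1) (htz : tz = tx + ty - 1)
    (hQ : (x : ℤ) * y * z + tz ^ 2 * x * y - tx ^ 2 * y * z - ty ^ 2 * x * z = 0) (hne : tz ≠ z) :
    IsSquare (x * y * z) := by
  have h1 : ((z : ℤ) - tz) ^ 2 * x * y = z * (y * tx - x * ty) ^ 2 := by
    have hzz := hz
    rw [hzz] at hQ ⊢
    subst htz
    linear_combination ((x : ℤ) + y) * hQ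
  have h2 : ((z : ℤ) - tz) ≠ 0 := fun h => hne (by linarith)
  apply isSquare_of_mul_sq (b := (z : ℤ) - tz) (c := (z : ℤ) * (y * tx - x * ty)) h2
  push_cast
  linear_combination (z : ℤ) * h1

/-- The core of the odd case. -/
theorem odd_core {a₁ a₂ ε : ℤ} (ha₁ : a₁ = 1 ∨ a₁ = -1) (ha₂ : a₂ = 1 ∨ a₂ = -1) (hε : ε = 1 ∨ ε = -1)
    {f₁ f₂ h : ℕ} {τ₁ τ₂ τ₃ : ℤ} (hf₁ : 0 < f₁) (hf₂ : 0 < f₂) (hh : 0 < h)
    (E2 : (1 : ℤ) + a₁ * f₁ + a₂ * f₂ + ε * h = 0) (E3 : 1 + a₁ * τ₁ + a₂ * τ₂ + ε * τ₃ = 0)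
    (E1 : (f₁ : ℤ) * f₂ * h + a₁ * τ₁ ^ 2 * f₂ * h + a₂ * τ₂ ^ 2 * f₁ * h + ε * τ₃ ^ 2 * f₁ * f₂ = 0)
    (n₁ : τ₁ ≠ f₁) (n₂ : τ₂ ≠ f₂) (n₃ : τ₃ ≠ h) :
    (if a₁ = -1 then 1 else 0) + (if a₂ = -1 then 1 else 0) + (if ε = -1 then 1 else 0) = 2 ∧
      IsSquare (h * (f₁ * f₂)) := by
  have p₁ : (0 : ℤ) < f₁ := by exact_mod_cast hf₁
  have p₂ : (0 : ℤ) < f₂ := by exact_mod_cast hf₂
  have p₃ : (0 : ℤ) < h := by exact_mod_cast hh
  rcases ha₁ with rfl | rfl <;> rcases ha₂ with rfl | rfl <;> rcases hε with rfl | rfl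
  · -- all positive
    exfalso
    omega
  · -- only `ε` negative
    exfalso
    apply n₁
    refine single_neg (x := f₁) (y := f₂) (z := h) (tz := τ₃) (ty := τ₂) p₁ p₂ (by omega) (by omega) ?_
    linear_combination E1
  · -- only `a₂` negative
    exfalso
    apply n₁
    refine single_neg (x := f₁) (y := h) (z := f₂) (tz := τ₂) (ty := τ₃) p₁ p₃ (by omega) (by omega) ?_
    linear_combination E1
  · -- `a₁` positive
    refine ⟨by norm_num, ?_⟩
    have h1 : IsSquare (f₂ * h * f₁) :=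
      square_core (x := f₂) (y := h) (z := f₁) (tx := τ₂) (ty := τ₃) (tz := τ₁) (by omega) (by omega)
        (by linear_combination E1) n₁
    have h2 : h * (f₁ * f₂) = f₂ * h * f₁ := by ring
    rw [h2]
    exact h1
  · -- only `a₁` negative
    exfalso
    apply n₂
    refine single_neg (x := f₂) (y := h) (z := f₁) (tz := τ₁) (ty := τ₃) p₂ p₃ (by omega) (by omega) ?_
    linear_combination E1
  · -- `a₂` positive
    refine ⟨by norm_num, ?_⟩
    have h1 : IsSquare (f₁ * h * f₂) :=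
      square_core (x := f₁) (y := h) (z := f₂) (tx := τ₁) (ty := τ₃) (tz := τ₂) (by omega) (by omega)
        (by linear_combination E1) n₂
    have h2 : h * (f₁ * f₂) = f₁ * h * f₂ := by ring
    rw [h2]
    exact h1
  · -- `ε` positive
    refine ⟨by norm_num, ?_⟩
    have h1 : IsSquare (f₁ * f₂ * h) :=
      square_core (x := f₁) (y := f₂) (z := h) (tx := τ₁) (ty := τ₂) (tz := τ₃) (by omega) (by omega)
        (by linear_combination E1) n₃
    have h2 : h * (f₁ * f₂) = f₁ * f₂ * h := by ring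
    rw [h2]
    exact h1
  · -- all negative
    exfalso
    omega

/-- The arithmetic contradiction of the even case. -/
theorem even_arith {a₁ a₂ f₁ f₂ h m₁ m₂ m₃ Pc : ℤ} (hP : 16 ≤ Pc) (ha₁ : a₁ = 1 ∨ a₁ = -1) (ha₂ : a₂ = 1 ∨ a₂ = -1)
    (p₁ : 0 < f₁) (p₂ : 0 < f₂) (p₃ : 0 < h) (hf₁ : f₁ = Pc * m₁ + a₁) (hf₂ : f₂ = Pc * m₂ + a₂)
    (hh : h = Pc * m₃ + 3) (n₁ : a₁ = 1 → f₁ ≠ 1) (n₂ : a₂ = 1 → f₂ ≠ 1)
    (D : 1 + a₁ * f₁ + a₂ * f₂ = h) (E : f₁ * f₂ * h + a₁ * f₂ * h + a₂ * f₁ * h = 9 * (f₁ * f₂)) : False := by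
  -- bounds from the congruences
  have bound_plus : ∀ {f m : ℤ}, 0 < f → f = Pc * m + 1 → f ≠ 1 → 17 ≤ f := by
    intro f m hf hm hne
    have h1 : 1 ≤ m := by
      by_contra hcon
      have h2 : m ≤ 0 := by omega
      have h3 : Pc * m ≤ 0 := mul_nonpos_of_nonneg_of_nonpos (by omega) h2
      have h4 : m = 0 ∨ m ≤ -1 := by omega
      rcases h4 with rfl | h4
      · simp at hm
        exact hne hm
      · have h5 : Pc * m ≤ Pc * (-1) := mul_le_mul_of_nonneg_left h4 (by omega)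
        omega
    have h2 : Pc * 1 ≤ Pc * m := mul_le_mul_of_nonneg_left h1 (by omega)
    omega
  have bound_minus : ∀ {f m : ℤ}, 0 < f → f = Pc * m + -1 → 15 ≤ f := by
    intro f m hf hm
    have h1 : 1 ≤ m := by
      by_contra hcon
      have h2 : m ≤ 0 := by omega
      have h3 : Pc * m ≤ 0 := mul_nonpos_of_nonneg_of_nonpos (by omega) h2
      omega
    have h2 : Pc * 1 ≤ Pc * m := mul_le_mul_of_nonneg_left h1 (by omega)
    omega
  have bound_h : h = 3 ∨ 19 ≤ h := by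
    have h1 : 0 ≤ m₃ := by
      by_contra hcon
      have h2 : m₃ ≤ -1 := by omega
      have h5 : Pc * m₃ ≤ Pc * (-1) := mul_le_mul_of_nonneg_left h2 (by omega)
      omega
    rcases h1.eq_or_lt with h2 | h2
    · left
      rw [← h2] at hh
      simpa using hh
    · right
      have h3 : Pc * 1 ≤ Pc * m₃ := mul_le_mul_of_nonneg_left (by omega) (by omega)
      omega
  rcases ha₁ with rfl | rfl <;> rcases ha₂ with rfl | rfl
  · -- both positive
    have b₁ := bound_plus p₁ hf₁ (n₁ rfl)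
    have b₂ := bound_plus p₂ hf₂ (n₂ rfl)
    have h35 : 35 ≤ h := by omega
    have h1 : 0 < f₁ * f₂ := by positivity
    have h2 : 35 * (f₁ * f₂) ≤ f₁ * f₂ * h := by nlinarith
    have h3 : 0 < f₂ * h := by positivity
    have h4 : 0 < f₁ * h := by positivity
    nlinarith
  · -- mixed
    have b₁ := bound_plus p₁ hf₁ (n₁ rfl)
    have b₂ := bound_minus p₂ hf₂
    rcases bound_h with h3 | h19
    · subst h3
      have h1 : 0 < f₁ * f₂ := by positivity
      have : f₁ = f₂ + 2 := by omega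
      subst this
      nlinarith
    · have h1 : 0 < f₁ * f₂ := by positivity
      have h2 : 19 * (f₁ * f₂ - f₁) ≤ (f₁ * f₂ - f₁) * h := by
        have : 0 ≤ f₁ * f₂ - f₁ := by nlinarith
        nlinarith
      have h3 : 0 < f₂ * h := by positivity
      have h4 : 10 * f₂ ≤ 19 := by
        have h5 : f₁ * (10 * f₂) ≤ f₁ * 19 := by nlinarith
        exact le_of_mul_le_mul_left h5 p₁
      omega
  · -- mixed
    have b₂ := bound_plus p₂ hf₂ (n₂ rfl)
    have b₁ := bound_minus p₁ hf₁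
    rcases bound_h with h3 | h19
    · subst h3
      have h1 : 0 < f₁ * f₂ := by positivity
      have : f₂ = f₁ + 2 := by omega
      subst this
      nlinarith
    · have h1 : 0 < f₁ * f₂ := by positivity
      have h2 : 19 * (f₁ * f₂ - f₂) ≤ (f₁ * f₂ - f₂) * h := by
        have : 0 ≤ f₁ * f₂ - f₂ := by nlinarith
        nlinarith
      have h3 : 0 < f₁ * h := by positivity
      have h4 : 10 * f₁ ≤ 19 := by
        have h5 : f₂ * (10 * f₁) ≤ f₂ * 19 := by nlinarith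
        exact le_of_mul_le_mul_left h5 p₂
      omega
  · -- both negative
    omega

end Cfsg.Agent.Lib.Char.E3
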