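import Mathlib

/-!
# A sunflower lemma for integer vectors of norm four

The combinatorial heart of Brauer's analysis of principal blocks with inertial index three.
-/

set_option autoImplicit false
set_option linter.unusedSectionVars false

namespace Cfsg.Agent.Lib.Char.E3

section Sunflower

variable {ι : Type*} [Fintype ι] [DecidableEq ι]

/-- The support of an integer vector, away from a base point. -/
def supp3 (i₀ : ι) (v : ι → ℤ) : Finset ι := Finset.univ.filter (fun i => i ≠ i₀ ∧ v i ≠ 0)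

theorem mem_supp3 {i₀ : ι} {v : ι → ℤ} {i : ι} : i ∈ supp3 i₀ v ↔ i ≠ i₀ ∧ v i ≠ 0 := by
  simp [supp3]

theorem val_of_norm {i₀ : ι} {v : ι → ℤ} (h : ∑ i, v i ^ 2 = 4) (h0 : v i₀ = 1) (i : ι) :
    v i = 0 ∨ v i = 1 ∨ v i = -1 := by
  by_cases hi : i = i₀
  · rw [hi, h0]; simp
  have h1 : ∑ j ∈ ({i₀, i} : Finset ι), v j ^ 2 ≤ ∑ j, v j ^ 2 :=
    Finset.sum_le_sum_of_subset_of_nonneg (Finset.subset_univ _) (fun _ _ _ => sq_nonneg _)
  rw [Finset.sum_pair (Ne.symm hi), h0, h] at h1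
  have h2 : v i ≤ 1 := by nlinarith
  have h3 : -1 ≤ v i := by nlinarith
  omega

theorem sum_eq_of_supp {i₀ : ι} {v : ι → ℤ} (g : ι → ℤ) :
    ∑ i, g i * v i = g i₀ * v i₀ + ∑ i ∈ supp3 i₀ v, g i * v i := by
  have h1 : i₀ ∉ supp3 i₀ v := fun h => (mem_supp3.mp h).1 rfl
  have h0 : ∑ i ∈ insert i₀ (supp3 i₀ v), g i * v i = g i₀ * v i₀ + ∑ i ∈ supp3 i₀ v, g i * v i :=
    Finset.sum_insert h1
  rw [← h0]
  symm
  apply Finset.sum_subset (Finset.subset_univ _)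
  intro i _ hi
  have h2 : i ≠ i₀ := fun h => hi (h ▸ Finset.mem_insert_self _ _)
  have h3 : v i = 0 := by
    by_contra h3
    exact hi (Finset.mem_insert_of_mem (mem_supp3.mpr ⟨h2, h3⟩))
  rw [h3, mul_zero]

theorem card_supp3 {i₀ : ι} {v : ι → ℤ} (h : ∑ i, v i ^ 2 = 4) (h0 : v i₀ = 1) :
    (supp3 i₀ v).card = 3 := by
  have h1 := sum_eq_of_supp (i₀ := i₀) (v := v) v
  have h2 : ∑ i, v i * v i = 4 := by
    rw [← h]
    exact Finset.sum_congr rfl fun i _ => by ring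
  rw [h2, h0] at h1
  have h3 : ∑ i ∈ supp3 i₀ v, v i * v i = ∑ i ∈ supp3 i₀ v, (1 : ℤ) := by
    refine Finset.sum_congr rfl fun i hi => ?_
    have h4 := (mem_supp3.mp hi).2
    rcases val_of_norm h h0 i with h5 | h5 | h5
    · exact absurd h5 h4
    · rw [h5]; norm_num
    · rw [h5]; norm_num
  rw [h3, Finset.sum_const, nsmul_eq_mul, mul_one] at h1
  have h4 : ((supp3 i₀ v).card : ℤ) = 3 := by linarith
  exact_mod_cast h4

theorem agree_of_inner {i₀ : ι} {v w : ι → ℤ} (hv : ∑ i, v i ^ 2 = 4) (hw : ∑ i, w i ^ 2 = 4)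
    (hv0 : v i₀ = 1) (hw0 : w i₀ = 1) (hvw : ∑ i, v i * w i = 3) (i : ι) (h1 : v i ≠ 0) (h2 : w i ≠ 0) :
    v i = w i := by
  by_contra hne
  have h3 : ∑ j, (v j - w j) ^ 2 = 2 := by
    have : ∀ j, (v j - w j) ^ 2 = v j ^ 2 - 2 * (v j * w j) + w j ^ 2 := fun j => by ring
    simp only [this, Finset.sum_add_distrib, Finset.sum_sub_distrib, ← Finset.mul_sum, hv, hw, hvw]
    norm_num
  have h4 : (v i - w i) ^ 2 ≤ ∑ j, (v j - w j) ^ 2 :=
    Finset.single_le_sum (f := fun j => (v j - w j) ^ 2) (fun _ _ => sq_nonneg _) (Finset.mem_univ i)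
  rw [h3] at h4
  rcases val_of_norm hv hv0 i with h5 | h5 | h5
  · exact h1 h5
  · rcases val_of_norm hw hw0 i with h6 | h6 | h6
    · exact h2 h6
    · exact hne (by rw [h5, h6])
    · rw [h5, h6] at h4; norm_num at h4
  · rcases val_of_norm hw hw0 i with h6 | h6 | h6
    · exact h2 h6
    · rw [h5, h6] at h4; norm_num at h4
    · exact hne (by rw [h5, h6])

theorem card_inter_supp3 {i₀ : ι} {v w : ι → ℤ} (hv : ∑ i, v i ^ 2 = 4) (hw : ∑ i, w i ^ 2 = 4)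
    (hv0 : v i₀ = 1) (hw0 : w i₀ = 1) (hvw : ∑ i, v i * w i = 3) :
    (supp3 i₀ v ∩ supp3 i₀ w).card = 2 := by
  have h1 := sum_eq_of_supp (i₀ := i₀) (v := w) v
  rw [hvw, hv0, hw0] at h1
  have h2 : ∑ i ∈ supp3 i₀ w, v i * w i = ∑ i ∈ supp3 i₀ v ∩ supp3 i₀ w, (1 : ℤ) := by
    rw [← Finset.sum_subset (Finset.inter_subset_right (s₁ := supp3 i₀ v) (s₂ := supp3 i₀ w))]
    · refine Finset.sum_congr rfl fun i hi => ?_
      have ha := Finset.mem_inter.mp hi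
      have h3 := (mem_supp3.mp ha.1).2
      have h4 := (mem_supp3.mp ha.2).2
      have h5 := agree_of_inner hv hw hv0 hw0 hvw i h3 h4
      rw [h5]
      rcases val_of_norm hw hw0 i with h6 | h6 | h6
      · exact absurd h6 h4
      · rw [h6]; norm_num
      · rw [h6]; norm_num
    · intro i hi hi'
      have h3 : v i = 0 := by
        by_contra h3
        apply hi'
        refine Finset.mem_inter.mpr ⟨mem_supp3.mpr ⟨(mem_supp3.mp hi).1, h3⟩, hi⟩
      rw [h3, zero_mul]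
  rw [h2, Finset.sum_const, nsmul_eq_mul, mul_one] at h1
  have h4 : ((supp3 i₀ v ∩ supp3 i₀ w).card : ℤ) = 2 := by linarith
  exact_mod_cast h4

/-- Split off two known elements of a three-set. -/
theorem exists_third {T : Finset ι} (hT : T.card = 3) {a b : ι} (ha : a ∈ T) (hb : b ∈ T) (hab : a ≠ b) :
    ∃ c, c ≠ a ∧ c ≠ b ∧ c ∈ T ∧ ∀ i ∈ T, i = a ∨ i = b ∨ i = c := by
  have h1 : ((T.erase a).erase b).card = 1 := by
    rw [Finset.card_erase_of_mem (Finset.mem_erase.mpr ⟨hab.symm, hb⟩), Finset.card_erase_of_mem ha, hT]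
  obtain ⟨c, hc⟩ := Finset.card_eq_one.mp h1
  have hmem : c ∈ (T.erase a).erase b := by rw [hc]; exact Finset.mem_singleton_self c
  have h2 := Finset.mem_erase.mp hmem
  have h3 := Finset.mem_erase.mp h2.2
  refine ⟨c, h3.1, h2.1, h3.2, ?_⟩
  intro i hi
  by_cases hia : i = a
  · exact Or.inl hia
  by_cases hib : i = b
  · exact Or.inr (Or.inl hib)
  have h4 : i ∈ (T.erase a).erase b := Finset.mem_erase.mpr ⟨hib, Finset.mem_erase.mpr ⟨hia, hi⟩⟩
  rw [hc] at h4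
  exact Or.inr (Or.inr (Finset.mem_singleton.mp h4))

/-- The three term expansion of a sum over a three-set. -/
theorem sum_three_of_mem {i₀ : ι} {v : ι → ℤ} (g : ι → ℤ) {x y z : ι} (hxy : x ≠ y) (hxz : x ≠ z) (hyz : y ≠ z)
    (hx : x ∈ supp3 i₀ v) (hy : y ∈ supp3 i₀ v) (hz : z ∈ supp3 i₀ v)
    (hall : ∀ i ∈ supp3 i₀ v, i = x ∨ i = y ∨ i = z) :
    ∑ i, g i * v i = g i₀ * v i₀ + (g x * v x + g y * v y + g z * v z) := by
  rw [sum_eq_of_supp (i₀ := i₀)]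
  have h1 : supp3 i₀ v = {x, y, z} := by
    ext i
    simp only [Finset.mem_insert, Finset.mem_singleton]
    constructor
    · exact hall i
    · rintro (rfl | rfl | rfl) <;> assumption
  rw [h1, Finset.sum_insert (by simp [hxy, hxz]), Finset.sum_insert (by simpa using hyz),
    Finset.sum_singleton]
  ring

/-- Two of three elements belong to a set meeting the three-set in a pair. -/
theorem inter_pair_cases {S : Finset ι} {x y z : ι} (hxy : x ≠ y) (hxz : x ≠ z) (hyz : y ≠ z) {T : Finset ι}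
    (hT : ∀ i, i ∈ T ↔ i = x ∨ i = y ∨ i = z) (h : (T ∩ S).card = 2) :
    (x ∈ S ∧ y ∈ S ∧ z ∉ S) ∨ (x ∈ S ∧ y ∉ S ∧ z ∈ S) ∨ (x ∉ S ∧ y ∈ S ∧ z ∈ S) := by
  have hTeq : T = {x, y, z} := by
    ext i
    simp [hT]
  subst hTeq
  by_cases hx : x ∈ S <;> by_cases hy : y ∈ S <;> by_cases hz : z ∈ S
  · exfalso
    have : ({x, y, z} : Finset ι) ∩ S = {x, y, z} := by
      apply Finset.inter_eq_left.mpr
      intro i hi
      simp only [Finset.mem_insert, Finset.mem_singleton] at hi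
      rcases hi with rfl | rfl | rfl <;> assumption
    rw [this, Finset.card_insert_of_notMem (by simp [hxy, hxz]), Finset.card_pair hyz] at h
    omega
  · exact Or.inl ⟨hx, hy, hz⟩
  · exact Or.inr (Or.inl ⟨hx, hy, hz⟩)
  · exfalso
    have : ({x, y, z} : Finset ι) ∩ S = {x} := by
      ext i
      simp only [Finset.mem_inter, Finset.mem_insert, Finset.mem_singleton]
      constructor
      · rintro ⟨rfl | rfl | rfl, h2⟩
        · rfl
        · exact absurd h2 hy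
        · exact absurd h2 hz
      · rintro rfl
        exact ⟨Or.inl rfl, hx⟩
    rw [this] at h
    simp at h
  · exact Or.inr (Or.inr ⟨hx, hy, hz⟩)
  · exfalso
    have : ({x, y, z} : Finset ι) ∩ S = {y} := by
      ext i
      simp only [Finset.mem_inter, Finset.mem_insert, Finset.mem_singleton]
      constructor
      · rintro ⟨rfl | rfl | rfl, h2⟩
        · exact absurd h2 hx
        · rfl
        · exact absurd h2 hz
      · rintro rfl
        exact ⟨Or.inr (Or.inl rfl), hy⟩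
    rw [this] at h
    simp at h
  · exfalso
    have : ({x, y, z} : Finset ι) ∩ S = {z} := by
      ext i
      simp only [Finset.mem_inter, Finset.mem_insert, Finset.mem_singleton]
      constructor
      · rintro ⟨rfl | rfl | rfl, h2⟩
        · exact absurd h2 hx
        · exact absurd h2 hy
        · rfl
      · rintro rfl
        exact ⟨Or.inr (Or.inr rfl), hz⟩
    rw [this] at h
    simp at h
  · exfalso
    have : ({x, y, z} : Finset ι) ∩ S = ∅ := by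
      ext i
      simp only [Finset.mem_inter, Finset.mem_insert, Finset.mem_singleton, Finset.notMem_empty, iff_false]
      rintro ⟨rfl | rfl | rfl, h2⟩ <;> contradiction
    rw [this] at h
    simp at h

/-- The third vector configuration forces a contradiction. -/
theorem no_third (i₀ : ι) (f : ι → ℤ) (hf : f i₀ = 1)
    (V : Finset (ι → ℤ)) (hnorm : ∀ v ∈ V, ∑ i, v i ^ 2 = 4) (hbase : ∀ v ∈ V, v i₀ = 1)
    (hinner : ∀ v ∈ V, ∀ w ∈ V, v ≠ w → ∑ i, v i * w i = 3)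
    (hdeg : ∀ v ∈ V, ∑ i, f i * v i = 0) (h3 : V.card ≠ 3)
    {v₁ v₂ v₃ : ι → ℤ} (hv₁ : v₁ ∈ V) (hv₂ : v₂ ∈ V) (hv₃ : v₃ ∈ V) (h12 : v₁ ≠ v₂)
    {a b : ι} (hab : a ≠ b) (hpair : ∀ i, i ∈ supp3 i₀ v₁ ∧ i ∈ supp3 i₀ v₂ ↔ i = a ∨ i = b)
    (ha3 : a ∉ supp3 i₀ v₃) : False := by
  classical
  have hT := fun v (hv : v ∈ V) => card_supp3 (hnorm v hv) (hbase v hv)
  have hagree : ∀ v ∈ V, ∀ w ∈ V, ∀ i, v i ≠ 0 → w i ≠ 0 → v i = w i := by
    intro v hv w hw i h1 h2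
    by_cases hvw : v = w
    · rw [hvw]
    · exact agree_of_inner (hnorm v hv) (hnorm w hw) (hbase v hv) (hbase w hw) (hinner v hv w hw hvw) i h1 h2
  have hinter : ∀ v ∈ V, ∀ w ∈ V, v ≠ w → (supp3 i₀ v ∩ supp3 i₀ w).card = 2 := by
    intro v hv w hw hvw
    exact card_inter_supp3 (hnorm v hv) (hnorm w hw) (hbase v hv) (hbase w hw) (hinner v hv w hw hvw)
  have ha1 : a ∈ supp3 i₀ v₁ := ((hpair a).mpr (Or.inl rfl)).1
  have ha2 : a ∈ supp3 i₀ v₂ := ((hpair a).mpr (Or.inl rfl)).2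
  have hb1 : b ∈ supp3 i₀ v₁ := ((hpair b).mpr (Or.inr rfl)).1
  have hb2 : b ∈ supp3 i₀ v₂ := ((hpair b).mpr (Or.inr rfl)).2
  obtain ⟨c, hca, hcb, hc1, hall1⟩ := exists_third (hT v₁ hv₁) ha1 hb1 hab
  obtain ⟨d, hda, hdb, hd2, hall2⟩ := exists_third (hT v₂ hv₂) ha2 hb2 hab
  have hcd : c ≠ d := by
    intro h
    have h1 : c ∈ supp3 i₀ v₂ := h ▸ hd2
    rcases (hpair c).mp ⟨hc1, h1⟩ with h2 | h2
    · exact hca h2
    · exact hcb h2
  have h13 : v₁ ≠ v₃ := fun h => ha3 (h ▸ ha1)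
  have h23 : v₂ ≠ v₃ := fun h => ha3 (h ▸ ha2)
  have hT1 : ∀ i, i ∈ supp3 i₀ v₁ ↔ i = a ∨ i = b ∨ i = c := by
    intro i
    constructor
    · exact hall1 i
    · rintro (rfl | rfl | rfl) <;> assumption
  have hT2 : ∀ i, i ∈ supp3 i₀ v₂ ↔ i = a ∨ i = b ∨ i = d := by
    intro i
    constructor
    · exact hall2 i
    · rintro (rfl | rfl | rfl) <;> assumption
  have hba : b ≠ a := hab.symm
  have hb3 : b ∈ supp3 i₀ v₃ ∧ c ∈ supp3 i₀ v₃ := by
    rcases inter_pair_cases hab hca.symm hcb.symm hT1 (hinter v₁ hv₁ v₃ hv₃ h13) with h | h | h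
    · exact absurd h.1 ha3
    · exact absurd h.1 ha3
    · exact ⟨h.2.1, h.2.2⟩
  have hd3 : d ∈ supp3 i₀ v₃ := by
    rcases inter_pair_cases hab hda.symm hdb.symm hT2 (hinter v₂ hv₂ v₃ hv₃ h23) with h | h | h
    · exact absurd h.1 ha3
    · exact absurd h.1 ha3
    · exact h.2.2
  obtain ⟨e, hec, hed, he3, hall3⟩ := exists_third (hT v₃ hv₃) hb3.2 hd3 hcd
  have hT3 : ∀ i, i ∈ supp3 i₀ v₃ ↔ i = b ∨ i = c ∨ i = d := by
    intro i
    constructor
    · intro hi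
      rcases hall3 i hi with h | h | h
      · exact Or.inr (Or.inl h)
      · exact Or.inr (Or.inr h)
      · -- `e` must be `b`
        have hbe : b = e := by
          rcases hall3 b hb3.1 with h1 | h1 | h1
          · exact absurd h1.symm hcb
          · exact absurd h1.symm hdb
          · exact h1
        exact Or.inl (h.trans hbe.symm)
    · rintro (rfl | rfl | rfl)
      · exact hb3.1
      · exact hb3.2
      · exact hd3
  -- the fourth vector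
  have hcard : ({v₁, v₂, v₃} : Finset (ι → ℤ)).card < V.card := by
    have hsub : ({v₁, v₂, v₃} : Finset (ι → ℤ)) ⊆ V := by
      intro v hv
      simp only [Finset.mem_insert, Finset.mem_singleton] at hv
      rcases hv with rfl | rfl | rfl <;> assumption
    have h3' : ({v₁, v₂, v₃} : Finset (ι → ℤ)).card = 3 := by
      rw [Finset.card_insert_of_notMem (by simp [h12, h13]), Finset.card_pair h23]
    have := Finset.card_le_card hsub
    omega
  obtain ⟨v₄, hv₄, hv₄'⟩ := Finset.exists_mem_notMem_of_card_lt_card hcard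
  simp only [Finset.mem_insert, Finset.mem_singleton, not_or] at hv₄'
  obtain ⟨h41, h42, h43⟩ := hv₄'
  have hA := inter_pair_cases hab hca.symm hcb.symm hT1 (hinter v₁ hv₁ v₄ hv₄ (Ne.symm h41))
  have hB := inter_pair_cases hab hda.symm hdb.symm hT2 (hinter v₂ hv₂ v₄ hv₄ (Ne.symm h42))
  have hC := inter_pair_cases hcb.symm hdb.symm hcd hT3 (hinter v₃ hv₃ v₄ hv₄ (Ne.symm h43))
  have h4 : a ∈ supp3 i₀ v₄ ∧ b ∉ supp3 i₀ v₄ ∧ c ∈ supp3 i₀ v₄ ∧ d ∈ supp3 i₀ v₄ := by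
    rcases hA with hA | hA | hA <;> rcases hB with hB | hB | hB <;> rcases hC with hC | hC | hC <;> tauto
  obtain ⟨ha4, hb4, hc4, hd4⟩ := h4
  obtain ⟨e', hec', hed', he4, hall4⟩ := exists_third (hT v₄ hv₄) hc4 hd4 hcd
  have hall4' : ∀ i ∈ supp3 i₀ v₄, i = a ∨ i = c ∨ i = d := by
    intro i hi
    rcases hall4 i hi with h | h | h
    · exact Or.inr (Or.inl h)
    · exact Or.inr (Or.inr h)
    · have hae : a = e' := by
        rcases hall4 a ha4 with h1 | h1 | h1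
        · exact absurd h1.symm hca
        · exact absurd h1.symm hda
        · exact h1
      exact Or.inl (h.trans hae.symm)
  -- the four degree equations
  have e1 := hdeg v₁ hv₁
  have e2 := hdeg v₂ hv₂
  have e3 := hdeg v₃ hv₃
  have e4 := hdeg v₄ hv₄
  rw [sum_three_of_mem (i₀ := i₀) f hab hca.symm hcb.symm ha1 hb1 hc1 hall1, hbase v₁ hv₁, hf] at e1
  rw [sum_three_of_mem (i₀ := i₀) f hab hda.symm hdb.symm ha2 hb2 hd2 hall2, hbase v₂ hv₂, hf] at e2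
  rw [sum_three_of_mem (i₀ := i₀) f hcb.symm hdb.symm hcd hb3.1 hb3.2 hd3 (fun i hi => (hT3 i).mp hi),
    hbase v₃ hv₃, hf] at e3
  rw [sum_three_of_mem (i₀ := i₀) f hca.symm hda.symm hcd ha4 hc4 hd4 hall4', hbase v₄ hv₄, hf] at e4
  have nz : ∀ {v i}, i ∈ supp3 i₀ v → v i ≠ 0 := fun h => (mem_supp3.mp h).2
  rw [hagree v₂ hv₂ v₁ hv₁ a (nz ha2) (nz ha1), hagree v₂ hv₂ v₁ hv₁ b (nz hb2) (nz hb1)] at e2
  rw [hagree v₃ hv₃ v₁ hv₁ b (nz hb3.1) (nz hb1), hagree v₃ hv₃ v₁ hv₁ c (nz hb3.2) (nz hc1),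
    hagree v₃ hv₃ v₂ hv₂ d (nz hd3) (nz hd2)] at e3
  rw [hagree v₄ hv₄ v₁ hv₁ a (nz ha4) (nz ha1), hagree v₄ hv₄ v₁ hv₁ c (nz hc4) (nz hc1),
    hagree v₄ hv₄ v₂ hv₂ d (nz hd4) (nz hd2)] at e4
  generalize f a * v₁ a = A at *
  generalize f b * v₁ b = B at *
  generalize f c * v₁ c = C at *
  generalize f d * v₂ d = D at *
  omega

/-- **The sunflower lemma.** -/
theorem sunflower (i₀ : ι) (f : ι → ℤ) (hf : f i₀ = 1)
    (V : Finset (ι → ℤ)) (hnorm : ∀ v ∈ V, ∑ i, v i ^ 2 = 4) (hbase : ∀ v ∈ V, v i₀ = 1)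
    (hinner : ∀ v ∈ V, ∀ w ∈ V, v ≠ w → ∑ i, v i * w i = 3)
    (hdeg : ∀ v ∈ V, ∑ i, f i * v i = 0) (h2 : 2 ≤ V.card) (h3 : V.card ≠ 3) :
    ∃ (a b : ι) (a₁ a₂ : ℤ) (c : (ι → ℤ) → ι), a ≠ i₀ ∧ b ≠ i₀ ∧ a ≠ b ∧ (a₁ = 1 ∨ a₁ = -1) ∧ (a₂ = 1 ∨ a₂ = -1) ∧
      (∀ v ∈ V, v a = a₁ ∧ v b = a₂ ∧ c v ≠ i₀ ∧ c v ≠ a ∧ c v ≠ b ∧ (v (c v) = 1 ∨ v (c v) = -1) ∧
        ∀ i, i ≠ i₀ → i ≠ a → i ≠ b → i ≠ c v → v i = 0) ∧
      ∀ v ∈ V, ∀ w ∈ V, v ≠ w → w (c v) = 0 := by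
  classical
  have hT := fun v (hv : v ∈ V) => card_supp3 (hnorm v hv) (hbase v hv)
  have hagree : ∀ v ∈ V, ∀ w ∈ V, ∀ i, v i ≠ 0 → w i ≠ 0 → v i = w i := by
    intro v hv w hw i h1 h2
    by_cases hvw : v = w
    · rw [hvw]
    · exact agree_of_inner (hnorm v hv) (hnorm w hw) (hbase v hv) (hbase w hw) (hinner v hv w hw hvw) i h1 h2
  obtain ⟨v₁, hv₁, v₂, hv₂, h12⟩ := Finset.one_lt_card.mp (show 1 < V.card by omega)
  have hcard2 := card_inter_supp3 (hnorm v₁ hv₁) (hnorm v₂ hv₂) (hbase v₁ hv₁) (hbase v₂ hv₂)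
    (hinner v₁ hv₁ v₂ hv₂ h12)
  obtain ⟨a, b, hab, hpair⟩ := Finset.card_eq_two.mp hcard2
  have hpair' : ∀ i, i ∈ supp3 i₀ v₁ ∧ i ∈ supp3 i₀ v₂ ↔ i = a ∨ i = b := by
    intro i
    rw [← Finset.mem_inter, hpair]
    simp
  have hpair'' : ∀ i, i ∈ supp3 i₀ v₁ ∧ i ∈ supp3 i₀ v₂ ↔ i = b ∨ i = a := by
    intro i
    rw [hpair', or_comm]
  have hall : ∀ v ∈ V, a ∈ supp3 i₀ v ∧ b ∈ supp3 i₀ v := by
    intro v hv
    constructor
    · by_contra h
      exact no_third i₀ f hf V hnorm hbase hinner hdeg h3 hv₁ hv₂ hv h12 hab hpair' h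
    · by_contra h
      exact no_third i₀ f hf V hnorm hbase hinner hdeg h3 hv₁ hv₂ hv h12 hab.symm hpair'' h
  have hex : ∀ v : ι → ℤ, ∃ c : ι, v ∈ V → (c ≠ a ∧ c ≠ b ∧ c ∈ supp3 i₀ v ∧ ∀ i ∈ supp3 i₀ v, i = a ∨ i = b ∨ i = c) := by
    intro v
    by_cases hv : v ∈ V
    · obtain ⟨c, h1, h2, h3, h4⟩ := exists_third (hT v hv) (hall v hv).1 (hall v hv).2 hab
      exact ⟨c, fun _ => ⟨h1, h2, h3, h4⟩⟩
    · exact ⟨a, fun h => absurd h hv⟩
  choose c hc using hex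
  have hval : ∀ v ∈ V, ∀ i ∈ supp3 i₀ v, v i = 1 ∨ v i = -1 := by
    intro v hv i hi
    rcases val_of_norm (hnorm v hv) (hbase v hv) i with h | h | h
    · exact absurd h (mem_supp3.mp hi).2
    · exact Or.inl h
    · exact Or.inr h
  refine ⟨a, b, v₁ a, v₁ b, c, (mem_supp3.mp (hall v₁ hv₁).1).1, (mem_supp3.mp (hall v₁ hv₁).2).1, hab,
    hval v₁ hv₁ a (hall v₁ hv₁).1, hval v₁ hv₁ b (hall v₁ hv₁).2, ?_, ?_⟩
  · intro v hv
    obtain ⟨h1, h2, h3', h4⟩ := hc v hv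
    refine ⟨hagree v hv v₁ hv₁ a (mem_supp3.mp (hall v hv).1).2 (mem_supp3.mp (hall v₁ hv₁).1).2,
      hagree v hv v₁ hv₁ b (mem_supp3.mp (hall v hv).2).2 (mem_supp3.mp (hall v₁ hv₁).2).2,
      (mem_supp3.mp h3').1, h1, h2, hval v hv _ h3', ?_⟩
    intro i hi0 hia hib hic
    by_contra hne
    rcases h4 i (mem_supp3.mpr ⟨hi0, hne⟩) with h | h | h
    · exact hia h
    · exact hib h
    · exact hic h
  · intro v hv w hw hvw
    by_contra hne
    apply hvw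
    -- the common support has four elements
    obtain ⟨h1, h2, h3', h4⟩ := hc v hv
    have h5 : c v ∈ supp3 i₀ v ∩ supp3 i₀ w :=
      Finset.mem_inter.mpr ⟨h3', mem_supp3.mpr ⟨(mem_supp3.mp h3').1, hne⟩⟩
    have h6 : a ∈ supp3 i₀ v ∩ supp3 i₀ w := Finset.mem_inter.mpr ⟨(hall v hv).1, (hall w hw).1⟩
    have h7 : b ∈ supp3 i₀ v ∩ supp3 i₀ w := Finset.mem_inter.mpr ⟨(hall v hv).2, (hall w hw).2⟩
    exfalso
    have h8 := card_inter_supp3 (hnorm v hv) (hnorm w hw) (hbase v hv) (hbase w hw) (hinner v hv w hw hvw)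
    have h9 : ({a, b, c v} : Finset ι) ⊆ supp3 i₀ v ∩ supp3 i₀ w := by
      intro i hi
      simp only [Finset.mem_insert, Finset.mem_singleton] at hi
      rcases hi with rfl | rfl | rfl <;> assumption
    have h10 := Finset.card_le_card h9
    rw [Finset.card_insert_of_notMem (by simp [hab, h1.symm]), Finset.card_pair h2.symm, h8] at h10
    omega

end Sunflower

end Cfsg.Agent.Lib.Char.E3
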