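import Cfsg.Agent.Lib.Char.E3Dual
import Cfsg.Agent.Lib.Char.E3Sunflower
import Cfsg.Agent.Lib.Blocks.KleinFour
import Cfsg.Agent.Lib.Char.PBlock

/-!
# Columns of the principal block at a Frobenius-type abelian Sylow subgroup
-/

set_option autoImplicit false
set_option linter.unusedSectionVars false

namespace Cfsg.Agent.Lib.Char.E3

open Cfsg Cfsg.Agent.Lib.Char
open Cfsg.Agent.Lib.Blocks (sum_block_mul_finsum_eq_zero exists_isPExp IsPExp isPrime_of_modular
  index_pPrimeCore_of_hasNormalPComplement sum_principal_section_norm sum_principal_norm_of_normal_complement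
  principal_apply_mul_core mem_of_regular_of_index commute_of_mem_centralizer_singleton
  mem_centralizer_singleton_of_commute irr_apply_inv)
open scoped ComplexConjugate

universe u

section Mult

variable {G : Type u} [Group G] [Fintype G] (P : Subgroup G) [Fintype P]

theorem exists_mult (ψ : ↥P →* ℂˣ) (χ : IrrCharacter G) :
    ∃ n : ℕ, (Nat.card P : ℂ)⁻¹ * ∑ y : P, (χ : G → ℂ) y * conj (ev ψ y) = n := by
  obtain ⟨n, hn⟩ := IsCharacter.classInner_nat (isCharacter_resFun P (IsIrrCharacter.isCharacter χ.2))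
    (isCharacter_ev ψ)
  exact ⟨n, hn⟩

/-- The multiplicity of a linear character in the restriction of an irreducible character. -/
noncomputable def mult (ψ : ↥P →* ℂˣ) (χ : IrrCharacter G) : ℕ := (exists_mult P ψ χ).choose

theorem mult_spec (ψ : ↥P →* ℂˣ) (χ : IrrCharacter G) :
    (mult P ψ χ : ℂ) = (Nat.card P : ℂ)⁻¹ * ∑ y : P, (χ : G → ℂ) y * conj (ev ψ y) :=
  (exists_mult P ψ χ).choose_spec.symm

/-- The coefficient of the difference `1 - ψ`. -/
noncomputable def alpha (ψ : ↥P →* ℂˣ) (χ : IrrCharacter G) : ℤ := (mult P 1 χ : ℤ) - mult P ψ χ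

theorem alpha_spec (ψ : ↥P →* ℂˣ) (χ : IrrCharacter G) :
    (alpha P ψ χ : ℂ) = (Nat.card P : ℂ)⁻¹ * ∑ y : P, (χ : G → ℂ) y * (1 - conj (ev ψ y)) := by
  simp only [alpha, Int.cast_sub, Int.cast_natCast, mult_spec, mul_sub, mul_one, Finset.sum_sub_distrib]
  simp

theorem alpha_spec' (ψ : ↥P →* ℂˣ) (χ : IrrCharacter G) :
    (alpha P ψ χ : ℂ) = (Nat.card P : ℂ)⁻¹ * ∑ y : P, conj ((χ : G → ℂ) y) * (1 - ev ψ y) := by
  have h1 : conj ((alpha P ψ χ : ℂ)) = (alpha P ψ χ : ℂ) := by simp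
  rw [← h1, alpha_spec, map_mul, map_inv₀, map_natCast, map_sum]
  congr 1
  refine Finset.sum_congr rfl fun y _ => ?_
  simp

@[simp] theorem alpha_one_left (χ : IrrCharacter G) : alpha P 1 χ = 0 := by simp [alpha]

variable [Fintype (↥P →* ℂˣ)]

theorem fourier (hcomm : ∀ x y : ↥P, x * y = y * x) (χ : IrrCharacter G) (y : P) :
    (χ : G → ℂ) y = ∑ ψ : ↥P →* ℂˣ, (mult P ψ χ : ℂ) * ev ψ y := by
  classical
  have hP0 : (Nat.card P : ℂ) ≠ 0 := by exact_mod_cast Nat.card_pos.ne'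
  simp only [mult_spec, Finset.sum_mul, Finset.mul_sum]
  rw [Finset.sum_comm]
  have h1 : ∀ z : P, ∑ ψ : ↥P →* ℂˣ, (Nat.card P : ℂ)⁻¹ * ((χ : G → ℂ) z * conj (ev ψ z)) * ev ψ y =
      (Nat.card P : ℂ)⁻¹ * ((χ : G → ℂ) z * ∑ ψ : ↥P →* ℂˣ, ev ψ (z⁻¹ * y)) := by
    intro z
    rw [Finset.mul_sum, Finset.mul_sum]
    refine Finset.sum_congr rfl fun ψ _ => ?_
    rw [ev_mul, conj_ev]
    ring
  simp only [h1]
  rw [Finset.sum_eq_single y]
  · simp only [inv_mul_cancel]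
    rw [sum_dual_ev_one hcomm]
    field_simp
  · intro z _ hz
    have h2 : z⁻¹ * y ≠ 1 := fun h => hz (inv_mul_eq_one.mp h)
    rw [sum_dual_ev_eq_zero hcomm h2, mul_zero, mul_zero]
  · simp

theorem value_eq (hcomm : ∀ x y : ↥P, x * y = y * x) (χ : IrrCharacter G) {y : P} (hy : y ≠ 1) :
    (χ : G → ℂ) y = - ∑ ψ : ↥P →* ℂˣ, (alpha P ψ χ : ℂ) * ev ψ y := by
  have h1 := sum_dual_ev_eq_zero hcomm hy
  simp only [alpha, Int.cast_sub, Int.cast_natCast, sub_mul, Finset.sum_sub_distrib, ← Finset.mul_sum, h1,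
    mul_zero, zero_sub, neg_neg]
  exact fourier P hcomm χ y

theorem degree_eq (hcomm : ∀ x y : ↥P, x * y = y * x) (χ : IrrCharacter G) :
    (charDegree (χ : G → ℂ) : ℤ) = Nat.card P * mult P 1 χ - ∑ ψ : ↥P →* ℂˣ, alpha P ψ χ := by
  have h1 := fourier P hcomm χ 1
  simp only [OneMemClass.coe_one, ev_one, mul_one] at h1
  rw [apply_one_eq_charDegree (IsIrrCharacter.isCharacter χ.2)] at h1
  have h2 : (charDegree (χ : G → ℂ) : ℤ) = ∑ ψ : ↥P →* ℂˣ, (mult P ψ χ : ℤ) := by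
    have : ((charDegree (χ : G → ℂ) : ℤ) : ℂ) = ((∑ ψ : ↥P →* ℂˣ, (mult P ψ χ : ℤ) : ℤ) : ℂ) := by
      push_cast
      exact h1
    exact Int.cast_injective this
  rw [h2]
  simp only [alpha, Finset.sum_sub_distrib, Finset.sum_const, Finset.card_univ, nsmul_eq_mul]
  rw [← Nat.card_eq_fintype_card, dual_card hcomm]
  ring

end Mult

section Local

variable {G : Type u} [Group G] [Fintype G] {p : ℕ} [hp : Fact p.Prime] {M : Ideal AlgInt}

theorem local_index (P : Sylow p G) (hab : ∀ x ∈ (P : Subgroup G), ∀ y ∈ (P : Subgroup G), x * y = y * x)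
    (hfrob : ∀ y : G, y ∈ (P : Subgroup G) → y ≠ 1 → Subgroup.centralizer ({y} : Set G) ⊓
      Subgroup.normalizer ((P : Subgroup G) : Set G) = Subgroup.centralizer ((P : Subgroup G) : Set G))
    {y : G} (hy : y ∈ (P : Subgroup G)) (hy1 : y ≠ 1) :
    ∃ k : ℕ, (pPrimeCore p (Subgroup.centralizer ({y} : Set G))).index = p ^ k ∧ p ^ k = Nat.card (P : Subgroup G) := by
  classical
  have hle : (P : Subgroup G) ≤ Subgroup.centralizer ({y} : Set G) := fun x hx =>
    mem_centralizer_singleton_of_commute (hab x hx y hy)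
  let Q : Sylow p (Subgroup.centralizer ({y} : Set G)) := P.subtype hle
  have hQmem : ∀ x : Subgroup.centralizer ({y} : Set G), x ∈ (Q : Subgroup (Subgroup.centralizer ({y} : Set G))) ↔ (x : G) ∈ (P : Subgroup G) := by
    intro x
    simp only [Q, Sylow.coe_subtype]
    exact Subgroup.mem_subgroupOf
  have hQcard : Nat.card (Q : Subgroup (Subgroup.centralizer ({y} : Set G))) = Nat.card (P : Subgroup G) := by
    refine Nat.card_congr ⟨fun x => ⟨(x.1 : G), (hQmem _).mp x.2⟩, fun x => ⟨⟨x.1, hle x.2⟩, (hQmem _).mpr x.2⟩, ?_, ?_⟩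
    · intro x; rfl
    · intro x; rfl
  have hN : Subgroup.normalizer ((Q : Subgroup (Subgroup.centralizer ({y} : Set G))) : Set (Subgroup.centralizer ({y} : Set G))) ≤
      Subgroup.centralizer ((Q : Subgroup (Subgroup.centralizer ({y} : Set G))) : Set (Subgroup.centralizer ({y} : Set G))) := by
    intro h hh
    have hh' := Subgroup.mem_normalizer_iff.mp hh
    have h1 : (h : G) ∈ Subgroup.normalizer ((P : Subgroup G) : Set G) := by
      rw [Subgroup.mem_normalizer_iff]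
      intro x
      constructor
      · intro hx
        have h2 : (⟨x, hle hx⟩ : Subgroup.centralizer ({y} : Set G)) ∈ (Q : Subgroup (Subgroup.centralizer ({y} : Set G))) := (hQmem _).mpr hx
        have h3 := (hQmem _).mp ((hh' _).mp h2)
        exact h3
      · intro hx
        have h4 : (h : G)⁻¹ * ((h : G) * x * (h : G)⁻¹) * (h : G) ∈ Subgroup.centralizer ({y} : Set G) :=
          Subgroup.mul_mem _ (Subgroup.mul_mem _ (inv_mem h.2) (hle hx)) h.2
        have h5 : (h : G)⁻¹ * ((h : G) * x * (h : G)⁻¹) * (h : G) = x := by group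
        rw [h5] at h4
        have h6 : (h * ⟨x, h4⟩ * h⁻¹ : Subgroup.centralizer ({y} : Set G)) ∈ (Q : Subgroup (Subgroup.centralizer ({y} : Set G))) := (hQmem _).mpr hx
        exact (hQmem _).mp ((hh' _).mpr h6)
    have h2 : (h : G) ∈ Subgroup.centralizer ((P : Subgroup G) : Set G) := by
      rw [← hfrob y hy hy1]
      exact ⟨h.2, h1⟩
    rw [Subgroup.mem_centralizer_iff]
    intro t ht
    apply Subtype.ext
    exact (Subgroup.mem_centralizer_iff.mp h2) t ((hQmem t).mp ht)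
  obtain ⟨k, hk⟩ := index_pPrimeCore_of_hasNormalPComplement
    (Cfsg.Agent.Lib.Transfer.hasNormalPComplement_of_normalizer_le Q hN)
  refine ⟨k, hk, ?_⟩
  have hcop := Cfsg.Agent.Lib.Basic.pPrimeCore_coprime (G := Subgroup.centralizer ({y} : Set G)) p
  have hnd : ¬ p ∣ Nat.card (pPrimeCore p (Subgroup.centralizer ({y} : Set G))) := by
    intro h
    have h1 := Nat.Coprime.eq_one_of_dvd hcop.symm h
    exact hp.out.one_lt.ne' h1
  have h4 := Subgroup.index_mul_card (pPrimeCore p (Subgroup.centralizer ({y} : Set G)))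
  rw [hk] at h4
  have h5 : (Nat.card (Subgroup.centralizer ({y} : Set G))).factorization p = k := by
    rw [← h4, Nat.factorization_mul (pow_ne_zero _ hp.out.ne_zero) Nat.card_pos.ne',
      Nat.factorization_pow, Finsupp.add_apply, Finsupp.smul_apply, hp.out.factorization_self,
      Nat.factorization_eq_zero_of_not_dvd hnd]
    simp
  rw [← hQcard, Sylow.card_eq_multiplicity, h5]

theorem local_part (hM : IsPModular p M) {y : G} (hyp : ∃ k : ℕ, orderOf y = p ^ k) {k : ℕ}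
    (hk : (pPrimeCore p (Subgroup.centralizer ({y} : Set G))).index = p ^ k)
    {r : G} (hr : Commute y r) (hreg : ¬ p ∣ orderOf r) {χ : IrrCharacter G} (hχ : χ ∈ principalBlock M G) :
    (χ : G → ℂ) (y * r) = (χ : G → ℂ) y := by
  classical
  letI : Fintype (Subgroup.centralizer ({y} : Set G)) := Fintype.ofFinite _
  have hyC : r ∈ Subgroup.centralizer ({y} : Set G) := mem_centralizer_singleton_of_commute hr.symm
  have hyreg : ¬ p ∣ orderOf (⟨r, hyC⟩ : Subgroup.centralizer ({y} : Set G)) := by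
    rwa [Subgroup.orderOf_mk]
  have hv : r ∈ centralizerPPrimeCore p y :=
    ⟨⟨r, hyC⟩, mem_of_regular_of_index hk hyreg, rfl⟩
  exact principal_apply_mul_core hM hyp hv hχ

theorem local_norm (hM : IsPModular p M) {y : G} (hyp : ∃ k : ℕ, orderOf y = p ^ k) {k : ℕ}
    (hk : (pPrimeCore p (Subgroup.centralizer ({y} : Set G))).index = p ^ k) :
    ∑ᶠ χ ∈ principalBlock M G, ‖(χ : G → ℂ) y‖ ^ 2 = ((p ^ k : ℕ) : ℝ) := by
  classical
  letI : Fintype (Subgroup.centralizer ({y} : Set G)) := Fintype.ofFinite _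
  have h1 := sum_principal_section_norm (p := p) (M := M) hM hyp (y := 1) (by simpa using hp.out.ne_one)
  have hcop := Cfsg.Agent.Lib.Basic.pPrimeCore_coprime (G := Subgroup.centralizer ({y} : Set G)) p
  have hnd : ¬ p ∣ Nat.card (pPrimeCore p (Subgroup.centralizer ({y} : Set G))) := by
    intro h
    have h1 := Nat.Coprime.eq_one_of_dvd hcop.symm h
    exact hp.out.one_lt.ne' h1
  have h2 := sum_principal_norm_of_normal_complement (G := Subgroup.centralizer ({y} : Set G)) (p := p) (M := M)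
    hM hnd hk (y := 1) (by simpa using hp.out.ne_one)
  rw [h2] at h1
  simpa using h1

end Local

section Setup

variable {G : Type u} [Group G] [Fintype G]

open scoped Classical in
/-- The principal block as a finite set. -/
noncomputable def blockS (M : Ideal AlgInt) (G : Type u) [Group G] [Fintype G] : Finset (IrrCharacter G) :=
  Finset.univ.filter (· ∈ principalBlock M G)

theorem mem_blockS {M : Ideal AlgInt} {χ : IrrCharacter G} : χ ∈ blockS M G ↔ χ ∈ principalBlock M G := by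
  simp [blockS]

theorem finsum_blockS {M : Ideal AlgInt} {β : Type*} [AddCommMonoid β] (f : IrrCharacter G → β) :
    ∑ᶠ χ ∈ principalBlock M G, f χ = ∑ χ ∈ blockS M G, f χ := by
  have h1 : principalBlock M G = ((blockS M G : Finset (IrrCharacter G)) : Set (IrrCharacter G)) := by
    ext χ
    simp [blockS]
  conv_lhs => rw [h1]
  exact finsum_mem_coe_finset _ _

/-- The hypotheses under which the columns of the principal block are computed. -/
structure Setup (M : Ideal AlgInt) (p : ℕ) (P : Subgroup G) (σ : ↥P →* ↥P) : Prop where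
  hM : IsPModular p M
  isP : IsPGroup p P
  hcomm : ∀ x y : ↥P, x * y = y * x
  hσ3 : ∀ y, σ (σ (σ y)) = y
  hfix : ∀ y, σ y = y → y = 1
  hconj : ∀ y y' : ↥P, IsConj (y : G) (y' : G) ↔ y' = y ∨ y' = σ y ∨ y' = σ (σ y)
  hnorm : ∀ y : ↥P, y ≠ 1 → ∑ᶠ χ ∈ principalBlock M G, ‖(χ : G → ℂ) y‖ ^ 2 = (Nat.card P : ℝ)
  hpart : ∀ y : ↥P, y ≠ 1 → ∀ r : G, Commute (y : G) r → ¬ p ∣ orderOf r →
    ∀ χ ∈ principalBlock M G, (χ : G → ℂ) (y * r) = (χ : G → ℂ) y
  hdvd : ∀ χ ∈ principalBlock M G, ¬ (Nat.card P ∣ charDegree (χ : G → ℂ))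
  hSyl : ∀ Q : Subgroup G, IsPGroup p Q → ∃ c : G, ∀ q ∈ Q, c * q * c⁻¹ ∈ P

namespace Setup

variable {M : Ideal AlgInt} {p : ℕ} [hp : Fact p.Prime] {P : Subgroup G} {σ : ↥P →* ↥P}
  (h : Setup M p P σ)

include h

theorem isPrime : M.IsPrime := isPrime_of_modular h.hM

theorem one_mem : irrOne G ∈ blockS M G :=
  haveI := h.isPrime
  mem_blockS.mpr irrOne_mem_principalBlock

theorem pExp_order (y : ↥P) : ∃ k, orderOf (y : G) = p ^ k := by
  obtain ⟨k, hk⟩ := IsPGroup.iff_orderOf.mp h.isP y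
  exact ⟨k, by rw [← hk, Subgroup.orderOf_coe]⟩

theorem dvd_order {y : ↥P} (hy : y ≠ 1) : p ∣ orderOf (y : G) := by
  obtain ⟨k, hk⟩ := h.pExp_order y
  rw [hk]
  rcases Nat.eq_zero_or_pos k with rfl | hk0
  · exfalso
    rw [pow_zero, orderOf_eq_one_iff] at hk
    exact hy (Subtype.ext hk)
  · exact dvd_pow_self p hk0.ne'

theorem isPBlock : IsPBlock M (principalBlock M G) :=
  isPBlock_principalBlock

theorem char_conj {y y' : ↥P} (hc : IsConj (y : G) (y' : G)) (χ : IrrCharacter G) :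
    (χ : G → ℂ) y' = (χ : G → ℂ) y := by
  obtain ⟨c, hc'⟩ := isConj_iff.mp hc
  rw [← hc']
  exact IsCharacter.isClassFunction (IsIrrCharacter.isCharacter χ.2) _ _

theorem char_sigma (y : ↥P) (χ : IrrCharacter G) : (χ : G → ℂ) (σ y) = (χ : G → ℂ) y :=
  h.char_conj ((h.hconj y (σ y)).mpr (Or.inr (Or.inl rfl))) χ

theorem col_self {y : ↥P} (hy : y ≠ 1) :
    ∑ χ ∈ blockS M G, (χ : G → ℂ) y * conj ((χ : G → ℂ) y) = (Nat.card P : ℂ) := by
  have h1 := h.hnorm y hy
  rw [finsum_blockS] at h1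
  have h2 : ((∑ χ ∈ blockS M G, ‖(χ : G → ℂ) y‖ ^ 2 : ℝ) : ℂ) = ((Nat.card P : ℝ) : ℂ) := by rw [h1]
  rw [Complex.ofReal_sum] at h2
  simp only [Complex.ofReal_natCast] at h2
  rw [← h2]
  refine Finset.sum_congr rfl fun χ _ => ?_
  rw [Complex.mul_conj, Complex.normSq_eq_norm_sq]

theorem col_ne {y y' : ↥P} (hne : ¬ IsConj (y : G) (y' : G)) :
    ∑ χ ∈ blockS M G, (χ : G → ℂ) y * conj ((χ : G → ℂ) y') = 0 := by
  obtain ⟨α, hα⟩ := exists_isPExp G p
  obtain ⟨k, hk⟩ := h.pExp_order y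
  obtain ⟨k', hk'⟩ := h.pExp_order y'
  have h1 := sum_block_mul_finsum_eq_zero h.hM hα (isPBlock_principalBlock (M := M) (G := G)) (g := (y : G)) (h := (y' : G))
    (by rw [hα.pow_of_pPow hk, hα.pow_of_pPow hk']; exact fun hc => hne hc.symm)
  rw [finsum_blockS] at h1
  rw [← h1]
  refine Finset.sum_congr rfl fun χ _ => ?_
  rw [irr_apply_inv]

theorem col_reg {x : G} (hx : ¬ p ∣ orderOf x) {y : ↥P} (hy : y ≠ 1) :
    ∑ χ ∈ blockS M G, (χ : G → ℂ) x * conj ((χ : G → ℂ) y) = 0 := by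
  have h1 := Cfsg.Agent.Lib.Blocks.weak_block_orthogonality h.hM (isPBlock_principalBlock (M := M) (G := G)) hx (h.dvd_order hy)
  rwa [finsum_blockS] at h1

variable [Fintype P]

/-- Summing a function over `P` against a column. -/
theorem sum_col (F : ↥P → ℂ) (hF : F 1 = 0) {y : ↥P} (hy : y ≠ 1) :
    ∑ y' : ↥P, F y' * ∑ χ ∈ blockS M G, (χ : G → ℂ) y * conj ((χ : G → ℂ) y') =
      (Nat.card P : ℂ) * (F y + F (σ y) + F (σ (σ y))) := by
  classical
  have hd1 := sigma_ne_self h.hfix hy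
  have hd2 := sigma2_ne_self h.hσ3 h.hfix hy
  have hd3 := sigma2_ne_sigma h.hσ3 h.hfix hy
  let orb : Finset ↥P := {y, σ y, σ (σ y)}
  have hsub : orb ⊆ Finset.univ := Finset.subset_univ _
  rw [← Finset.sum_subset hsub]
  · have hval : ∀ y' ∈ orb, F y' * ∑ χ ∈ blockS M G, (χ : G → ℂ) y * conj ((χ : G → ℂ) y') =
        (Nat.card P : ℂ) * F y' := by
      intro y' hy'
      have hc : IsConj (y : G) (y' : G) := by
        apply (h.hconj y y').mpr
        simpa [orb] using hy'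
      have h1 : ∀ χ : IrrCharacter G, (χ : G → ℂ) y * conj ((χ : G → ℂ) y') = (χ : G → ℂ) y * conj ((χ : G → ℂ) y) :=
        fun χ => by rw [h.char_conj hc χ]
      simp only [h1]
      rw [h.col_self hy]
      ring
    rw [Finset.sum_congr rfl hval]
    simp only [orb]
    rw [Finset.sum_insert (by simp [hd1.symm, hd2.symm]), Finset.sum_insert (by simpa using hd3.symm),
      Finset.sum_singleton]
    ring
  · intro y' _ hy'
    by_cases hc : IsConj (y : G) (y' : G)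
    · exfalso
      apply hy'
      have := (h.hconj y y').mp hc
      simpa [orb] using this
    · rw [h.col_ne hc, mul_zero]

variable [Fintype (↥P →* ℂˣ)]

/-- The Gram matrix, complex form. -/
theorem gram_complex {ψ φ : ↥P →* ℂˣ} (hψ : ψ ≠ 1) (hφ : φ ≠ 1) [Decidable (φ = ψ)]
    [Decidable (twist σ φ = ψ)] [Decidable (twist σ (twist σ φ) = ψ)] :
    ∑ χ ∈ blockS M G, (alpha P ψ χ : ℂ) * (alpha P φ χ : ℂ) =
      3 + (if φ = ψ then 1 else 0) + (if twist σ φ = ψ then 1 else 0) +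
        (if twist σ (twist σ φ) = ψ then 1 else 0) := by
  classical
  have hP0 : (Nat.card P : ℂ) ≠ 0 := by exact_mod_cast Nat.card_pos.ne'
  have h1 : ∑ χ ∈ blockS M G, (alpha P ψ χ : ℂ) * (alpha P φ χ : ℂ) =
      (Nat.card P : ℂ)⁻¹ * ((Nat.card P : ℂ)⁻¹ * ∑ y : ↥P, (1 - conj (ev ψ y)) *
        ∑ y' : ↥P, (1 - ev φ y') * ∑ χ ∈ blockS M G, (χ : G → ℂ) y * conj ((χ : G → ℂ) y')) := by
    have e : ∀ χ : IrrCharacter G, (alpha P ψ χ : ℂ) * (alpha P φ χ : ℂ) =
        (Nat.card P : ℂ)⁻¹ * ((Nat.card P : ℂ)⁻¹ * ∑ y : ↥P, ∑ y' : ↥P,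
          (1 - conj (ev ψ y)) * ((1 - ev φ y') * ((χ : G → ℂ) y * conj ((χ : G → ℂ) y')))) := by
      intro χ
      rw [alpha_spec, alpha_spec' P φ, mul_mul_mul_comm, Finset.sum_mul_sum, mul_assoc]
      congr 2
      refine Finset.sum_congr rfl fun y _ => Finset.sum_congr rfl fun y' _ => ?_
      ring
    simp only [e]
    rw [← Finset.mul_sum, ← Finset.mul_sum]
    congr 2
    simp only [Finset.mul_sum]
    rw [Finset.sum_comm]
    refine Finset.sum_congr rfl fun y _ => ?_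
    rw [Finset.sum_comm]
  have h2 : ∀ y : ↥P, (1 - conj (ev ψ y)) *
      ∑ y' : ↥P, (1 - ev φ y') * ∑ χ ∈ blockS M G, (χ : G → ℂ) y * conj ((χ : G → ℂ) y') =
      (Nat.card P : ℂ) * ((1 - conj (ev ψ y)) * (1 - ev φ y) + (1 - conj (ev ψ y)) * (1 - ev (twist σ φ) y) +
        (1 - conj (ev ψ y)) * (1 - ev (twist σ (twist σ φ)) y)) := by
    intro y
    by_cases hy : y = 1
    · subst hy
      simp
    · rw [h.sum_col (fun y' => 1 - ev φ y') (by simp) hy, ev_twist, ev_twist, ev_twist]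
      ring
  rw [h1]
  simp only [h2]
  rw [← Finset.mul_sum, ← mul_assoc (Nat.card P : ℂ)⁻¹ (Nat.card P : ℂ), inv_mul_cancel₀ hP0, one_mul,
    Finset.sum_add_distrib, Finset.sum_add_distrib, mul_add, mul_add,
    inner_dual hψ hφ, inner_dual hψ (twist_ne_one h.hσ3 hφ), inner_dual hψ (twist_ne_one h.hσ3 (twist_ne_one h.hσ3 hφ))]
  ring

omit h in
/-- The orbit relation on the dual. -/
def orbRel (σ : ↥P →* ↥P) (ψ φ : ↥P →* ℂˣ) : Prop :=
  φ = ψ ∨ φ = twist σ ψ ∨ φ = twist σ (twist σ ψ)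

theorem gram_orb {ψ φ : ↥P →* ℂˣ} (hψ : ψ ≠ 1) (hφ : φ ≠ 1) (hr : orbRel σ ψ φ) :
    ∑ χ ∈ blockS M G, alpha P ψ χ * alpha P φ χ = 4 := by
  classical
  have hc := h.hcomm
  have h3 := h.hσ3
  have hf := h.hfix
  have h1 := h.gram_complex hψ hφ
  have hd1 := twist_ne_self hc hf hψ
  have hd2 := twist2_ne_self hc h3 hf hψ
  have hval : (3 + (if φ = ψ then (1 : ℂ) else 0) + (if twist σ φ = ψ then 1 else 0) +
        (if twist σ (twist σ φ) = ψ then 1 else 0)) = 4 := by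
    rcases hr with rfl | rfl | rfl
    · rw [if_pos rfl, if_neg hd1, if_neg hd2]
      norm_num
    · rw [if_neg hd1, if_neg hd2, if_pos (twist3 h3 ψ)]
      norm_num
    · rw [if_neg hd2, if_pos (twist3 h3 ψ), if_neg (by rw [twist3 h3]; exact hd1)]
      norm_num
  rw [hval] at h1
  have h2 : ((∑ χ ∈ blockS M G, alpha P ψ χ * alpha P φ χ : ℤ) : ℂ) = ((4 : ℤ) : ℂ) := by
    push_cast
    exact h1
  exact Int.cast_injective h2

theorem gram_not {ψ φ : ↥P →* ℂˣ} (hψ : ψ ≠ 1) (hφ : φ ≠ 1) (hr : ¬ orbRel σ ψ φ) :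
    ∑ χ ∈ blockS M G, alpha P ψ χ * alpha P φ χ = 3 := by
  classical
  have h3 := h.hσ3
  have h1 := h.gram_complex hψ hφ
  simp only [orbRel, not_or] at hr
  obtain ⟨hr1, hr2, hr3⟩ := hr
  have e1 : twist σ φ ≠ ψ := by
    intro e
    apply hr3
    rw [← e, twist3 h3]
  have e2 : twist σ (twist σ φ) ≠ ψ := by
    intro e
    apply hr2
    rw [← e, twist3 h3]
  rw [if_neg hr1, if_neg e1, if_neg e2] at h1
  have h2 : ((∑ χ ∈ blockS M G, alpha P ψ χ * alpha P φ χ : ℤ) : ℂ) = ((3 : ℤ) : ℂ) := by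
    push_cast
    simpa using h1
  exact Int.cast_injective h2

theorem mult_twist (ψ : ↥P →* ℂˣ) (χ : IrrCharacter G) : mult P (twist σ ψ) χ = mult P ψ χ := by
  have h1 : (mult P (twist σ ψ) χ : ℂ) = (mult P ψ χ : ℂ) := by
    rw [mult_spec, mult_spec]
    congr 1
    rw [← sum_sigma h.hσ3 (fun y : ↥P => (χ : G → ℂ) y * conj (ev ψ y))]
    refine Finset.sum_congr rfl fun y _ => ?_
    rw [h.char_sigma y χ, ev_twist]
  exact_mod_cast h1

theorem alpha_twist (ψ : ↥P →* ℂˣ) (χ : IrrCharacter G) : alpha P (twist σ ψ) χ = alpha P ψ χ := by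
  simp only [alpha, h.mult_twist]

theorem alpha_orb {ψ φ : ↥P →* ℂˣ} (hr : orbRel σ ψ φ) (χ : IrrCharacter G) :
    alpha P φ χ = alpha P ψ χ := by
  rcases hr with rfl | rfl | rfl
  · rfl
  · exact h.alpha_twist _ _
  · rw [h.alpha_twist, h.alpha_twist]

theorem D_reg (ψ : ↥P →* ℂˣ) {x : G} (hx : ¬ p ∣ orderOf x) :
    ∑ χ ∈ blockS M G, (alpha P ψ χ : ℂ) * (χ : G → ℂ) x = 0 := by
  have h1 : ∑ χ ∈ blockS M G, (alpha P ψ χ : ℂ) * (χ : G → ℂ) x =
      (Nat.card P : ℂ)⁻¹ * ∑ y : ↥P, (1 - ev ψ y) * ∑ χ ∈ blockS M G, (χ : G → ℂ) x * conj ((χ : G → ℂ) y) := by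
    simp only [alpha_spec' P ψ, Finset.mul_sum, Finset.sum_mul]
    rw [Finset.sum_comm]
    refine Finset.sum_congr rfl fun y _ => Finset.sum_congr rfl fun χ _ => ?_
    ring
  rw [h1]
  have h2 : ∀ y : ↥P, (1 - ev ψ y) * ∑ χ ∈ blockS M G, (χ : G → ℂ) x * conj ((χ : G → ℂ) y) = 0 := by
    intro y
    by_cases hy : y = 1
    · subst hy
      simp
    · rw [h.col_reg hx hy, mul_zero]
  simp only [h2, Finset.sum_const_zero, mul_zero]

theorem deg_sum (ψ : ↥P →* ℂˣ) :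
    ∑ χ ∈ blockS M G, (charDegree (χ : G → ℂ) : ℤ) * alpha P ψ χ = 0 := by
  have h1 := h.D_reg ψ (x := 1) (by simpa using hp.out.ne_one)
  have h2 : ((∑ χ ∈ blockS M G, (charDegree (χ : G → ℂ) : ℤ) * alpha P ψ χ : ℤ) : ℂ) = ((0 : ℤ) : ℂ) := by
    push_cast
    rw [← h1]
    refine Finset.sum_congr rfl fun χ _ => ?_
    rw [apply_one_eq_charDegree (IsIrrCharacter.isCharacter χ.2)]
    ring
  exact Int.cast_injective h2

omit [Fintype (↥P →* ℂˣ)] in
theorem alpha_irrOne {ψ : ↥P →* ℂˣ} (hψ : ψ ≠ 1) : alpha P ψ (irrOne G) = 1 := by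
  have h1 := alpha_spec P ψ (irrOne G)
  simp only [irrOne_apply, one_mul, Finset.sum_sub_distrib, ← map_sum, sum_ev_eq_zero hψ, map_zero, sub_zero,
    Finset.sum_const, Finset.card_univ, nsmul_eq_mul, mul_one] at h1
  rw [← Nat.card_eq_fintype_card, inv_mul_cancel₀ (by exact_mod_cast Nat.card_pos.ne')] at h1
  exact_mod_cast h1

open scoped Classical in
omit h in
/-- The vector of coefficients, extended by zero. -/
noncomputable def vv (M : Ideal AlgInt) (P : Subgroup G) [Fintype P] (ψ : ↥P →* ℂˣ) : IrrCharacter G → ℤ :=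
  fun χ => if χ ∈ blockS M G then alpha P ψ χ else 0

omit h [Fintype (↥P →* ℂˣ)] in
theorem sum_vv (F : IrrCharacter G → ℤ) (ψ : ↥P →* ℂˣ) :
    ∑ χ, F χ * vv M P ψ χ = ∑ χ ∈ blockS M G, F χ * alpha P ψ χ := by
  classical
  symm
  have h1 : ∀ χ ∈ blockS M G, F χ * alpha P ψ χ = F χ * vv M P ψ χ := by
    intro χ hχ
    simp [vv, hχ]
  rw [Finset.sum_congr rfl h1]
  apply Finset.sum_subset (Finset.subset_univ _)
  intro χ _ hχ
  simp [vv, hχ]

omit h [Fintype (↥P →* ℂˣ)] in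
theorem sum_vv_vv (ψ φ : ↥P →* ℂˣ) :
    ∑ χ, vv M P ψ χ * vv M P φ χ = ∑ χ ∈ blockS M G, alpha P ψ χ * alpha P φ χ := by
  classical
  symm
  have h1 : ∀ χ ∈ blockS M G, alpha P ψ χ * alpha P φ χ = vv M P ψ χ * vv M P φ χ := by
    intro χ hχ
    simp [vv, hχ]
  rw [Finset.sum_congr rfl h1]
  apply Finset.sum_subset (Finset.subset_univ _)
  intro χ _ hχ
  simp [vv, hχ]

end Setup

end Setup

end Cfsg.Agent.Lib.Char.E3
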