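import Cfsg.Agent.Lib.Char.Basic

/-!
# The dual of a finite abelian group with a fixed point free automorphism of order three
-/

set_option autoImplicit false
set_option linter.unusedSectionVars false

namespace Cfsg.Agent.Lib.Char.E3

open Cfsg Cfsg.Agent.Lib.Char
open scoped ComplexConjugate

universe u

section Dual

variable {A : Type u} [Group A]

/-- Evaluation of a homomorphism to `ℂˣ` as a complex number. -/
noncomputable def ev (ψ : A →* ℂˣ) (y : A) : ℂ := ((ψ y : ℂˣ) : ℂ)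

@[simp] theorem ev_one (ψ : A →* ℂˣ) : ev ψ 1 = 1 := by simp [ev]

theorem ev_mul (ψ : A →* ℂˣ) (x y : A) : ev ψ (x * y) = ev ψ x * ev ψ y := by simp [ev]

@[simp] theorem ev_one_left (y : A) : ev (1 : A →* ℂˣ) y = 1 := by simp [ev]

theorem ev_mul_left (ψ φ : A →* ℂˣ) (y : A) : ev (ψ * φ) y = ev ψ y * ev φ y := by simp [ev]

theorem ev_ne_zero (ψ : A →* ℂˣ) (y : A) : ev ψ y ≠ 0 := Units.ne_zero _

theorem ev_inv_left (ψ : A →* ℂˣ) (y : A) : ev ψ⁻¹ y = (ev ψ y)⁻¹ := by simp [ev]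

theorem ev_inv_right (ψ : A →* ℂˣ) (y : A) : ev ψ y⁻¹ = (ev ψ y)⁻¹ := by simp [ev]

theorem ev_eq_one_iff {ψ : A →* ℂˣ} {y : A} : ev ψ y = 1 ↔ ψ y = 1 :=
  ⟨fun h => Units.ext (by simpa [ev] using h), fun h => by simp [ev, h]⟩

theorem ev_comp {B : Type u} [Group B] (ψ : A →* ℂˣ) (σ : B →* A) (y : B) : ev (ψ.comp σ) y = ev ψ (σ y) := rfl

theorem ev_ext {ψ φ : A →* ℂˣ} (h : ∀ y, ev ψ y = ev φ y) : ψ = φ := by
  ext y
  exact h y

theorem isCharacter_ev (ψ : A →* ℂˣ) : IsCharacter A (ev ψ) :=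
  IsIrrCharacter.isCharacter (isIrrCharacter_of_monoidHom ψ)

theorem conj_ev [Finite A] (ψ : A →* ℂˣ) (y : A) : conj (ev ψ y) = ev ψ y⁻¹ :=
  (IsCharacter.apply_inv (isCharacter_ev ψ) y).symm

theorem conj_ev_mul [Finite A] (ψ φ : A →* ℂˣ) (y : A) : conj (ev ψ y) * ev φ y = ev (ψ⁻¹ * φ) y := by
  rw [conj_ev, ev_inv_right, ev_mul_left, ev_inv_left]

theorem dual_card [Finite A] (hcomm : ∀ x y : A, x * y = y * x) : Nat.card (A →* ℂˣ) = Nat.card A := by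
  let _ : CommGroup A := { ‹Group A› with mul_comm := hcomm }
  exact CommGroup.card_monoidHom_of_hasEnoughRootsOfUnity A ℂ

theorem dual_finite [Finite A] (hcomm : ∀ x y : A, x * y = y * x) : Finite (A →* ℂˣ) :=
  Nat.finite_of_card_ne_zero (by rw [dual_card hcomm]; exact Nat.card_pos.ne')

theorem dual_separate [Finite A] (hcomm : ∀ x y : A, x * y = y * x) {y : A} (hy : y ≠ 1) :
    ∃ ψ : A →* ℂˣ, ψ y ≠ 1 := by
  let _ : CommGroup A := { ‹Group A› with mul_comm := hcomm }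
  exact CommGroup.exists_apply_ne_one_of_hasEnoughRootsOfUnity A ℂ hy

theorem sum_ev_eq_zero [Fintype A] {ψ : A →* ℂˣ} (hψ : ψ ≠ 1) : ∑ y, ev ψ y = 0 := by
  obtain ⟨z, hz⟩ : ∃ z, ψ z ≠ 1 := by
    by_contra hcon
    push Not at hcon
    exact hψ (MonoidHom.ext hcon)
  have h1 : ev ψ z * ∑ y, ev ψ y = ∑ y, ev ψ y := by
    rw [Finset.mul_sum]
    simp only [← ev_mul]
    exact Fintype.sum_equiv (Equiv.mulLeft z) _ _ (fun y => rfl)
  have h2 : (ev ψ z - 1) * ∑ y, ev ψ y = 0 := by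
    rw [sub_mul, h1, one_mul, sub_self]
  rcases mul_eq_zero.mp h2 with h3 | h3
  · exact absurd (ev_eq_one_iff.mp (sub_eq_zero.mp h3)) hz
  · exact h3

theorem sum_ev_one_left [Fintype A] : ∑ y : A, ev (1 : A →* ℂˣ) y = (Nat.card A : ℂ) := by
  simp [Nat.card_eq_fintype_card]

theorem sum_dual_ev_eq_zero [Finite A] [Fintype (A →* ℂˣ)] (hcomm : ∀ x y : A, x * y = y * x) {y : A}
    (hy : y ≠ 1) : ∑ ψ : A →* ℂˣ, ev ψ y = 0 := by
  obtain ⟨ψ₀, h0⟩ := dual_separate hcomm hy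
  have h1 : ev ψ₀ y * ∑ ψ : A →* ℂˣ, ev ψ y = ∑ ψ : A →* ℂˣ, ev ψ y := by
    rw [Finset.mul_sum]
    simp only [← ev_mul_left]
    exact Fintype.sum_equiv (Equiv.mulLeft ψ₀) _ _ (fun y => rfl)
  have h2 : (ev ψ₀ y - 1) * ∑ ψ : A →* ℂˣ, ev ψ y = 0 := by
    rw [sub_mul, h1, one_mul, sub_self]
  rcases mul_eq_zero.mp h2 with h3 | h3
  · exact absurd (ev_eq_one_iff.mp (sub_eq_zero.mp h3)) h0
  · exact h3

theorem sum_dual_ev_one [Finite A] [Fintype (A →* ℂˣ)] (hcomm : ∀ x y : A, x * y = y * x) :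
    ∑ ψ : A →* ℂˣ, ev ψ (1 : A) = (Nat.card A : ℂ) := by
  simp only [ev_one, Finset.sum_const, Finset.card_univ, nsmul_eq_mul, mul_one]
  rw [← Nat.card_eq_fintype_card, dual_card hcomm]

/-- The inner product of two "differences". -/
theorem inner_dual [Fintype A] {ψ φ : A →* ℂˣ} [Decidable (φ = ψ)] (hψ : ψ ≠ 1) (hφ : φ ≠ 1) :
    (Nat.card A : ℂ)⁻¹ * ∑ y, (1 - conj (ev ψ y)) * (1 - ev φ y) = 1 + (if φ = ψ then 1 else 0) := by
  have hA : (Nat.card A : ℂ) ≠ 0 := by exact_mod_cast Nat.card_pos.ne'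
  have h1 : ∑ y, (1 - conj (ev ψ y)) * (1 - ev φ y) =
      ∑ y : A, (1 : ℂ) - conj (∑ y, ev ψ y) - ∑ y, ev φ y + ∑ y, ev (ψ⁻¹ * φ) y := by
    rw [map_sum, ← Finset.sum_sub_distrib, ← Finset.sum_sub_distrib, ← Finset.sum_add_distrib]
    refine Finset.sum_congr rfl fun y _ => ?_
    rw [← conj_ev_mul]
    ring
  rw [h1, sum_ev_eq_zero hψ, sum_ev_eq_zero hφ, map_zero]
  by_cases h : φ = ψ
  · subst h
    have h2 : ∀ y, ev (φ⁻¹ * φ) y = 1 := fun y => by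
      rw [ev_mul_left, ev_inv_left]
      exact inv_mul_cancel₀ (ev_ne_zero _ _)
    simp only [if_true, h2]
    simp only [Finset.sum_const, Finset.card_univ, nsmul_eq_mul, mul_one, sub_zero]
    rw [← Nat.card_eq_fintype_card]
    field_simp
  · have h2 : ψ⁻¹ * φ ≠ 1 := by
      intro h3
      exact h (inv_mul_eq_one.mp h3).symm
    rw [if_neg h, sum_ev_eq_zero h2]
    simp only [Finset.sum_const, Finset.card_univ, nsmul_eq_mul, mul_one, sub_zero, add_zero]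
    rw [← Nat.card_eq_fintype_card]
    exact inv_mul_cancel₀ hA

end Dual

section Twist

variable {A : Type u} [Group A]

/-- The twist of a homomorphism by an endomorphism. -/
def twist (σ : A →* A) (ψ : A →* ℂˣ) : A →* ℂˣ := ψ.comp σ

theorem ev_twist (σ : A →* A) (ψ : A →* ℂˣ) (y : A) : ev (twist σ ψ) y = ev ψ (σ y) := rfl

variable {σ : A →* A}

theorem twist3 (hσ3 : ∀ y, σ (σ (σ y)) = y) (ψ : A →* ℂˣ) : twist σ (twist σ (twist σ ψ)) = ψ := by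
  ext y
  show ((ψ (σ (σ (σ y))) : ℂˣ) : ℂ) = _
  rw [hσ3]

theorem sigma_bijective (hσ3 : ∀ y, σ (σ (σ y)) = y) : Function.Bijective σ := by
  constructor
  · intro x y h
    rw [← hσ3 x, ← hσ3 y, h]
  · intro y
    exact ⟨σ (σ y), hσ3 y⟩

theorem sum_sigma [Fintype A] (hσ3 : ∀ y, σ (σ (σ y)) = y) {M : Type*} [AddCommMonoid M] (F : A → M) :
    ∑ y, F (σ y) = ∑ y, F y :=
  (sigma_bijective hσ3).sum_comp F

theorem sigma_ne_self (hfix : ∀ y, σ y = y → y = 1) {y : A} (hy : y ≠ 1) : σ y ≠ y :=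
  fun h => hy (hfix y h)

theorem sigma2_ne_self (hσ3 : ∀ y, σ (σ (σ y)) = y) (hfix : ∀ y, σ y = y → y = 1) {y : A} (hy : y ≠ 1) :
    σ (σ y) ≠ y := by
  intro h
  apply hy
  apply hfix
  have h1 : σ (σ (σ y)) = σ y := congrArg σ h
  rw [hσ3] at h1
  exact h1.symm

theorem sigma2_ne_sigma (hσ3 : ∀ y, σ (σ (σ y)) = y) (hfix : ∀ y, σ y = y → y = 1) {y : A} (hy : y ≠ 1) :
    σ (σ y) ≠ σ y := by
  intro h
  exact sigma_ne_self hfix hy ((sigma_bijective hσ3).1 h)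

theorem sigma_ne_one (hfix : ∀ y, σ y = y → y = 1) (hσ3 : ∀ y, σ (σ (σ y)) = y) {y : A} (hy : y ≠ 1) :
    σ y ≠ 1 := by
  intro h
  apply hy
  apply (sigma_bijective hσ3).1
  rw [h, map_one]

/-- The product over an orbit is trivial. -/
theorem orbit_prod (hcomm : ∀ x y : A, x * y = y * x) (hσ3 : ∀ y, σ (σ (σ y)) = y)
    (hfix : ∀ y, σ y = y → y = 1) (y : A) : y * σ y * σ (σ y) = 1 := by
  apply hfix
  rw [map_mul, map_mul, hσ3, hcomm (σ y * σ (σ y)) y, mul_assoc]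

theorem twist_eq_self [Finite A] (hcomm : ∀ x y : A, x * y = y * x) (hfix : ∀ y, σ y = y → y = 1)
    {ψ : A →* ℂˣ} (h : twist σ ψ = ψ) : ψ = 1 := by
  let f : A → A := fun y => y⁻¹ * σ y
  have hinj : Function.Injective f := by
    intro x y hxy
    have h1 : x⁻¹ * σ x = y⁻¹ * σ y := hxy
    have h2 : σ (y * x⁻¹) = y * x⁻¹ := by
      rw [map_mul, map_inv]
      have h3 : σ x = x * (y⁻¹ * σ y) := by rw [← h1]; group
      rw [h3]
      calc σ y * (x * (y⁻¹ * σ y))⁻¹ = σ y * (σ y)⁻¹ * (y * x⁻¹) := by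
            rw [mul_inv_rev, mul_inv_rev, inv_inv, mul_assoc, mul_assoc]
          _ = y * x⁻¹ := by group
    have h3 := hfix _ h2
    exact (mul_inv_eq_one.mp h3).symm
  have hsurj := Finite.surjective_of_injective hinj
  ext x
  obtain ⟨y, rfl⟩ := hsurj x
  have h1 : ψ (σ y) = ψ y := by
    have := congrArg (fun θ : A →* ℂˣ => θ y) h
    exact this
  simp only [f, map_mul, map_inv, h1, inv_mul_cancel, MonoidHom.one_apply]

theorem twist2_eq_self [Finite A] (hcomm : ∀ x y : A, x * y = y * x) (hσ3 : ∀ y, σ (σ (σ y)) = y)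
    (hfix : ∀ y, σ y = y → y = 1) {ψ : A →* ℂˣ} (h : twist σ (twist σ ψ) = ψ) : ψ = 1 := by
  apply twist_eq_self hcomm hfix
  have h1 := twist3 hσ3 (twist σ ψ)
  rw [h] at h1
  exact h1.symm.trans h

theorem twist_ne_self [Finite A] (hcomm : ∀ x y : A, x * y = y * x) (hfix : ∀ y, σ y = y → y = 1)
    {ψ : A →* ℂˣ} (hψ : ψ ≠ 1) : twist σ ψ ≠ ψ :=
  fun h => hψ (twist_eq_self hcomm hfix h)

theorem twist_ne_one (hσ3 : ∀ y, σ (σ (σ y)) = y) {ψ : A →* ℂˣ} (hψ : ψ ≠ 1) : twist σ ψ ≠ 1 := by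
  intro h
  apply hψ
  ext y
  obtain ⟨z, rfl⟩ := (sigma_bijective hσ3).2 y
  have := congrArg (fun θ : A →* ℂˣ => ((θ z : ℂˣ) : ℂ)) h
  exact this

theorem twist2_ne_self [Finite A] (hcomm : ∀ x y : A, x * y = y * x) (hσ3 : ∀ y, σ (σ (σ y)) = y)
    (hfix : ∀ y, σ y = y → y = 1) {ψ : A →* ℂˣ} (hψ : ψ ≠ 1) : twist σ (twist σ ψ) ≠ ψ :=
  fun h => hψ (twist2_eq_self hcomm hσ3 hfix h)

theorem twist2_ne_twist [Finite A] (hcomm : ∀ x y : A, x * y = y * x) (hσ3 : ∀ y, σ (σ (σ y)) = y)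
    (hfix : ∀ y, σ y = y → y = 1) {ψ : A →* ℂˣ} (hψ : ψ ≠ 1) : twist σ (twist σ ψ) ≠ twist σ ψ :=
  twist_ne_self hcomm hfix (twist_ne_one hσ3 hψ)

end Twist

section Count

/-- A map whose fibres are three-element orbits. -/
theorem card_image_three {D β : Type*} [DecidableEq D] [DecidableEq β] (Ψ : Finset D) (f : D → β) (tw : D → D)
    (hΨ : ∀ ψ ∈ Ψ, tw ψ ∈ Ψ) (h1 : ∀ ψ ∈ Ψ, tw ψ ≠ ψ) (h2 : ∀ ψ ∈ Ψ, tw (tw ψ) ≠ ψ)
    (h3 : ∀ ψ ∈ Ψ, tw (tw ψ) ≠ tw ψ)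
    (hf : ∀ ψ ∈ Ψ, ∀ φ ∈ Ψ, f φ = f ψ ↔ φ = ψ ∨ φ = tw ψ ∨ φ = tw (tw ψ)) :
    Ψ.card = 3 * (Ψ.image f).card := by
  rw [Finset.card_eq_sum_card_image f Ψ]
  rw [mul_comm, ← smul_eq_mul, ← Finset.sum_const]
  refine Finset.sum_congr rfl fun b hb => ?_
  obtain ⟨ψ, hψ, rfl⟩ := Finset.mem_image.mp hb
  have h4 : Ψ.filter (fun φ => f φ = f ψ) = {ψ, tw ψ, tw (tw ψ)} := by
    ext φ
    simp only [Finset.mem_filter, Finset.mem_insert, Finset.mem_singleton]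
    constructor
    · rintro ⟨h5, h6⟩
      exact (hf ψ hψ φ h5).mp h6
    · rintro (rfl | rfl | rfl)
      · exact ⟨hψ, rfl⟩
      · exact ⟨hΨ _ hψ, (hf ψ hψ _ (hΨ _ hψ)).mpr (Or.inr (Or.inl rfl))⟩
      · exact ⟨hΨ _ (hΨ _ hψ), (hf ψ hψ _ (hΨ _ (hΨ _ hψ))).mpr (Or.inr (Or.inr rfl))⟩
  rw [h4, Finset.card_insert_of_notMem, Finset.card_pair (h3 ψ hψ).symm]
  simp only [Finset.mem_insert, Finset.mem_singleton, not_or]
  exact ⟨(h1 ψ hψ).symm, (h2 ψ hψ).symm⟩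

end Count

end Cfsg.Agent.Lib.Char.E3
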