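import Cfsg.Agent.Lib.Char.E3Table
import Cfsg.Agent.Lib.Char.E3Arith
import Cfsg.Agent.Lib.Char.Schur
import Cfsg.Agent.Lib.PGroups.Parts

/-!
# The involution part of Brauer's theorem on blocks with inertial index three
-/

set_option autoImplicit false
set_option linter.unusedSectionVars false

namespace Cfsg.Agent.Lib.Char.E3

open Cfsg Cfsg.Agent.Lib.Char
open Cfsg.Agent.Lib.Blocks (IsPExp exists_isPExp exists_nat_of_subgroup_conj)
open scoped ComplexConjugate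

universe u

section General

variable {G : Type u} [Group G] [Fintype G]

theorem sum_conj_conj (χ : IrrCharacter G) (t : G) :
    ∑ a : G, ∑ b : G, (χ : G → ℂ) (a * t * a⁻¹ * (b * t * b⁻¹)) =
      (Nat.card G : ℂ) ^ 2 * ((χ : G → ℂ) t ^ 2 / (χ : G → ℂ) 1) := by
  have h0 := IsIrrCharacter.apply_one_ne_zero χ.2
  rw [Finset.sum_comm]
  have h4 : ∀ b : G, ∑ a : G, (χ : G → ℂ) (a * t * a⁻¹ * (b * t * b⁻¹)) =
      (Nat.card G : ℂ) * (χ : G → ℂ) t ^ 2 / (χ : G → ℂ) 1 := by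
    intro b
    have h5 := IsIrrCharacter.sum_conj_mul χ.2 t (b * t * b⁻¹)
    rw [IsCharacter.isClassFunction (IsIrrCharacter.isCharacter χ.2) t b] at h5
    rw [eq_div_iff h0, mul_comm, h5]
    ring
  simp only [h4]
  rw [Finset.sum_const, Finset.card_univ, ← Nat.card_eq_fintype_card, nsmul_eq_mul]
  ring

/-- Values at involutions are integers. -/
theorem exists_int_value (χ : IrrCharacter G) {t : G} (ht : orderOf t = 2) : ∃ n : ℤ, (χ : G → ℂ) t = n := by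
  have ht2 : t ^ 2 = 1 := by rw [← ht]; exact pow_orderOf_eq_one t
  have hA : ∀ x ∈ Subgroup.zpowers t, x ≠ 1 → IsConj x t := by
    intro x hx hx1
    obtain ⟨k, rfl⟩ := Subgroup.mem_zpowers_iff.mp hx
    rcases Int.even_or_odd k with ⟨m, rfl⟩ | ⟨m, rfl⟩
    · exfalso
      apply hx1
      rw [← two_mul, zpow_mul]
      simp [ht2]
    · have : t ^ (2 * m + 1) = t := by
        rw [zpow_add, zpow_mul]
        simp [ht2]
      rw [this]
  obtain ⟨n, hn⟩ := exists_nat_of_subgroup_conj χ _ hA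
  rw [Nat.card_zpowers, ht, apply_one_eq_charDegree (IsIrrCharacter.isCharacter χ.2)] at hn
  refine ⟨2 * n - charDegree (χ : G → ℂ), ?_⟩
  push_cast at hn ⊢
  linear_combination hn

/-- A character which is constant is the principal character. -/
theorem eq_irrOne_of_const {χ : IrrCharacter G} (hχ : ∀ g, (χ : G → ℂ) g = (χ : G → ℂ) 1) : χ = irrOne G := by
  by_contra hne
  have hG0 : (Nat.card G : ℂ) ≠ 0 := by exact_mod_cast Nat.card_pos.ne'
  have h2 : classInner (χ : G → ℂ) (irrOne G : G → ℂ) = 0 :=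
    classInner_irr_of_ne χ.2 (irrOne G).2 (fun h => hne (Subtype.ext h))
  rw [classInner] at h2
  simp only [irrOne_apply, map_one, mul_one, hχ, Finset.sum_const, Finset.card_univ, nsmul_eq_mul] at h2
  rw [← Nat.card_eq_fintype_card, inv_mul_cancel_left₀ hG0] at h2
  exact IsIrrCharacter.apply_one_ne_zero χ.2 h2

/-- An element lying in no proper normal subgroup does not lie in a nontrivial kernel. -/
theorem value_ne_of_not_normal {t : G} (hnorm : ∀ K : Subgroup G, K.Normal → t ∈ K → K = ⊤)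
    {χ : IrrCharacter G} (hχ : χ ≠ irrOne G) : (χ : G → ℂ) t ≠ (χ : G → ℂ) 1 := by
  intro he
  apply hχ
  apply eq_irrOne_of_const
  have hK := hnorm (charKer (χ : G → ℂ)) (charKer_normal (IsIrrCharacter.isCharacter χ.2))
    ((mem_charKer (IsIrrCharacter.isCharacter χ.2)).mpr he)
  intro g
  have hg : g ∈ charKer (χ : G → ℂ) := by rw [hK]; trivial
  exact (mem_charKer (IsIrrCharacter.isCharacter χ.2)).mp hg

end General

section Main

variable {G : Type u} [Group G] [Fintype G] {M : Ideal AlgInt} {p : ℕ} [hp : Fact p.Prime]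
  {P : Subgroup G} [Fintype P] {σ : ↥P →* ↥P}

namespace Setup

variable (h : Setup M p P σ)

include h

theorem inv_eq_self_of_real {y : ↥P} (hy : y ≠ 1) (hc : IsConj (y : G) ((y⁻¹ : ↥P) : G)) : y⁻¹ = y := by
  have h1 := (h.hconj y y⁻¹).mp hc
  rcases h1 with h1 | h1 | h1
  · exact h1
  · exfalso
    apply sigma2_ne_self h.hσ3 h.hfix hy
    calc σ (σ y) = σ y⁻¹ := by rw [← h1]
      _ = (σ y)⁻¹ := map_inv σ y
      _ = y := by rw [← h1, inv_inv]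
  · exfalso
    apply sigma2_ne_sigma h.hσ3 h.hfix hy
    have h2 : σ (y⁻¹) = σ (σ (σ y)) := congrArg σ h1
    rw [h.hσ3, map_inv] at h2
    have h3 : σ y = y⁻¹ := inv_eq_iff_eq_inv.mp h2
    rw [← h1, h3]

theorem part_inv {α : ℕ} (hα : IsPExp p G α) {u x : G} (hu : u * x * u⁻¹ = x⁻¹) (hx : p ∣ orderOf x) :
    ∃ (c : G) (y : ↥P), y ≠ 1 ∧ (y : G) = c * x ^ α * c⁻¹ ∧ y * y = 1 := by
  have hz1 : x ^ α ≠ 1 := fun e => (hα.pow_eq_one_iff.mp e) hx
  obtain ⟨r, hzr, hcomm, ⟨k, hk⟩, hreg⟩ := hα.isPPart x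
  obtain ⟨c, hc⟩ := h.hSyl (Subgroup.zpowers (x ^ α)) (Cfsg.Agent.Lib.PGroups.isPGroup_zpowers_iff.mpr ⟨k, hk⟩)
  have hmem := hc (x ^ α) (Subgroup.mem_zpowers _)
  let y : ↥P := ⟨c * x ^ α * c⁻¹, hmem⟩
  have hy1 : y ≠ 1 := by
    intro e
    have e' : c * x ^ α * c⁻¹ = 1 := congrArg Subtype.val e
    apply hz1
    have : x ^ α = c⁻¹ * (c * x ^ α * c⁻¹) * c := by group
    rw [this, e']
    group
  refine ⟨c, y, hy1, rfl, ?_⟩
  have huz : u * x ^ α * u⁻¹ = (x ^ α)⁻¹ := by rw [← conj_pow, hu, inv_pow]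
  have hinv : IsConj (y : G) ((y⁻¹ : ↥P) : G) := by
    refine isConj_iff.mpr ⟨c * u * c⁻¹, ?_⟩
    show c * u * c⁻¹ * (c * x ^ α * c⁻¹) * (c * u * c⁻¹)⁻¹ = (c * x ^ α * c⁻¹)⁻¹
    calc c * u * c⁻¹ * (c * x ^ α * c⁻¹) * (c * u * c⁻¹)⁻¹ = c * (u * x ^ α * u⁻¹) * c⁻¹ := by group
      _ = c * (x ^ α)⁻¹ * c⁻¹ := by rw [huz]
      _ = (c * x ^ α * c⁻¹)⁻¹ := by group
  have h1 := h.inv_eq_self_of_real hy1 hinv
  calc y * y = y * y⁻¹ := by rw [h1]
    _ = 1 := mul_inv_cancel y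

omit [Fintype P] in
theorem inv_prod {u v : G} (hu : u * u = 1) (hv : v * v = 1) : u * (u * v) * u⁻¹ = (u * v)⁻¹ := by
  have hu' : u⁻¹ = u := inv_eq_of_mul_eq_one_left hu
  have hv' : v⁻¹ = v := inv_eq_of_mul_eq_one_left hv
  rw [mul_inv_rev, hu', hv', ← mul_assoc, hu, one_mul]

theorem not_dvd_prod (hp2 : p ≠ 2) {u v : G} (hu : u * u = 1) (hv : v * v = 1) : ¬ p ∣ orderOf (u * v) := by
  intro hx
  obtain ⟨α, hα⟩ := exists_isPExp G p
  obtain ⟨c, y, hy1, -, hyy⟩ := h.part_inv hα (inv_prod h hu hv) hx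
  obtain ⟨k, hk⟩ := h.pExp_order y
  have h2 : orderOf (y : G) = 2 := by
    apply orderOf_eq_prime
    · rw [pow_two]
      exact congrArg Subtype.val hyy
    · exact fun e => hy1 (Subtype.ext e)
  rw [h2] at hk
  have h3 : p ∣ 2 := by
    rcases Nat.eq_zero_or_pos k with rfl | hk0
    · simp at hk
    · rw [hk]
      exact dvd_pow_self p hk0.ne'
  exact hp2 ((Nat.prime_dvd_prime_iff_eq hp.out Nat.prime_two).mp h3)

omit h [Fintype P] in
/-- Summation over pairs of conjugates. -/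
theorem sum_sum_D [Fintype P] (c : IrrCharacter G → ℂ) (S : Finset (IrrCharacter G)) (t : G) :
    ∑ a : G, ∑ b : G, ∑ χ ∈ S, c χ * (χ : G → ℂ) (a * t * a⁻¹ * (b * t * b⁻¹)) =
      (Nat.card G : ℂ) ^ 2 * ∑ χ ∈ S, c χ * ((χ : G → ℂ) t ^ 2 / (χ : G → ℂ) 1) := by
  rw [Finset.mul_sum]
  have h3 : ∀ a : G, ∑ b : G, ∑ χ ∈ S, c χ * (χ : G → ℂ) (a * t * a⁻¹ * (b * t * b⁻¹)) =
      ∑ χ ∈ S, ∑ b : G, c χ * (χ : G → ℂ) (a * t * a⁻¹ * (b * t * b⁻¹)) :=
    fun a => Finset.sum_comm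
  simp only [h3]
  rw [Finset.sum_comm]
  refine Finset.sum_congr rfl fun χ _ => ?_
  simp only [← Finset.mul_sum]
  rw [sum_conj_conj]
  ring

end Setup

namespace Table

variable [Fintype (↥P →* ℂˣ)] {χ₁ χ₂ : IrrCharacter G} {a₁ a₂ ε : ℤ} {η : (↥P →* ℂˣ) → IrrCharacter G}
  (h : Setup M p P σ) (T : Table M P σ χ₁ χ₂ a₁ a₂ ε η)

include h T

/-- The odd case. -/
theorem odd_final (hp2 : p ≠ 2) {t : G} (ht : orderOf t = 2) (hnorm : ∀ K : Subgroup G, K.Normal → t ∈ K → K = ⊤)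
    {ψ : ↥P →* ℂˣ} (hψ : ψ ≠ 1) :
    (if a₁ = -1 then 1 else 0) + (if a₂ = -1 then 1 else 0) + (if ε = -1 then 1 else 0) = 2 ∧
      IsSquare (charDegree (η ψ : G → ℂ) * (charDegree (χ₁ : G → ℂ) * charDegree (χ₂ : G → ℂ))) := by
  classical
  have hG0 : (Nat.card G : ℂ) ≠ 0 := by exact_mod_cast Nat.card_pos.ne'
  have ht2 : t * t = 1 := by rw [← pow_two, ← ht]; exact pow_orderOf_eq_one t
  have hn := T.neη ψ hψ
  choose τ hτ using fun χ : IrrCharacter G => exists_int_value χ ht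
  have hd : ∀ χ : IrrCharacter G, (χ : G → ℂ) 1 = (charDegree (χ : G → ℂ) : ℂ) := fun χ =>
    apply_one_eq_charDegree (IsIrrCharacter.isCharacter χ.2)
  have hτne : ∀ χ : IrrCharacter G, χ ≠ irrOne G → τ χ ≠ (charDegree (χ : G → ℂ) : ℤ) := by
    intro χ hχ he
    apply value_ne_of_not_normal hnorm hχ
    rw [hτ, he, hd]
    simp
  have hτone : τ (irrOne G) = 1 := by
    have h1 := hτ (irrOne G)
    rw [irrOne_apply] at h1
    exact_mod_cast h1.symm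
  have hpos : ∀ χ : IrrCharacter G, 0 < charDegree (χ : G → ℂ) := fun χ => charDegree_pos χ.2
  have hreg : ¬ p ∣ orderOf t := by
    rw [ht]
    intro h3
    exact hp2 ((Nat.prime_dvd_prime_iff_eq hp.out Nat.prime_two).mp h3)
  -- E3
  have E3 : 1 + a₁ * τ χ₁ + a₂ * τ χ₂ + ε * τ (η ψ) = 0 := by
    have h1 := sum_table h T hψ (fun χ => (χ : G → ℂ) t)
    rw [h.D_reg ψ hreg] at h1
    simp only [hτ, hτone, Int.cast_one] at h1
    have h2 : ((1 + a₁ * τ χ₁ + a₂ * τ χ₂ + ε * τ (η ψ) : ℤ) : ℂ) = ((0 : ℤ) : ℂ) := by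
      push_cast
      rw [← h1]
    exact Int.cast_injective h2
  -- E1
  have E1c : ∑ χ ∈ blockS M G, (alpha P ψ χ : ℂ) * ((χ : G → ℂ) t ^ 2 / (χ : G → ℂ) 1) = 0 := by
    have h1 := Setup.sum_sum_D (P := P) (fun χ => (alpha P ψ χ : ℂ)) (blockS M G) t
    have h2 : ∀ a b : G, ∑ χ ∈ blockS M G, (alpha P ψ χ : ℂ) * (χ : G → ℂ) (a * t * a⁻¹ * (b * t * b⁻¹)) = 0 := by
      intro a b
      apply h.D_reg ψ
      apply h.not_dvd_prod hp2
      · calc a * t * a⁻¹ * (a * t * a⁻¹) = a * (t * t) * a⁻¹ := by group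
          _ = 1 := by rw [ht2]; group
      · calc b * t * b⁻¹ * (b * t * b⁻¹) = b * (t * t) * b⁻¹ := by group
          _ = 1 := by rw [ht2]; group
    simp only [h2, Finset.sum_const_zero] at h1
    exact (mul_eq_zero.mp h1.symm).resolve_left (pow_ne_zero 2 hG0)
  have E1 : (charDegree (χ₁ : G → ℂ) : ℤ) * charDegree (χ₂ : G → ℂ) * charDegree (η ψ : G → ℂ) +
      a₁ * τ χ₁ ^ 2 * charDegree (χ₂ : G → ℂ) * charDegree (η ψ : G → ℂ) +
      a₂ * τ χ₂ ^ 2 * charDegree (χ₁ : G → ℂ) * charDegree (η ψ : G → ℂ) +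
      ε * τ (η ψ) ^ 2 * charDegree (χ₁ : G → ℂ) * charDegree (χ₂ : G → ℂ) = 0 := by
    have h1 := sum_table h T hψ (fun χ => (χ : G → ℂ) t ^ 2 / (χ : G → ℂ) 1)
    rw [E1c] at h1
    simp only [hτ, hd, hτone, charDegree_irrOne, Int.cast_one, Nat.cast_one, one_pow, div_one] at h1
    have d₁ : (charDegree (χ₁ : G → ℂ) : ℂ) ≠ 0 := by exact_mod_cast (hpos χ₁).ne'
    have d₂ : (charDegree (χ₂ : G → ℂ) : ℂ) ≠ 0 := by exact_mod_cast (hpos χ₂).ne'
    have d₃ : (charDegree (η ψ : G → ℂ) : ℂ) ≠ 0 := by exact_mod_cast (hpos (η ψ)).ne'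
    have h2 : (((charDegree (χ₁ : G → ℂ) : ℤ) * charDegree (χ₂ : G → ℂ) * charDegree (η ψ : G → ℂ) +
      a₁ * τ χ₁ ^ 2 * charDegree (χ₂ : G → ℂ) * charDegree (η ψ : G → ℂ) +
      a₂ * τ χ₂ ^ 2 * charDegree (χ₁ : G → ℂ) * charDegree (η ψ : G → ℂ) +
      ε * τ (η ψ) ^ 2 * charDegree (χ₁ : G → ℂ) * charDegree (χ₂ : G → ℂ) : ℤ) : ℂ) = ((0 : ℤ) : ℂ) := by
      push_cast
      have key : (charDegree (χ₁ : G → ℂ) : ℂ) * charDegree (χ₂ : G → ℂ) * charDegree (η ψ : G → ℂ) +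
          a₁ * τ χ₁ ^ 2 * charDegree (χ₂ : G → ℂ) * charDegree (η ψ : G → ℂ) +
          a₂ * τ χ₂ ^ 2 * charDegree (χ₁ : G → ℂ) * charDegree (η ψ : G → ℂ) +
          ε * τ (η ψ) ^ 2 * charDegree (χ₁ : G → ℂ) * charDegree (χ₂ : G → ℂ) =
          (charDegree (χ₁ : G → ℂ) : ℂ) * charDegree (χ₂ : G → ℂ) * charDegree (η ψ : G → ℂ) *
            (1 + a₁ * (τ χ₁ ^ 2 / charDegree (χ₁ : G → ℂ)) + a₂ * (τ χ₂ ^ 2 / charDegree (χ₂ : G → ℂ)) +
              ε * (τ (η ψ) ^ 2 / charDegree (η ψ : G → ℂ))) := by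
        field_simp
      rw [key, ← h1, mul_zero]
    exact Int.cast_injective h2
  have E2 := T.deg ψ hψ
  exact odd_core T.ha₁ T.ha₂ T.hε (hpos χ₁) (hpos χ₂) (hpos (η ψ)) E2 E3 E1
    (hτne χ₁ T.ne₁) (hτne χ₂ T.ne₂) (hτne (η ψ) hn.1)

end Table

end Main

end Cfsg.Agent.Lib.Char.E3
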