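import Cfsg.Agent.Lib.Char.E3Columns

/-!
# The table of the principal block
-/

set_option autoImplicit false
set_option linter.unusedSectionVars false

namespace Cfsg.Agent.Lib.Char.E3

open Cfsg Cfsg.Agent.Lib.Char
open scoped ComplexConjugate

universe u

variable {G : Type u} [Group G] [Fintype G] {M : Ideal AlgInt} {p : ℕ} [hp : Fact p.Prime]
  {P : Subgroup G} [Fintype P] {σ : ↥P →* ↥P}

/-- The table of the principal block: the three "exceptional-free" characters and the family `η`. -/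
structure Table (M : Ideal AlgInt) (P : Subgroup G) [Fintype P] (σ : ↥P →* ↥P) (χ₁ χ₂ : IrrCharacter G)
    (a₁ a₂ ε : ℤ) (η : (↥P →* ℂˣ) → IrrCharacter G) : Prop where
  ne₁ : χ₁ ≠ irrOne G
  ne₂ : χ₂ ≠ irrOne G
  ne₁₂ : χ₁ ≠ χ₂
  ha₁ : a₁ = 1 ∨ a₁ = -1
  ha₂ : a₂ = 1 ∨ a₂ = -1
  hε : ε = 1 ∨ ε = -1
  mem₁ : χ₁ ∈ blockS M G
  mem₂ : χ₂ ∈ blockS M G
  memη : ∀ ψ, ψ ≠ 1 → η ψ ∈ blockS M G
  neη : ∀ ψ, ψ ≠ 1 → η ψ ≠ irrOne G ∧ η ψ ≠ χ₁ ∧ η ψ ≠ χ₂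
  al₁ : ∀ ψ, ψ ≠ 1 → alpha P ψ χ₁ = a₁
  al₂ : ∀ ψ, ψ ≠ 1 → alpha P ψ χ₂ = a₂
  alη : ∀ ψ, ψ ≠ 1 → alpha P ψ (η ψ) = ε
  al_off : ∀ ψ, ψ ≠ 1 → ∀ χ ∈ blockS M G, χ ≠ irrOne G → χ ≠ χ₁ → χ ≠ χ₂ → χ ≠ η ψ → alpha P ψ χ = 0
  η_eq : ∀ ψ, ψ ≠ 1 → ∀ φ, φ ≠ 1 → (η φ = η ψ ↔ Setup.orbRel σ ψ φ)
  cover : ∀ χ ∈ blockS M G, χ = irrOne G ∨ χ = χ₁ ∨ χ = χ₂ ∨ ∃ ψ, ψ ≠ 1 ∧ χ = η ψ
  deg : ∀ ψ, ψ ≠ 1 → 1 + a₁ * (charDegree (χ₁ : G → ℂ) : ℤ) + a₂ * (charDegree (χ₂ : G → ℂ) : ℤ) +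
    ε * (charDegree (η ψ : G → ℂ) : ℤ) = 0

namespace Setup

variable [Fintype (↥P →* ℂˣ)] (h : Setup M p P σ)

include h

theorem card_ne_ten : Nat.card P ≠ 10 := by
  intro h10
  obtain ⟨n, hn⟩ := IsPGroup.iff_card.mp h.isP
  rw [h10] at hn
  have hpp := hp.out
  have hd : p ∣ 2 * 5 := by
    rcases Nat.eq_zero_or_pos n with rfl | hn0
    · simp at hn
    · have : p ∣ 10 := by rw [hn]; exact dvd_pow_self p hn0.ne'
      simpa using this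
  rcases (Nat.Prime.dvd_mul hpp).mp hd with h1 | h1
  · have h2 := (Nat.prime_dvd_prime_iff_eq hpp Nat.prime_two).mp h1
    subst h2
    have h3 : 5 ∣ 2 ^ n := by rw [← hn]; norm_num
    have h4 := Nat.Prime.dvd_of_dvd_pow (by norm_num) h3
    omega
  · have h2 := (Nat.prime_dvd_prime_iff_eq hpp (by norm_num : Nat.Prime 5)).mp h1
    subst h2
    have h3 : 2 ∣ 5 ^ n := by rw [← hn]; norm_num
    have h4 := Nat.Prime.dvd_of_dvd_pow (by norm_num) h3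
    omega

theorem card_dual_ne : (Finset.univ.filter (fun ψ : ↥P →* ℂˣ => ψ ≠ 1)).card + 1 = Nat.card P := by
  classical
  rw [Finset.filter_ne', Finset.card_erase_of_mem (Finset.mem_univ _), Finset.card_univ,
    ← Nat.card_eq_fintype_card, dual_card h.hcomm]
  have : 0 < Nat.card P := Nat.card_pos
  omega

theorem exists_table (hm2 : 4 < Nat.card P) :
    ∃ (χ₁ χ₂ : IrrCharacter G) (a₁ a₂ ε : ℤ) (η : (↥P →* ℂˣ) → IrrCharacter G),
      Table M P σ χ₁ χ₂ a₁ a₂ ε η := by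
  classical
  have hc := h.hcomm
  have h3 := h.hσ3
  have hf := h.hfix
  let Ψ : Finset (↥P →* ℂˣ) := Finset.univ.filter (fun ψ => ψ ≠ 1)
  have hΨ : ∀ {ψ}, ψ ∈ Ψ ↔ ψ ≠ 1 := by
    intro ψ
    simp [Ψ]
  let V : Finset (IrrCharacter G → ℤ) := Ψ.image (vv M P)
  have hV : ∀ {v}, v ∈ V ↔ ∃ ψ, ψ ≠ 1 ∧ vv M P ψ = v := by
    intro v
    simp [V, Ψ]
  have hgram4 : ∀ {ψ φ : ↥P →* ℂˣ}, ψ ≠ 1 → φ ≠ 1 → vv M P φ = vv M P ψ → orbRel σ ψ φ := by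
    intro ψ φ hψ hφ he
    by_contra hr
    have h1 := h.gram_not hψ hφ hr
    rw [← sum_vv_vv, he, sum_vv_vv, h.gram_orb hψ hψ (Or.inl rfl)] at h1
    norm_num at h1
  have hvvorb : ∀ {ψ φ : ↥P →* ℂˣ}, orbRel σ ψ φ → vv M P φ = vv M P ψ := by
    intro ψ φ hr
    funext χ
    simp only [vv, h.alpha_orb hr]
  have hcard : Ψ.card = 3 * V.card := by
    refine card_image_three Ψ (vv M P) (twist σ) ?_ ?_ ?_ ?_ ?_
    · intro ψ hψ
      exact hΨ.mpr (twist_ne_one h3 (hΨ.mp hψ))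
    · intro ψ hψ
      exact twist_ne_self hc hf (hΨ.mp hψ)
    · intro ψ hψ
      exact twist2_ne_self hc h3 hf (hΨ.mp hψ)
    · intro ψ hψ
      exact twist2_ne_twist hc h3 hf (hΨ.mp hψ)
    · intro ψ hψ φ hφ
      exact ⟨hgram4 (hΨ.mp hψ) (hΨ.mp hφ), hvvorb⟩
  have hcard2 : Ψ.card + 1 = Nat.card P := h.card_dual_ne
  have hne10 := h.card_ne_ten
  have hone := h.one_mem
  have hV2 : 2 ≤ V.card := by omega
  have hV3 : V.card ≠ 3 := by omega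
  obtain ⟨a, b, a₁, a₂, c, ha0, hb0, hab, ha₁, ha₂, hmain, hoff⟩ := sunflower (irrOne G)
    (fun χ => (charDegree (χ : G → ℂ) : ℤ)) (by simp [charDegree_irrOne]) V
    (by
      intro v hv
      obtain ⟨ψ, hψ, rfl⟩ := hV.mp hv
      simp only [pow_two]
      rw [sum_vv_vv]
      exact h.gram_orb hψ hψ (Or.inl rfl))
    (by
      intro v hv
      obtain ⟨ψ, hψ, rfl⟩ := hV.mp hv
      simp only [vv, hone, if_true]
      exact h.alpha_irrOne hψ)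
    (by
      intro v hv w hw hvw
      obtain ⟨ψ, hψ, rfl⟩ := hV.mp hv
      obtain ⟨φ, hφ, rfl⟩ := hV.mp hw
      rw [sum_vv_vv]
      apply h.gram_not hψ hφ
      intro hr
      exact hvw (hvvorb hr).symm)
    (by
      intro v hv
      obtain ⟨ψ, hψ, rfl⟩ := hV.mp hv
      rw [sum_vv]
      exact h.deg_sum ψ)
    hV2 hV3
  -- a nontrivial element of the dual
  obtain ⟨ψ₀, hψ₀⟩ : ∃ ψ : ↥P →* ℂˣ, ψ ≠ 1 := by
    by_contra hcon
    push Not at hcon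
    have h1 : Ψ = ∅ := by
      ext ψ
      simp [hΨ, hcon ψ]
    rw [h1, Finset.card_empty] at hcard2
    omega
  have hvvmem : ∀ (ψ : ↥P →* ℂˣ) (χ : IrrCharacter G), vv M P ψ χ ≠ 0 → χ ∈ blockS M G ∧ vv M P ψ χ = alpha P ψ χ := by
    intro ψ χ hne
    by_cases hχ : χ ∈ blockS M G
    · exact ⟨hχ, by simp [vv, hχ]⟩
    · exact absurd (by simp [vv, hχ]) hne
  have hmain' := fun (ψ : ↥P →* ℂˣ) (hψ : ψ ≠ 1) => hmain (vv M P ψ) (hV.mpr ⟨ψ, hψ, rfl⟩)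
  let η : (↥P →* ℂˣ) → IrrCharacter G := fun ψ => c (vv M P ψ)
  have hne_of : ∀ {x : ℤ}, (x = 1 ∨ x = -1) → x ≠ 0 := by
    rintro x (rfl | rfl) <;> norm_num
  have hmem₁ : a ∈ blockS M G := by
    obtain ⟨h1, -⟩ := hmain' ψ₀ hψ₀
    refine (hvvmem ψ₀ a ?_).1
    rw [h1]
    exact hne_of ha₁
  have hmem₂ : b ∈ blockS M G := by
    obtain ⟨-, h1, -⟩ := hmain' ψ₀ hψ₀
    refine (hvvmem ψ₀ b ?_).1
    rw [h1]
    exact hne_of ha₂
  have hvη : ∀ ψ, ψ ≠ 1 → vv M P ψ (η ψ) = 1 ∨ vv M P ψ (η ψ) = -1 := fun ψ hψ => (hmain' ψ hψ).2.2.2.2.2.1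
  have hmemη : ∀ ψ, ψ ≠ 1 → η ψ ∈ blockS M G := fun ψ hψ => (hvvmem ψ (η ψ) (hne_of (hvη ψ hψ))).1
  -- the degree relation
  have hfour : ∀ ψ, ψ ≠ 1 → ∀ F : IrrCharacter G → ℤ, ∑ χ, F χ * vv M P ψ χ =
      F (irrOne G) + F a * a₁ + F b * a₂ + F (η ψ) * vv M P ψ (η ψ) := by
    intro ψ hψ F
    obtain ⟨h1, h2, (h3 : η ψ ≠ irrOne G), (h4 : η ψ ≠ a), (h5 : η ψ ≠ b), -,
      (h6 : ∀ i, i ≠ irrOne G → i ≠ a → i ≠ b → i ≠ η ψ → vv M P ψ i = 0)⟩ := hmain' ψ hψ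
    have hs : ({irrOne G, a, b, η ψ} : Finset (IrrCharacter G)) ⊆ Finset.univ := Finset.subset_univ _
    rw [← Finset.sum_subset hs]
    · rw [Finset.sum_insert (by simp [ha0.symm, hb0.symm, h3.symm]), Finset.sum_insert (by simp [hab, h4.symm]),
        Finset.sum_insert (by simpa using h5.symm), Finset.sum_singleton, h1, h2]
      simp only [vv, hone, if_true, h.alpha_irrOne hψ]
      ring
    · intro χ _ hχ
      simp only [Finset.mem_insert, Finset.mem_singleton, not_or] at hχ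
      rw [h6 χ hχ.1 hχ.2.1 hχ.2.2.1 hχ.2.2.2, mul_zero]
  have hdeg : ∀ ψ, ψ ≠ 1 → (1 : ℤ) + a₁ * (charDegree (a : G → ℂ) : ℤ) + a₂ * (charDegree (b : G → ℂ) : ℤ) +
      vv M P ψ (η ψ) * (charDegree (η ψ : G → ℂ) : ℤ) = 0 := by
    intro ψ hψ
    have h1 := hfour ψ hψ (fun χ => (charDegree (χ : G → ℂ) : ℤ))
    rw [sum_vv, h.deg_sum ψ] at h1
    simp only [charDegree_irrOne] at h1
    push_cast at h1
    linarith
  let c₀ : ℤ := 1 + a₁ * (charDegree (a : G → ℂ) : ℤ) + a₂ * (charDegree (b : G → ℂ) : ℤ)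
  let ε : ℤ := if c₀ < 0 then 1 else -1
  have hdpos : ∀ χ : IrrCharacter G, (0 : ℤ) < (charDegree (χ : G → ℂ) : ℤ) := fun χ => by
    exact_mod_cast charDegree_pos χ.2
  have hvε : ∀ ψ, ψ ≠ 1 → vv M P ψ (η ψ) = ε := by
    intro ψ hψ
    have h1 := hdeg ψ hψ
    have h2 := hdpos (η ψ)
    simp only [ε]
    rcases hvη ψ hψ with h3' | h3'
    · rw [h3'] at h1 ⊢
      rw [if_pos]
      simp only [c₀]
      linarith
    · rw [h3'] at h1 ⊢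
      rw [if_neg]
      simp only [c₀]
      linarith
  refine ⟨a, b, a₁, a₂, ε, η, ?_⟩
  exact {
    ne₁ := ha0
    ne₂ := hb0
    ne₁₂ := hab
    ha₁ := ha₁
    ha₂ := ha₂
    hε := by
      simp only [ε]
      split_ifs <;> simp
    mem₁ := hmem₁
    mem₂ := hmem₂
    memη := hmemη
    neη := fun ψ hψ => ⟨(hmain' ψ hψ).2.2.1, (hmain' ψ hψ).2.2.2.1, (hmain' ψ hψ).2.2.2.2.1⟩
    al₁ := fun ψ hψ => by
      have h1 := (hmain' ψ hψ).1
      simpa [vv, hmem₁] using h1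
    al₂ := fun ψ hψ => by
      have h1 := (hmain' ψ hψ).2.1
      simpa [vv, hmem₂] using h1
    alη := fun ψ hψ => by
      have h1 := hvε ψ hψ
      rw [← h1]
      simp [vv, hmemη ψ hψ]
    al_off := fun ψ hψ χ hχ h1 h2 h3' h4 => by
      have h5 := (hmain' ψ hψ).2.2.2.2.2.2 χ h1 h2 h3' h4
      simpa [vv, hχ] using h5
    η_eq := fun ψ hψ φ hφ => by
      constructor
      · intro he
        by_contra hr
        have hne : vv M P ψ ≠ vv M P φ := fun e => hr (hgram4 hψ hφ e.symm)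
        have h1 := hoff _ (hV.mpr ⟨ψ, hψ, rfl⟩) _ (hV.mpr ⟨φ, hφ, rfl⟩) hne
        have h2 := hne_of (hvη φ hφ)
        apply h2
        show vv M P φ (c (vv M P φ)) = 0
        have he' : c (vv M P φ) = c (vv M P ψ) := he
        rw [he', h1]
      · intro hr
        show c (vv M P φ) = c (vv M P ψ)
        rw [hvvorb hr]
    cover := by
      intro χ hχ
      by_contra hcon
      simp only [not_or, not_exists, not_and] at hcon
      obtain ⟨h1, h2, h3', h4⟩ := hcon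
      apply h.hdvd χ (mem_blockS.mp hχ)
      have hzero : ∀ ψ : ↥P →* ℂˣ, alpha P ψ χ = 0 := by
        intro ψ
        by_cases hψ : ψ = 1
        · rw [hψ, alpha_one_left]
        · have h5 := (hmain' ψ hψ).2.2.2.2.2.2 χ h1 h2 h3' (h4 ψ hψ)
          simpa [vv, hχ] using h5
      have h5 := degree_eq P hc χ
      simp only [hzero, Finset.sum_const_zero, sub_zero] at h5
      have h6 : (Nat.card P : ℤ) ∣ (charDegree (χ : G → ℂ) : ℤ) := ⟨_, h5⟩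
      exact_mod_cast h6
    deg := fun ψ hψ => by
      have h1 := hdeg ψ hψ
      rwa [hvε ψ hψ] at h1
  }

end Setup

namespace Table

variable [Fintype (↥P →* ℂˣ)] {χ₁ χ₂ : IrrCharacter G} {a₁ a₂ ε : ℤ} {η : (↥P →* ℂˣ) → IrrCharacter G}
  (h : Setup M p P σ) (T : Table M P σ χ₁ χ₂ a₁ a₂ ε η)

include h

theorem val_const {χ : IrrCharacter G} {c : ℤ} (hc : ∀ ψ : ↥P →* ℂˣ, ψ ≠ 1 → alpha P ψ χ = c) {y : ↥P}
    (hy : y ≠ 1) : (χ : G → ℂ) y = c := by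
  classical
  rw [value_eq P h.hcomm χ hy]
  have h1 : ∀ ψ : ↥P →* ℂˣ, (alpha P ψ χ : ℂ) * ev ψ y =
      (c : ℂ) * ev ψ y - (if ψ = 1 then (c : ℂ) else 0) := by
    intro ψ
    by_cases hψ : ψ = 1
    · subst hψ
      simp
    · rw [hc ψ hψ, if_neg hψ, sub_zero]
  simp only [h1, Finset.sum_sub_distrib, ← Finset.mul_sum, sum_dual_ev_eq_zero h.hcomm hy, mul_zero, zero_sub,
    neg_neg, Finset.sum_ite_eq', Finset.mem_univ, if_true]

theorem sum_alpha_const {χ : IrrCharacter G} {c : ℤ} (hc : ∀ ψ : ↥P →* ℂˣ, ψ ≠ 1 → alpha P ψ χ = c) :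
    ∑ ψ : ↥P →* ℂˣ, alpha P ψ χ = ((Nat.card P : ℤ) - 1) * c := by
  classical
  have h1 := h.card_dual_ne
  have h2 : ∑ ψ : ↥P →* ℂˣ, alpha P ψ χ =
      ∑ ψ ∈ Finset.univ.filter (fun ψ : ↥P →* ℂˣ => ψ ≠ 1), alpha P ψ χ := by
    symm
    apply Finset.sum_subset (Finset.subset_univ _)
    intro ψ _ hψ
    have : ψ = 1 := by simpa using hψ
    rw [this, alpha_one_left]
  have h3 : ∀ ψ ∈ Finset.univ.filter (fun ψ : ↥P →* ℂˣ => ψ ≠ 1), alpha P ψ χ = c := by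
    intro ψ hψ
    exact hc ψ (by simpa using hψ)
  rw [h2, Finset.sum_congr rfl h3, Finset.sum_const, nsmul_eq_mul, ← h1]
  push_cast
  ring

theorem deg_const {χ : IrrCharacter G} {c : ℤ} (hc : ∀ ψ : ↥P →* ℂˣ, ψ ≠ 1 → alpha P ψ χ = c) :
    ∃ m : ℤ, (charDegree (χ : G → ℂ) : ℤ) = Nat.card P * m + c := by
  refine ⟨mult P 1 χ - c, ?_⟩
  rw [degree_eq P h.hcomm χ, sum_alpha_const h hc]
  ring

include T

theorem alpha_eta {ψ φ : ↥P →* ℂˣ} (hψ : ψ ≠ 1) (hφ : φ ≠ 1) (hr : ¬ Setup.orbRel σ ψ φ) :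
    alpha P φ (η ψ) = 0 := by
  have hn := T.neη ψ hψ
  refine T.al_off φ hφ (η ψ) (T.memη ψ hψ) hn.1 hn.2.1 hn.2.2 ?_
  intro he
  exact hr ((T.η_eq ψ hψ φ hφ).mp he.symm)

theorem alpha_eta_orb {ψ φ : ↥P →* ℂˣ} (hψ : ψ ≠ 1) (hr : Setup.orbRel σ ψ φ) :
    alpha P φ (η ψ) = ε := by
  rw [h.alpha_orb hr]
  exact T.alη ψ hψ

theorem val_eta {ψ : ↥P →* ℂˣ} (hψ : ψ ≠ 1) {y : ↥P} (hy : y ≠ 1) :
    (η ψ : G → ℂ) y = -(ε : ℂ) * (ev ψ y + ev (twist σ ψ) y + ev (twist σ (twist σ ψ)) y) := by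
  classical
  have hc := h.hcomm
  have h3 := h.hσ3
  have hf := h.hfix
  rw [value_eq P h.hcomm _ hy]
  have hs : ({ψ, twist σ ψ, twist σ (twist σ ψ)} : Finset (↥P →* ℂˣ)) ⊆ Finset.univ := Finset.subset_univ _
  rw [← Finset.sum_subset hs]
  · rw [Finset.sum_insert, Finset.sum_insert, Finset.sum_singleton,
      alpha_eta_orb h T hψ (Or.inl rfl), alpha_eta_orb h T hψ (Or.inr (Or.inl rfl)),
      alpha_eta_orb h T hψ (Or.inr (Or.inr rfl))]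
    · ring
    · simpa using (twist2_ne_twist hc h3 hf hψ).symm
    · simp only [Finset.mem_insert, Finset.mem_singleton, not_or]
      exact ⟨(twist_ne_self hc hf hψ).symm, (twist2_ne_self hc h3 hf hψ).symm⟩
  · intro φ _ hφ
    simp only [Finset.mem_insert, Finset.mem_singleton, not_or] at hφ
    by_cases hφ1 : φ = 1
    · rw [hφ1, alpha_one_left]
      simp
    · rw [alpha_eta h T hψ hφ1 (by
        simp only [Setup.orbRel, not_or]
        exact hφ)]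
      simp

theorem sum_alpha_eta {ψ : ↥P →* ℂˣ} (hψ : ψ ≠ 1) :
    ∑ φ : ↥P →* ℂˣ, alpha P φ (η ψ) = 3 * ε := by
  classical
  have hc := h.hcomm
  have h3 := h.hσ3
  have hf := h.hfix
  have hs : ({ψ, twist σ ψ, twist σ (twist σ ψ)} : Finset (↥P →* ℂˣ)) ⊆ Finset.univ := Finset.subset_univ _
  rw [← Finset.sum_subset hs]
  · rw [Finset.sum_insert, Finset.sum_insert, Finset.sum_singleton,
      alpha_eta_orb h T hψ (Or.inl rfl), alpha_eta_orb h T hψ (Or.inr (Or.inl rfl)),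
      alpha_eta_orb h T hψ (Or.inr (Or.inr rfl))]
    · ring
    · simpa using (twist2_ne_twist hc h3 hf hψ).symm
    · simp only [Finset.mem_insert, Finset.mem_singleton, not_or]
      exact ⟨(twist_ne_self hc hf hψ).symm, (twist2_ne_self hc h3 hf hψ).symm⟩
  · intro φ _ hφ
    simp only [Finset.mem_insert, Finset.mem_singleton, not_or] at hφ
    by_cases hφ1 : φ = 1
    · rw [hφ1, alpha_one_left]
    · exact alpha_eta h T hψ hφ1 (by
        simp only [Setup.orbRel, not_or]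
        exact hφ)

theorem deg_eta {ψ : ↥P →* ℂˣ} (hψ : ψ ≠ 1) :
    ∃ m : ℤ, (charDegree (η ψ : G → ℂ) : ℤ) = Nat.card P * m - 3 * ε := by
  refine ⟨mult P 1 (η ψ), ?_⟩
  rw [degree_eq P h.hcomm _, sum_alpha_eta h T hψ]

theorem sum_table {ψ : ↥P →* ℂˣ} (hψ : ψ ≠ 1) (F : IrrCharacter G → ℂ) :
    ∑ χ ∈ blockS M G, (alpha P ψ χ : ℂ) * F χ =
      F (irrOne G) + (a₁ : ℂ) * F χ₁ + (a₂ : ℂ) * F χ₂ + (ε : ℂ) * F (η ψ) := by
  classical
  have hn := T.neη ψ hψ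
  have hs : ({irrOne G, χ₁, χ₂, η ψ} : Finset (IrrCharacter G)) ⊆ blockS M G := by
    intro χ hχ
    simp only [Finset.mem_insert, Finset.mem_singleton] at hχ
    rcases hχ with rfl | rfl | rfl | rfl
    · exact h.one_mem
    · exact T.mem₁
    · exact T.mem₂
    · exact T.memη ψ hψ
  rw [← Finset.sum_subset hs]
  · rw [Finset.sum_insert (by simp [T.ne₁.symm, T.ne₂.symm, hn.1.symm]),
      Finset.sum_insert (by simp [T.ne₁₂, hn.2.1.symm]),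
      Finset.sum_insert (by simpa using hn.2.2.symm), Finset.sum_singleton,
      h.alpha_irrOne hψ, T.al₁ ψ hψ, T.al₂ ψ hψ, T.alη ψ hψ]
    push_cast
    ring
  · intro χ hχ hχ'
    simp only [Finset.mem_insert, Finset.mem_singleton, not_or] at hχ'
    rw [T.al_off ψ hψ χ hχ hχ'.1 hχ'.2.1 hχ'.2.2.1 hχ'.2.2.2]
    simp

end Table

end Cfsg.Agent.Lib.Char.E3
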