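import Cfsg.Agent.Lib.Char.Degree
import Cfsg.Agent.Lib.Char.Linear
import Cfsg.Agent.Lib.Char.Ind
import Cfsg.Agent.Lib.Char.Kernel
import Cfsg.Agent.Lib.Char.Gallagher
import Cfsg.Prelude.Def_Transfer

/-! # Characters of extraspecial groups. -/

set_option autoImplicit false

namespace Cfsg.Agent.Lib.Char

open Cfsg Module
open scoped ComplexConjugate commutatorElement

universe u

variable {P : Type u} [Group P]

/-- In an extraspecial group, a noncentral `x` is conjugate to `x z` for every central `z`. -/
theorem extraspecial_isConj_mul_center {p : ℕ} [hp : Fact p.Prime] [Finite P] (hP : IsExtraspecial p P)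
    {x z : P} (hx : x ∉ Subgroup.center P) (hz : z ∈ Subgroup.center P) : IsConj x (x * z) := by
  classical
  have hcomm : commutator P = Subgroup.center P := hP.1.2.2
  -- noncommuting partner
  have : ∃ y : P, y * x ≠ x * y := by
    by_contra hcon
    push Not at hcon
    exact hx (Subgroup.mem_center_iff.mpr hcon)
  obtain ⟨y, hy⟩ := this
  set c : P := x⁻¹ * y * x * y⁻¹ with hc
  have hcZ : c ∈ Subgroup.center P := by
    rw [← hcomm]
    have : c = ⁅x⁻¹, y⁆ := by simp [commutatorElement_def, hc]
    rw [this]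
    exact Subgroup.commutator_mem_commutator (Subgroup.mem_top _) (Subgroup.mem_top _)
  have hc1 : c ≠ 1 := by
    intro h
    apply hy
    have h1 : x⁻¹ * y * x * y⁻¹ = 1 := h
    have h2 : x⁻¹ * (y * x) = y := by
      have := congrArg (· * y) h1
      simpa [mul_assoc] using this
    calc y * x = x * (x⁻¹ * (y * x)) := by group
      _ = x * y := by rw [h2]
  have hyx : y * x * y⁻¹ = x * c := by
    rw [hc]; group
  have hpow : ∀ k : ℕ, y ^ k * x * (y ^ k)⁻¹ = x * c ^ k := by
    intro k
    induction k with
    | zero => simp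
    | succ k ih =>
      have hcomm' : ∀ u : P, u * c ^ k = c ^ k * u := by
        intro u
        have : c ^ k ∈ Subgroup.center P := Subgroup.pow_mem _ hcZ k
        exact (Subgroup.mem_center_iff.mp this u)
      calc y ^ (k + 1) * x * (y ^ (k + 1))⁻¹ = y * (y ^ k * x * (y ^ k)⁻¹) * y⁻¹ := by
            rw [pow_succ']; group
        _ = y * (x * c ^ k) * y⁻¹ := by rw [ih]
        _ = (y * x * y⁻¹) * (y * c ^ k * y⁻¹) := by group
        _ = (x * c) * (c ^ k) := by
            rw [hyx, hcomm' y]; group
        _ = x * c ^ (k + 1) := by rw [pow_succ']; group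
  -- the center has prime order
  have hgen := zpowers_eq_top_of_prime_card (G := Subgroup.center P) hP.2 (g := ⟨c, hcZ⟩)
    (by intro h; exact hc1 (congrArg Subtype.val h))
  have hmem : (⟨z, hz⟩ : Subgroup.center P) ∈ Subgroup.zpowers (⟨c, hcZ⟩ : Subgroup.center P) := by
    rw [hgen]; trivial
  rw [← mem_powers_iff_mem_zpowers] at hmem
  obtain ⟨k, hk⟩ := hmem
  have hk' : c ^ k = z := congrArg Subtype.val hk
  rw [isConj_iff]
  exact ⟨y ^ k, by rw [hpow k, hk']⟩

/-- A class function scaling under a central element by a nontrivial scalar vanishes off the center. -/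
theorem extraspecial_apply_eq_zero {p : ℕ} [Fact p.Prime] [Finite P] (hP : IsExtraspecial p P)
    {f : P → ℂ} (hf : IsClassFunction P f) {z : P} (hz : z ∈ Subgroup.center P) {c : ℂ} (hc : c ≠ 1)
    (hfz : ∀ x, f (x * z) = c * f x) {x : P} (hx : x ∉ Subgroup.center P) : f x = 0 := by
  have h1 := IsClassFunction.congr_isConj hf (extraspecial_isConj_mul_center hP hx hz)
  rw [hfz x] at h1
  have h2 : (c - 1) * f x = 0 := by linear_combination -h1
  rcases mul_eq_zero.mp h2 with h | h
  · exact absurd (sub_eq_zero.mp h) hc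
  · exact h

section Sum

variable [Fintype P]

/-- The norm of a function vanishing off the center. -/
theorem classInner_self_of_vanish_center [Fintype (Subgroup.center P)] (f : P → ℂ) (hf : ∀ x, x ∉ Subgroup.center P → f x = 0) :
    classInner f f = (Nat.card P : ℂ)⁻¹ *
      ∑ z : Subgroup.center P, f z * conj (f z) := by
  classical
  simp only [classInner]
  congr 1
  have h1 : ∑ g : P, f g * conj (f g)
      = ∑ g ∈ Finset.univ.filter (fun g : P => g ∈ Subgroup.center P), f g * conj (f g) := by
    symm
    apply Finset.sum_subset (Finset.filter_subset _ _)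
    intro g _ hg
    have : g ∉ Subgroup.center P := by simpa using hg
    rw [hf g this]; simp
  rw [h1]
  apply Finset.sum_subtype
  intro g
  simp

end Sum

section Deg

variable [Fintype P]

/-- A nonlinear-type irreducible character of an extraspecial group: vanishing and degree. -/
theorem extraspecial_irr_vanish {p : ℕ} [Fact p.Prime] (hP : IsExtraspecial p P)
    {χ : P → ℂ} (hχ : IsIrrCharacter P χ) {z : P} (hz : z ∈ Subgroup.center P) (hne : χ z ≠ χ 1)
    {x : P} (hx : x ∉ Subgroup.center P) : χ x = 0 := by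
  have hχ1 := IsIrrCharacter.apply_one_ne_zero hχ
  refine extraspecial_apply_eq_zero hP (IsCharacter.isClassFunction (IsIrrCharacter.isCharacter hχ)) hz
    (c := χ z / χ 1) ?_ ?_ hx
  · intro h
    apply hne
    field_simp at h
    exact h
  · intro y
    have := apply_mul_of_mem_center hχ hz y
    field_simp
    linear_combination this

/-- Central values of an irreducible character have maximal absolute value. -/
theorem mul_conj_center_eq {χ : P → ℂ} (hχ : IsIrrCharacter P χ) {z : P}
    (hz : z ∈ Subgroup.center P) : χ z * conj (χ z) = χ 1 ^ 2 := by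
  have hχ1 := IsIrrCharacter.apply_one_ne_zero hχ
  have hχc := IsIrrCharacter.isCharacter hχ
  -- z⁻¹ gives the conjugate
  have h1 := apply_mul_of_mem_center hχ hz z⁻¹
  have h2 : χ z⁻¹ = conj (χ z) := by
    rw [IsCharacter.apply_inv hχc]
  rw [inv_mul_cancel, h2] at h1
  linear_combination -h1

/-- Degree of a character not trivial on the center. -/
theorem extraspecial_degree {p n : ℕ} [hp : Fact p.Prime] (hP : IsExtraspecial p P)
    (hcard : Nat.card P = p ^ (2 * n + 1))
    {χ : P → ℂ} (hχ : IsIrrCharacter P χ) {z : P} (hz : z ∈ Subgroup.center P) (hne : χ z ≠ χ 1) :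
    χ 1 = (p : ℂ) ^ n := by
  classical
  letI : Fintype (Subgroup.center P) := Fintype.ofFinite _
  have hp0 : (p : ℂ) ≠ 0 := by exact_mod_cast hp.out.ne_zero
  have h1 := classInner_self_of_vanish_center χ
    (fun x hx => extraspecial_irr_vanish hP hχ hz hne hx)
  rw [classInner_irr_self hχ] at h1
  have h2 : ∑ z : Subgroup.center P, χ z * conj (χ z) = (p : ℂ) * χ 1 ^ 2 := by
    have : ∀ z : Subgroup.center P, χ z * conj (χ z) = χ 1 ^ 2 := fun z =>
      mul_conj_center_eq hχ z.2
    simp_rw [this]
    rw [Finset.sum_const, Finset.card_univ, ← Nat.card_eq_fintype_card, hP.2]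
    simp
  rw [h2, hcard] at h1
  have h3 : χ 1 ^ 2 = ((p : ℂ) ^ n) ^ 2 := by
    push_cast at h1
    have h4 : ((p : ℂ) ^ (2 * n + 1)) ≠ 0 := pow_ne_zero _ hp0
    field_simp at h1
    rw [pow_succ, pow_mul'] at h1
    have h5 : (p : ℂ) * (χ 1 ^ 2 - ((p : ℂ) ^ n) ^ 2) = 0 := by linear_combination -h1
    have h6 := (mul_eq_zero.mp h5).resolve_left hp0
    exact sub_eq_zero.mp h6
  obtain ⟨d, hd⟩ : ∃ d : ℕ, χ 1 = d := ⟨charDegree χ, apply_one_eq_charDegree (IsIrrCharacter.isCharacter hχ)⟩
  rw [hd] at h3 ⊢
  have h4 : d ^ 2 = (p ^ n) ^ 2 := by exact_mod_cast h3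
  have h5 : d = p ^ n := by
    exact Nat.pow_left_injective (n := 2) (by norm_num) h4
  rw [h5]
  push_cast
  rfl

/-- The dichotomy for irreducible degrees in an extraspecial group. -/
theorem extraspecial_degree_dichotomy {p n : ℕ} [hp : Fact p.Prime] (hP : IsExtraspecial p P)
    (hcard : Nat.card P = p ^ (2 * n + 1))
    {χ : P → ℂ} (hχ : IsIrrCharacter P χ) : χ 1 = 1 ∨ χ 1 = (p : ℂ) ^ n := by
  classical
  by_cases h : ∃ z ∈ Subgroup.center P, χ z ≠ χ 1
  · obtain ⟨z, hz, hne⟩ := h
    exact Or.inr (extraspecial_degree hP hcard hχ hz hne)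
  · push Not at h
    left
    have hχc := IsIrrCharacter.isCharacter hχ
    have hle : commutator P ≤ charKer χ := by
      rw [hP.1.2.2]
      intro z hz
      exact (mem_charKer hχc).mpr (h z hz)
    haveI : (commutator P).Normal := inferInstance
    obtain ⟨β, hβ, rfl⟩ := exists_deflate (commutator P) hχ hle
    have hab : ∀ a b : P ⧸ commutator P, a * b = b * a := by
      intro a b
      induction a using QuotientGroup.induction_on with
      | H a =>
      induction b using QuotientGroup.induction_on with
      | H b =>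
        rw [← QuotientGroup.mk_mul, ← QuotientGroup.mk_mul, QuotientGroup.eq]
        have : (a * b)⁻¹ * (b * a) = ⁅b⁻¹, a⁻¹⁆ := by
          simp [commutatorElement_def, mul_assoc]
        rw [this]
        exact Subgroup.commutator_mem_commutator (Subgroup.mem_top _) (Subgroup.mem_top _)
    letI : Fintype (P ⧸ commutator P) := Fintype.ofFinite _
    have := (comm_iff_irr_degree_one (G := P ⧸ commutator P)).mp hab ⟨β, hβ⟩
    exact this

/-- The number of irreducible characters of degree `p ^ n` is `p - 1`. -/
theorem extraspecial_count {p n : ℕ} [hp : Fact p.Prime] (hP : IsExtraspecial p P)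
    (hcard : Nat.card P = p ^ (2 * n + 1)) :
    Nat.card {χ : IrrCharacter P // (χ : P → ℂ) 1 = (p : ℂ) ^ n} = p - 1 := by
  classical
  have hp1 := hp.out.one_lt
  -- n is positive
  have hn : n ≠ 0 := by
    rintro rfl
    have hpc : Nat.card P = p := by simpa using hcard
    have hcyc : IsCyclic P := isCyclic_of_prime_card hpc
    letI : CommGroup P := IsCyclic.commGroup
    have h1 : commutator P = ⊥ := by
      rw [commutator_eq_bot_iff_center_eq_top]
      exact CommGroup.center_eq_top
    have h2 := hP.1.2.2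
    rw [h1] at h2
    have h3 := hP.2
    rw [← h2] at h3
    simp at h3
    omega
  have hpn : (p ^ n : ℕ) ≠ 1 := by
    intro h
    have := Nat.one_lt_pow hn hp1
    omega
  have hcompl : (commutator P).index * p = p ^ (2 * n + 1) := by
    rw [← hcard, ← Subgroup.card_mul_index (commutator P), mul_comm]
    have hc : Nat.card (commutator P) = p := by
      rw [hP.1.2.2]; exact hP.2
    rw [hc]
  have hidx : (commutator P).index = p ^ (2 * n) := by
    have := hcompl
    rw [pow_succ] at this
    exact Nat.eq_of_mul_eq_mul_right hp.out.pos this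
  have hlin := card_linear_eq_index_commutator (G := P)
  have hsum := sum_irr_degree_sq (G := P)
  -- natural degrees
  have hdeg : ∀ χ : IrrCharacter P, (χ : P → ℂ) 1 = (charDegree (χ : P → ℂ) : ℂ) := fun χ =>
    apply_one_eq_charDegree (IsIrrCharacter.isCharacter χ.2)
  have hsumN : ∑ χ : IrrCharacter P, charDegree (χ : P → ℂ) ^ 2 = p ^ (2 * n + 1) := by
    rw [← hcard]
    have : ((∑ χ : IrrCharacter P, charDegree (χ : P → ℂ) ^ 2 : ℕ) : ℂ) = (Nat.card P : ℂ) := by
      rw [← hsum]
      push_cast
      exact Finset.sum_congr rfl (fun χ _ => by rw [hdeg χ])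
    exact_mod_cast this
  have hdich : ∀ χ : IrrCharacter P, charDegree (χ : P → ℂ) = 1 ∨ charDegree (χ : P → ℂ) = p ^ n := by
    intro χ
    rcases extraspecial_degree_dichotomy hP hcard χ.2 with h | h
    · left
      exact charDegree_eq (by simpa using h)
    · right
      exact charDegree_eq (by rw [h]; push_cast; rfl)
  have hsplit := Finset.sum_filter_add_sum_filter_not (Finset.univ : Finset (IrrCharacter P))
    (fun χ => charDegree (χ : P → ℂ) = 1) (fun χ => charDegree (χ : P → ℂ) ^ 2)
  have h1 : ∑ χ ∈ Finset.univ.filter (fun χ : IrrCharacter P => charDegree (χ : P → ℂ) = 1),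
      charDegree (χ : P → ℂ) ^ 2 = (commutator P).index := by
    rw [← hlin, Nat.card_eq_fintype_card, Fintype.card_subtype]
    rw [Finset.sum_congr rfl (g := fun _ => 1) (fun χ hχ => by
      rw [(Finset.mem_filter.mp hχ).2]; rfl)]
    simp only [Finset.sum_const, smul_eq_mul, mul_one]
    congr 1
    ext χ
    simp only [Finset.mem_filter, Finset.mem_univ, true_and]
    rw [hdeg χ]
    constructor
    · intro h; rw [h]; simp
    · intro h; exact_mod_cast h
  have h2 : ∑ χ ∈ Finset.univ.filter (fun χ : IrrCharacter P => ¬ charDegree (χ : P → ℂ) = 1),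
      charDegree (χ : P → ℂ) ^ 2
      = Nat.card {χ : IrrCharacter P // (χ : P → ℂ) 1 = (p : ℂ) ^ n} * p ^ (2 * n) := by
    rw [Nat.card_eq_fintype_card, Fintype.card_subtype]
    rw [Finset.sum_congr rfl (g := fun _ => p ^ (2 * n)) (fun χ hχ => by
      have := (Finset.mem_filter.mp hχ).2
      rw [(hdich χ).resolve_left this, ← pow_mul, mul_comm])]
    simp only [Finset.sum_const, smul_eq_mul]
    congr 2
    ext χ
    simp only [Finset.mem_filter, Finset.mem_univ, true_and]
    rw [hdeg χ]
    constructor
    · intro h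
      have := (hdich χ).resolve_left h
      rw [this]; push_cast; rfl
    · intro h h'
      rw [h'] at h
      have : (p ^ n : ℕ) = 1 := by
        have h3 : ((p ^ n : ℕ) : ℂ) = 1 := by push_cast; simpa using h.symm
        exact_mod_cast h3
      exact hpn this
  rw [h1, h2, hidx, hsumN] at hsplit
  set N := Nat.card {χ : IrrCharacter P // (χ : P → ℂ) 1 = (p : ℂ) ^ n} with hN
  have h3 : (1 + N) * p ^ (2 * n) = p * p ^ (2 * n) := by
    rw [pow_succ] at hsplit
    nlinarith
  have h4 : 1 + N = p := Nat.eq_of_mul_eq_mul_right (pow_pos hp.out.pos _) h3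
  omega

/-- Induction from an abelian subgroup of maximal order containing the center. -/
theorem extraspecial_ind {p n : ℕ} [hp : Fact p.Prime] (hP : IsExtraspecial p P)
    (hcard : Nat.card P = p ^ (2 * n + 1)) (A : Subgroup P)
    (hA : Nat.card A = p ^ (n + 1)) (lam : A → ℂ) (hlam : IsCharacter A lam) (hlam1 : lam 1 = 1)
    (hZ : ∃ a : A, (a : P) ∈ Subgroup.center P ∧ lam a ≠ 1) :
    IsIrrCharacter P (indFun A lam) ∧ ∀ x : P, x ∉ Subgroup.center P → indFun A lam x = 0 := by
  classical
  letI : Fintype A := Fintype.ofFinite _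
  letI : Fintype (Subgroup.center P) := Fintype.ofFinite _
  obtain ⟨a, haZ, hane⟩ := hZ
  obtain ⟨μ, hμ⟩ := IsCharacter.exists_monoidHom hlam hlam1
  have hp0 : (p : ℂ) ≠ 0 := by exact_mod_cast hp.out.ne_zero
  have ha1 : (⟨a, haZ⟩ : Subgroup.center P) ≠ 1 := by
    intro h
    apply hane
    have h1 : (a : P) = 1 := congrArg Subtype.val h
    have h2 : a = 1 := Subtype.ext h1
    rw [h2]; exact hlam1
  have hgen := zpowers_eq_top_of_prime_card (G := Subgroup.center P) hP.2 ha1
  have hZA : ∀ z ∈ Subgroup.center P, z ∈ A := by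
    intro z hz
    have hmem : (⟨z, hz⟩ : Subgroup.center P) ∈ Subgroup.zpowers (⟨a, haZ⟩ : Subgroup.center P) := by
      rw [hgen]; trivial
    obtain ⟨k, hk⟩ := hmem
    have hk' : (a : P) ^ k = z := congrArg Subtype.val hk
    rw [← hk']
    exact A.zpow_mem a.2 k
  have hlammul : ∀ (x : A) (y : A), lam (x * y) = lam x * lam y := by
    intro x y
    rw [hμ]; simp
  have hnorm : ∀ x : A, lam x * conj (lam x) = 1 := by
    intro x
    rw [Complex.mul_conj, Complex.normSq_eq_norm_sq, norm_eq_one_of_degree_one hlam hlam1 x]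
    simp
  -- the scaling
  have hscale : ∀ (z : P) (hz : z ∈ Subgroup.center P) (x : P),
      indFun A lam (x * z) = lam ⟨z, hZA z hz⟩ * indFun A lam x := by
    intro z hz x
    simp only [indFun_apply]
    rw [mul_left_comm (lam _)]
    congr 1
    rw [Finset.mul_sum]
    apply Finset.sum_congr rfl
    intro g _
    have hg : g⁻¹ * (x * z) * g = (g⁻¹ * x * g) * z := by
      have : z * g = g * z := (Subgroup.mem_center_iff.mp hz g).symm
      calc g⁻¹ * (x * z) * g = g⁻¹ * x * (z * g) := by group
        _ = g⁻¹ * x * (g * z) := by rw [this]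
        _ = (g⁻¹ * x * g) * z := by group
    rw [hg]
    by_cases hm : g⁻¹ * x * g ∈ A
    · have hm' : (g⁻¹ * x * g) * z ∈ A := A.mul_mem hm (hZA z hz)
      rw [extendByZero_of_mem A _ hm', extendByZero_of_mem A _ hm]
      have := hlammul ⟨_, hm⟩ ⟨z, hZA z hz⟩
      rw [mul_comm (lam ⟨z, _⟩)]
      exact this
    · have hm' : (g⁻¹ * x * g) * z ∉ A := fun h => hm (by
        have := A.mul_mem h (A.inv_mem (hZA z hz))
        simpa using this)
      rw [extendByZero_of_notMem A _ hm', extendByZero_of_notMem A _ hm, mul_zero]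
  have hchar := isCharacter_indFun A hlam
  have hcl := isClassFunction_indFun A lam
  have hvanish : ∀ x : P, x ∉ Subgroup.center P → indFun A lam x = 0 := by
    intro x hx
    exact extraspecial_apply_eq_zero hP hcl haZ (c := lam ⟨a, hZA a haZ⟩) (by
      simpa using hane) (fun y => hscale a haZ y) hx
  refine ⟨?_, hvanish⟩
  apply isIrrCharacter_of_classInner_self hchar
  rw [classInner_self_of_vanish_center _ hvanish]
  -- central values
  have hval : ∀ z : Subgroup.center P, indFun A lam z = ((p : ℂ) ^ n) * lam ⟨z, hZA z z.2⟩ := by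
    intro z
    simp only [indFun_apply]
    have h1 : ∀ g : P, extendByZero A lam (g⁻¹ * (z : P) * g) = lam ⟨z, hZA z z.2⟩ := by
      intro g
      have h2 : g⁻¹ * (z : P) * g = z := by
        have : (z : P) * g = g * z := (Subgroup.mem_center_iff.mp z.2 g).symm
        rw [mul_assoc, this]; group
      rw [h2, extendByZero_of_mem A _ (hZA z z.2)]
    simp_rw [h1]
    rw [Finset.sum_const, Finset.card_univ, ← Nat.card_eq_fintype_card, hA, hcard, nsmul_eq_mul]
    push_cast
    rw [← mul_assoc]
    congr 1
    have : (p : ℂ) ^ (n + 1) ≠ 0 := pow_ne_zero _ hp0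
    field_simp
    ring
  have hterm : ∀ z : Subgroup.center P, indFun A lam z * conj (indFun A lam z) = (p : ℂ) ^ (2 * n) := by
    intro z
    rw [hval z, map_mul, map_pow, Complex.conj_natCast]
    have := hnorm ⟨z, hZA z z.2⟩
    calc _ = ((p : ℂ) ^ n * (p : ℂ) ^ n) * (lam ⟨z, hZA z z.2⟩ * conj (lam ⟨z, hZA z z.2⟩)) := by ring
      _ = _ := by rw [this, mul_one, two_mul, pow_add]
  simp_rw [hterm]
  rw [Finset.sum_const, Finset.card_univ, ← Nat.card_eq_fintype_card, hP.2, hcard, nsmul_eq_mul]
  push_cast
  have : (p : ℂ) ^ (2 * n + 1) ≠ 0 := pow_ne_zero _ hp0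
  field_simp
  ring

end Deg

end Cfsg.Agent.Lib.Char
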