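import Mathlib
import Cfsg.Agent.Lib.Char.CliffordBij
import Cfsg.Agent.Lib.Char.Gallagher
import Cfsg.Agent.Lib.Char.Triple

set_option autoImplicit false

/-!
Characters fully ramified over a normal subgroup: uniqueness over Hall-type sections and
the stabilizers of the characters of intermediate normal subgroups.
-/

namespace Cfsg.Agent.Lib.Char.FRam

open Cfsg Cfsg.Agent.Lib.Char ComplexConjugate

universe u

section Uniq

variable {D : Type u} [Group D] [Fintype D] (Z₁ : Subgroup D) [hZ₁ : Z₁.Normal] [Fintype Z₁]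

theorem res_eq_smul_of_invariant {θ₁ : Z₁ → ℂ} (hθ₁ : IsIrrCharacter Z₁ θ₁)
    (hinv : ∀ g : D, conjFun Z₁ g θ₁ = θ₁) {ψ : D → ℂ} (hψ : IsIrrCharacter D ψ)
    (h : classInner (resFun Z₁ ψ) θ₁ ≠ 0) (n : Z₁) :
    ψ n = classInner (resFun Z₁ ψ) θ₁ * θ₁ n := by
  have h1 := clifford_sum Z₁ hψ hθ₁ h n
  have h2 : inertia Z₁ θ₁ = ⊤ := by
    ext g
    simp [mem_inertia, hinv g]
  simp only [hinv] at h1
  rw [h2, Subgroup.card_top, Finset.sum_const, Finset.card_univ, nsmul_eq_mul,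
    ← Nat.card_eq_fintype_card] at h1
  have hc : (Nat.card D : ℂ) ≠ 0 := by exact_mod_cast Nat.card_pos.ne'
  apply mul_left_cancel₀ hc
  rw [h1]
  ring

theorem exists_unique_over {θ₁ : Z₁ → ℂ} (hθ₁ : IsIrrCharacter Z₁ θ₁)
    (hinv : ∀ g : D, conjFun Z₁ g θ₁ = θ₁) {χ₁ : D → ℂ} (hχ₁ : IsCharacter D χ₁) (e f : ℕ)
    (hres : ∀ z : Z₁, χ₁ z = e * θ₁ z) (hvan : ∀ g, g ∉ Z₁ → χ₁ g = 0)
    (he : e ^ 2 = Z₁.index * f) (hcop : Nat.Coprime Z₁.index f) :
    ∃ ψ : IrrCharacter D, ∃ b : ℕ, classInner (resFun Z₁ (ψ : D → ℂ)) θ₁ ≠ 0 ∧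
      (∀ ψ' : IrrCharacter D, classInner (resFun Z₁ (ψ' : D → ℂ)) θ₁ ≠ 0 → ψ' = ψ) ∧
      χ₁ = b • (ψ : D → ℂ) ∧ b ^ 2 = f := by
  classical
  set d := Z₁.index with hd
  have hd0 : d ≠ 0 := Subgroup.index_ne_zero_of_finite
  have hdc : (d : ℂ) ≠ 0 := by exact_mod_cast hd0
  choose m hm using fun ψ : IrrCharacter D =>
    exists_multiplicity Z₁ (IsIrrCharacter.isCharacter ψ.2) hθ₁
  obtain ⟨N₀, hN₀, hsum⟩ := IsCharacter.exists_eq_sum hχ₁
  have hresχ : resFun Z₁ χ₁ = (e : ℂ) • θ₁ := by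
    funext z
    simp [hres z]
  have K1 : ∀ ψ, N₀ ψ * d = e * m ψ := by
    intro ψ
    have h1 := classInner_eq_of_vanish_off Z₁ (ψ : D → ℂ) χ₁ hvan
    rw [hresχ, classInner_smul_right, hm ψ, classInner_conj_symm, hN₀ ψ] at h1
    simp only [map_natCast] at h1
    have h2 : (N₀ ψ : ℂ) * d = e * m ψ := by
      rw [h1, ← hd]
      field_simp
    exact_mod_cast h2
  have ht : θ₁ 1 ≠ 0 := IsIrrCharacter.apply_one_ne_zero hθ₁
  have hconjt : conj (θ₁ 1) = θ₁ 1 := IsCharacter.conj_apply_one (IsIrrCharacter.isCharacter hθ₁)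
  have hψ1 : ∀ ψ : IrrCharacter D, (ψ : D → ℂ) 1 * m ψ = (m ψ : ℂ) ^ 2 * θ₁ 1 := by
    intro ψ
    by_cases h0 : m ψ = 0
    · simp [h0]
    · have h2 : classInner (resFun Z₁ (ψ : D → ℂ)) θ₁ ≠ 0 := by
        rw [hm ψ]
        exact_mod_cast h0
      have h3 := res_eq_smul_of_invariant Z₁ hθ₁ hinv ψ.2 h2 1
      rw [hm ψ] at h3
      have h4 : (ψ : D → ℂ) 1 = (m ψ : ℂ) * θ₁ 1 := h3
      rw [h4]
      ring
  have K2 : ∑ ψ, m ψ ^ 2 = d := by
    have h1 : ∀ z : Z₁, ∑ ψ : IrrCharacter D, (ψ : D → ℂ) 1 * (ψ : D → ℂ) z =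
        if z = 1 then (Nat.card D : ℂ) else 0 := by
      intro z
      rw [sum_irr_degree_mul_apply (G := D) (z : D)]
      by_cases hz : z = 1
      · simp [hz]
      · rw [if_neg hz, if_neg]
        intro h
        exact hz (Subtype.ext h)
    have h2 : ∑ z : Z₁, (∑ ψ : IrrCharacter D, (ψ : D → ℂ) 1 * (ψ : D → ℂ) z) * conj (θ₁ z) =
        (Nat.card D : ℂ) * θ₁ 1 := by
      simp only [h1]
      rw [Finset.sum_eq_single (1 : Z₁)]
      · rw [if_pos rfl, hconjt]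
      · intro z _ hz
        rw [if_neg hz, zero_mul]
      · simp
    have hZc : (Nat.card Z₁ : ℂ) ≠ 0 := by exact_mod_cast Nat.card_pos.ne'
    have h3 : ∀ ψ : IrrCharacter D, ∑ z : Z₁, (ψ : D → ℂ) 1 * (ψ : D → ℂ) z * conj (θ₁ z) =
        (Nat.card Z₁ : ℂ) * ((m ψ : ℂ) ^ 2 * θ₁ 1) := by
      intro ψ
      have h4 := hm ψ
      simp only [classInner] at h4
      have h5 : ∑ z : Z₁, (ψ : D → ℂ) z * conj (θ₁ z) = (Nat.card Z₁ : ℂ) * m ψ := by
        rw [← h4]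
        field_simp
      rw [← hψ1 ψ]
      calc ∑ z : Z₁, (ψ : D → ℂ) 1 * (ψ : D → ℂ) z * conj (θ₁ z)
          = (ψ : D → ℂ) 1 * ∑ z : Z₁, (ψ : D → ℂ) z * conj (θ₁ z) := by
            rw [Finset.mul_sum]
            refine Finset.sum_congr rfl fun z _ => by ring
        _ = _ := by rw [h5]; ring
    have h4 : ∑ z : Z₁, (∑ ψ : IrrCharacter D, (ψ : D → ℂ) 1 * (ψ : D → ℂ) z) * conj (θ₁ z) =
        ∑ ψ : IrrCharacter D, ∑ z : Z₁, (ψ : D → ℂ) 1 * (ψ : D → ℂ) z * conj (θ₁ z) := by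
      simp only [Finset.sum_mul]
      rw [Finset.sum_comm]
    rw [h4] at h2
    simp only [h3] at h2
    rw [← Finset.mul_sum, ← Finset.sum_mul] at h2
    have hcard : (Nat.card D : ℂ) = (Nat.card Z₁ : ℂ) * d := by
      rw [hd]
      exact_mod_cast (Subgroup.card_mul_index Z₁).symm
    rw [hcard] at h2
    have h5 : (∑ ψ : IrrCharacter D, (m ψ : ℂ) ^ 2) = d := by
      apply mul_right_cancel₀ ht
      apply mul_left_cancel₀ hZc
      rw [h2]
      ring
    exact_mod_cast h5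
  have hlb : ∀ ψ, m ψ ≠ 0 → d ≤ m ψ ^ 2 := by
    intro ψ h0
    have h1 : (N₀ ψ) ^ 2 * d = f * m ψ ^ 2 := by
      have h2 : (N₀ ψ * d) ^ 2 = (e * m ψ) ^ 2 := by rw [K1]
      have h3 : d * ((N₀ ψ) ^ 2 * d) = d * (f * m ψ ^ 2) := by
        calc d * ((N₀ ψ) ^ 2 * d) = (N₀ ψ * d) ^ 2 := by ring
          _ = e ^ 2 * m ψ ^ 2 := by rw [h2]; ring
          _ = d * (f * m ψ ^ 2) := by rw [he]; ring
      exact Nat.eq_of_mul_eq_mul_left (Nat.pos_of_ne_zero hd0) h3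
    have h2 : d ∣ f * m ψ ^ 2 := ⟨N₀ ψ ^ 2, by rw [← h1]; ring⟩
    have h3 : d ∣ m ψ ^ 2 := hcop.dvd_of_dvd_mul_left h2
    exact Nat.le_of_dvd (by positivity) h3
  obtain ⟨ψ, -, hψ⟩ : ∃ ψ ∈ (Finset.univ : Finset (IrrCharacter D)), m ψ ^ 2 ≠ 0 := by
    apply Finset.exists_ne_zero_of_sum_ne_zero
    rw [K2]
    exact hd0
  have hψ0 : m ψ ≠ 0 := fun h => hψ (by simp [h])
  have huniq : ∀ ψ', m ψ' ≠ 0 → ψ' = ψ := by
    intro ψ' h'
    by_contra hne
    have h1 := hlb ψ hψ0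
    have h2 := hlb ψ' h'
    have h3 : m ψ ^ 2 + m ψ' ^ 2 ≤ ∑ ψ, m ψ ^ 2 := by
      rw [← Finset.add_sum_erase Finset.univ _ (Finset.mem_univ ψ)]
      refine Nat.add_le_add_left ?_ _
      exact Finset.single_le_sum (f := fun x => m x ^ 2) (fun _ _ => Nat.zero_le _)
        (Finset.mem_erase.mpr ⟨hne, Finset.mem_univ _⟩)
    rw [K2] at h3
    have : 0 < d := Nat.pos_of_ne_zero hd0
    omega
  have hm2 : m ψ ^ 2 = d := by
    rw [← K2]
    symm
    apply Finset.sum_eq_single ψ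
    · intro ψ' _ hne
      by_contra h
      exact hne (huniq ψ' fun h0 => h (by simp [h0]))
    · simp
  refine ⟨ψ, N₀ ψ, ?_, ?_, ?_, ?_⟩
  · rw [hm ψ]
    exact_mod_cast hψ0
  · intro ψ' h'
    apply huniq
    intro h0
    apply h'
    rw [hm ψ', h0]
    simp
  · conv_lhs => rw [hsum]
    apply Finset.sum_eq_single ψ
    · intro ψ' _ hne
      have h0 : m ψ' = 0 := by
        by_contra h
        exact hne (huniq ψ' h)
      have h1 := K1 ψ'
      rw [h0, mul_zero] at h1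
      have h2 : N₀ ψ' = 0 := by
        rcases Nat.mul_eq_zero.mp h1 with h | h
        · exact h
        · exact absurd h hd0
      rw [h2, zero_smul]
    · simp
  · have h1 : (N₀ ψ * d) ^ 2 = (e * m ψ) ^ 2 := by rw [K1]
    have h3 : d * ((N₀ ψ) ^ 2 * d) = d * (f * d) := by
      calc d * ((N₀ ψ) ^ 2 * d) = (N₀ ψ * d) ^ 2 := by ring
        _ = e ^ 2 * m ψ ^ 2 := by rw [h1]; ring
        _ = d * (f * d) := by rw [he, hm2]; ring
    have h4 := Nat.eq_of_mul_eq_mul_left (Nat.pos_of_ne_zero hd0) h3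
    exact Nat.eq_of_mul_eq_mul_right (Nat.pos_of_ne_zero hd0) h4

end Uniq

section Stab

theorem exists_multiplicity' {D : Type u} [Group D] (Z₁ N : Subgroup D) [Fintype Z₁] [Fintype N] (hle : Z₁ ≤ N)
    {ξ : N → ℂ} (hξ : IsIrrCharacter N ξ) {θ₁ : Z₁ → ℂ} (hθ₁ : IsIrrCharacter Z₁ θ₁) :
    ∃ c : ℕ, classInner (resTo Z₁ hle ξ) θ₁ = c :=
  IsCharacter.classInner_irr_eq_nat (isCharacter_resTo Z₁ hle (IsIrrCharacter.isCharacter hξ)) hθ₁

variable {D : Type u} [Group D] [Fintype D] (Z₁ : Subgroup D) [hZ₁ : Z₁.Normal] [Fintype Z₁]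
  (N : Subgroup D) [hN : N.Normal] [Fintype N] (hle : Z₁ ≤ N)

include hle in
theorem over_trans {ψ : D → ℂ} (hψ : IsCharacter D ψ) {ξ : N → ℂ} (hξ : IsIrrCharacter N ξ)
    {θ₁ : Z₁ → ℂ} (hθ₁ : IsIrrCharacter Z₁ θ₁)
    (h1 : classInner (resFun N ψ) ξ ≠ 0) (h2 : classInner (resTo Z₁ hle ξ) θ₁ ≠ 0) :
    classInner (resFun Z₁ ψ) θ₁ ≠ 0 := by
  classical
  obtain ⟨a, ha⟩ := exists_multiplicity N hψ hξ
  obtain ⟨Δ, hΔ, hΦ⟩ := exists_complement (isCharacter_resFun N hψ) hξ ha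
  have h3 : resFun Z₁ ψ = a • resTo Z₁ hle ξ + resTo Z₁ hle Δ := by
    funext z
    have := congrFun hΦ ⟨z, hle z.2⟩
    simpa using this
  rw [h3, classInner_add_left, ← Nat.cast_smul_eq_nsmul ℂ, classInner_smul_left]
  obtain ⟨c, hc⟩ := exists_multiplicity' Z₁ N hle hξ hθ₁
  obtain ⟨c', hc'⟩ := IsCharacter.classInner_irr_eq_nat (isCharacter_resTo Z₁ hle hΔ) hθ₁
  rw [hc, hc']
  have ha0 : a ≠ 0 := by
    intro h
    apply h1
    rw [ha, h]
    simp
  have hc0 : c ≠ 0 := by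
    intro h
    apply h2
    rw [hc, h]
    simp
  have : a * c + c' ≠ 0 := by
    have : 0 < a * c := Nat.mul_pos (Nat.pos_of_ne_zero ha0) (Nat.pos_of_ne_zero hc0)
    omega
  exact_mod_cast this

include hle in
/-- Transitivity, when there is only one irreducible character over `θ₁`. -/
theorem conj_of_over {θ₁ : Z₁ → ℂ} (hθ₁ : IsIrrCharacter Z₁ θ₁)
    (huniq : ∀ ψ ψ' : D → ℂ, IsIrrCharacter D ψ → IsIrrCharacter D ψ' →
      classInner (resFun Z₁ ψ) θ₁ ≠ 0 → classInner (resFun Z₁ ψ') θ₁ ≠ 0 → ψ = ψ')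
    {ξ ξ' : N → ℂ} (hξ : IsIrrCharacter N ξ) (hξ' : IsIrrCharacter N ξ')
    (h : classInner (resTo Z₁ hle ξ) θ₁ ≠ 0) (h' : classInner (resTo Z₁ hle ξ') θ₁ ≠ 0) :
    ∃ g : D, ξ' = conjFun N g ξ := by
  obtain ⟨ψ, hψ, hψo⟩ := exists_over N (G := D) hξ
  obtain ⟨ψ', hψ', hψo'⟩ := exists_over N (G := D) hξ'
  have h1 := over_trans Z₁ N hle (IsIrrCharacter.isCharacter hψ) hξ hθ₁ hψo h
  have h2 := over_trans Z₁ N hle (IsIrrCharacter.isCharacter hψ') hξ' hθ₁ hψo' h'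
  have h3 := huniq ψ ψ' hψ hψ' h1 h2
  rw [← h3] at hψo'
  exact clifford_constituent N hψ hξ hξ' hψo hψo'

/-- An extension along a cyclic quotient. -/
theorem exists_ext_of_cyclic {G : Type u} [Group G] [Fintype G] (M : Subgroup G) [M.Normal]
    [Fintype M] {θ : M → ℂ} (hθ : IsIrrCharacter M θ)
    (hinv : ∀ (g : G) (m : M), θ ⟨g * m * g⁻¹, Subgroup.Normal.conj_mem inferInstance _ m.2 g⟩ = θ m)
    (hcyc : IsCyclic (G ⧸ M)) : ∃ χ : G → ℂ, IsIrrCharacter G χ ∧ ∀ m : M, χ m = θ m := by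
  obtain ⟨d, ρ, hirr, rfl⟩ := hθ
  haveI := hirr
  exact Cfsg.Agent.Lib.Char.Triple.exists_irr_of_cyclic M ρ (fun g m => hinv g m) hcyc

include hle in
/-- If only one irreducible character lies over `θ₁` and `D/N` is cyclic, the characters
of `N` over `θ₁` have no stabilizer modulo `N`. -/
theorem stab_of_cyclic {θ₁ : Z₁ → ℂ} (hθ₁ : IsIrrCharacter Z₁ θ₁)
    (huniq : ∀ ψ ψ' : D → ℂ, IsIrrCharacter D ψ → IsIrrCharacter D ψ' →
      classInner (resFun Z₁ ψ) θ₁ ≠ 0 → classInner (resFun Z₁ ψ') θ₁ ≠ 0 → ψ = ψ')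
    (hcyc : IsCyclic (D ⧸ N)) {ξ : N → ℂ} (hξ : IsIrrCharacter N ξ)
    (h : classInner (resTo Z₁ hle ξ) θ₁ ≠ 0) : inertia N ξ ≤ N := by
  classical
  letI : Fintype (inertia N ξ) := Fintype.ofFinite _
  set T := inertia N ξ with hT
  have hNT : N ≤ T := le_inertia_of_irr hξ
  by_contra hnot
  let N' : Subgroup T := N.subgroupOf T
  haveI hN'n : N'.Normal := Subgroup.normal_subgroupOf
  letI : Fintype N' := Fintype.ofFinite _
  letI : Fintype (T ⧸ N') := Fintype.ofFinite _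
  let e : N' ≃* N := Subgroup.subgroupOfEquivOfLe hNT
  let θ' : N' → ℂ := ξ ∘ e
  have hθ' : IsIrrCharacter N' θ' := isIrrCharacter_comp_mulEquiv e hξ
  have hinv' : ∀ (t : T) (m : N'), θ' ⟨t * m * t⁻¹, Subgroup.Normal.conj_mem inferInstance _ m.2 t⟩ = θ' m := by
    intro t m
    have h1 : conjFun N (t : D)⁻¹ ξ = ξ := (inertia N ξ).inv_mem t.2
    have h2 := congrFun h1 (e m)
    simp only [conjFun_apply] at h2
    simp only [θ', Function.comp_apply]
    rw [← h2]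
    congr 1
    ext
    simp [e]
    rfl
  have hcyc' : IsCyclic (T ⧸ N') := by
    let f : T ⧸ N' →* D ⧸ N := QuotientGroup.map N' N T.subtype (fun x hx => hx)
    refine isCyclic_of_injective f ?_
    rw [injective_iff_map_eq_one]
    intro a ha
    induction a using QuotientGroup.induction_on with
    | H x =>
    have h1 : ((x : D) : D ⧸ N) = 1 := ha
    rw [QuotientGroup.eq_one_iff] at h1 ⊢
    exact h1
  obtain ⟨χ₀, hχ₀, hres₀⟩ := exists_ext_of_cyclic N' hθ' hinv' hcyc'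
  have hresθ : resFun N' χ₀ = θ' := by
    funext m
    exact hres₀ m
  have hθ'' : IsIrrCharacter N' (resFun N' χ₀) := by rw [hresθ]; exact hθ'
  have hχ₀c := IsIrrCharacter.isCharacter hχ₀
  -- two different characters of `T / N`
  haveI hQn : Nontrivial (T ⧸ N') := by
    obtain ⟨t, htT, htN⟩ := Set.not_subset.mp hnot
    refine ⟨⟨((⟨t, htT⟩ : T) : T ⧸ N'), 1, ?_⟩⟩
    intro h0
    rw [QuotientGroup.eq_one_iff] at h0
    exact htN h0
  let one : IrrCharacter (T ⧸ N') := ⟨fun _ => 1, isIrrCharacter_one⟩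
  obtain ⟨β, hβ⟩ : ∃ β : IrrCharacter (T ⧸ N'), β ≠ one := by
    by_contra hall
    push Not at hall
    have h1 := sum_irr_degree_sq (G := T ⧸ N')
    have h2 : (Finset.univ : Finset (IrrCharacter (T ⧸ N'))) = {one} := by
      ext b
      simp [hall b]
    rw [h2, Finset.sum_singleton] at h1
    have h3 : (Nat.card (T ⧸ N') : ℂ) = 1 := by
      rw [← h1]
      simp [one]
    have h4 : Nat.card (T ⧸ N') = 1 := by exact_mod_cast h3
    have := Finite.one_lt_card (α := T ⧸ N')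
    omega
  let ψ₁ : T → ℂ := fun g => inflate N' (one : T ⧸ N' → ℂ) g * χ₀ g
  let ψ₂ : T → ℂ := fun g => inflate N' (β : T ⧸ N' → ℂ) g * χ₀ g
  have hψ₁ : IsIrrCharacter T ψ₁ := isIrrCharacter_gallagher N' hχ₀c hθ'' one.2
  have hψ₂ : IsIrrCharacter T ψ₂ := isIrrCharacter_gallagher N' hχ₀c hθ'' β.2
  have hover : ∀ b : IrrCharacter (T ⧸ N'),
      classInner (resTo N hNT (fun g => inflate N' (b : T ⧸ N' → ℂ) g * χ₀ g)) ξ ≠ 0 := by
    intro b
    have h1 : resTo N hNT (fun g => inflate N' (b : T ⧸ N' → ℂ) g * χ₀ g) =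
        ((b : T ⧸ N' → ℂ) 1) • ξ := by
      funext n
      have h2 : ((⟨(n : D), hNT n.2⟩ : T) : T ⧸ N') = 1 := by
        rw [QuotientGroup.eq_one_iff]
        exact n.2
      simp only [resTo, inflate, h2, Pi.smul_apply, smul_eq_mul]
      congr 1
      have h3 := hres₀ (e.symm n)
      have h4 : θ' (e.symm n) = ξ n := by simp [θ']
      rw [← h4, ← h3]
      rfl
    rw [h1, classInner_smul_left, classInner_irr_self hξ, mul_one]
    exact IsIrrCharacter.apply_one_ne_zero b.2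
  have hΨ : ∀ b : IrrCharacter (T ⧸ N'),
      IsIrrCharacter D (indFun T (fun g => inflate N' (b : T ⧸ N' → ℂ) g * χ₀ g)) ∧
      classInner (resFun Z₁ (indFun T (fun g => inflate N' (b : T ⧸ N' → ℂ) g * χ₀ g))) θ₁ ≠ 0 := by
    intro b
    have hb := isIrrCharacter_gallagher N' hχ₀c hθ'' b.2
    have h1 := isIrrCharacter_indFun_over hξ hb (hover b)
    refine ⟨h1, ?_⟩
    refine over_trans Z₁ N hle (IsIrrCharacter.isCharacter h1) hξ hθ₁ ?_ h
    rw [classInner_res_indFun_over hξ hb (hover b)]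
    exact hover b
  have heq := huniq _ _ (hΨ one).1 (hΨ β).1 (hΨ one).2 (hΨ β).2
  have hψe : ψ₁ = ψ₂ := eq_of_indFun_eq_over hξ hψ₁ hψ₂ (hover one) (hover β) heq
  have h5 : classInner ψ₁ ψ₂ = classInner (one : T ⧸ N' → ℂ) (β : T ⧸ N' → ℂ) :=
    classInner_gallagher N' hχ₀c hθ'' _ _
  rw [← hψe, classInner_irr_self hψ₁, classInner_irr_of_ne one.2 β.2
    (fun h6 => hβ (Subtype.ext h6.symm))] at h5
  exact one_ne_zero h5

include hle in
/-- The regular case. -/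
theorem stab_of_dvd {p : ℕ} [hp : Fact p.Prime] {θ₁ : Z₁ → ℂ} (hθ₁ : IsIrrCharacter Z₁ θ₁)
    {ψ₀ : D → ℂ} (hψ₀ : IsIrrCharacter D ψ₀)
    (huniq : ∀ ψ : D → ℂ, IsIrrCharacter D ψ → classInner (resFun Z₁ ψ) θ₁ ≠ 0 → ψ = ψ₀)
    {χ₁ : D → ℂ} {b : ℕ} (hχ₁ : χ₁ = b • ψ₀) (hb : Nat.Coprime b p)
    (hDN : IsPGroup p (D ⧸ N)) {ξ : N → ℂ} (hξ : IsIrrCharacter N ξ)
    (h : classInner (resTo Z₁ hle ξ) θ₁ ≠ 0) {g₁ : ℕ}
    (hg₁ : classInner (resFun N χ₁) ξ = g₁) (hdiv : N.relIndex (inertia N ξ) ∣ g₁) :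
    inertia N ξ ≤ N := by
  classical
  letI : Fintype (inertia N ξ) := Fintype.ofFinite _
  set T := inertia N ξ with hT
  have hNT : N ≤ T := le_inertia_of_irr hξ
  -- the multiplicity
  obtain ⟨ψ, hψ, hψo⟩ := exists_over N (G := D) hξ
  have h1 := over_trans Z₁ N hle (IsIrrCharacter.isCharacter hψ) hξ hθ₁ hψo h
  have hψe := huniq ψ hψ h1
  subst hψe
  obtain ⟨n, hn⟩ := exists_multiplicity N (IsIrrCharacter.isCharacter hψ) hξ
  have hn0 : n ≠ 0 := by
    intro h0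
    apply hψo
    rw [hn, h0]
    simp
  have hg : g₁ = b * n := by
    have h2 : resFun N χ₁ = (b : ℂ) • resFun N ψ := by
      funext x
      rw [hχ₁]
      simp
    rw [h2, classInner_smul_left, hn] at hg₁
    have h3 : ((b * n : ℕ) : ℂ) = g₁ := by
      push_cast
      exact hg₁
    exact_mod_cast h3.symm
  -- the index is a `p`-power
  have hpow : IsPGroup p (T ⧸ N.subgroupOf T) := by
    let f : T ⧸ N.subgroupOf T →* D ⧸ N := QuotientGroup.map _ N T.subtype (fun x hx => hx)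
    have hf : Function.Injective f := by
      rw [injective_iff_map_eq_one]
      intro a ha
      induction a using QuotientGroup.induction_on with
      | H x =>
      have h1 : ((x : D) : D ⧸ N) = 1 := ha
      rw [QuotientGroup.eq_one_iff] at h1 ⊢
      exact h1
    exact hDN.of_injective f hf
  have hidx : Nat.Coprime (N.relIndex T) b := by
    obtain ⟨k, hk⟩ := IsPGroup.iff_card.mp hpow
    have h2 : N.relIndex T = p ^ k := by
      rw [Subgroup.relIndex, Subgroup.index_eq_card, hk]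
    rw [h2]
    exact Nat.Coprime.pow_left _ hb.symm
  have hdn : N.relIndex T ∣ n := by
    rw [hg] at hdiv
    exact hidx.dvd_of_dvd_mul_left hdiv
  have hle1 : N.relIndex T ≤ n := Nat.le_of_dvd (Nat.pos_of_ne_zero hn0) hdn
  -- the bound in the other direction
  obtain ⟨ξ', hξ', hξ'o, hψind⟩ := exists_indFun_over hξ hψ hψo
  have h3 := classInner_res_indFun_over hξ hξ' hξ'o
  rw [← hψind, hn] at h3
  have h4 := resTo_eq_over N hξ (le_refl T) hNT hξ' hξ'o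
  rw [← h3] at h4
  have h5 : ∑ r : N, Complex.normSq (ξ' ⟨r, hNT r.2⟩) ≤ ∑ t : T, Complex.normSq (ξ' t) := by
    let ι : N → T := fun r => ⟨r, hNT r.2⟩
    have hι : Function.Injective ι := fun a c hac => Subtype.ext (congrArg (fun z : T => (z : D)) hac)
    rw [← Finset.sum_image (s := Finset.univ) (g := ι) (f := fun t => Complex.normSq (ξ' t))
      (fun a _ c _ hac => hι hac)]
    exact Finset.sum_le_sum_of_subset_of_nonneg (Finset.subset_univ _)
      (fun _ _ _ => Complex.normSq_nonneg _)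
  have hnorm : ∀ {X : Type u} [Group X] [Fintype X] {f : X → ℂ}, IsIrrCharacter X f →
      ∑ g : X, Complex.normSq (f g) = Nat.card X := by
    intro X _ _ f hf
    have h2 := classInner_irr_self hf
    simp only [classInner] at h2
    have hG : ((Nat.card X : ℕ) : ℂ) ≠ 0 := by exact_mod_cast Nat.card_pos.ne'
    have h3 : ∑ g : X, f g * conj (f g) = (Nat.card X : ℂ) := by
      field_simp at h2
      exact h2
    have h4 : ((∑ g : X, Complex.normSq (f g) : ℝ) : ℂ) = ((Nat.card X : ℝ) : ℂ) := by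
      push_cast
      rw [← h3]
      refine Finset.sum_congr rfl fun g _ => ?_
      rw [Complex.mul_conj]
    exact_mod_cast h4
  rw [hnorm hξ'] at h5
  have h6 : ∑ r : N, Complex.normSq (ξ' ⟨r, hNT r.2⟩) = (n : ℝ) ^ 2 * Nat.card N := by
    rw [← hnorm hξ, Finset.mul_sum]
    refine Finset.sum_congr rfl fun r _ => ?_
    have h7 := congrFun h4 r
    simp only [resTo, Pi.smul_apply, smul_eq_mul] at h7
    rw [h7, map_mul, Complex.normSq_natCast]
    ring
  rw [h6] at h5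
  have h7 : Nat.card T = N.relIndex T * Nat.card N := by
    have := Subgroup.card_mul_index (N.subgroupOf T)
    rw [Nat.card_congr (Subgroup.subgroupOfEquivOfLe hNT).toEquiv] at this
    rw [Subgroup.relIndex, ← this]
    ring
  have h8 : n ^ 2 ≤ N.relIndex T := by
    have h9 : ((n ^ 2 * Nat.card N : ℕ) : ℝ) ≤ ((N.relIndex T * Nat.card N : ℕ) : ℝ) := by
      rw [← h7]
      push_cast
      exact h5
    have h10 : n ^ 2 * Nat.card N ≤ N.relIndex T * Nat.card N := by exact_mod_cast h9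
    exact Nat.le_of_mul_le_mul_right h10 Nat.card_pos
  have h9 : N.relIndex T = 1 := by
    have h10 : 0 < N.relIndex T := Nat.pos_of_ne_zero (by
      rw [Subgroup.relIndex]; exact Subgroup.index_ne_zero_of_finite)
    nlinarith
  have h10 := Subgroup.relIndex_eq_one.mp h9
  exact h10

end Stab

end Cfsg.Agent.Lib.Char.FRam
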