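import Mathlib
import Cfsg.Agent.Lib.Char.FRamA
import Cfsg.Agent.Lib.Char.SylowNorm

set_option autoImplicit false

/-!
Characters fully ramified over a normal subgroup: Sylow sections of the quotient, the
restriction to the preimage of a Sylow subgroup.
-/

namespace Cfsg.Agent.Lib.Char.FRam

open Cfsg Cfsg.Agent.Lib.Char ComplexConjugate
open scoped Pointwise

universe u

section Syl

variable {X : Type*} [Group X] [Finite X] {p : ℕ} [hp : Fact p.Prime]

theorem coprime_relIndex (D : Sylow p X) (K : Subgroup X) [K.Normal] :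
    ¬ p ∣ ((D : Subgroup X) ⊓ K).relIndex K := by
  rw [Subgroup.inf_relIndex_right]
  intro h
  exact D.not_dvd_index (h.trans (Cfsg.Agent.Lib.Char.SylowNorm.relIndex_normal_dvd_index _ K))

/-- The intersection of a Sylow subgroup and a normal subgroup is maximal among the `p`-subgroups
of the normal subgroup. -/
theorem inf_eq (D : Sylow p X) (K : Subgroup X) [K.Normal] {W : Subgroup X} (hW : IsPGroup p W)
    (h1 : W ≤ K) (h2 : (D : Subgroup X) ⊓ K ≤ W) : W = (D : Subgroup X) ⊓ K := by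
  have h4 : ((D : Subgroup X) ⊓ K).relIndex W ∣ ((D : Subgroup X) ⊓ K).relIndex K :=
    ⟨_, (Subgroup.relIndex_mul_relIndex _ _ _ h2 h1).symm⟩
  have h5 : ((D : Subgroup X) ⊓ K).relIndex W ∣ Nat.card W := Subgroup.relIndex_dvd_card _ _
  obtain ⟨n, hn⟩ := IsPGroup.iff_card.mp hW
  rw [hn] at h5
  obtain ⟨m, -, hm⟩ := (Nat.dvd_prime_pow hp.out).mp h5
  rw [hm] at h4
  have hm0 : m = 0 := by
    by_contra h0
    exact coprime_relIndex D K ((dvd_pow_self p h0).trans h4)
  rw [hm0, pow_zero, Subgroup.relIndex_eq_one] at hm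
  exact le_antisymm hm h2

theorem card_inf (D : Sylow p X) (K : Subgroup X) [K.Normal] :
    Nat.card ((D : Subgroup X) ⊓ K : Subgroup X) = p ^ (Nat.card K).factorization p := by
  have hI : IsPGroup p ((D : Subgroup X) ⊓ K : Subgroup X) := D.isPGroup'.to_le inf_le_left
  obtain ⟨a, ha⟩ := IsPGroup.iff_card.mp hI
  have h1 : Nat.card K = Nat.card ((D : Subgroup X) ⊓ K : Subgroup X) * ((D : Subgroup X) ⊓ K).relIndex K := by
    have := Subgroup.card_mul_index (((D : Subgroup X) ⊓ K).subgroupOf K)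
    rw [Nat.card_congr (Subgroup.subgroupOfEquivOfLe (inf_le_right : (D : Subgroup X) ⊓ K ≤ K)).toEquiv] at this
    exact this.symm
  have hc := coprime_relIndex D K
  have hc0 : ((D : Subgroup X) ⊓ K).relIndex K ≠ 0 := by
    intro h
    apply hc
    rw [h]
    exact dvd_zero _
  rw [h1, ha, Nat.factorization_mul (pow_ne_zero _ hp.out.ne_zero) hc0]
  simp [Nat.factorization_eq_zero_of_not_dvd hc, hp.out.factorization_self]

/-- The Frattini argument. -/
theorem exists_frattini (D : Sylow p X) (K : Subgroup X) [hK : K.Normal] (x : X) :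
    ∃ k ∈ K, k * x ∈ Subgroup.normalizer (((D : Subgroup X) ⊓ K : Subgroup X) : Set X) := by
  set I : Subgroup X := (D : Subgroup X) ⊓ K with hI
  have h1 : MulAut.conj x • I ≤ K := by
    intro y hy
    obtain ⟨r, hr, rfl⟩ := Subgroup.mem_smul_pointwise_iff_exists _ _ _ |>.1 hy
    exact hK.conj_mem _ hr.2 x
  have hc : Nat.card (MulAut.conj x • I : Subgroup X) = p ^ (Nat.card K).factorization p := by
    rw [Nat.card_congr (Subgroup.equivSMul (MulAut.conj x) I).toEquiv.symm]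
    exact card_inf D K
  obtain ⟨k, hk, he⟩ := Cfsg.Agent.Lib.Char.SylowNorm.exists_conj_sub K _ I h1 inf_le_right hc (card_inf D K)
  refine ⟨k, hk, ?_⟩
  rw [Subgroup.mem_normalizer_iff]
  have hmem : ∀ y ∈ I, (k * x) * y * (k * x)⁻¹ ∈ I := by
    intro y hy
    rw [← he]
    refine Subgroup.mem_smul_pointwise_iff_exists _ _ _ |>.2 ⟨x * y * x⁻¹, ?_, ?_⟩
    · exact Subgroup.mem_smul_pointwise_iff_exists _ _ _ |>.2 ⟨y, hy, rfl⟩
    · simp [MulAut.smul_def, MulAut.conj_apply]
      group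
  intro y
  refine ⟨hmem y, fun hy => ?_⟩
  -- finiteness: conjugation maps `I` onto itself
  have hinj : Function.Injective (fun r : I => (⟨(k * x) * r * (k * x)⁻¹, hmem r r.2⟩ : I)) := by
    intro a b hab
    have h2 : (k * x) * (a : X) * (k * x)⁻¹ = (k * x) * (b : X) * (k * x)⁻¹ :=
      congrArg Subtype.val hab
    apply Subtype.ext
    simpa using h2
  obtain ⟨r, hr⟩ := (Finite.injective_iff_surjective.mp hinj) ⟨_, hy⟩
  have h3 : (k * x) * (r : X) * (k * x)⁻¹ = (k * x) * y * (k * x)⁻¹ := congrArg Subtype.val hr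
  have h4 : (r : X) = y := by simpa using h3
  rw [← h4]
  exact r.2

end Syl

section Level

variable {H : Type u} [Group H] [Fintype H] (Z : Subgroup H) [hZ : Z.Normal] [Fintype Z]
  {χ : H → ℂ} {θ : Z → ℂ} {e : ℕ}

include hZ in
theorem e_ne_zero (he : e ^ 2 = Z.index) : e ≠ 0 := by
  intro h
  rw [h] at he
  have h1 : Z.index ≠ 0 := Subgroup.index_ne_zero_of_finite
  simp at he
  exact h1 he.symm

omit [Fintype H] [Fintype Z] in
/-- Invariance of the character below. -/
theorem theta_inv (hχ : IsClassFunction H χ) (he0 : e ≠ 0) (hres : ∀ z : Z, χ z = (e : ℂ) * θ z)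
    (g : H) (z : Z) : θ ⟨g * z * g⁻¹, hZ.conj_mem _ z.2 g⟩ = θ z := by
  have h1 := hres ⟨g * z * g⁻¹, hZ.conj_mem _ z.2 g⟩
  have h2 := hres z
  have h3 := hχ (z : H) g
  have h4 : ((e : ℂ)) ≠ 0 := by exact_mod_cast he0
  apply mul_left_cancel₀ h4
  rw [← h1, ← h2]
  exact h3

theorem norm_sum_eq {X : Type u} [Group X] [Fintype X] {f : X → ℂ} (hf : IsIrrCharacter X f) :
    ∑ g : X, Complex.normSq (f g) = Nat.card X := by
  have h2 := classInner_irr_self hf
  simp only [classInner] at h2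
  have hG : ((Nat.card X : ℕ) : ℂ) ≠ 0 := by exact_mod_cast Nat.card_pos.ne'
  have h3 : ∑ g : X, f g * conj (f g) = (Nat.card X : ℂ) := by
    field_simp at h2
    exact h2
  have h4 : ((∑ g : X, Complex.normSq (f g) : ℝ) : ℂ) = ((Nat.card X : ℝ) : ℂ) := by
    push_cast
    rw [← h3]
    refine Finset.sum_congr rfl fun g _ => ?_
    rw [Complex.mul_conj]
  exact_mod_cast h4

/-- A fully ramified character vanishes off the normal subgroup. -/
theorem vanish (hχ : IsIrrCharacter H χ) (hθ : IsIrrCharacter Z θ) (he : e ^ 2 = Z.index)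
    (hres : ∀ z : Z, χ z = (e : ℂ) * θ z) (g : H) (hg : g ∉ Z) : χ g = 0 := by
  classical
  have hcard : Nat.card Z * Z.index = Nat.card H := Subgroup.card_mul_index Z
  have h1 := norm_sum_eq hχ
  have h2 := norm_sum_eq hθ
  have h3 : ∑ g ∈ Finset.univ.filter (· ∈ Z), Complex.normSq (χ g) = Nat.card H := by
    rw [Finset.sum_subtype (p := (· ∈ Z)) (Finset.univ.filter (· ∈ Z)) (by simp)
      (fun g => Complex.normSq (χ g))]
    simp only [hres, map_mul, Complex.normSq_natCast]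
    rw [← Finset.mul_sum, h2]
    have : ((e : ℝ) * e) = (Z.index : ℝ) := by
      rw [← he]
      push_cast
      ring
    rw [this, ← hcard]
    push_cast
    ring
  have h4 : ∑ g ∈ Finset.univ.filter (fun g : H => g ∉ Z), Complex.normSq (χ g) = 0 := by
    have h5 := Finset.sum_filter_add_sum_filter_not Finset.univ (· ∈ Z) (fun g => Complex.normSq (χ g))
    rw [h1, h3] at h5
    linarith
  have h5 := (Finset.sum_eq_zero_iff_of_nonneg (fun g _ => Complex.normSq_nonneg _)).mp h4 g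
    (by simp [hg])
  exact Complex.normSq_eq_zero.mp h5

/-- The transfer of `θ` to a subgroup containing `Z`. -/
def thetaOf (D : Subgroup H) (θ : Z → ℂ) : Z.subgroupOf D → ℂ := fun z => θ ⟨z.1.1, z.2⟩

variable {Z}

omit hZ in
theorem isIrr_thetaOf {D : Subgroup H} [Fintype (Z.subgroupOf D)] (hZD : Z ≤ D)
    (hθ : IsIrrCharacter Z θ) : IsIrrCharacter (Z.subgroupOf D) (thetaOf Z D θ) :=
  isIrrCharacter_comp_mulEquiv (Subgroup.subgroupOfEquivOfLe hZD) hθ

/-- Uniqueness over the preimage of a Hall-type section. -/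
theorem dlevel (hχ : IsIrrCharacter H χ) (hθ : IsIrrCharacter Z θ) (he : e ^ 2 = Z.index)
    (hres : ∀ z : Z, χ z = (e : ℂ) * θ z) {D : Subgroup H} [Fintype D] [Fintype (Z.subgroupOf D)]
    (hZD : Z ≤ D) (hcop : Nat.Coprime (Z.relIndex D) D.index) :
    ∃ ψ : IrrCharacter D, ∃ b : ℕ,
      classInner (resFun (Z.subgroupOf D) (ψ : D → ℂ)) (thetaOf Z D θ) ≠ 0 ∧
      (∀ ψ' : IrrCharacter D,
        classInner (resFun (Z.subgroupOf D) (ψ' : D → ℂ)) (thetaOf Z D θ) ≠ 0 → ψ' = ψ) ∧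
      (fun d : D => χ d) = b • (ψ : D → ℂ) ∧ b ^ 2 = D.index := by
  haveI : (Z.subgroupOf D).Normal := Subgroup.normal_subgroupOf
  have he0 := e_ne_zero Z he
  have hcl := IsCharacter.isClassFunction (IsIrrCharacter.isCharacter hχ)
  refine exists_unique_over (Z.subgroupOf D) (isIrr_thetaOf hZD hθ) ?_
    (IsCharacter.comp (IsIrrCharacter.isCharacter hχ) D.subtype) e D.index ?_ ?_ ?_ hcop
  · intro g
    funext z
    simp only [conjFun_apply, thetaOf]
    have h1 := theta_inv Z hcl he0 hres (g : H)⁻¹ ⟨z.1.1, z.2⟩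
    rw [← h1]
    congr 1
    ext
    simp
  · intro z
    exact hres ⟨z.1.1, z.2⟩
  · intro g hg
    exact vanish Z hχ hθ he hres g hg
  · have h1 := Subgroup.relIndex_mul_index hZD
    rw [he, ← h1]
    rfl

omit [Fintype H] hZ in
theorem over_of_under {R : Subgroup H} [Fintype H] [Fintype R] (hχ : IsCharacter H χ) (hθ : IsIrrCharacter Z θ)
    (hres : ∀ z : Z, χ z = (e : ℂ) * θ z) (hZR : Z ≤ R) {ξ : R → ℂ} (hξ : IsIrrCharacter R ξ)
    (h : classInner (resFun R χ) ξ ≠ 0) :
    classInner (fun z : Z => ξ ⟨z, hZR z.2⟩) θ ≠ 0 := by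
  classical
  obtain ⟨a, ha⟩ := IsCharacter.classInner_irr_eq_nat (IsCharacter.comp hχ R.subtype) hξ
  have ha' : classInner (resFun R χ) ξ = a := ha
  obtain ⟨Δ, hΔ, hΦ⟩ := exists_complement (IsCharacter.comp hχ R.subtype) hξ ha
  have ha0 : a ≠ 0 := by
    intro h0
    apply h
    rw [ha', h0]
    simp
  have hρ : IsCharacter Z (fun z : Z => ξ ⟨z, hZR z.2⟩) :=
    IsCharacter.comp (IsIrrCharacter.isCharacter hξ) (Subgroup.inclusion hZR)
  have h1 : (fun z : Z => ξ ⟨z, hZR z.2⟩) 1 ≠ 0 := IsIrrCharacter.apply_one_ne_zero hξ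
  obtain ⟨μ, hμ, hμ0⟩ := exists_constituent hρ h1
  by_cases hμθ : μ = θ
  · rwa [hμθ] at hμ0
  exfalso
  have hres2 : (fun z : Z => χ z) = a • (fun z : Z => ξ ⟨z, hZR z.2⟩) + (fun z : Z => Δ ⟨z, hZR z.2⟩) := by
    funext z
    have := congrFun hΦ ⟨z, hZR z.2⟩
    simpa using this
  have h2 : classInner (fun z : Z => χ z) μ = 0 := by
    have : (fun z : Z => χ z) = (e : ℂ) • θ := by
      funext z
      simp [hres z]
    rw [this, classInner_smul_left, classInner_irr_of_ne hθ hμ (fun h => hμθ h.symm), mul_zero]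
  rw [hres2, classInner_add_left, ← Nat.cast_smul_eq_nsmul ℂ, classInner_smul_left] at h2
  obtain ⟨c, hc⟩ := IsCharacter.classInner_irr_eq_nat hρ hμ
  obtain ⟨c', hc'⟩ := IsCharacter.classInner_irr_eq_nat
    (IsCharacter.comp hΔ (Subgroup.inclusion hZR)) hμ
  have hc'' : classInner (fun z : Z => Δ ⟨z, hZR z.2⟩) μ = c' := hc'
  rw [hc, hc''] at h2
  have hc0 : c ≠ 0 := by
    intro h0
    apply hμ0
    rw [hc, h0]
    simp
  have h3 : a * c + c' = 0 := by exact_mod_cast h2
  have : 0 < a * c := Nat.mul_pos (Nat.pos_of_ne_zero ha0) (Nat.pos_of_ne_zero hc0)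
  omega

end Level

section Main

variable {H : Type u} [Group H] [Fintype H] {Z K : Subgroup H} [hZ : Z.Normal] [hK : K.Normal]

/-- `K ∩ D` inside `D`, for a subgroup `R = D ⊓ K`. -/
def equivInf {D R : Subgroup H} (hR : D ⊓ K = R) : K.subgroupOf D ≃* R where
  toFun r := ⟨r.1.1, hR ▸ (Subgroup.mem_inf.mpr ⟨r.1.2, r.2⟩)⟩
  invFun r := ⟨⟨r.1, (Subgroup.mem_inf.mp (hR ▸ r.2 : r.1 ∈ D ⊓ K)).1⟩,
    (Subgroup.mem_inf.mp (hR ▸ r.2 : r.1 ∈ D ⊓ K)).2⟩
  left_inv _ := rfl
  right_inv _ := rfl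
  map_mul' _ _ := rfl

omit [Fintype H] hZ hK in
@[simp] theorem equivInf_coe {D R : Subgroup H} (hR : D ⊓ K = R) (r : K.subgroupOf D) :
    ((equivInf hR r : R) : H) = ((r : D) : H) := rfl

omit [Fintype H] hZ hK in
theorem le_sub (hZK : Z ≤ K) (D : Subgroup H) : Z.subgroupOf D ≤ K.subgroupOf D := fun _ hx => hZK hx

/-- Conjugation by an element normalizing `R`. -/
noncomputable def conjR {R : Subgroup H} {v : H} (hv : v ∈ Subgroup.normalizer (R : Set H)) : R ≃* R where
  toFun r := ⟨v⁻¹ * r * v, by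
    have h1 := (Subgroup.mem_normalizer_iff.mp hv (v⁻¹ * r * v)).mpr
    apply h1
    have h2 : v * (v⁻¹ * (r : H) * v) * v⁻¹ = r := by group
    rw [h2]
    exact r.2⟩
  invFun r := ⟨v * r * v⁻¹, (Subgroup.mem_normalizer_iff.mp hv r).mp r.2⟩
  left_inv r := by
    apply Subtype.ext
    simp only
    group
  right_inv r := by
    apply Subtype.ext
    simp only
    group
  map_mul' a b := by
    apply Subtype.ext
    simp only [Subgroup.coe_mul]
    group

omit [Fintype H] hZ hK in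
@[simp] theorem conjR_coe {R : Subgroup H} {v : H} (hv : v ∈ Subgroup.normalizer (R : Set H)) (r : R) :
    ((conjR hv r : R) : H) = v⁻¹ * r * v := rfl

end Main

end Cfsg.Agent.Lib.Char.FRam
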