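import Cfsg.Agent.Lib.Char.ClassPair2
import Cfsg.Agent.Lib.Char.Clifford
import Cfsg.Agent.Lib.Char.Schur
import Cfsg.Agent.Lib.Char.Kernel

/-!
# Gagola characters: irreducible characters vanishing off two classes
-/

set_option autoImplicit false
set_option linter.unusedSectionVars false

namespace Cfsg.Agent.Lib.Char

open Cfsg
open scoped ComplexConjugate

variable {G : Type*} [Group G] [Fintype G]

/-- `χ` is non-principal irreducible with support `{1} ∪ x^G`. -/
structure IsGagola (χ : G → ℂ) (x : G) : Prop where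
  irr : IsIrrCharacter G χ
  ne_one : χ ≠ fun _ => 1
  x_ne : x ≠ 1
  supp : ∀ g, χ g ≠ 0 ↔ g = 1 ∨ IsConj x g

theorem card_filter_isConj (x : G) [DecidablePred (IsConj x)] :
    (Finset.univ.filter (IsConj x)).card = classSize x := by
  rw [← Fintype.card_subtype, ← Nat.card_eq_fintype_card]
  rfl

theorem exists_isGagola (hG : 2 < Nat.card G) (χ : IrrCharacter G)
    (hχ : Nat.card {C : ConjClasses G // ∃ g ∈ C.carrier, (χ : G → ℂ) g ≠ 0} = 2) :
    ∃ x, IsGagola (χ : G → ℂ) x := by
  classical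
  have hχc := IsIrrCharacter.isCharacter χ.2
  have hχ1 : (χ : G → ℂ) 1 ≠ 0 := by
    rw [apply_one_eq_charDegree hχc]
    exact_mod_cast (charDegree_pos χ.2).ne'
  let c₁ : {C : ConjClasses G // ∃ g ∈ C.carrier, (χ : G → ℂ) g ≠ 0} :=
    ⟨ConjClasses.mk 1, 1, by simp [ConjClasses.mem_carrier_mk], hχ1⟩
  obtain ⟨c₂, hc₂, huniq⟩ := (Nat.card_eq_two_iff' c₁).mp hχ
  obtain ⟨C, x, hxC, hx⟩ := c₂
  have hCx : C = ConjClasses.mk x := by
    exact ((ConjClasses.mem_carrier_iff_mk_eq).mp hxC).symm
  subst hCx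
  have hx1 : x ≠ 1 := by
    rintro rfl
    exact hc₂ rfl
  have hsupp : ∀ g, (χ : G → ℂ) g ≠ 0 ↔ g = 1 ∨ IsConj x g := by
    intro g
    constructor
    · intro hg
      by_cases hg1 : g = 1
      · exact Or.inl hg1
      right
      have h1 : (⟨ConjClasses.mk g, g, ConjClasses.mem_carrier_mk, hg⟩ :
          {C : ConjClasses G // ∃ g ∈ C.carrier, (χ : G → ℂ) g ≠ 0}) ≠ c₁ := by
        intro h
        have h2 := congrArg Subtype.val h
        have h3 : IsConj g 1 := ConjClasses.mk_eq_mk_iff_isConj.mp h2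
        exact hg1 (isConj_one_right.mp h3.symm)
      have h2 := huniq _ h1
      have h3 := congrArg Subtype.val h2
      exact (ConjClasses.mk_eq_mk_iff_isConj.mp h3).symm
    · rintro (rfl | hg)
      · exact hχ1
      · obtain ⟨c, rfl⟩ := isConj_iff.mp hg
        rw [IsCharacter.isClassFunction hχc x c]
        exact hx
  refine ⟨x, χ.2, ?_, hx1, hsupp⟩
  intro h
  -- if `χ` is principal, all nonidentity elements are conjugate
  have hall : ∀ g : G, g = 1 ∨ IsConj x g := fun g => (hsupp g).mp (by rw [h]; simp)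
  have h1 : Nat.card G = 1 + classSize x := by
    rw [← card_filter_isConj, Nat.card_eq_fintype_card, ← Finset.card_univ]
    have h2 : (Finset.univ : Finset G) = insert 1 (Finset.univ.filter (IsConj x)) := by
      ext g
      simp only [Finset.mem_univ, Finset.mem_insert, Finset.mem_filter, true_and, true_iff]
      exact hall g
    have h3 : ((1 : G)) ∉ Finset.univ.filter (IsConj x) := by
      intro h3
      exact hx1 (isConj_one_right.mp (Finset.mem_filter.mp h3).2.symm)
    have h4 := Finset.card_insert_of_notMem h3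
    rw [← h2] at h4
    rw [h4, add_comm]
  have h2 := classSize_mul_card_centralizer x
  have h3 : classSize x ∣ 1 + classSize x := by
    rw [← h1, ← h2]
    exact dvd_mul_right _ _
  have h4 : classSize x ∣ 1 := (Nat.dvd_add_iff_left (dvd_refl _)).mpr h3
  have h5 : classSize x = 1 := Nat.dvd_one.mp h4
  omega

namespace IsGagola

variable {χ : G → ℂ} {x : G}

theorem isCharacter (h : IsGagola χ x) : IsCharacter G χ := IsIrrCharacter.isCharacter h.irr

theorem apply_eq_of_isConj (h : IsGagola χ x) {u : G} (hu : IsConj x u) : χ u = χ x := by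
  obtain ⟨c, rfl⟩ := isConj_iff.mp hu
  exact IsCharacter.isClassFunction h.isCharacter x c

theorem apply_eq_zero (h : IsGagola χ x) {g : G} (h1 : g ≠ 1) (h2 : ¬ IsConj x g) : χ g = 0 := by
  by_contra h3
  rcases (h.supp g).mp h3 with h4 | h4
  · exact h1 h4
  · exact h2 h4

theorem of_isConj (h : IsGagola χ x) {y : G} (hy : IsConj x y) : IsGagola χ y where
  irr := h.irr
  ne_one := h.ne_one
  x_ne := by
    rintro rfl
    exact h.x_ne (isConj_one_right.mp hy.symm)
  supp := fun g => by
    rw [h.supp g]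
    constructor
    · rintro (h1 | h1)
      · exact Or.inl h1
      · exact Or.inr (hy.symm.trans h1)
    · rintro (h1 | h1)
      · exact Or.inl h1
      · exact Or.inr (hy.trans h1)

theorem one_ne (h : IsGagola χ x) : ¬ IsConj x 1 := fun h1 =>
  h.x_ne (isConj_one_right.mp h1.symm)

/-- Summing a function supported on the support of `χ`. -/
theorem sum_eq (h : IsGagola χ x) (F : G → ℂ) (hF : ∀ g, χ g = 0 → F g = 0) :
    open scoped Classical in
    ∑ g, F g = F 1 + ∑ u ∈ Finset.univ.filter (IsConj x), F u := by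
  classical
  rw [← Finset.sum_insert (s := Finset.univ.filter (IsConj x)) (a := (1 : G)) (f := F)
    (by simpa using h.one_ne)]
  symm
  apply Finset.sum_subset (Finset.subset_univ _)
  intro g _ hg
  apply hF
  apply h.apply_eq_zero
  · rintro rfl
    simp at hg
  · intro h1
    simp only [Finset.mem_insert, Finset.mem_filter, Finset.mem_univ, true_and, not_or] at hg
    exact hg.2 h1

theorem degree_ne (h : IsGagola χ x) : χ 1 ≠ 0 := by
  rw [apply_one_eq_charDegree h.isCharacter]
  exact_mod_cast (charDegree_pos h.irr).ne'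

theorem classSize_ne : (classSize x : ℂ) ≠ 0 := by
  exact_mod_cast (classSize_pos x).ne'

/-- `χ 1 + k χ x = 0`. -/
theorem degree_add (h : IsGagola χ x) : χ 1 + (classSize x : ℂ) * χ x = 0 := by
  classical
  have h0 := classInner_irr_of_ne h.irr (isIrrCharacter_one (G := G)) h.ne_one
  have hG : (Nat.card G : ℂ)⁻¹ ≠ 0 := inv_ne_zero (by exact_mod_cast Nat.card_pos.ne')
  have h1 : ∑ g, χ g = 0 := by
    have := h0
    simp only [classInner, map_one, mul_one] at this
    exact (mul_eq_zero.mp this).resolve_left hG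
  rw [h.sum_eq χ (fun _ h => h)] at h1
  rw [Finset.sum_congr rfl (fun u hu => h.apply_eq_of_isConj (Finset.mem_filter.mp hu).2),
    Finset.sum_const, card_filter_isConj, nsmul_eq_mul] at h1
  exact h1

theorem apply_x (h : IsGagola χ x) : χ x = - χ 1 / (classSize x : ℂ) := by
  have := h.degree_add
  field_simp [classSize_ne (x := x)]
  linear_combination this

theorem apply_x_ne (h : IsGagola χ x) : χ x ≠ 0 := by
  intro h0
  have := h.degree_add
  rw [h0, mul_zero, add_zero] at this
  exact h.degree_ne this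

/-- `χ x` is real. -/
theorem conj_apply_x (h : IsGagola χ x) : conj (χ x) = χ x := by
  rw [h.apply_x, apply_one_eq_charDegree h.isCharacter]
  simp

/-- All products of class elements with `x`. -/
theorem key (h : IsGagola χ x) : IsConj x x⁻¹ ∧ ∀ u, IsConj x u → u * x = 1 ∨ IsConj x (u * x) := by
  classical
  have hχ1 := h.degree_ne
  have hk := classSize_ne (x := x)
  have h1 := IsIrrCharacter.sum_conj_mul h.irr x x
  letI : Fintype {u : G // IsConj x u} := Fintype.ofFinite _
  rw [sum_conj_eq x (fun u => χ (u * x))] at h1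
  have hG : (Nat.card G : ℂ) = (classSize x : ℂ) * (Nat.card (Subgroup.centralizer ({x} : Set G)) : ℂ) := by
    exact_mod_cast (classSize_mul_card_centralizer x).symm
  have hC : (Nat.card (Subgroup.centralizer ({x} : Set G)) : ℂ) ≠ 0 := by
    exact_mod_cast Nat.card_pos.ne'
  have hcx := h.apply_x_ne
  -- the sum over the class
  set U := Finset.univ.filter (IsConj x) with hU
  have hsum : ∑ u : {u : G // IsConj x u}, χ (u * x) = ∑ u ∈ U, χ (u * x) := by
    rw [Finset.sum_subtype U (p := IsConj x) (fun y => by simp [hU])]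
  set A := U.filter (fun u => u * x = 1) with hA
  set B := U.filter (fun u => IsConj x (u * x)) with hB
  have hptw : ∀ u ∈ U, χ (u * x) = (if u * x = 1 then χ 1 else 0) + (if IsConj x (u * x) then χ x else 0) := by
    intro u _
    by_cases h2 : u * x = 1
    · rw [if_pos h2, h2, if_neg h.one_ne, add_zero]
    · rw [if_neg h2, zero_add]
      by_cases h3 : IsConj x (u * x)
      · rw [if_pos h3, h.apply_eq_of_isConj h3]
      · rw [if_neg h3, h.apply_eq_zero h2 h3]
  have hsum2 : ∑ u ∈ U, χ (u * x) = (A.card : ℂ) * χ 1 + (B.card : ℂ) * χ x := by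
    rw [Finset.sum_congr rfl hptw, Finset.sum_add_distrib, Finset.sum_ite, Finset.sum_ite]
    simp only [Finset.sum_const_zero, add_zero, Finset.sum_const, nsmul_eq_mul]
    rfl
  rw [hsum, hsum2, hG] at h1
  have hdeg := h.degree_add
  have hχ1' : χ 1 = -((classSize x : ℂ) * χ x) := by linear_combination hdeg
  rw [hχ1'] at h1
  have h2 : (classSize x : ℂ) * (A.card : ℂ) = (B.card : ℂ) + 1 := by
    have h3 : (classSize x : ℂ) * (χ x) ^ 2 * (Nat.card (Subgroup.centralizer ({x} : Set G)) : ℂ) *
        ((classSize x : ℂ) * (A.card : ℂ) - ((B.card : ℂ) + 1)) = 0 := by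
      linear_combination h1
    have h4 : (classSize x : ℂ) * (χ x) ^ 2 * (Nat.card (Subgroup.centralizer ({x} : Set G)) : ℂ) ≠ 0 :=
      mul_ne_zero (mul_ne_zero hk (pow_ne_zero 2 hcx)) hC
    have h5 := (mul_eq_zero.mp h3).resolve_left h4
    linear_combination h5
  have h3 : classSize x * A.card = B.card + 1 := by exact_mod_cast h2
  have hAle : A.card ≤ 1 := by
    rw [Finset.card_le_one]
    intro a ha b hb
    have ha' := (Finset.mem_filter.mp ha).2
    have hb' := (Finset.mem_filter.mp hb).2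
    exact mul_right_cancel (ha'.trans hb'.symm)
  have hdisj : Disjoint A B := by
    rw [Finset.disjoint_left]
    intro a ha hb
    have ha' := (Finset.mem_filter.mp ha).2
    have hb' := (Finset.mem_filter.mp hb).2
    rw [ha'] at hb'
    exact h.one_ne hb'
  have hsub : A ∪ B ⊆ U := Finset.union_subset (Finset.filter_subset _ _) (Finset.filter_subset _ _)
  have hcard : A.card + B.card ≤ classSize x := by
    rw [← Finset.card_union_of_disjoint hdisj, ← card_filter_isConj]
    exact Finset.card_le_card hsub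
  have hA1 : A.card = 1 := by
    rcases Nat.le_one_iff_eq_zero_or_eq_one.mp hAle with h5 | h5
    · rw [h5] at h3
      omega
    · exact h5
  have hUeq : A ∪ B = U := by
    apply Finset.eq_of_subset_of_card_le hsub
    rw [Finset.card_union_of_disjoint hdisj, hA1]
    rw [hA1, mul_one] at h3
    rw [hU, card_filter_isConj]
    omega
  constructor
  · obtain ⟨a, ha⟩ := Finset.card_pos.mp (by omega : 0 < A.card)
    have ha1 := Finset.mem_filter.mp ha
    have ha2 : a = x⁻¹ := eq_inv_of_mul_eq_one_left ha1.2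
    rw [← ha2]
    exact (Finset.mem_filter.mp ha1.1).2
  · intro u hu
    have hu' : u ∈ A ∪ B := by
      rw [hUeq]
      exact Finset.mem_filter.mpr ⟨Finset.mem_univ _, hu⟩
    rcases Finset.mem_union.mp hu' with h5 | h5
    · exact Or.inl (Finset.mem_filter.mp h5).2
    · exact Or.inr (Finset.mem_filter.mp h5).2

/-- The support of a Gagola character, as a subgroup. -/
def sub (h : IsGagola χ x) : Subgroup G where
  carrier := {g | χ g ≠ 0}
  one_mem' := h.degree_ne
  mul_mem' := by
    intro a b ha hb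
    change χ a ≠ 0 at ha
    change χ b ≠ 0 at hb
    change χ (a * b) ≠ 0
    rcases (h.supp a).mp ha with rfl | ha'
    · simpa using hb
    rcases (h.supp b).mp hb with rfl | hb'
    · simpa using ha
    have hb2 := h.of_isConj hb'
    rw [h.supp]
    rcases hb2.key.2 a (hb'.symm.trans ha') with h1 | h1
    · exact Or.inl h1
    · exact Or.inr (hb'.trans h1)
  inv_mem' := by
    intro a ha
    change χ a ≠ 0 at ha
    change χ a⁻¹ ≠ 0
    rcases (h.supp a).mp ha with rfl | ha'
    · simpa using ha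
    have h2 := h.of_isConj ha'
    rw [h.supp]
    exact Or.inr (ha'.trans h2.key.1)

theorem mem_sub (h : IsGagola χ x) {g : G} : g ∈ h.sub ↔ χ g ≠ 0 := Iff.rfl

theorem mem_sub' (h : IsGagola χ x) {g : G} : g ∈ h.sub ↔ g = 1 ∨ IsConj x g := h.supp g

theorem x_mem (h : IsGagola χ x) : x ∈ h.sub := h.mem_sub'.mpr (Or.inr (IsConj.refl x))

theorem sub_normal (h : IsGagola χ x) : h.sub.Normal := by
  constructor
  intro n hn g
  rw [mem_sub] at hn ⊢
  rw [IsCharacter.isClassFunction h.isCharacter n g]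
  exact hn

theorem sub_ne_bot (h : IsGagola χ x) : h.sub ≠ ⊥ := by
  intro h1
  have := h.x_mem
  rw [h1, Subgroup.mem_bot] at this
  exact h.x_ne this

/-- Two nonidentity elements of the support are conjugate. -/
theorem isConj_of_mem (h : IsGagola χ x) {a b : G} (ha : a ∈ h.sub) (hb : b ∈ h.sub)
    (ha1 : a ≠ 1) (hb1 : b ≠ 1) : IsConj a b :=
  ((h.mem_sub'.mp ha).resolve_left ha1).symm.trans ((h.mem_sub'.mp hb).resolve_left hb1)

/-- There is a prime `p` with `y ^ p = 1` on the support, all nonidentity elements having order `p`. -/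
theorem exists_prime_orderOf (h : IsGagola χ x) :
    ∃ p : ℕ, p.Prime ∧ ∀ g ∈ h.sub, g ≠ 1 → orderOf g = p := by
  classical
  haveI : Fact (Nat.Prime (orderOf x).minFac) := ⟨Nat.minFac_prime (by
    intro h1
    exact h.x_ne (orderOf_eq_one_iff.mp h1))⟩
  set p := (orderOf x).minFac with hp
  have hdvd : p ∣ orderOf x := Nat.minFac_dvd _
  have hord : orderOf (x ^ (orderOf x / p)) = p := by
    rw [orderOf_pow_orderOf_div (orderOf_pos x).ne' hdvd]
  have hy1 : x ^ (orderOf x / p) ≠ 1 := by
    intro h1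
    rw [h1, orderOf_one] at hord
    exact (Fact.out : p.Prime).one_lt.ne hord
  have hy : x ^ (orderOf x / p) ∈ h.sub := h.sub.pow_mem h.x_mem _
  refine ⟨p, Fact.out, fun g hg hg1 => ?_⟩
  obtain ⟨c, rfl⟩ := isConj_iff.mp (h.isConj_of_mem hy hg hy1 hg1)
  have := orderOf_injective (MulAut.conj c).toMonoidHom (MulAut.conj c).injective (x ^ (orderOf x / p))
  simp only [MulEquiv.toMonoidHom_eq_coe, MonoidHom.coe_coe, MulAut.conj_apply] at this
  rw [this, hord]

/-- A prime `p` such that all `g` in the support have order `p`, is unique. -/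
theorem orderOf_eq_of_prime (h : IsGagola χ x) {p : ℕ} (hp : p.Prime) (hN : IsPGroup p h.sub) :
    ∀ g ∈ h.sub, g ≠ 1 → orderOf g = p := by
  obtain ⟨q, hq, h1⟩ := h.exists_prime_orderOf
  have h2 := h1 x h.x_mem h.x_ne
  haveI := Fact.mk hp
  obtain ⟨k, hk⟩ := hN ⟨x, h.x_mem⟩
  have h3 : x ^ p ^ k = 1 := by
    have := congrArg Subtype.val hk
    simpa using this
  have h4 : q ∣ p ^ k := by
    rw [← h2]
    exact orderOf_dvd_of_pow_eq_one h3
  have h5 : q = p := (Nat.prime_dvd_prime_iff_eq hq hp).mp (hq.dvd_of_dvd_pow h4)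
  rw [← h5]
  exact h1

theorem isPGroup_sub (h : IsGagola χ x) {p : ℕ} (_hp : p.Prime)
    (hord : ∀ g ∈ h.sub, g ≠ 1 → orderOf g = p) : IsPGroup p h.sub := by
  intro g
  refine ⟨1, ?_⟩
  rw [pow_one]
  by_cases hg : (g : G) = 1
  · have : g = 1 := Subtype.ext hg
    rw [this, one_pow]
  · apply Subtype.ext
    have h1 := hord g g.2 hg
    have : (g : G) ^ p = 1 := by
      rw [← h1]
      exact pow_orderOf_eq_one _
    simpa using this

/-- The support is commutative. -/
theorem commute_of_mem (h : IsGagola χ x) {p : ℕ} (hp : p.Prime)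
    (hord : ∀ g ∈ h.sub, g ≠ 1 → orderOf g = p) :
    ∀ a ∈ h.sub, ∀ b ∈ h.sub, a * b = b * a := by
  classical
  have hP := h.isPGroup_sub hp hord
  haveI := Fact.mk hp
  haveI : Nontrivial h.sub := by
    refine ⟨⟨x, h.x_mem⟩, 1, fun h1 => h.x_ne ?_⟩
    exact congrArg Subtype.val h1
  obtain ⟨z, hz, hz1⟩ : ∃ z ∈ Subgroup.center h.sub, z ≠ 1 := by
    have := hP.center_nontrivial
    obtain ⟨z, hz1⟩ := exists_ne (1 : Subgroup.center h.sub)
    exact ⟨z, z.2, fun h1 => hz1 (Subtype.ext h1)⟩
  have hzG : (z : G) ≠ 1 := fun h1 => hz1 (Subtype.ext h1)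
  have hnorm := h.sub_normal
  intro a ha b hb
  by_cases ha1 : a = 1
  · rw [ha1, one_mul, mul_one]
  obtain ⟨c, rfl⟩ := isConj_iff.mp (h.isConj_of_mem z.2 ha hzG ha1)
  have hb' : c⁻¹ * b * c ∈ h.sub := by
    have := hnorm.conj_mem b hb c⁻¹
    simpa using this
  have h1 := (Subgroup.mem_center_iff.mp hz) ⟨c⁻¹ * b * c, hb'⟩
  have h2 : (c⁻¹ * b * c) * (z : G) = z * (c⁻¹ * b * c) := congrArg Subtype.val h1
  calc c * z * c⁻¹ * b = c * (z * (c⁻¹ * b * c)) * c⁻¹ := by group
    _ = c * ((c⁻¹ * b * c) * (z : G)) * c⁻¹ := by rw [h2]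
    _ = b * (c * z * c⁻¹) := by group

/-- The support of a Gagola character is contained in every nontrivial normal subgroup. -/
theorem sub_le_of_normal (h : IsGagola χ x) (K : Subgroup G) [hK : K.Normal] (hK1 : K ≠ ⊥) :
    h.sub ≤ K := by
  classical
  by_cases hcase : ∃ n ∈ K, n ∈ h.sub ∧ n ≠ 1
  · obtain ⟨n, hnK, hnN, hn1⟩ := hcase
    intro a ha
    by_cases ha1 : a = 1
    · rw [ha1]
      exact K.one_mem
    obtain ⟨c, rfl⟩ := isConj_iff.mp (h.isConj_of_mem hnN ha hn1 ha1)
    exact hK.conj_mem n hnK c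
  · exfalso
    push Not at hcase
    have hcase' : ∀ n ∈ K, n ≠ 1 → χ n = 0 := by
      intro n hn hn1
      by_contra h1
      exact hn1 (hcase n hn h1)
    haveI : Fintype K := Fintype.ofFinite _
    have h1 := sum_coset_irr' K h.irr x
    have hnotle : ¬ K ≤ charKer χ := by
      intro hle
      obtain ⟨n, hn1⟩ := (Subgroup.ne_bot_iff_exists_ne_one.mp hK1)
      have hnG : (n : G) ≠ 1 := fun h1 => hn1 (Subtype.ext h1)
      have h2 := (mem_charKer h.isCharacter).mp (hle n.2)
      have h3 := hcase' n n.2 hnG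
      rw [h3] at h2
      exact h.degree_ne h2.symm
    rw [if_neg hnotle] at h1
    have h2 : ∑ n : K, χ (x * n) = χ x := by
      rw [Finset.sum_eq_single (1 : K)]
      · simp
      · intro n _ hn
        have hnG : (n : G) ≠ 1 := fun h1 => hn (Subtype.ext h1)
        by_contra h3
        have h4 : x * n ∈ h.sub := h3
        have h5 : (n : G) ∈ h.sub := by
          have := h.sub.mul_mem (h.sub.inv_mem h.x_mem) h4
          simpa using this
        exact hnG (hcase n n.2 h5)
      · simp
    rw [h2] at h1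
    exact h.apply_x_ne h1

/-- A nonprincipal irreducible `ψ ≠ χ` is trivial on the support. -/
theorem apply_x_of_ne (h : IsGagola χ x) {ψ : G → ℂ} (hψ : IsIrrCharacter G ψ) (hne : ψ ≠ χ) :
    ψ x = ψ 1 := by
  classical
  have h0 := classInner_irr_of_ne hψ h.irr hne
  have hG : (Nat.card G : ℂ)⁻¹ ≠ 0 := inv_ne_zero (by exact_mod_cast Nat.card_pos.ne')
  have h1 : ∑ g, ψ g * conj (χ g) = 0 := by
    have := h0
    simp only [classInner] at this
    exact (mul_eq_zero.mp this).resolve_left hG
  rw [h.sum_eq (fun g => ψ g * conj (χ g)) (fun g hg => by simp [hg])] at h1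
  have hψc := IsIrrCharacter.isCharacter hψ
  have h2 : ∀ u ∈ Finset.univ.filter (IsConj x), ψ u * conj (χ u) = ψ x * conj (χ x) := by
    intro u hu
    have hu' := (Finset.mem_filter.mp hu).2
    rw [h.apply_eq_of_isConj hu']
    obtain ⟨c, rfl⟩ := isConj_iff.mp hu'
    rw [IsCharacter.isClassFunction hψc x c]
  rw [Finset.sum_congr rfl h2, Finset.sum_const, card_filter_isConj, nsmul_eq_mul] at h1
  have h3 : conj (χ 1) = χ 1 := by
    rw [apply_one_eq_charDegree h.isCharacter]
    simp
  rw [h3, h.conj_apply_x] at h1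
  have h4 := h.degree_add
  have h5 : χ 1 * (ψ x - ψ 1) = 0 := by
    linear_combination (-1 : ℂ) * h1 + ψ x * h4
  have h6 := (mul_eq_zero.mp h5).resolve_left h.degree_ne
  linear_combination h6

theorem le_charKer_of_ne (h : IsGagola χ x) {ψ : G → ℂ} (hψ : IsIrrCharacter G ψ) (hne : ψ ≠ χ) :
    h.sub ≤ charKer ψ := by
  intro g hg
  rw [mem_charKer (IsIrrCharacter.isCharacter hψ)]
  rcases h.mem_sub'.mp hg with rfl | hg'
  · rfl
  obtain ⟨c, rfl⟩ := isConj_iff.mp hg'
  rw [IsCharacter.isClassFunction (IsIrrCharacter.isCharacter hψ) x c]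
  exact h.apply_x_of_ne hψ hne

/-- `χ` is faithful. -/
theorem eq_one_of_apply_eq (h : IsGagola χ x) {g : G} (hg : χ g = χ 1) : g = 1 := by
  by_contra hg1
  have h1 : g ∈ h.sub := by
    rw [mem_sub, hg]
    exact h.degree_ne
  have h2 := (h.mem_sub'.mp h1).resolve_left hg1
  rw [h.apply_eq_of_isConj h2] at hg
  have h3 := h.degree_add
  rw [← hg] at h3
  have h4 : χ x * ((1 : ℂ) + (classSize x : ℂ)) = 0 := by linear_combination h3
  have h5 := (mul_eq_zero.mp h4).resolve_left h.apply_x_ne
  have h6 : (1 : ℂ) + (classSize x : ℂ) ≠ 0 := by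
    exact_mod_cast (by omega : 1 + classSize x ≠ 0)
  exact h6 h5

/-- Elements outside the support: `g` and `g n` are conjugate. -/
theorem isConj_mul (h : IsGagola χ x) {g n : G} (hg : g ∉ h.sub) (hn : n ∈ h.sub) :
    IsConj g (g * n) := by
  classical
  by_contra hc
  have h1 := sum_irr_mul_conj_of_not_isConj hc
  have hgn : g * n ∉ h.sub := by
    intro h2
    apply hg
    have := h.sub.mul_mem h2 (h.sub.inv_mem hn)
    simpa using this
  have h2 : ∀ ψ : IrrCharacter G, (ψ : G → ℂ) g * conj ((ψ : G → ℂ) (g * n)) =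
      (ψ : G → ℂ) g * conj ((ψ : G → ℂ) g) := by
    intro ψ
    by_cases hψ : (ψ : G → ℂ) = χ
    · have h3 : χ g = 0 := by
        by_contra h3
        exact hg h3
      have h4 : χ (g * n) = 0 := by
        by_contra h4
        exact hgn h4
      rw [hψ, h3, h4]
    · rw [apply_mul_mem_charKer (IsIrrCharacter.isCharacter ψ.2)
        (h.le_charKer_of_ne ψ.2 hψ hn) g]
  rw [Finset.sum_congr rfl (fun ψ _ => h2 ψ)] at h1
  rw [sum_irr_mul_conj_of_isConj (IsConj.refl g)] at h1
  have h3 : (Nat.card (Subgroup.centralizer ({g} : Set G)) : ℂ) ≠ 0 := by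
    exact_mod_cast Nat.card_pos.ne'
  exact h3 h1

/-- The order of a centralizer of a nonidentity element of the support is a power of `p`. -/
theorem isPGroup_centralizer (h : IsGagola χ x) {p : ℕ} (hp : p.Prime)
    (hord : ∀ g ∈ h.sub, g ≠ 1 → orderOf g = p) {y : G} (hy : y ∈ h.sub) (hy1 : y ≠ 1) :
    IsPGroup p (Subgroup.centralizer ({y} : Set G)) := by
  classical
  haveI := Fact.mk hp
  rw [IsPGroup.iff_card]
  by_contra hcon
  obtain ⟨q, hq, hqd, hqp⟩ : ∃ q : ℕ, q.Prime ∧ q ∣ Nat.card (Subgroup.centralizer ({y} : Set G)) ∧ q ≠ p := by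
    by_contra hno
    push Not at hno
    apply hcon
    have h1 : ∀ q : ℕ, q.Prime → q ∣ Nat.card (Subgroup.centralizer ({y} : Set G)) → q = p := hno
    exact ⟨_, Nat.eq_prime_pow_of_unique_prime_dvd Nat.card_pos.ne' (fun hq hd => h1 _ hq hd)⟩
  haveI := Fact.mk hq
  obtain ⟨g, hg⟩ := exists_prime_orderOf_dvd_card' (G := Subgroup.centralizer ({y} : Set G)) q hqd
  have hgord : orderOf (g : G) = q := by
    rw [Subgroup.orderOf_coe]
    exact hg
  have hgy : Commute (g : G) y := by
    have := Subgroup.mem_centralizer_singleton_iff.mp g.2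
    exact this
  have hgN : (g : G) ∉ h.sub := by
    intro hgN
    have hg1 : (g : G) ≠ 1 := by
      intro h1
      rw [h1, orderOf_one] at hgord
      exact hq.one_lt.ne hgord
    rw [hord _ hgN hg1] at hgord
    exact hqp hgord.symm
  obtain ⟨c, hc⟩ := isConj_iff.mp (h.isConj_mul hgN hy)
  have h1 : orderOf ((g : G) * y) = q := by
    rw [← hc]
    have := orderOf_injective (MulAut.conj c).toMonoidHom (MulAut.conj c).injective (g : G)
    simp only [MulEquiv.toMonoidHom_eq_coe, MonoidHom.coe_coe, MulAut.conj_apply] at this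
    rw [this, hgord]
  have h2 : Nat.Coprime (orderOf (g : G)) (orderOf y) := by
    rw [hgord, hord y hy hy1]
    exact (Nat.coprime_primes hq hp).mpr hqp
  rw [hgy.orderOf_mul_eq_mul_orderOf_of_coprime h2, hgord, hord y hy hy1] at h1
  have := hq.pos
  have := hp.one_lt
  nlinarith

/-- `|N| = 1 + k`. -/
theorem card_sub (h : IsGagola χ x) : Nat.card h.sub = 1 + classSize x := by
  classical
  rw [← card_filter_isConj, Nat.card_eq_fintype_card, Fintype.card_subtype]
  have h2 : (Finset.univ.filter (· ∈ h.sub)) = insert 1 (Finset.univ.filter (IsConj x)) := by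
    ext g
    simp only [Finset.mem_univ, Finset.mem_insert, Finset.mem_filter, true_and]
    exact h.mem_sub'
  have h3 : ((1 : G)) ∉ Finset.univ.filter (IsConj x) := by
    intro h3
    exact h.one_ne (Finset.mem_filter.mp h3).2
  rw [h2, Finset.card_insert_of_notMem h3, add_comm]

/-- The centralizer of a nonidentity element of the support is a Sylow subgroup. -/
theorem exists_sylow_centralizer (h : IsGagola χ x) {p : ℕ} [hpf : Fact p.Prime]
    (hord : ∀ g ∈ h.sub, g ≠ 1 → orderOf g = p) {y : G} (hy : y ∈ h.sub) (hy1 : y ≠ 1) :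
    ∃ P : Sylow p G, Subgroup.centralizer ({y} : Set G) = P := by
  classical
  have hp := hpf.out
  have hP := h.isPGroup_centralizer hp hord hy hy1
  have h' : IsGagola χ y := h.of_isConj ((h.mem_sub'.mp hy).resolve_left hy1)
  have hmem : h'.sub = h.sub := by
    ext g
    rw [mem_sub, mem_sub]
  have hN : IsPGroup p h.sub := h.isPGroup_sub hp hord
  have hnot : ¬ p ∣ (Subgroup.centralizer ({y} : Set G)).index := by
    have h1 := classSize_mul_card_centralizer y
    have h2 := (Subgroup.centralizer ({y} : Set G)).index_mul_card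
    have h3 : (Subgroup.centralizer ({y} : Set G)).index = classSize y := by
      have hc : 0 < Nat.card (Subgroup.centralizer ({y} : Set G)) := Nat.card_pos
      exact Nat.eq_of_mul_eq_mul_right hc (h2.trans h1.symm)
    rw [h3]
    intro h4
    have h5 := h'.card_sub
    rw [hmem] at h5
    obtain ⟨n, hn⟩ := IsPGroup.iff_card.mp hN
    have hn0 : n ≠ 0 := by
      rintro rfl
      have := classSize_pos y
      rw [hn] at h5
      simp at h5
      omega
    have h6 : p ∣ Nat.card h.sub := by
      rw [hn]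
      exact dvd_pow_self p hn0
    rw [h5] at h6
    have h7 : p ∣ 1 := (Nat.dvd_add_iff_left h4).mpr h6
    exact hp.one_lt.ne' (Nat.dvd_one.mp h7)
  exact ⟨hP.toSylow hnot, rfl⟩

/-- Inertia groups of nonprincipal characters of the support are Sylow. -/
theorem exists_sylow_inertia (h : IsGagola χ x) {p : ℕ} [hpf : Fact p.Prime]
    (hord : ∀ g ∈ h.sub, g ≠ 1 → orderOf g = p) [hNn : h.sub.Normal]
    (μ : IrrCharacter h.sub) (hμ : (μ : h.sub → ℂ) ≠ fun _ => (1 : ℂ)) :
    ∃ P : Sylow p G, (P : Subgroup G) = inertia h.sub (μ : h.sub → ℂ) := by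
  classical
  have hp := hpf.out
  haveI : Fintype h.sub := Fintype.ofFinite _
  have hcomm : ∀ a b : h.sub, a * b = b * a := fun a b =>
    Subtype.ext (h.commute_of_mem hp hord a a.2 b b.2)
  have hμ1 : (μ : h.sub → ℂ) 1 = 1 := comm_iff_irr_degree_one.mp hcomm μ
  have hcN : (Nat.card h.sub : ℂ) = 1 + (classSize x : ℂ) := by exact_mod_cast h.card_sub
  have hcN0 : (Nat.card h.sub : ℂ) ≠ 0 := by exact_mod_cast Nat.card_pos.ne'
  have hk := classSize_ne (x := x)
  -- `∑ μ = 0`
  have hsum0 : ∑ n : h.sub, (μ : h.sub → ℂ) n = 0 := by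
    have h0 := classInner_irr_of_ne μ.2 (isIrrCharacter_one (G := h.sub)) hμ
    have hG : (Nat.card h.sub : ℂ)⁻¹ ≠ 0 := inv_ne_zero hcN0
    simp only [classInner, map_one, mul_one] at h0
    exact (mul_eq_zero.mp h0).resolve_left hG
  -- the inner product
  have hχ1 := h.degree_ne
  have hinner : classInner (resFun h.sub χ) (μ : h.sub → ℂ) = χ 1 / (classSize x : ℂ) := by
    have h1 : ∀ n : h.sub, χ n * conj ((μ : h.sub → ℂ) n) =
        χ x * conj ((μ : h.sub → ℂ) n) + (if n = 1 then χ 1 - χ x else 0) := by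
      intro n
      by_cases hn : n = 1
      · rw [if_pos hn, hn, hμ1]
        simp
      · rw [if_neg hn, add_zero]
        have hnG : (n : G) ≠ 1 := fun h1 => hn (Subtype.ext h1)
        rw [h.apply_eq_of_isConj ((h.mem_sub'.mp n.2).resolve_left hnG)]
    simp only [classInner]
    rw [Finset.sum_congr rfl (fun n _ => h1 n), Finset.sum_add_distrib, ← Finset.mul_sum,
      ← map_sum, hsum0, map_zero, mul_zero, zero_add, Finset.sum_ite_eq' Finset.univ (1 : h.sub)]
    simp only [Finset.mem_univ, if_true]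
    rw [h.apply_x]
    field_simp
    rw [hcN]
    field_simp
    ring
  have hinner0 : classInner (resFun h.sub χ) (μ : h.sub → ℂ) ≠ 0 := by
    rw [hinner]
    exact div_ne_zero hχ1 hk
  have hdeg := clifford_degree h.sub h.irr μ.2 hinner0
  rw [hinner, hμ1, mul_one] at hdeg
  have hidx : (inertia h.sub (μ : h.sub → ℂ)).index = classSize x := by
    have h1 : ((inertia h.sub (μ : h.sub → ℂ)).index : ℂ) = (classSize x : ℂ) := by
      have h2 : χ 1 * ((classSize x : ℂ) - ((inertia h.sub (μ : h.sub → ℂ)).index : ℂ)) = 0 := by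
        have h4 : χ 1 * (classSize x : ℂ) = χ 1 * ((inertia h.sub (μ : h.sub → ℂ)).index : ℂ) := by
          calc χ 1 * (classSize x : ℂ) = (χ 1 / (classSize x : ℂ) * ((inertia h.sub (μ : h.sub → ℂ)).index : ℂ)) * (classSize x : ℂ) := by
                rw [← hdeg]
            _ = χ 1 * ((inertia h.sub (μ : h.sub → ℂ)).index : ℂ) := by field_simp
        linear_combination h4
      have h3 := (mul_eq_zero.mp h2).resolve_left hχ1
      linear_combination -h3
    exact_mod_cast h1
  have hxcen := h.isPGroup_centralizer hp hord h.x_mem h.x_ne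
  have hidx2 : (Subgroup.centralizer ({x} : Set G)).index = classSize x := by
    have h1 := classSize_mul_card_centralizer x
    have h2 := (Subgroup.centralizer ({x} : Set G)).index_mul_card
    have hc : 0 < Nat.card (Subgroup.centralizer ({x} : Set G)) := Nat.card_pos
    exact Nat.eq_of_mul_eq_mul_right hc (h2.trans h1.symm)
  have hcard : Nat.card (inertia h.sub (μ : h.sub → ℂ)) = Nat.card (Subgroup.centralizer ({x} : Set G)) := by
    have h1 := (inertia h.sub (μ : h.sub → ℂ)).index_mul_card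
    have h2 := (Subgroup.centralizer ({x} : Set G)).index_mul_card
    rw [hidx] at h1
    rw [hidx2] at h2
    exact Nat.eq_of_mul_eq_mul_left (classSize_pos x) (h1.trans h2.symm)
  have hT : IsPGroup p (inertia h.sub (μ : h.sub → ℂ)) := by
    rw [IsPGroup.iff_card] at hxcen ⊢
    rw [hcard]
    exact hxcen
  obtain ⟨P, hP⟩ := h.exists_sylow_centralizer hord h.x_mem h.x_ne
  have hnot : ¬ p ∣ (inertia h.sub (μ : h.sub → ℂ)).index := by
    rw [hidx, ← hidx2, hP]
    exact P.not_dvd_index
  exact ⟨hT.toSylow hnot, rfl⟩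

section Quot

variable (h : IsGagola χ x) [hNn : h.sub.Normal]

include h in
theorem mem_comap_centralizer_iff {N : Subgroup G} [N.Normal] {z t : G} :
    t ∈ (Subgroup.centralizer ({(z : G ⧸ N)} : Set (G ⧸ N))).comap (QuotientGroup.mk' N) ↔
      z⁻¹ * t * z * t⁻¹ ∈ N := by
  rw [Subgroup.mem_comap, Subgroup.mem_centralizer_singleton_iff, ← QuotientGroup.eq_one_iff]
  simp only [QuotientGroup.mk'_apply, QuotientGroup.mk_mul, QuotientGroup.mk_inv]
  constructor
  · intro h1
    rw [mul_assoc (z : G ⧸ N)⁻¹, h1]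
    group
  · intro h1
    have h2 : (t : G ⧸ N) * z = z * t := by
      calc (t : G ⧸ N) * z = z * ((z : G ⧸ N)⁻¹ * t * z * (t : G ⧸ N)⁻¹) * t := by group
        _ = z * t := by rw [h1, mul_one]
    exact h2

/-- `|N| |C_G(z)| = |H|` where `H` is the preimage of `C_{G/N}(z N)`. -/
theorem card_comap_centralizer {z : G} (hz : z ∉ h.sub) :
    Nat.card ((Subgroup.centralizer ({(z : G ⧸ h.sub)} : Set (G ⧸ h.sub))).comap (QuotientGroup.mk' h.sub)) =
      Nat.card h.sub * Nat.card (Subgroup.centralizer ({z} : Set G)) := by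
  classical
  set H := (Subgroup.centralizer ({(z : G ⧸ h.sub)} : Set (G ⧸ h.sub))).comap (QuotientGroup.mk' h.sub) with hH
  choose c hc using (fun n : h.sub => isConj_iff.mp (h.isConj_mul hz n.2))
  have hcH : ∀ n, c n ∈ H := by
    intro n
    rw [hH, h.mem_comap_centralizer_iff]
    have h1 : z⁻¹ * c n * z * (c n)⁻¹ = n := by
      calc z⁻¹ * c n * z * (c n)⁻¹ = z⁻¹ * (c n * z * (c n)⁻¹) := by group
        _ = n := by rw [hc n]; group
    rw [h1]
    exact n.2
  have hcen : ∀ y : Subgroup.centralizer ({z} : Set G), (y : G) * z * (y : G)⁻¹ = z := by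
    intro y
    have h1 : (y : G) * z = z * y := Subgroup.mem_centralizer_singleton_iff.mp y.2
    rw [h1]
    group
  have hcenH : ∀ y : Subgroup.centralizer ({z} : Set G), (y : G) ∈ H := by
    intro y
    rw [hH, h.mem_comap_centralizer_iff]
    have h1 : z⁻¹ * y * z * (y : G)⁻¹ = 1 := by
      calc z⁻¹ * y * z * (y : G)⁻¹ = z⁻¹ * ((y : G) * z * (y : G)⁻¹) := by group
        _ = 1 := by rw [hcen y]; group
    rw [h1]
    exact h.sub.one_mem
  rw [← Nat.card_prod]
  symm
  apply Nat.card_eq_of_bijective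
    (fun q : h.sub × Subgroup.centralizer ({z} : Set G) =>
      (⟨c q.1 * q.2, H.mul_mem (hcH _) (hcenH _)⟩ : H))
  constructor
  · rintro ⟨n, y⟩ ⟨n', y'⟩ heq
    have heq' : c n * y = c n' * y' := congrArg Subtype.val heq
    have h1 : z * n = z * n' := by
      rw [← hc n, ← hc n']
      calc c n * z * (c n)⁻¹ = c n * ((y : G) * z * (y : G)⁻¹) * (c n)⁻¹ := by rw [hcen y]
        _ = (c n * y) * z * (c n * y)⁻¹ := by group
        _ = (c n' * y') * z * (c n' * y')⁻¹ := by rw [heq']
        _ = c n' * ((y' : G) * z * (y' : G)⁻¹) * (c n')⁻¹ := by group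
        _ = c n' * z * (c n')⁻¹ := by rw [hcen y']
    have h2 : n = n' := Subtype.ext (mul_left_cancel h1)
    subst h2
    have h3 : y = y' := Subtype.ext (mul_left_cancel heq')
    rw [h3]
  · rintro ⟨t, ht⟩
    have ht' : z⁻¹ * t * z * t⁻¹ ∈ h.sub := (h.mem_comap_centralizer_iff).mp ht
    let n : h.sub := ⟨z⁻¹ * t * z * t⁻¹, ht'⟩
    have h1 : c n * z * (c n)⁻¹ = t * z * t⁻¹ := by
      rw [hc n]
      show z * (z⁻¹ * t * z * t⁻¹) = _
      group
    have h2 : (c n)⁻¹ * t ∈ Subgroup.centralizer ({z} : Set G) := by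
      rw [Subgroup.mem_centralizer_singleton_iff]
      have h3 : t * z * t⁻¹ = c n * z * (c n)⁻¹ := h1.symm
      calc (c n)⁻¹ * t * z = (c n)⁻¹ * (t * z * t⁻¹) * t := by group
        _ = (c n)⁻¹ * (c n * z * (c n)⁻¹) * t := by rw [h3]
        _ = z * ((c n)⁻¹ * t) := by group
    refine ⟨(n, ⟨(c n)⁻¹ * t, h2⟩), Subtype.ext ?_⟩
    show c n * ((c n)⁻¹ * t) = t
    group

/-- `|H| = |N| |C_{G/N}(z N)|`. -/
theorem card_comap_centralizer' {N : Subgroup G} [N.Normal] (z : G) :
    Nat.card ((Subgroup.centralizer ({(z : G ⧸ N)} : Set (G ⧸ N))).comap (QuotientGroup.mk' N)) =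
      Nat.card N * Nat.card (Subgroup.centralizer ({(z : G ⧸ N)} : Set (G ⧸ N))) := by
  set C := Subgroup.centralizer ({(z : G ⧸ N)} : Set (G ⧸ N)) with hC
  have h1 : (C.comap (QuotientGroup.mk' N)).index = C.index :=
    Subgroup.index_comap_of_surjective _ (QuotientGroup.mk'_surjective N)
  have h2 := (C.comap (QuotientGroup.mk' N)).card_mul_index
  have h3 := C.card_mul_index
  have h4 := Subgroup.card_eq_card_quotient_mul_card_subgroup N
  have hi : 0 < C.index := Nat.pos_of_ne_zero Subgroup.index_ne_zero_of_finite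
  apply Nat.eq_of_mul_eq_mul_right hi
  rw [← h1] at h3 ⊢
  rw [h2, mul_assoc, h3, h4, mul_comm]

/-- Part (a) of Gagola's theorem. -/
theorem card_centralizer_quotient {z : G} (hz : z ∉ h.sub) :
    Nat.card (Subgroup.centralizer ({z} : Set G)) =
      Nat.card (Subgroup.centralizer ({(z : G ⧸ h.sub)} : Set (G ⧸ h.sub))) := by
  have h1 := h.card_comap_centralizer hz
  rw [card_comap_centralizer'] at h1
  exact (Nat.eq_of_mul_eq_mul_left Nat.card_pos h1).symm

end Quot

end IsGagola

end Cfsg.Agent.Lib.Char
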