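import Cfsg.Agent.Lib.Char.Gagola
import Cfsg.Agent.Lib.OddLocal.CNNil
import Cfsg.Agent.Lib.Basic.Solv1
import Cfsg.Agent.Lib.Basic.Misc2

/-!
# Solvable groups with a Gagola character: the structure of `G / O_p(G)`
-/

set_option autoImplicit false
set_option linter.unusedSectionVars false
set_option linter.style.haveILetI false

namespace Cfsg.Agent.Lib.Char.GS

open Cfsg Subgroup

universe u v

section Complement

variable {X : Type u} [Group X] [Finite X]

/-- A normal subgroup without `p`-elements and with commutative quotient gives a normal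
`p`-complement and commutative Sylow `p`-subgroups. -/
theorem complement_of_comm_quot {p : ℕ} [hp : Fact p.Prime] (K : Subgroup X) [hK : K.Normal]
    (hc : ∀ a b : X, a * b * a⁻¹ * b⁻¹ ∈ K)
    (hpe : ∀ g ∈ K, ∀ k : ℕ, g ^ p ^ k = 1 → g = 1) :
    HasNormalPComplement p X ∧ ∀ Q : Sylow p X, IsMulCommutative (Q : Subgroup X) := by
  classical
  constructor
  · -- the quotient
    let A := X ⧸ K
    have hA : ∀ a b : A, a * b = b * a := by
      intro a b
      obtain ⟨a, rfl⟩ := QuotientGroup.mk'_surjective K a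
      obtain ⟨b, rfl⟩ := QuotientGroup.mk'_surjective K b
      have h1 := hc a b
      have h2 : (QuotientGroup.mk' K) (a * b * a⁻¹ * b⁻¹) = 1 := by
        rw [← MonoidHom.mem_ker, QuotientGroup.ker_mk']
        exact h1
      simp only [map_mul, map_inv] at h2
      have h3 : (QuotientGroup.mk' K) a * (QuotientGroup.mk' K) b *
          ((QuotientGroup.mk' K) a)⁻¹ = (QuotientGroup.mk' K) b := by
        rwa [mul_inv_eq_one] at h2
      calc (QuotientGroup.mk' K) a * (QuotientGroup.mk' K) b
          = (QuotientGroup.mk' K) a * (QuotientGroup.mk' K) b * ((QuotientGroup.mk' K) a)⁻¹ *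
            (QuotientGroup.mk' K) a := by group
        _ = _ := by rw [h3]
    obtain ⟨S⟩ : Nonempty (Sylow p A) := inferInstance
    haveI hSn : (S : Subgroup A).Normal := by
      constructor
      intro n hn g
      rw [hA g n]
      simpa using hn
    have hcop : (Nat.card (S : Subgroup A)).Coprime (S : Subgroup A).index := S.card_coprime_index
    obtain ⟨T, hT⟩ := Subgroup.exists_right_complement'_of_coprime hcop
    have hcard : Nat.card (S : Subgroup A) * Nat.card T = Nat.card A := hT.card_mul_card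
    -- `T` has order prime to `p`
    have hSp : IsPGroup p (S : Subgroup A) := S.isPGroup'
    obtain ⟨a, ha⟩ := hSp.exists_card_eq
    have hTcop : (Nat.card T).Coprime p := by
      have h1 : Nat.card T = (S : Subgroup A).index := by
        have h2 := (S : Subgroup A).card_mul_index
        have h3 : 0 < Nat.card (S : Subgroup A) := Nat.card_pos
        rw [← hcard] at h2
        exact Nat.eq_of_mul_eq_mul_left h3 h2.symm ▸ rfl
      rw [h1]
      exact (Nat.Prime.coprime_iff_not_dvd hp.out).mpr S.not_dvd_index |>.symm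
    let K' : Subgroup X := T.comap (QuotientGroup.mk' K)
    haveI hK'n : K'.Normal := by
      haveI hTn : T.Normal := by
        constructor
        intro n hn g
        rw [hA g n]
        simpa using hn
      exact hTn.comap _
    have hK'idx : K'.index = p ^ a := by
      have h1 : K'.index = T.index := Subgroup.index_comap_of_surjective _ (QuotientGroup.mk'_surjective K)
      rw [h1]
      have h2 := T.card_mul_index
      have h3 : 0 < Nat.card T := Nat.card_pos
      rw [← hcard, mul_comm (Nat.card (S : Subgroup A))] at h2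
      have h4 := Nat.eq_of_mul_eq_mul_left h3 h2
      rw [h4, ha]
    have hK'cop : (Nat.card K').Coprime p := by
      rw [Nat.coprime_comm, Nat.Prime.coprime_iff_not_dvd hp.out]
      intro hd
      obtain ⟨g, hg⟩ := exists_prime_orderOf_dvd_card' (G := K') p hd
      have hg1 : (g : X) ^ p = 1 := by
        have := pow_orderOf_eq_one g
        rw [hg] at this
        exact congrArg Subtype.val this
      have hgT : (QuotientGroup.mk' K) (g : X) ∈ T := g.2
      have hgT1 : (QuotientGroup.mk' K) (g : X) = 1 := by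
        have h2 : orderOf (⟨_, hgT⟩ : T) ∣ p := by
          apply orderOf_dvd_of_pow_eq_one
          apply Subtype.ext
          show ((QuotientGroup.mk' K) (g : X)) ^ p = 1
          rw [← map_pow, hg1, map_one]
        have h3 : orderOf (⟨_, hgT⟩ : T) ∣ Nat.card T := orderOf_dvd_natCard _
        have h4 := Nat.dvd_gcd h2 h3
        rw [Nat.gcd_comm, Nat.Coprime.gcd_eq_one hTcop] at h4
        have h5 : orderOf (⟨_, hgT⟩ : T) = 1 := Nat.dvd_one.mp h4
        exact congrArg Subtype.val (orderOf_eq_one_iff.mp h5)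
      have hgK : (g : X) ∈ K := by
        rw [← QuotientGroup.ker_mk' K, MonoidHom.mem_ker]
        exact hgT1
      have hg2 : (g : X) = 1 := hpe _ hgK 1 (by rw [pow_one]; exact hg1)
      have hg3 : g = 1 := Subtype.ext hg2
      rw [hg3, orderOf_one] at hg
      exact hp.out.one_lt.ne hg
    obtain ⟨P⟩ : Nonempty (Sylow p X) := inferInstance
    refine ⟨P, K', hK'n, ?_⟩
    have hXcard : Nat.card K' * p ^ a = Nat.card X := by
      rw [← hK'idx]
      exact K'.card_mul_index
    have hPcard : Nat.card (P : Subgroup X) = p ^ a := by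
      rw [P.card_eq_multiplicity]
      congr 1
      rw [← hXcard, Nat.factorization_mul (Nat.card_pos.ne') (pow_pos hp.out.pos a).ne',
        Finsupp.add_apply, hp.out.factorization_pow, Finsupp.single_eq_same,
        Nat.factorization_eq_zero_of_not_dvd, zero_add]
      exact fun h => (Nat.Prime.coprime_iff_not_dvd hp.out).mp hK'cop.symm h
    apply Subgroup.isComplement'_of_coprime
    · rw [hPcard]
      exact hXcard
    · rw [hPcard]
      exact Nat.Coprime.pow_right _ hK'cop
  · intro Q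
    refine ⟨⟨fun x y => ?_⟩⟩
    apply Subtype.ext
    obtain ⟨x, hx⟩ := x
    obtain ⟨y, hy⟩ := y
    show x * y = y * x
    have h1 := hc x y
    have h2 : x * y * x⁻¹ * y⁻¹ ∈ (Q : Subgroup X) :=
      (Q : Subgroup X).mul_mem ((Q : Subgroup X).mul_mem ((Q : Subgroup X).mul_mem hx hy) ((Q : Subgroup X).inv_mem hx))
        ((Q : Subgroup X).inv_mem hy)
    obtain ⟨k, hk⟩ := Q.isPGroup' ⟨_, h2⟩
    have h3 := hpe _ h1 k (congrArg Subtype.val hk)
    rw [mul_inv_eq_one, mul_inv_eq_iff_eq_mul] at h3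
    exact h3

/-- A cyclic normal subgroup whose centralizer has no `p`-elements. -/
theorem complement_of_cyclic {p : ℕ} [hp : Fact p.Prime] (A : Subgroup X) (hA : A.Normal) (hcyc : IsCyclic A)
    (hpe : ∀ g : X, (∀ a ∈ A, a * g = g * a) → ∀ k : ℕ, g ^ p ^ k = 1 → g = 1) :
    HasNormalPComplement p X ∧ ∀ Q : Sylow p X, IsMulCommutative (Q : Subgroup X) := by
  haveI := hA
  obtain ⟨⟨n₀, hn₀⟩, hgen⟩ := hcyc.exists_generator
  have hgen' : ∀ x ∈ A, ∃ j : ℤ, x = n₀ ^ j := by
    intro x hx
    obtain ⟨j, hj⟩ := Subgroup.mem_zpowers_iff.mp (hgen ⟨x, hx⟩)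
    exact ⟨j, (congrArg Subtype.val hj).symm⟩
  apply complement_of_comm_quot (p := p) (Subgroup.centralizer (A : Set X))
  · intro a b
    rw [Subgroup.mem_centralizer_iff]
    intro x hx
    have := Cfsg.Agent.Lib.Basic.commutator_commute_of_cyclic_normal hA hn₀ hgen' a b hx
    exact this.symm.eq
  · intro g hg k hk
    rw [Subgroup.mem_centralizer_iff] at hg
    exact hpe g (fun a ha => hg a ha) k hk

end Complement

section Quat

open QuaternionGroup

/-- Odd automorphisms of the generalised quaternion groups, small case. -/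
theorem quat_fix_of_card {Q : Type*} [Group Q] [Fintype Q] [DecidableEq Q] (φ : MulAut Q) {r k : ℕ}
    [hr : Fact r.Prime] (hφ : φ ^ r ^ k = 1) (z : Q) (hz1 : z ≠ 1) (hzφ : φ z = z)
    (hcard : ∀ d, d ∣ Fintype.card Q → 2 ≤ d → r ∣ Fintype.card Q - d → d = Fintype.card Q) : φ = 1 := by
  let f : Function.End Q := (φ : Q → Q)
  have hf : ∀ m : ℕ, (f ^ m : Function.End Q) = ((φ ^ m : MulAut Q) : Q → Q) := by
    intro m
    induction m with
    | zero => rfl
    | succ m ih =>
      rw [pow_succ, pow_succ, Function.End.mul_def, ih]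
      funext g
      rfl
  have hfp : f ^ r ^ k = 1 := by
    rw [hf, hφ]
    rfl
  have hmod := Equiv.Perm.card_fixedPoints_modEq (f := f) (p := r) (n := k) hfp
  let Fx : Subgroup Q :=
    { carrier := {g | φ g = g}
      mul_mem' := fun {a b} ha hb => by
        show φ (a * b) = a * b
        rw [map_mul, show φ a = a from ha, show φ b = b from hb]
      one_mem' := by
        show φ 1 = 1
        rw [map_one]
      inv_mem' := fun {a} ha => by
        show φ a⁻¹ = a⁻¹
        rw [map_inv, show φ a = a from ha] }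
  have hFxcard : Fintype.card (Function.fixedPoints f) = Nat.card Fx := by
    rw [← Nat.card_eq_fintype_card]
    rfl
  rw [hFxcard] at hmod
  have hd : Nat.card Fx ∣ Fintype.card Q := by
    rw [← Nat.card_eq_fintype_card]
    exact Subgroup.card_subgroup_dvd_card Fx
  have h2 : 2 ≤ Nat.card Fx := by
    haveI : Nontrivial Fx := ⟨⟨⟨z, hzφ⟩, 1, fun h => hz1 (congrArg Subtype.val h)⟩⟩
    exact Finite.one_lt_card
  have hle : Nat.card Fx ≤ Fintype.card Q := by
    rw [← Nat.card_eq_fintype_card]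
    exact Subgroup.card_le_card_group Fx
  have hdvd : r ∣ Fintype.card Q - Nat.card Fx := (Nat.modEq_iff_dvd' hle).mp hmod.symm
  have hall := hcard _ hd h2 hdvd
  ext g
  have hg : g ∈ Fx := by
    have h3 : Fx = ⊤ := by
      rw [← Subgroup.card_eq_iff_eq_top, hall, Nat.card_eq_fintype_card]
    rw [h3]
    trivial
  exact hg

theorem quat_one_trivial (φ : MulAut (QuaternionGroup 1)) {r k : ℕ} [hr : Fact r.Prime] (hodd : r ≠ 2)
    (hφ : φ ^ r ^ k = 1) : φ = 1 := by
  classical
  have hz : ∀ g : QuaternionGroup 1, g * g = 1 → g = 1 ∨ g = a 1 := by decide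
  have hz1 : (a 1 : QuaternionGroup 1) ≠ 1 := by decide
  have hzz : (a 1 : QuaternionGroup 1) * a 1 = 1 := by decide
  have hzφ : φ (a 1) = a 1 := by
    rcases hz (φ (a 1)) (by rw [← map_mul, hzz, map_one]) with h | h
    · exfalso
      apply hz1
      apply φ.injective
      rw [h, map_one]
    · exact h
  refine quat_fix_of_card φ hφ (a 1) hz1 hzφ ?_
  intro d hd h2 hr'
  have hc : Fintype.card (QuaternionGroup 1) = 4 := by
    rw [QuaternionGroup.card]
  rw [hc] at hd hr' ⊢
  have hd' : d ≤ 4 := Nat.le_of_dvd (by norm_num) hd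
  interval_cases d
  · exfalso
    have : r ∣ 2 := by simpa using hr'
    exact hodd ((Nat.prime_dvd_prime_iff_eq hr.out Nat.prime_two).mp this)
  · exfalso
    revert hd
    decide
  · rfl

theorem quat_two_trivial (φ : MulAut (QuaternionGroup 2)) {r k : ℕ} [hr : Fact r.Prime] (hodd : r ≠ 2)
    (h3 : r ≠ 3) (hφ : φ ^ r ^ k = 1) : φ = 1 := by
  classical
  have hz : ∀ g : QuaternionGroup 2, g * g = 1 → g = 1 ∨ g = a 2 := by decide
  have hz1 : (a 2 : QuaternionGroup 2) ≠ 1 := by decide
  have hzz : (a 2 : QuaternionGroup 2) * a 2 = 1 := by decide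
  have hzφ : φ (a 2) = a 2 := by
    rcases hz (φ (a 2)) (by rw [← map_mul, hzz, map_one]) with h | h
    · exfalso
      apply hz1
      apply φ.injective
      rw [h, map_one]
    · exact h
  refine quat_fix_of_card φ hφ (a 2) hz1 hzφ ?_
  intro d hd h2 hr'
  have hc : Fintype.card (QuaternionGroup 2) = 8 := by
    rw [QuaternionGroup.card]
  rw [hc] at hd hr' ⊢
  have hd' : d ≤ 8 := Nat.le_of_dvd (by norm_num) hd
  have hr6 : ¬ r ∣ 6 := by
    intro h
    have h6 : (6 : ℕ) = 2 * 3 := by norm_num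
    rw [h6] at h
    rcases (Nat.Prime.dvd_mul hr.out).mp h with h | h
    · exact hodd ((Nat.prime_dvd_prime_iff_eq hr.out Nat.prime_two).mp h)
    · exact h3 ((Nat.prime_dvd_prime_iff_eq hr.out Nat.prime_three).mp h)
  have hr4 : ¬ r ∣ 4 := by
    intro h
    have h6 : (4 : ℕ) = 2 * 2 := by norm_num
    rw [h6] at h
    rcases (Nat.Prime.dvd_mul hr.out).mp h with h | h <;>
    exact hodd ((Nat.prime_dvd_prime_iff_eq hr.out Nat.prime_two).mp h)
  interval_cases d
  · exact absurd (by simpa using hr') hr6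
  · exfalso
    revert hd
    decide
  · exact absurd (by simpa using hr') hr4
  · exfalso
    revert hd
    decide
  · exfalso
    revert hd
    decide
  · exfalso
    revert hd
    decide
  · rfl

theorem quat_large_trivial (n : ℕ) (φ : MulAut (QuaternionGroup (2 ^ (n + 2)))) {r k : ℕ} [hr : Fact r.Prime]
    (hodd : r ≠ 2) (hφ : φ ^ r ^ k = 1) : φ = 1 := by
  classical
  obtain ⟨m, hm⟩ : ∃ m, m = 2 ^ (n + 2) := ⟨_, rfl⟩
  subst hm
  have hm0 : 2 ^ (n + 2) ≠ 0 := by positivity
  haveI : NeZero (2 ^ (n + 2)) := ⟨hm0⟩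
  haveI : NeZero (2 * 2 ^ (n + 2)) := ⟨by positivity⟩
  have hm4 : 4 ≤ 2 ^ (n + 2) := by
    rw [pow_add]
    have : 1 ≤ 2 ^ n := Nat.one_le_two_pow
    omega
  -- the image of `a 1`
  obtain ⟨j, hj⟩ : ∃ j, φ (a 1) = a j := by
    rcases hx : φ (a 1) with j | t
    · exact ⟨j, rfl⟩
    · exfalso
      have h1 : orderOf (φ (a 1)) = orderOf (a 1 : QuaternionGroup (2 ^ (n + 2))) :=
        MulEquiv.orderOf_eq φ _
      rw [hx, orderOf_xa, orderOf_a_one] at h1
      omega
  have hamul : ∀ (x : ZMod (2 * 2 ^ (n + 2))) (i : ℕ), (a x : QuaternionGroup (2 ^ (n + 2))) ^ i = a ((i : ZMod (2 * 2 ^ (n + 2))) * x) := by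
    intro x i
    induction i with
    | zero => simp
    | succ i ih =>
      rw [pow_succ (a x) i, ih, a_mul_a]
      congr 1
      push_cast
      ring
  have hφa : ∀ x : ZMod (2 * 2 ^ (n + 2)), φ (a x) = a (x * j) := by
    intro x
    have h1 : (a x : QuaternionGroup (2 ^ (n + 2))) = a 1 ^ x.val := by
      rw [a_one_pow, ZMod.natCast_zmod_val]
    rw [h1, map_pow, hj, hamul, ZMod.natCast_zmod_val]
  have hiter : ∀ t : ℕ, (φ ^ t) (a 1) = a (j ^ t) := by
    intro t
    induction t with
    | zero => simp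
    | succ t ih =>
      rw [pow_succ' φ t, MulAut.mul_apply, ih, hφa, pow_succ' j t, mul_comm]
  have hj1 : j ^ r ^ k = 1 := by
    have h1 := hiter (r ^ k)
    rw [hφ] at h1
    have h2 : (a 1 : QuaternionGroup (2 ^ (n + 2))) = a (j ^ r ^ k) := h1
    exact (a.inj h2).symm
  have hjeq : j = 1 := by
    have hunit : IsUnit j := IsUnit.of_pow_eq_one hj1 (pow_pos hr.out.pos k).ne'
    obtain ⟨u, rfl⟩ := hunit
    have hu1 : u ^ r ^ k = 1 := by
      apply Units.ext
      simpa using hj1
    have hu2 : u ^ (Nat.totient (2 * 2 ^ (n + 2))) = 1 := ZMod.pow_totient u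
    have htot : Nat.totient (2 * 2 ^ (n + 2)) = 2 ^ (n + 2) := by
      rw [← pow_succ', Nat.totient_prime_pow_succ Nat.prime_two]
      simp
    rw [htot] at hu2
    have h3 := orderOf_dvd_of_pow_eq_one hu1
    have h4 := orderOf_dvd_of_pow_eq_one hu2
    have hcop : Nat.Coprime (r ^ k) (2 ^ (n + 2)) := by
      apply Nat.Coprime.pow
      exact (Nat.coprime_primes hr.out Nat.prime_two).mpr hodd
    have h5 := Nat.eq_one_of_dvd_coprimes hcop h3 h4
    rw [orderOf_eq_one_iff] at h5
    rw [h5]
    rfl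
  subst hjeq
  have hφa' : ∀ x : ZMod (2 * 2 ^ (n + 2)), φ (a x) = a x := by
    intro x
    rw [hφa, mul_one]
  obtain ⟨t, ht⟩ : ∃ t, φ (xa 0) = xa t := by
    rcases hx : φ (xa 0) with c | t
    · exfalso
      have h1 : φ (xa 0) = φ (a c) := by rw [hx, hφa']
      have h2 := φ.injective h1
      cases h2
    · exact ⟨t, rfl⟩
  have hφx : ∀ s : ZMod (2 * 2 ^ (n + 2)), φ (xa s) = xa (t + s) := by
    intro s
    have h1 : (xa s : QuaternionGroup (2 ^ (n + 2))) = xa 0 * a s := by
      rw [xa_mul_a, zero_add]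
    rw [h1, map_mul, ht, hφa', xa_mul_a]
  have hiter2 : ∀ u : ℕ, (φ ^ u) (xa 0) = xa ((u : ZMod (2 * 2 ^ (n + 2))) * t) := by
    intro u
    induction u with
    | zero => simp
    | succ u ih =>
      rw [pow_succ' φ u, MulAut.mul_apply, ih, hφx]
      congr 1
      push_cast
      ring
  have ht0 : t = 0 := by
    have h1 := hiter2 (r ^ k)
    rw [hφ] at h1
    have h2 : (xa 0 : QuaternionGroup (2 ^ (n + 2))) = xa (((r ^ k : ℕ) : ZMod (2 * 2 ^ (n + 2))) * t) := h1
    have h3 := (xa.inj h2).symm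
    have hcop : Nat.Coprime (r ^ k) (2 * 2 ^ (n + 2)) := by
      rw [← pow_succ']
      apply Nat.Coprime.pow
      exact (Nat.coprime_primes hr.out Nat.prime_two).mpr hodd
    have hu := ZMod.unitOfCoprime (r ^ k) hcop
    have hu' : IsUnit (((r ^ k : ℕ) : ZMod (2 * 2 ^ (n + 2)))) := (ZMod.unitOfCoprime (r ^ k) hcop).isUnit
    exact (hu'.mul_right_eq_zero).mp h3
  subst ht0
  ext g
  rcases g with x | s
  · exact hφa' x
  · show φ (xa s) = xa s
    rw [hφx, zero_add]

/-- Odd automorphisms of generalised quaternion groups are trivial, outside `Q₈` and `r = 3`. -/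
theorem quat_aut_trivial {n : ℕ} (φ : MulAut (QuaternionGroup (2 ^ n))) {r k : ℕ} [hr : Fact r.Prime]
    (hodd : r ≠ 2) (hn : r ≠ 3 ∨ n ≠ 1) (hφ : φ ^ r ^ k = 1) : φ = 1 := by
  rcases n with _ | _ | n
  · exact quat_one_trivial φ hodd hφ
  · rcases hn with h | h
    · exact quat_two_trivial φ hodd h hφ
    · exact absurd rfl h
  · exact quat_large_trivial n φ hodd hφ

/-- An `r`-element normalizing a generalised quaternion subgroup centralizes it. -/
theorem commute_of_quat {X : Type*} [Group X] {T : Subgroup X} [hT : T.Normal] {n : ℕ}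
    (e : ↥T ≃* QuaternionGroup (2 ^ n)) {r k : ℕ} [hr : Fact r.Prime]
    (hodd : r ≠ 2) (hn : r ≠ 3 ∨ n ≠ 1) {x : X} (hx : x ^ r ^ k = 1) :
    ∀ t ∈ T, t * x = x * t := by
  let ψ := MulAut.congr e (MulAut.conjNormal x)
  have h1 : ψ ^ r ^ k = 1 := by
    show (MulAut.congr e (MulAut.conjNormal x)) ^ r ^ k = 1
    rw [← map_pow, ← map_pow, hx, map_one, map_one]
  have h2 := quat_aut_trivial ψ hodd hn h1
  have h3 : MulAut.conjNormal x = (1 : MulAut T) := by
    have := (MulAut.congr e).injective (h2.trans (map_one (MulAut.congr e)).symm)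
    exact this
  intro t ht
  have h4 := congrArg (fun f : MulAut T => ((f ⟨t, ht⟩ : T) : X)) h3
  simp only [MulAut.conjNormal_apply, MulAut.one_apply] at h4
  rw [mul_inv_eq_iff_eq_mul] at h4
  exact h4.symm

end Quat

section Orbits

/-- Orbit counting when all stabilizers are `p`-groups. -/
theorem dvd_card_of_stabilizers {A Ω : Type*} [Group A] [Finite A] [MulAction A Ω] [Finite Ω] {p r a : ℕ}
    (hA : Nat.card A = p ^ a * r) (hrp : Nat.Coprime r p)
    (hst : ∀ x : Ω, ∃ c, Nat.card (MulAction.stabilizer A x) = p ^ c) : r ∣ Nat.card Ω := by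
  classical
  haveI := Fintype.ofFinite Ω
  rw [Nat.card_congr (MulAction.selfEquivSigmaOrbits A Ω), Nat.card_sigma]
  apply Finset.dvd_sum
  intro ω _
  set x : Ω := Quotient.out ω with hx
  obtain ⟨c, hc⟩ := hst x
  have h1 : Nat.card (MulAction.orbit A x) * Nat.card (MulAction.stabilizer A x) = Nat.card A := by
    rw [← (MulAction.stabilizer A x).card_mul_index, MulAction.index_stabilizer, mul_comm,
      Nat.card_coe_set_eq]
  rw [hA, hc] at h1
  have h2 : r ∣ Nat.card (MulAction.orbit A x) * p ^ c := by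
    rw [h1]
    exact dvd_mul_left _ _
  exact (Nat.Coprime.pow_right c hrp).dvd_of_dvd_mul_right h2

end Orbits

section Exceptional

open QuaternionGroup

variable {X : Type u} {V : Type v} [Group X] [Finite X] [CommGroup V] [Finite V]

/-- `3^κ + 1` a power of `2`. -/
theorem three_pow_add_one {κ d : ℕ} (hκ : 1 ≤ κ) (h : 3 ^ κ + 1 = 2 ^ d) : κ = 1 := by
  have h8 : ∀ n : ℕ, 3 ^ n % 8 = 1 ∨ 3 ^ n % 8 = 3 := by
    intro n
    induction n with
    | zero => simp
    | succ n ih =>
      rw [pow_succ]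
      omega
  have hd : d ≤ 2 := by
    by_contra hd
    push Not at hd
    obtain ⟨e, rfl⟩ : ∃ e, d = 3 + e := ⟨d - 3, by omega⟩
    have h2 : 2 ^ (3 + e) = 8 * 2 ^ e := by rw [pow_add]; norm_num
    rw [h2] at h
    have := h8 κ
    omega
  have h3 : 2 ^ d ≤ 2 ^ 2 := Nat.pow_le_pow_right (by norm_num) hd
  have h4 : 3 ^ κ ≤ 3 := by
    rw [← h] at h3
    omega
  by_contra hne
  have h5 : 2 ≤ κ := by omega
  have h6 : 3 ^ 2 ≤ 3 ^ κ := Nat.pow_le_pow_right (by norm_num) h5
  omega

/-- The exceptional case: a normal `Q₈` in characteristic `3` forces `#V = 9`. -/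
theorem exceptional_card (hV : ∀ v : V, v ^ 3 = 1) (hV1 : 1 < Nat.card V) (ρ : X →* MulAut V)
    (hfix : ∀ v : V, v ≠ 1 → ∀ g : X, ρ g v = v → ∃ k : ℕ, g ^ 3 ^ k = 1) {e' : ℕ}
    (hcard : Nat.card X = (Nat.card V - 1) * 3 ^ e') (Q : Subgroup X) [hQn : Q.Normal]
    (eq : ↥Q ≃* QuaternionGroup (2 ^ 1)) : Nat.card V = 9 := by
  classical
  haveI : Fact (Nat.Prime 3) := ⟨Nat.prime_three⟩
  let f : QuaternionGroup (2 ^ 1) →* X := Q.subtype.comp eq.symm.toMonoidHom
  let R : QuaternionGroup (2 ^ 1) →* MulAut V := ρ.comp f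
  have hRf : ∀ (q q' : QuaternionGroup (2 ^ 1)) (v : V), R q (R q' v) = R (q * q') v := by
    intro q q' v
    rw [map_mul, MulAut.mul_apply]
  have hd2 : ∀ (q : QuaternionGroup (2 ^ 1)), q ^ 8 = 1 := by decide
  -- elements of `Q₈` with a fixed point are trivial
  have hfpf : ∀ (q : QuaternionGroup (2 ^ 1)) (v : V), v ≠ 1 → R q v = v → q = 1 := by
    intro q v hv hqv
    obtain ⟨k, hk⟩ := hfix v hv (f q) hqv
    have h1 : f (q ^ 3 ^ k) = 1 := by rw [map_pow, hk]
    have h2 : q ^ 3 ^ k = 1 := by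
      have hinj : Function.Injective f := by
        intro u w huw
        exact eq.symm.injective (Subtype.ext huw)
      exact hinj (by rw [h1, map_one])
    have h3 : orderOf q ∣ 3 ^ k := orderOf_dvd_of_pow_eq_one h2
    have h4 : orderOf q ∣ 8 := orderOf_dvd_of_pow_eq_one (hd2 q)
    have h5 : Nat.Coprime (3 ^ k) 8 := Nat.Coprime.pow_left _ (by norm_num)
    exact orderOf_eq_one_iff.mp (Nat.eq_one_of_dvd_coprimes h5 h3 h4)
  -- notation
  obtain ⟨i, hi⟩ : ∃ i : QuaternionGroup (2 ^ 1), i = a 1 := ⟨_, rfl⟩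
  obtain ⟨j, hj⟩ : ∃ j : QuaternionGroup (2 ^ 1), j = xa 0 := ⟨_, rfl⟩
  obtain ⟨z, hz⟩ : ∃ z : QuaternionGroup (2 ^ 1), z = a 2 := ⟨_, rfl⟩
  have e0 : z ≠ 1 := by subst hz; decide
  have e00 : z * z = 1 := by subst hz; decide
  have e1 : i * i = z := by subst hi hz; decide
  have e2 : j * j = z := by subst hj hz; decide
  have e3 : j * i = z * (i * j) := by subst hi hj hz; decide
  have e4 : i * (i * j) = z * j := by subst hi hj hz; decide
  have e5 : j * (i * j) = i := by subst hi hj hz; decide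
  have e6 : (i * j) * i = j := by subst hi hj hz; decide
  have e7 : (i * j) * j = z * i := by subst hi hj hz; decide
  -- `z` acts as inversion
  have hzinv : ∀ v : V, R z v = v⁻¹ := by
    intro v
    have h1 : R z (v * R z v) = v * R z v := by
      rw [map_mul, hRf, e00, map_one, MulAut.one_apply, mul_comm]
    by_cases h2 : v * R z v = 1
    · exact eq_inv_of_mul_eq_one_right h2
    · exact absurd (hfpf z _ h2 h1) e0
  -- the involution `s`
  let s : V →* V :=
    { toFun := fun v => R i v * R j v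
      map_one' := by simp
      map_mul' := fun u v => by
        simp only [map_mul]
        rw [mul_mul_mul_comm] }
  have hs : ∀ v, s v = R i v * R j v := fun _ => rfl
  have hinv2 : ∀ v : V, v⁻¹ * v⁻¹ = v := by
    intro v
    have h := hV v
    have h1 : v * v * v = 1 := by rw [← h, pow_succ, pow_two]
    calc v⁻¹ * v⁻¹ = (v * v * v) * (v⁻¹ * v⁻¹) := by rw [h1, one_mul]
      _ = v := by
        simp [mul_assoc]
  have hss : ∀ v, s (s v) = v := by
    intro v
    rw [hs, hs, map_mul, map_mul, hRf, hRf, hRf, hRf, e1, e2, e3, hzinv, map_mul R z (i * j)]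
    rw [MulAut.mul_apply, hzinv]
    rw [mul_assoc, mul_inv_cancel_left, hinv2]
  obtain ⟨k, hk⟩ : ∃ k : QuaternionGroup (2 ^ 1), k = i * j := ⟨_, rfl⟩
  have hsk : ∀ v, s (R k v) = (R k (s v))⁻¹ := by
    intro v
    subst hk
    have hzmul : ∀ (q : QuaternionGroup (2 ^ 1)) (u : V), R (z * q) u = (R q u)⁻¹ := by
      intro q u
      rw [← hRf, hzinv]
    rw [hs, hs, hRf, hRf, map_mul (R (i * j)), hRf, hRf, e4, e5, e6, e7, hzmul, hzmul, mul_inv_rev, inv_inv,
      mul_comm]
  -- the fixed points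
  let Vp : Subgroup V := MonoidHom.eqLocus s (MonoidHom.id V)
  have hVp : ∀ v, v ∈ Vp ↔ s v = v := fun v => Iff.rfl
  have hcube1 : ∀ x : V, x * x = 1 → x = 1 := by
    intro x hx
    have h := hV x
    rw [pow_succ, pow_two, hx, one_mul] at h
    exact h
  let F2 : Vp × Vp → V := fun x => (x.1 : V) * R k (x.2 : V)
  have hF2inj : Function.Injective F2 := by
    rintro ⟨x, y⟩ ⟨x', y'⟩ h
    have h1 : (x : V) * R k (y : V) = (x' : V) * R k (y' : V) := h
    have hA : (x : V) * (x' : V)⁻¹ = R k ((y' : V) * (y : V)⁻¹) := by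
      rw [map_mul, map_inv]
      apply mul_right_cancel (b := (x' : V) * R k (y : V))
      rw [mul_assoc, inv_mul_cancel_left, h1, mul_comm (x' : V) (R k (y : V)), mul_assoc,
        inv_mul_cancel_left, mul_comm]
    have hA1 : s ((x : V) * (x' : V)⁻¹) = (x : V) * (x' : V)⁻¹ := by
      rw [map_mul, map_inv, (hVp _).mp x.2, (hVp _).mp x'.2]
    have hB1 : s ((y' : V) * (y : V)⁻¹) = (y' : V) * (y : V)⁻¹ := by
      rw [map_mul, map_inv, (hVp _).mp y.2, (hVp _).mp y'.2]
    have hA2 : s ((x : V) * (x' : V)⁻¹) = ((x : V) * (x' : V)⁻¹)⁻¹ := by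
      rw [hA, hsk, hB1]
    have hA3 : ((x : V) * (x' : V)⁻¹) * ((x : V) * (x' : V)⁻¹) = 1 := by
      have h5 : (x : V) * (x' : V)⁻¹ = ((x : V) * (x' : V)⁻¹)⁻¹ := hA1.symm.trans hA2
      nth_rw 1 [h5]
      exact inv_mul_cancel _
    have hA4 := hcube1 _ hA3
    have hxx : (x : V) = x' := by
      rwa [mul_inv_eq_one] at hA4
    have hyy : R k (y : V) = R k (y' : V) := by
      rw [hxx] at h1
      exact mul_left_cancel h1
    have hyy' : (y : V) = y' := (R k).injective hyy
    exact Prod.ext (Subtype.ext hxx) (Subtype.ext hyy')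
  have hF2surj : Function.Surjective F2 := by
    intro v
    have hu : (v * s v) ^ 2 ∈ Vp := by
      rw [hVp, map_pow, map_mul, hss, mul_comm (s v)]
    let w := (v * (s v)⁻¹) ^ 2
    have hsw : s w = w⁻¹ := by
      show s ((v * (s v)⁻¹) ^ 2) = ((v * (s v)⁻¹) ^ 2)⁻¹
      rw [map_pow, map_mul, map_inv, hss, ← inv_pow, mul_inv_rev, inv_inv]
    let b := (R k).symm w
    have hRb : R k b = w := by simp [b]
    have hb : b ∈ Vp := by
      rw [hVp]
      apply (R k).injective
      have h2 := hsk b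
      rw [hRb, hsw] at h2
      rw [hRb]
      exact (inv_injective h2).symm
    refine ⟨⟨⟨_, hu⟩, ⟨b, hb⟩⟩, ?_⟩
    show (v * s v) ^ 2 * R k b = v
    rw [hRb]
    show (v * s v) ^ 2 * (v * (s v)⁻¹) ^ 2 = v
    have h3 := hV v
    calc (v * s v) ^ 2 * (v * (s v)⁻¹) ^ 2 = (v * s v * (v * (s v)⁻¹)) ^ 2 := (mul_pow _ _ _).symm
      _ = (v * v) ^ 2 := by
        congr 1
        rw [mul_mul_mul_comm, mul_inv_cancel, mul_one]
      _ = v ^ 3 * v := by
        have h4 : (v * v) ^ 2 = v ^ 4 := by rw [← pow_two, ← pow_mul]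
        rw [h4, pow_succ]
      _ = v := by rw [h3, one_mul]
  have hcardV : Nat.card V = Nat.card Vp * Nat.card Vp := by
    rw [← Nat.card_prod]
    exact (Nat.card_congr (Equiv.ofBijective F2 ⟨hF2inj, hF2surj⟩)).symm
  -- `m`
  obtain ⟨m, hm⟩ : ∃ m, m = Nat.card Vp := ⟨_, rfl⟩
  rw [← hm] at hcardV
  have hVp3 : IsPGroup 3 Vp := by
    intro x
    refine ⟨1, ?_⟩
    apply Subtype.ext
    simpa using hV x
  obtain ⟨κ, hκ⟩ := hVp3.exists_card_eq
  rw [← hm] at hκ
  have hm1 : 1 < m := by
    by_contra h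
    have h1 : m ≤ 1 := by omega
    have h2 : m * m ≤ 1 * 1 := Nat.mul_le_mul h1 h1
    omega
  have hκ1 : 1 ≤ κ := by
    by_contra h
    have : κ = 0 := by omega
    rw [this, pow_zero] at hκ
    omega
  -- the centralizer
  let C0 : Subgroup X := Subgroup.centralizer (Q : Set X)
  have hC0n : C0.Normal := Subgroup.normal_centralizer
  haveI := hC0n
  have hC0comm : ∀ g ∈ C0, ∀ (q : QuaternionGroup (2 ^ 1)) (v : V), ρ g (R q v) = R q (ρ g v) := by
    intro g hg q v
    have h1 : f q * g = g * f q := by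
      have := Subgroup.mem_centralizer_iff.mp hg (f q) (by
        show ((eq.symm q : Q) : X) ∈ Q
        exact (eq.symm q).2)
      exact this.symm ▸ rfl
    have h2 : ρ (g * f q) v = ρ (f q * g) v := by rw [h1]
    rw [map_mul, map_mul, MulAut.mul_apply, MulAut.mul_apply] at h2
    exact h2
  have hC0s : ∀ g ∈ C0, ∀ v, v ∈ Vp → ρ g v ∈ Vp := by
    intro g hg v hv
    rw [hVp, hs, ← hC0comm g hg, ← hC0comm g hg, ← map_mul, ← hs, (hVp v).mp hv]
  -- the orbit count
  obtain ⟨a₀, r', hr'3, hC0card⟩ : ∃ a₀ r' : ℕ, Nat.Coprime r' 3 ∧ Nat.card C0 = 3 ^ a₀ * r' := by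
    obtain ⟨a₀, r', h1, h2⟩ := Nat.exists_eq_pow_mul_and_not_dvd (n := Nat.card C0) Nat.card_pos.ne' 3 (by norm_num)
    exact ⟨a₀, r', (Nat.Prime.coprime_iff_not_dvd Nat.prime_three).mpr h1 |>.symm, h2⟩
  have hr'dvd : r' ∣ m - 1 := by
    let Ω := {v : Vp // v ≠ 1}
    letI : MulAction C0 Ω :=
      { smul := fun g v => ⟨⟨ρ g ((v.1 : Vp) : V), hC0s g g.2 _ v.1.2⟩, fun h => v.2 (by
          apply Subtype.ext
          have h1 : ρ g ((v.1 : Vp) : V) = 1 := congrArg Subtype.val h
          have h2 : ρ g ((v.1 : Vp) : V) = ρ g 1 := by rw [h1, map_one]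
          exact (ρ g).injective h2)⟩
        one_smul := fun v => by
          apply Subtype.ext
          apply Subtype.ext
          show ρ ((1 : C0) : X) ((v.1 : Vp) : V) = _
          simp
        mul_smul := fun g g' v => by
          apply Subtype.ext
          apply Subtype.ext
          show ρ ((g * g' : C0) : X) ((v.1 : Vp) : V) = ρ g (ρ g' ((v.1 : Vp) : V))
          simp [MulAut.mul_apply] }
    have h1 : Nat.card Ω = m - 1 := by
      have h2 : Nat.card Ω + 1 = Nat.card Vp := by
        have h3 := Nat.card_congr (Equiv.sumCompl (fun v : Vp => v = 1))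
        rw [Nat.card_sum] at h3
        simp only [Nat.card_unique] at h3
        have h4 : Nat.card Ω = Nat.card {a : Vp // ¬ a = 1} := rfl
        omega
      omega
    rw [← h1]
    refine dvd_card_of_stabilizers hC0card hr'3 fun x => ?_
    have hP : IsPGroup 3 (MulAction.stabilizer C0 x) := by
      rintro ⟨g, hg⟩
      have h2 : g • x = x := hg
      have h3 : ρ (g : X) ((x.1 : Vp) : V) = ((x.1 : Vp) : V) :=
        congrArg (fun w : Ω => ((w.1 : Vp) : V)) h2
      have hx1 : ((x.1 : Vp) : V) ≠ 1 := fun h => x.2 (Subtype.ext h)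
      obtain ⟨k', hk'⟩ := hfix _ hx1 _ h3
      refine ⟨k', ?_⟩
      apply Subtype.ext
      apply Subtype.ext
      exact hk'
    exact hP.exists_card_eq
  -- the index
  have hidx : ∀ ℓ : ℕ, ℓ.Prime → ℓ ∣ C0.index → ℓ = 2 ∨ ℓ = 3 := by
    intro ℓ hℓ hd
    by_contra hne
    push Not at hne
    haveI : Fact ℓ.Prime := ⟨hℓ⟩
    obtain ⟨xb, hxb⟩ := exists_prime_orderOf_dvd_card' (G := X ⧸ C0) ℓ (by
      rw [← Subgroup.index_eq_card]
      exact hd)
    obtain ⟨x, rfl⟩ := QuotientGroup.mk'_surjective C0 xb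
    obtain ⟨u, w, hw, hxo⟩ := Nat.exists_eq_pow_mul_and_not_dvd (n := orderOf x) (orderOf_pos x).ne' ℓ hℓ.ne_one
    have hy : (x ^ w) ^ ℓ ^ u = 1 := by
      rw [← pow_mul, mul_comm, ← hxo, pow_orderOf_eq_one]
    have hcomm := commute_of_quat eq (r := ℓ) hne.1 (Or.inl hne.2) hy
    have hyC : x ^ w ∈ C0 := by
      rw [Subgroup.mem_centralizer_iff]
      intro t ht
      exact hcomm t ht
    have hb : (QuotientGroup.mk' C0 x) ^ w = 1 := by
      rw [← map_pow, ← MonoidHom.mem_ker, QuotientGroup.ker_mk']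
      exact hyC
    have := orderOf_dvd_of_pow_eq_one hb
    rw [hxb] at this
    exact hw this
  -- arithmetic
  obtain ⟨b₀, t, ht3, hidxeq⟩ : ∃ b₀ t : ℕ, ¬ 3 ∣ t ∧ C0.index = 3 ^ b₀ * t := by
    obtain ⟨b₀, t, h1, h2⟩ := Nat.exists_eq_pow_mul_and_not_dvd (n := C0.index) Subgroup.index_ne_zero_of_finite 3 (by norm_num)
    exact ⟨b₀, t, h1, h2⟩
  have ht2 : ∃ c, t = 2 ^ c := by
    have ht0 : t ≠ 0 := by
      rintro rfl
      exact ht3 (dvd_zero _)
    refine ⟨_, Nat.eq_prime_pow_of_unique_prime_dvd ht0 ?_⟩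
    intro ℓ h3 h4
    rcases hidx ℓ h3 (by rw [hidxeq]; exact Dvd.dvd.mul_left h4 _) with h5 | h5
    · exact h5
    · exact absurd (h5 ▸ h4) ht3
  obtain ⟨c, rfl⟩ := ht2
  have hX := C0.card_mul_index
  rw [hC0card, hidxeq, hcard, hcardV] at hX
  obtain ⟨w, hw⟩ := hr'dvd
  have hm2 : m * m - 1 = (m - 1) * (m + 1) := by
    obtain ⟨n, rfl⟩ : ∃ n, m = n + 1 := ⟨m - 1, by omega⟩
    simp only [Nat.add_sub_cancel]
    have : (n + 1) * (n + 1) = n * (n + 1 + 1) + 1 := by ring
    omega
  rw [hm2, hw] at hX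
  have hr'0 : 0 < r' := by
    rcases Nat.eq_zero_or_pos r' with rfl | h
    · exfalso
      rw [mul_zero] at hC0card
      exact Nat.card_pos.ne' hC0card
    · exact h
  have hX2 : (w * (m + 1) * 3 ^ e') = 3 ^ (a₀ + b₀) * 2 ^ c := by
    apply Nat.eq_of_mul_eq_mul_left hr'0
    calc r' * (w * (m + 1) * 3 ^ e') = r' * w * (m + 1) * 3 ^ e' := by ring
      _ = 3 ^ a₀ * r' * (3 ^ b₀ * 2 ^ c) := hX.symm
      _ = _ := by ring
  have hd1 : (m + 1) ∣ 3 ^ (a₀ + b₀) * 2 ^ c := by
    rw [← hX2]
    exact Dvd.dvd.mul_right (Dvd.intro_left _ rfl) _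
  have hcop3 : Nat.Coprime (m + 1) (3 ^ (a₀ + b₀)) := by
    apply Nat.Coprime.pow_right
    rw [Nat.coprime_comm, Nat.Prime.coprime_iff_not_dvd Nat.prime_three]
    intro h
    have h1 : 3 ∣ m := by
      rw [hκ]
      exact dvd_pow_self 3 (by omega)
    have h2 := (Nat.dvd_add_right h1).mp h
    omega
  have hd2' : (m + 1) ∣ 2 ^ c := hcop3.dvd_of_dvd_mul_left hd1
  obtain ⟨d, -, hd⟩ := (Nat.dvd_prime_pow Nat.prime_two).mp hd2'
  have hκ2 : κ = 1 := three_pow_add_one hκ1 (by rw [← hκ]; exact hd)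
  rw [hκ2, pow_one] at hκ
  rw [hcardV, hκ]

end Exceptional

section Main

variable {X : Type u} {V : Type v} [Group X] [Finite X] [CommGroup V] [Finite V]

open Cfsg.Agent.Lib.Basic Cfsg.Agent.Lib.OddLocal

/-- `p`-elements of the Fitting subgroup are trivial when `O_p = 1`. -/
theorem eq_one_of_mem_fitting {p : ℕ} [hp : Fact p.Prime] (hO : pCore p X = ⊥) {g : X}
    (hg : g ∈ fittingSubgroup X) {k : ℕ} (hk : g ^ p ^ k = 1) : g = 1 := by
  have hF : Group.IsNilpotent (fittingSubgroup X) := fittingSubgroup_isNilpotent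
  have hFn : (fittingSubgroup X).Normal := fittingSubgroup_normal
  have h1 : g ∈ Oq p (fittingSubgroup X) := mem_Oq hF hg hk
  have hnorm : (Oq p (fittingSubgroup X)).Normal := by
    constructor
    intro x hx t
    have hxF : x ∈ fittingSubgroup X := Oq_le _ _ hx
    obtain ⟨m, hm⟩ := (Oq_isPGroup p (fittingSubgroup X)) ⟨x, hx⟩
    refine mem_Oq hF (hFn.conj_mem x hxF t) (k := m) ?_
    have hm' : x ^ p ^ m = 1 := congrArg Subtype.val hm
    rw [conj_pow, hm']
    simp
  have h2 : Oq p (fittingSubgroup X) ≤ pCore p X := le_pCore hnorm (Oq_isPGroup p _)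
  rw [hO] at h2
  exact h2 h1

/-- Elements of a join of two commuting subgroups. -/
theorem exists_mul_of_mem_sup {C Q : Subgroup X} (hcomm : ∀ a ∈ C, ∀ b ∈ Q, a * b = b * a) {g : X}
    (hg : g ∈ C ⊔ Q) : ∃ c ∈ C, ∃ q ∈ Q, g = c * q := by
  rw [Subgroup.sup_eq_closure] at hg
  induction hg using Subgroup.closure_induction with
  | mem x hx =>
    rcases hx with hx | hx
    · exact ⟨x, hx, 1, Q.one_mem, (mul_one x).symm⟩
    · exact ⟨1, C.one_mem, x, hx, (one_mul x).symm⟩
  | one => exact ⟨1, C.one_mem, 1, Q.one_mem, (mul_one 1).symm⟩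
  | mul x y _ _ hx hy =>
    obtain ⟨c, hc, q, hq, rfl⟩ := hx
    obtain ⟨c', hc', q', hq', rfl⟩ := hy
    refine ⟨c * c', C.mul_mem hc hc', q * q', Q.mul_mem hq hq', ?_⟩
    calc c * q * (c' * q') = c * (q * c') * q' := by group
      _ = c * (c' * q) * q' := by rw [hcomm c' hc' q hq]
      _ = c * c' * (q * q') := by group
  | inv x _ hx =>
    obtain ⟨c, hc, q, hq, rfl⟩ := hx
    refine ⟨c⁻¹, C.inv_mem hc, q⁻¹, Q.inv_mem hq, ?_⟩
    rw [mul_inv_rev]
    have := hcomm c⁻¹ (C.inv_mem hc) q⁻¹ (Q.inv_mem hq)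
    exact this.symm

/-- The structure of the Fitting subgroup: from the `fpf` action on `V`. -/
theorem fitting_structure {p : ℕ} [hp : Fact p.Prime] (hO : pCore p X = ⊥) (hV1 : 1 < Nat.card V)
    (ρ : X →* MulAut V) (hfix : ∀ v : V, v ≠ 1 → ∀ g : X, ρ g v = v → ∃ k : ℕ, g ^ p ^ k = 1) :
    IsCyclic (fittingSubgroup X) ∨ ∃ C Q : Subgroup X, C ⊔ Q = fittingSubgroup X ∧
      (∀ a ∈ C, ∀ b ∈ Q, a * b = b * a) ∧ IsCyclic C ∧ Odd (Nat.card C) ∧
        ∃ n : ℕ, Nonempty (↥Q ≃* QuaternionGroup (2 ^ n)) := by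
  classical
  let Γ := SemidirectProduct V X ρ
  haveI hΓ : Finite Γ := Finite.of_equiv _ (SemidirectProduct.equivProd (N := V) (G := X) (φ := ρ)).symm
  let inr' : X →* Γ := SemidirectProduct.inr
  let inl' : V →* Γ := SemidirectProduct.inl
  have hinr : Function.Injective inr' := SemidirectProduct.inr_injective
  have hinl : Function.Injective inl' := SemidirectProduct.inl_injective
  let K : Subgroup Γ := inl'.range
  haveI hKn : K.Normal := by
    have : K = (SemidirectProduct.rightHom : Γ →* X).ker := SemidirectProduct.range_inl_eq_ker_rightHom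
    rw [this]
    infer_instance
  have hK1 : K ≠ ⊥ := by
    intro h
    haveI : Nontrivial V := (Finite.one_lt_card_iff_nontrivial (α := V)).mp hV1
    obtain ⟨v, hv⟩ := exists_ne (1 : V)
    have h2 : inl' v ∈ K := ⟨v, rfl⟩
    rw [h] at h2
    have h3 : inl' v = 1 := h2
    exact hv (hinl (h3.trans (map_one inl').symm))
  let F := fittingSubgroup X
  let E : Subgroup Γ := F.map inr'
  have hFnil : Group.IsNilpotent F := fittingSubgroup_isNilpotent
  have hEnil : Group.IsNilpotent E := by
    haveI := hFnil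
    exact Group.nilpotent_of_surjective (F.equivMapOfInjective inr' hinr).toMonoidHom
      (F.equivMapOfInjective inr' hinr).surjective
  have hfpf : ∀ h ∈ E, h ≠ 1 → K ⊓ Subgroup.centralizer {h} = ⊥ := by
    rintro _ ⟨g, hg, rfl⟩ hg1
    rw [eq_bot_iff]
    rintro _ ⟨⟨v, rfl⟩, hc⟩
    by_contra hne
    have hv1 : v ≠ 1 := by
      rintro rfl
      exact hne (map_one inl' ▸ Subgroup.one_mem _)
    have hc : inl' v * inr' g = inr' g * inl' v := by
      have := Subgroup.mem_centralizer_iff.mp hc (inr' g) rfl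
      exact this.symm
    have h1 : inl' (ρ g v) = inr' g * inl' v * (inr' g)⁻¹ := by
      rw [← map_inv]
      exact SemidirectProduct.inl_aut g v
    have h2 : inr' g * inl' v * (inr' g)⁻¹ = inl' v := by
      rw [← hc, mul_inv_cancel_right]
    have h3 : ρ g v = v := hinl (h1.trans h2)
    obtain ⟨k, hk⟩ := hfix v hv1 g h3
    have h4 : g = 1 := eq_one_of_mem_fitting hO hg hk
    apply hg1
    rw [h4, map_one]
  rcases Cfsg.Agent.Lib.OddLocal.cyclic_or_product_of_fpf hK1 hEnil hfpf with h | ⟨C, Q, hCQ, hcomm, hCc, hCo, n, hQ⟩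
  · left
    exact isCyclic_of_surjective (F.equivMapOfInjective inr' hinr).symm.toMonoidHom
      (F.equivMapOfInjective inr' hinr).symm.surjective
  · right
    have hCE : C ≤ E := hCQ ▸ le_sup_left
    have hQE : Q ≤ E := hCQ ▸ le_sup_right
    have hCr : C ≤ inr'.range := hCE.trans (Subgroup.map_le_range _ _)
    have hQr : Q ≤ inr'.range := hQE.trans (Subgroup.map_le_range _ _)
    have hCm : (C.comap inr').map inr' = C := Subgroup.map_comap_eq_self hCr
    have hQm : (Q.comap inr').map inr' = Q := Subgroup.map_comap_eq_self hQr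
    let eC := (C.comap inr').equivMapOfInjective inr' hinr
    let eQ := (Q.comap inr').equivMapOfInjective inr' hinr
    refine ⟨C.comap inr', Q.comap inr', ?_, ?_, ?_, ?_, n, ?_⟩
    · apply Subgroup.map_injective hinr
      rw [Subgroup.map_sup, hCm, hQm, hCQ]
    · intro a ha b hb
      exact hinr (by rw [map_mul, map_mul]; exact hcomm _ ha _ hb)
    · rw [← hCm] at hCc
      exact isCyclic_of_surjective eC.symm.toMonoidHom eC.symm.surjective
    · have h1 : Nat.card (C.comap inr') = Nat.card C := by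
        conv_rhs => rw [← hCm]
        exact Nat.card_congr eC.toEquiv
      rw [h1]
      exact hCo
    · obtain ⟨e⟩ := hQ
      have eQ' : ↥(Q.comap inr') ≃* ↥Q := eQ.trans (MulEquiv.subgroupCongr hQm)
      exact ⟨eQ'.trans e⟩

/-- **The structure theorem** for a linear group with regular-like Hall subgroup. -/
theorem main_complement [Group.IsSolvable X] {p : ℕ} [hp : Fact p.Prime] (hO : pCore p X = ⊥)
    (hV : ∀ v : V, v ^ p = 1) (hV1 : 1 < Nat.card V) (ρ : X →* MulAut V)
    (hfix : ∀ v : V, v ≠ 1 → ∀ g : X, ρ g v = v → ∃ k : ℕ, g ^ p ^ k = 1) {e' : ℕ}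
    (hcard : Nat.card X = (Nat.card V - 1) * p ^ e') :
    HasNormalPComplement p X ∧ ∀ Q : Sylow p X, IsMulCommutative (Q : Subgroup X) := by
  classical
  have hFn : (fittingSubgroup X).Normal := fittingSubgroup_normal
  have hFc : Subgroup.centralizer (fittingSubgroup X : Set X) ≤ fittingSubgroup X :=
    centralizer_fittingSubgroup_le
  rcases fitting_structure hO hV1 ρ hfix with hcyc | ⟨C, Q, hCQ, hcomm, hCc, hCo, n, ⟨eq⟩⟩
  · refine complement_of_cyclic _ hFn hcyc ?_
    intro g hg k hk
    exact eq_one_of_mem_fitting hO (hFc (Subgroup.mem_centralizer_iff.mpr hg)) hk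
  · have hCF : C ≤ fittingSubgroup X := hCQ ▸ le_sup_left
    have hQF : Q ≤ fittingSubgroup X := hCQ ▸ le_sup_right
    -- orders
    have hQcard : Nat.card Q = 2 ^ (n + 2) := by
      rw [Nat.card_congr eq.toEquiv, Nat.card_eq_fintype_card]
      haveI : NeZero (2 ^ n) := ⟨by positivity⟩
      rw [QuaternionGroup.card]
      ring
    have hQ2 : ∀ q ∈ Q, q ^ 2 ^ (n + 2) = 1 := by
      intro q hq
      have := pow_card_eq_one' (x := (⟨q, hq⟩ : Q))
      rw [hQcard] at this
      exact congrArg Subtype.val this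
    have hCodd : ∀ c ∈ C, c ^ Nat.card C = 1 := by
      intro c hc
      have := pow_card_eq_one' (x := (⟨c, hc⟩ : C))
      exact congrArg Subtype.val this
    have hmemQ : ∀ g ∈ fittingSubgroup X, ∀ k : ℕ, g ^ 2 ^ k = 1 → g ∈ Q := by
      intro g hg k hk
      rw [← hCQ] at hg
      obtain ⟨c, hc, q, hq, rfl⟩ := exists_mul_of_mem_sup hcomm hg
      have hc1 : c ^ 2 ^ (k + (n + 2)) = 1 := by
        have h1 : Commute c q := hcomm c hc q hq
        have h2 : (c * q) ^ 2 ^ (k + (n + 2)) = 1 := by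
          rw [pow_add 2 k, pow_mul, hk, one_pow]
        rw [h1.mul_pow] at h2
        have h3 : q ^ 2 ^ (k + (n + 2)) = 1 := by
          rw [add_comm, pow_add, pow_mul, hQ2 q hq, one_pow]
        rwa [h3, mul_one] at h2
      have hc2 : c = 1 := by
        have h3 := orderOf_dvd_of_pow_eq_one hc1
        have h4 := orderOf_dvd_of_pow_eq_one (hCodd c hc)
        have h5 : Nat.Coprime (2 ^ (k + (n + 2))) (Nat.card C) := Nat.Coprime.pow_left _ (Nat.coprime_two_left.mpr hCo)
        exact orderOf_eq_one_iff.mp (Nat.eq_one_of_dvd_coprimes h5 h3 h4)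
      rw [hc2, one_mul]
      exact hq
    haveI hQn : Q.Normal := by
      constructor
      intro t ht g
      refine hmemQ _ (hFn.conj_mem t (hQF ht) g) (n + 2) ?_
      rw [conj_pow, hQ2 t ht]
      simp
    have hmemC : ∀ g ∈ fittingSubgroup X, g ^ Nat.card C = 1 → g ∈ C := by
      intro g hg hk
      rw [← hCQ] at hg
      obtain ⟨c, hc, q, hq, rfl⟩ := exists_mul_of_mem_sup hcomm hg
      have h1 : Commute c q := hcomm c hc q hq
      rw [h1.mul_pow, hCodd c hc, one_mul] at hk
      have hq2 : q = 1 := by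
        have h3 := orderOf_dvd_of_pow_eq_one hk
        have h4 := orderOf_dvd_of_pow_eq_one (hQ2 q hq)
        have h5 : Nat.Coprime (Nat.card C) (2 ^ (n + 2)) := Nat.Coprime.pow_right _ (Nat.coprime_two_right.mpr hCo)
        exact orderOf_eq_one_iff.mp (Nat.eq_one_of_dvd_coprimes h5 h3 h4)
      rw [hq2, mul_one]
      exact hc
    haveI hCn : C.Normal := by
      constructor
      intro t ht g
      refine hmemC _ (hFn.conj_mem t (hCF ht) g) ?_
      rw [conj_pow, hCodd t ht]
      simp
    -- `p` is odd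
    have hp2 : p ≠ 2 := by
      rintro rfl
      obtain ⟨q, hq⟩ : ∃ q : Q, q ≠ 1 := by
        haveI : Nontrivial Q := by
          apply (Finite.one_lt_card_iff_nontrivial).mp
          rw [hQcard]
          exact Nat.one_lt_two_pow (by omega)
        exact exists_ne 1
      apply hq
      apply Subtype.ext
      exact eq_one_of_mem_fitting hO (hQF q.2) (hQ2 q q.2)
    by_cases hex : p ≠ 3 ∨ n ≠ 1
    · -- `p`-elements centralize `Q`
      refine complement_of_cyclic C hCn hCc ?_
      intro g hg k hk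
      have h1 := commute_of_quat eq hp2 hex hk
      have h2 : g ∈ Subgroup.centralizer (fittingSubgroup X : Set X) := by
        rw [Subgroup.mem_centralizer_iff]
        intro x hx
        have hx' : x ∈ C ⊔ Q := by
          rw [hCQ]
          exact hx
        obtain ⟨c, hc, q, hq, rfl⟩ := exists_mul_of_mem_sup hcomm hx'
        rw [mul_assoc, h1 q hq, ← mul_assoc, hg c hc, mul_assoc]
      exact eq_one_of_mem_fitting hO (hFc h2) hk
    · -- the exceptional case
      push Not at hex
      obtain ⟨rfl, rfl⟩ := hex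
      have hcard9 : Nat.card V = 9 := exceptional_card hV hV1 ρ hfix hcard Q eq
      have hXcard : Nat.card X = 8 * 3 ^ e' := by
        rw [hcard, hcard9]
      have hQ8 : Nat.card Q = 8 := by
        rw [hQcard]
        norm_num
      have hPcard : ∀ P : Sylow 3 X, Nat.card (P : Subgroup X) = 3 ^ e' := by
        intro P
        rw [P.card_eq_multiplicity, hXcard, Nat.factorization_mul (by norm_num) (by positivity),
          Finsupp.add_apply, Nat.prime_three.factorization_pow, Finsupp.single_eq_same,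
          Nat.factorization_eq_zero_of_not_dvd (by norm_num), zero_add]
      have hQP : ∀ P : Sylow 3 X, ∀ x ∈ (P : Subgroup X), x ∈ Q → x = 1 := by
        intro P x hxP hxQ
        obtain ⟨k, hk⟩ := P.isPGroup' ⟨x, hxP⟩
        have h1 : x ^ 3 ^ k = 1 := congrArg Subtype.val hk
        have h2 := orderOf_dvd_of_pow_eq_one h1
        have h3 := orderOf_dvd_of_pow_eq_one (hQ2 x hxQ)
        have h5 : Nat.Coprime (3 ^ k) (2 ^ (1 + 2)) := Nat.Coprime.pow _ _ (by norm_num)
        exact orderOf_eq_one_iff.mp (Nat.eq_one_of_dvd_coprimes h5 h2 h3)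
      -- `F = Q`
      have hFQ : fittingSubgroup X = Q := by
        symm
        apply Subgroup.eq_of_le_of_card_ge hQF
        have h1 : Nat.card (fittingSubgroup X) ∣ 8 * 3 ^ e' := by
          rw [← hXcard]
          exact Subgroup.card_subgroup_dvd_card _
        have h2 : Nat.Coprime (Nat.card (fittingSubgroup X)) 3 := by
          rw [Nat.coprime_comm, Nat.Prime.coprime_iff_not_dvd Nat.prime_three]
          intro hd
          obtain ⟨g, hg⟩ := exists_prime_orderOf_dvd_card' (G := fittingSubgroup X) 3 hd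
          have h3 : (g : X) ^ 3 ^ 1 = 1 := by
            have := pow_orderOf_eq_one g
            rw [hg] at this
            rw [pow_one]
            exact congrArg Subtype.val this
          have h4 := eq_one_of_mem_fitting hO g.2 h3
          have h5 : g = 1 := Subtype.ext h4
          rw [h5, orderOf_one] at hg
          omega
        have h3 := (Nat.Coprime.pow_right e' h2).dvd_of_dvd_mul_right h1
        rw [hQ8]
        exact Nat.le_of_dvd (by norm_num) h3
      constructor
      · obtain ⟨P⟩ : Nonempty (Sylow 3 X) := inferInstance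
        refine ⟨P, Q, hQn, ?_⟩
        apply Subgroup.isComplement'_of_coprime
        · rw [hQ8, hPcard P, hXcard]
        · rw [hQ8, hPcard P]
          exact Nat.Coprime.pow_right _ (by norm_num)
      · intro P
        -- `P` embeds into `Perm Q`
        let conjQ : ↥(P : Subgroup X) →* Equiv.Perm Q :=
          (MulAut.toPerm Q).comp ((MulAut.conjNormal (H := Q)).comp (P : Subgroup X).subtype)
        have hinj : Function.Injective conjQ := by
          rw [injective_iff_map_eq_one]
          intro x hx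
          have hxC : (x : X) ∈ Subgroup.centralizer (fittingSubgroup X : Set X) := by
            rw [Subgroup.mem_centralizer_iff, hFQ]
            intro t ht
            have h1 := congrArg (fun f : Equiv.Perm Q => ((f ⟨t, ht⟩ : Q) : X)) hx
            have h2 : (x : X) * t * (x : X)⁻¹ = t := h1
            rw [mul_inv_eq_iff_eq_mul] at h2
            exact h2.symm
          have hxF := hFc hxC
          rw [hFQ] at hxF
          exact Subtype.ext (hQP P _ x.2 hxF)
        have hdvd : Nat.card (P : Subgroup X) ∣ Nat.card (Equiv.Perm Q) := by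
          have h1 := Subgroup.card_subgroup_dvd_card conjQ.range
          rwa [Nat.card_congr (MonoidHom.ofInjective hinj).toEquiv.symm] at h1
        have hpermcard : Nat.card (Equiv.Perm Q) = 40320 := by
          rw [Nat.card_perm, hQ8]
          decide
        rw [hPcard P, hpermcard] at hdvd
        have he : e' ≤ 2 := by
          by_contra h
          have h1 : 3 ^ 3 ∣ 3 ^ e' := pow_dvd_pow 3 (by omega)
          have h2 := h1.trans hdvd
          revert h2
          decide
        have hc := hPcard P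
        interval_cases e'
        · rw [pow_zero] at hc
          haveI : Subsingleton (P : Subgroup X) := (Nat.card_eq_one_iff_unique.mp hc).1
          exact ⟨⟨fun a b => Subsingleton.elim _ _⟩⟩
        · rw [pow_one] at hc
          haveI : Fact (Nat.Prime (Nat.card (P : Subgroup X))) := ⟨by rw [hc]; exact Nat.prime_three⟩
          haveI := isCyclic_of_prime_card (α := (P : Subgroup X)) rfl
          exact IsCyclic.isMulCommutative
        · exact IsPGroup.isMulCommutative_of_card_eq_prime_sq hc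

end Main

end Cfsg.Agent.Lib.Char.GS
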