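import Mathlib

/-!
Statement S4017: basics. The Mersenne context for a minimal counterexample.
-/

namespace Cfsg.Agent.Lib.Char.PDiv

open Subgroup

variable {G : Type*} [Group G] [Finite G]

/-- second isomorphism count for a subgroup normalising another -/
lemma card_sup_mul_inf (A B : Subgroup G) (h : A ≤ normalizer (B : Set G)) :
    Nat.card ↥(A ⊔ B) * Nat.card ↥(A ⊓ B) = Nat.card A * Nat.card B := by
  letI := Subgroup.normal_subgroupOf_of_le_normalizer h
  letI := Subgroup.normal_subgroupOf_sup_of_le_normalizer h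
  have e := (QuotientGroup.quotientInfEquivProdNormalizerQuotient A B h).toEquiv
  have h1 := Nat.card_congr e
  have h2 : Nat.card (B.subgroupOf A) * (B.subgroupOf A).index = Nat.card A :=
    Subgroup.card_mul_index _
  have h3 : Nat.card (B.subgroupOf (A ⊔ B)) * (B.subgroupOf (A ⊔ B)).index = Nat.card ↥(A ⊔ B) :=
    Subgroup.card_mul_index _
  have h4 : Nat.card (B.subgroupOf (A ⊔ B)) = Nat.card B :=
    Nat.card_congr (Subgroup.subgroupOfEquivOfLe le_sup_right).toEquiv
  have h5 : Nat.card (B.subgroupOf A) = Nat.card ↥(A ⊓ B) := by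
    have : B.subgroupOf A = (A ⊓ B).subgroupOf A := by
      rw [Subgroup.inf_subgroupOf_left]
    rw [this]
    exact Nat.card_congr (Subgroup.subgroupOfEquivOfLe inf_le_left).toEquiv
  have h6 : (B.subgroupOf A).index = (B.subgroupOf (A ⊔ B)).index := h1
  rw [← h3, h4, ← h6, ← h5, ← h2]
  ring

lemma card_sup_dvd (A B : Subgroup G) (h : A ≤ normalizer (B : Set G)) :
    Nat.card ↥(A ⊔ B) ∣ Nat.card A * Nat.card B := by
  rw [← card_sup_mul_inf A B h]
  exact dvd_mul_right _ _

/-- elementwise form of normalising, in a finite group -/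
lemma mem_normalizer_of_forall {S : Subgroup G} {g : G} (h : ∀ x ∈ S, g * x * g⁻¹ ∈ S) :
    g ∈ normalizer (S : Set G) := by
  rw [Subgroup.mem_normalizer_iff]
  intro x
  refine ⟨h x, fun hx => ?_⟩
  -- the conjugation map is injective on a finite set, so bijective
  classical
  let f : S → S := fun y => ⟨g * y * g⁻¹, h y y.2⟩
  have hf : Function.Injective f := by
    intro a b hab
    have := congrArg Subtype.val hab
    simp only [f] at this
    exact Subtype.ext (by simpa using this)
  have hs : Function.Surjective f := Finite.surjective_of_injective hf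
  obtain ⟨y, hy⟩ := hs ⟨_, hx⟩
  have := congrArg Subtype.val hy
  simp only [f] at this
  have hxy : (y : G) = x := by simpa using this
  exact hxy ▸ y.2

lemma forall_of_mem_normalizer {S : Subgroup G} {g : G} (h : g ∈ normalizer (S : Set G)) :
    ∀ x ∈ S, g * x * g⁻¹ ∈ S := by
  rw [Subgroup.mem_normalizer_iff] at h
  exact fun x hx => (h x).1 hx

lemma zpowers_le_normalizer_of {S : Subgroup G} {g : G} (h : ∀ x ∈ S, g * x * g⁻¹ ∈ S) :
    zpowers g ≤ normalizer (S : Set G) := by
  rw [Subgroup.zpowers_le]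
  exact mem_normalizer_of_forall h

/-- p-elements -/
lemma isPGroup_zpowers_of {p : ℕ} [Fact p.Prime] {x : G} {k : ℕ} (h : x ^ (p ^ k) = 1) :
    IsPGroup p (zpowers x) := by
  have hd : Nat.card (zpowers x) ∣ p ^ k := by
    rw [Nat.card_zpowers]
    exact orderOf_dvd_of_pow_eq_one h
  obtain ⟨j, _, hj⟩ := (Nat.dvd_prime_pow (Fact.out : p.Prime)).1 hd
  exact IsPGroup.of_card hj

/-- the membership of a conjugate in a translated Sylow subgroup -/
lemma conj_mem_smul {p : ℕ} [Fact p.Prime] (P : Sylow p G) (g x : G) :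
    g * x * g⁻¹ ∈ ((g • P : Sylow p G) : Subgroup G) ↔ x ∈ (P : Subgroup G) := by
  rw [Sylow.coe_subgroup_smul]
  rw [Subgroup.mem_pointwise_smul_iff_inv_smul_mem]
  simp [MulAut.smul_def, mul_assoc]

/-- A p-element that normalises a Sylow subgroup lies in it -/
lemma mem_of_smul_eq {p : ℕ} [Fact p.Prime] {P : Sylow p G} {x : G} {k : ℕ}
    (hk : x ^ (p ^ k) = 1) (h : x • P = P) : x ∈ (P : Subgroup G) := by
  have hp := isPGroup_zpowers_of (p := p) hk
  have : P ∈ MulAction.fixedPoints (zpowers x) (Sylow p G) := by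
    intro g
    obtain ⟨g, n, rfl⟩ := g
    have h2 : (x ^ n) • P = P := by
      induction n using Int.induction_on with
      | zero => simp
      | succ i ih =>
          rw [zpow_add_one, mul_smul, h]
          exact ih
      | pred i ih =>
          rw [zpow_sub_one, mul_smul]
          have : x⁻¹ • P = P := by
            conv_lhs => rw [← h]
            rw [inv_smul_smul]
          rw [this]
          exact ih
    exact h2
  have hle := hp.sylow_mem_fixedPoints_iff.1 this
  exact hle (mem_zpowers x)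

lemma smul_eq_of_forall {p : ℕ} [Fact p.Prime] {P : Sylow p G} {g : G}
    (h : ∀ x ∈ (P : Subgroup G), g * x * g⁻¹ ∈ (P : Subgroup G)) : g • P = P := by
  rw [Sylow.smul_eq_iff_mem_normalizer]
  exact mem_normalizer_of_forall h

lemma forall_of_smul_eq {p : ℕ} [Fact p.Prime] {P : Sylow p G} {g : G}
    (h : g • P = P) : ∀ x ∈ (P : Subgroup G), g * x * g⁻¹ ∈ (P : Subgroup G) := by
  rw [Sylow.smul_eq_iff_mem_normalizer] at h
  exact forall_of_mem_normalizer h

/-- orbit bound for a p-element -/
lemma orbit_ge {p : ℕ} [Fact p.Prime] {h : G} {S : Subgroup G} {x : G} {k : ℕ}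
    (hk : h ^ (p ^ k) = 1) (hN : ∀ y ∈ S, h * y * h⁻¹ ∈ S) (hx : x ∈ S)
    (hmove : h * x * h⁻¹ ≠ x) :
    p + 1 ≤ Nat.card S ∧
      (Nat.card S = p + 1 → ∀ y ∈ S, y ≠ 1 → ∃ m : ℕ, h ^ m * x * (h ^ m)⁻¹ = y) := by
  classical
  haveI : Fintype G := Fintype.ofFinite G
  haveI : Fintype S := Fintype.ofFinite S
  have hp : p.Prime := Fact.out
  set f : G → G := fun y => h * y * h⁻¹ with hf
  have hfit : ∀ n : ℕ, f^[n] x = h ^ n * x * (h ^ n)⁻¹ := by
    intro n
    induction n with
    | zero => simp
    | succ n ih =>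
        rw [Function.iterate_succ_apply', ih]
        simp only [hf, pow_succ']
        group
  have hper : Function.IsPeriodicPt f (p ^ k) x := by
    rw [Function.IsPeriodicPt, Function.IsFixedPt, hfit, hk]
    simp
  set d := Function.minimalPeriod f x with hd
  have hdvd : d ∣ p ^ k := hper.minimalPeriod_dvd
  have hd1 : d ≠ 1 := by
    intro h1
    have : Function.IsFixedPt f x := by
      rw [← Function.minimalPeriod_eq_one_iff_isFixedPt]
      exact h1
    exact hmove this
  have hdp : p ≤ d := by
    obtain ⟨j, _, hj⟩ := (Nat.dvd_prime_pow hp).1 hdvd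
    rw [hj]
    cases j with
    | zero => exact absurd (by simpa using hj) hd1
    | succ j => exact le_trans (by simp [pow_succ]; nlinarith [pow_pos hp.pos j, hp.pos]) (le_refl _)
  have hx1 : x ≠ 1 := by
    rintro rfl
    apply hmove
    simp
  -- the iterates
  have hmem : ∀ n : ℕ, f^[n] x ∈ S := by
    intro n
    induction n with
    | zero => simpa using hx
    | succ n ih =>
        rw [Function.iterate_succ_apply']
        exact hN _ ih
  have hne : ∀ n : ℕ, f^[n] x ≠ 1 := by
    intro n he
    rw [hfit] at he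
    apply hx1
    have : h ^ n * x * (h ^ n)⁻¹ = 1 := he
    have h2 : h ^ n * x = h ^ n := by
      calc h ^ n * x = (h ^ n * x * (h ^ n)⁻¹) * h ^ n := by group
        _ = h ^ n := by rw [this, one_mul]
    simpa using h2
  have hinj := Function.iterate_injOn_Iio_minimalPeriod (f := f) (x := x)
  let T : Finset G := (Finset.univ.filter (fun y => y ∈ S)).erase 1
  have hTc : T.card + 1 = Nat.card S := by
    have h1 : (1 : G) ∈ Finset.univ.filter (fun y => y ∈ S) := by simp [S.one_mem]
    have h2 : (Finset.univ.filter (fun y => y ∈ S)).card = Nat.card S := by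
      rw [Nat.card_eq_fintype_card, Fintype.card_subtype]
    rw [← h2]
    exact Finset.card_erase_add_one h1
  let I : Finset G := (Finset.range d).image (fun n => f^[n] x)
  have hIc : I.card = d := by
    rw [Finset.card_image_of_injOn, Finset.card_range]
    intro a ha b hb hab
    exact hinj (by simpa using ha) (by simpa using hb) hab
  have hIT : I ⊆ T := by
    intro y hy
    obtain ⟨n, _, rfl⟩ := Finset.mem_image.1 hy
    simp only [T, Finset.mem_erase, Finset.mem_filter, Finset.mem_univ, true_and]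
    exact ⟨hne n, hmem n⟩
  have hle := Finset.card_le_card hIT
  refine ⟨by omega, fun hc y hy hy1 => ?_⟩
  have hTp : T.card = p := by omega
  have hEq : I = T := Finset.eq_of_subset_of_card_le hIT (by omega)
  have hyT : y ∈ T := by
    simp only [T, Finset.mem_erase, Finset.mem_filter, Finset.mem_univ, true_and]
    exact ⟨hy1, hy⟩
  rw [← hEq] at hyT
  obtain ⟨n, _, hn⟩ := Finset.mem_image.1 hyT
  exact ⟨n, by rw [← hfit]; exact hn⟩

/-- decomposition of an element whose order is a product of coprime numbers -/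
lemma exists_decomp {g : G} {m n : ℕ} (h : orderOf g = m * n) (hc : Nat.Coprime m n) :
    ∃ u v : ℤ, g = g ^ ((n : ℤ) * v) * g ^ ((m : ℤ) * u) ∧
      (g ^ ((n : ℤ) * v)) ^ m = 1 ∧ (g ^ ((m : ℤ) * u)) ^ n = 1 := by
  have hb : (m : ℤ) * Nat.gcdA m n + n * Nat.gcdB m n = 1 := by
    have := Nat.gcd_eq_gcd_ab m n
    rw [hc] at this
    push_cast at this
    linarith
  refine ⟨Nat.gcdA m n, Nat.gcdB m n, ?_, ?_, ?_⟩
  · rw [← zpow_add]
    have : ((n : ℤ) * Nat.gcdB m n + m * Nat.gcdA m n) = 1 := by linarith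
    rw [this, zpow_one]
  · rw [← zpow_natCast, ← zpow_mul]
    have : ((n : ℤ) * Nat.gcdB m n * m) = ((orderOf g : ℕ) : ℤ) * Nat.gcdB m n := by
      rw [h]; push_cast; ring
    rw [this, zpow_mul, zpow_natCast, pow_orderOf_eq_one, one_zpow]
  · rw [← zpow_natCast, ← zpow_mul]
    have : ((m : ℤ) * Nat.gcdA m n * n) = ((orderOf g : ℕ) : ℤ) * Nat.gcdA m n := by
      rw [h]; push_cast; ring
    rw [this, zpow_mul, zpow_natCast, pow_orderOf_eq_one, one_zpow]

/-- An order all of whose primes are 2 or p is 2^i p^j -/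
lemma order_two_p {p N : ℕ} (hp : p.Prime) (hp2 : p ≠ 2) (hN : N ≠ 0)
    (h : ∀ s : ℕ, s.Prime → s ∣ N → s = 2 ∨ s = p) : ∃ i j : ℕ, N = 2 ^ i * p ^ j := by
  refine ⟨N.factorization 2, N.factorization p, ?_⟩
  conv_lhs => rw [← Nat.factorization_prod_pow_eq_self hN]
  have hsub : N.primeFactors ⊆ {2, p} := by
    intro s hs
    have hs' := Nat.mem_primeFactors.1 hs
    rcases h s hs'.1 hs'.2.1 with rfl | rfl <;> simp
  rw [Finsupp.prod, Nat.support_factorization]
  rw [Finset.prod_subset hsub]
  · rw [Finset.prod_pair (Ne.symm hp2)]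
  · intro s _ hs
    have : N.factorization s = 0 := Finsupp.notMem_support_iff.1 (by simpa using hs)
    simp [this]

end Cfsg.Agent.Lib.Char.PDiv
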