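import Cfsg.Agent.Lib.Char.PDiv1

/-!
Statement S4017: the Mersenne context and the first consequences.
-/

namespace Cfsg.Agent.Lib.Char.PDiv

open Subgroup

variable {G : Type*} [Group G] [Finite G]

/-- The Mersenne context of a minimal counterexample. -/
structure MC (G : Type*) [Group G] [Finite G] (p a r : ℕ) [Fact p.Prime] (Q : Sylow 2 G) (z : G) :
    Prop where
  hp2 : p ≠ 2
  hr : r.Prime
  hrp : r ≠ p
  hr2 : r ≠ 2
  hrG : r ∣ Nat.card G
  hpG : p ∣ Nat.card G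
  hpa : p + 1 = 2 ^ a
  hQc : Nat.card (Q : Subgroup G) = 2 ^ a
  hQe : ∀ x ∈ (Q : Subgroup G), x * x = 1
  hzN : ∀ x ∈ (Q : Subgroup G), z * x * z⁻¹ ∈ (Q : Subgroup G)
  hzp : ∃ k : ℕ, z ^ (p ^ k) = 1
  hzT : ∀ x ∈ (Q : Subgroup G), ∀ y ∈ (Q : Subgroup G), x ≠ 1 → y ≠ 1 →
    ∃ m : ℕ, z ^ m * x * (z ^ m)⁻¹ = y
  hmix : ∀ H : Subgroup G, H ≠ ⊤ → ¬ IsPGroup 2 H → 2 ∣ Nat.card H → p ∣ Nat.card H
  hab : ∀ P : Sylow p G, ∀ x ∈ (P : Subgroup G), ∀ y ∈ (P : Subgroup G), x * y = y * x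
  ih : ∀ H : Subgroup G, H ≠ ⊤ → 2 ∣ Nat.card H → ¬ IsPGroup 2 H →
    ∀ s : ℕ, s.Prime → s ∣ Nat.card H → s = p ∨ s = 2

/-- involutions -/
def Inv (t : G) : Prop := t ≠ 1 ∧ t * t = 1

lemma Inv.inv_eq {t : G} (h : Inv t) : t⁻¹ = t := inv_eq_of_mul_eq_one_left h.2

lemma Inv.conj {t : G} (h : Inv t) (g : G) : Inv (g * t * g⁻¹) := by
  refine ⟨fun h1 => h.1 ?_, ?_⟩
  · have : g * t = g := by
      calc g * t = (g * t * g⁻¹) * g := by group
        _ = g := by rw [h1, one_mul]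
    simpa using this
  · calc g * t * g⁻¹ * (g * t * g⁻¹) = g * (t * t) * g⁻¹ := by group
      _ = 1 := by rw [h.2]; group

lemma isPGroup_of_card_dvd {p : ℕ} [Fact p.Prime] {H : Subgroup G} {n : ℕ}
    (h : Nat.card H ∣ p ^ n) : IsPGroup p H := by
  obtain ⟨j, _, hj⟩ := (Nat.dvd_prime_pow (Fact.out : p.Prime)).1 h
  exact IsPGroup.of_card hj

section ctx

variable {p a r : ℕ} [Fact p.Prime] {Q : Sylow 2 G} {z : G}

lemma MC.p_prime (_h : MC G p a r Q z) : p.Prime := Fact.out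

lemma MC.p_odd (h : MC G p a r Q z) : Nat.Coprime p 2 :=
  (Nat.coprime_primes h.p_prime Nat.prime_two).2 h.hp2

/-- an element whose order is both a power of p and of 2 is trivial -/
lemma MC.eq_one_of_pow (h : MC G p a r Q z) {x : G} {k m : ℕ} (h1 : x ^ (p ^ k) = 1)
    (h2 : x ^ (2 ^ m) = 1) : x = 1 := by
  have d1 := orderOf_dvd_of_pow_eq_one h1
  have d2 := orderOf_dvd_of_pow_eq_one h2
  have hc : Nat.Coprime (p ^ k) (2 ^ m) := Nat.Coprime.pow _ _ h.p_odd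
  have : orderOf x = 1 := Nat.eq_one_of_dvd_coprimes hc d1 d2
  exact orderOf_eq_one_iff.1 this

lemma MC.eq_one_of_sq (h : MC G p a r Q z) {x : G} {k : ℕ} (h1 : x ^ (p ^ k) = 1)
    (h2 : x * x = 1) : x = 1 :=
  h.eq_one_of_pow h1 (m := 1) (by simpa [pow_two] using h2)

lemma MC.exists_conj_mem (_h : MC G p a r Q z) {S : Subgroup G} (hS : IsPGroup 2 S) :
    ∃ g : G, ∀ x ∈ S, g * x * g⁻¹ ∈ (Q : Subgroup G) := by
  obtain ⟨P, hP⟩ := hS.exists_le_sylow
  obtain ⟨g, hg⟩ := MulAction.exists_smul_eq G P Q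
  refine ⟨g, fun x hx => ?_⟩
  have := (conj_mem_smul P g x).2 (hP hx)
  rwa [hg] at this

lemma MC.two_sq (h : MC G p a r Q z) {x : G} {k : ℕ} (hx : x ^ (2 ^ k) = 1) : x * x = 1 := by
  obtain ⟨g, hg⟩ := h.exists_conj_mem (isPGroup_zpowers_of hx)
  have h1 := h.hQe _ (hg x (mem_zpowers x))
  have h2 : g * (x * x) * g⁻¹ = 1 := by
    rw [← h1]; group
  have : g * (x * x) = g := by
    calc g * (x * x) = (g * (x * x) * g⁻¹) * g := by group
      _ = g := by rw [h2, one_mul]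
  simpa using this

lemma MC.Q_comm (h : MC G p a r Q z) {x y : G} (hx : x ∈ (Q : Subgroup G))
    (hy : y ∈ (Q : Subgroup G)) : x * y = y * x := by
  have h1 := h.hQe _ ((Q : Subgroup G).mul_mem hx hy)
  have h2 := h.hQe _ hx
  have h3 := h.hQe _ hy
  calc x * y = x * y * (y * x * (y * x)) := by
        rw [show y * x * (y * x) = (y * x) * (y * x) from rfl]
        have : (y * x) * (y * x) = 1 := h.hQe _ ((Q : Subgroup G).mul_mem hy hx)
        rw [this, mul_one]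
    _ = (x * (y * y) * x) * (y * x) := by group
    _ = y * x := by rw [h3, mul_one, h2, one_mul]

lemma MC.two_comm (h : MC G p a r Q z) {S : Subgroup G} (hS : IsPGroup 2 S) {x y : G}
    (hx : x ∈ S) (hy : y ∈ S) : x * y = y * x := by
  obtain ⟨g, hg⟩ := h.exists_conj_mem hS
  have := h.Q_comm (hg x hx) (hg y hy)
  have h2 : g * (x * y) * g⁻¹ = g * (y * x) * g⁻¹ := by
    calc g * (x * y) * g⁻¹ = g * x * g⁻¹ * (g * y * g⁻¹) := by group
      _ = g * y * g⁻¹ * (g * x * g⁻¹) := this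
      _ = g * (y * x) * g⁻¹ := by group
  simpa using h2

lemma MC.card_sylow (h : MC G p a r Q z) (Q' : Sylow 2 G) :
    Nat.card (Q' : Subgroup G) = 2 ^ a := by
  rw [Sylow.card_eq_multiplicity, ← h.hQc, Sylow.card_eq_multiplicity]

lemma MC.card_two_dvd (h : MC G p a r Q z) {S : Subgroup G} (hS : IsPGroup 2 S) :
    Nat.card S ∣ 2 ^ a := by
  obtain ⟨P, hP⟩ := hS.exists_le_sylow
  rw [← h.card_sylow P]
  exact Subgroup.card_dvd_of_le hP

lemma MC.pow_dvd_card (h : MC G p a r Q z) {n : ℕ} (hn : 2 ^ n ∣ Nat.card G) : 2 ^ n ∣ 2 ^ a := by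
  rw [← h.hQc]
  exact Sylow.pow_dvd_card_of_pow_dvd_card Q hn

lemma MC.a_ge (h : MC G p a r Q z) : 2 ≤ a := by
  have hp : 3 ≤ p := by
    have := h.p_prime.two_le
    have h2 := h.hp2
    omega
  have hpa := h.hpa
  by_contra hlt
  have : a = 0 ∨ a = 1 := by omega
  rcases this with rfl | rfl <;> simp at hpa <;> omega

lemma MC.inv_conj (h : MC G p a r Q z) {t s : G} (ht : Inv t) (hs : Inv s) :
    ∃ g : G, g * t * g⁻¹ = s := by
  have h2t : t ^ (2 ^ 1) = 1 := by simpa [pow_two] using ht.2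
  have h2s : s ^ (2 ^ 1) = 1 := by simpa [pow_two] using hs.2
  obtain ⟨g₁, hg₁⟩ := h.exists_conj_mem (isPGroup_zpowers_of h2t)
  obtain ⟨g₂, hg₂⟩ := h.exists_conj_mem (isPGroup_zpowers_of h2s)
  have m1 := hg₁ t (mem_zpowers t)
  have m2 := hg₂ s (mem_zpowers s)
  obtain ⟨m, hm⟩ := h.hzT _ m1 _ m2 (ht.conj g₁).1 (hs.conj g₂).1
  refine ⟨g₂⁻¹ * z ^ m * g₁, ?_⟩
  calc g₂⁻¹ * z ^ m * g₁ * t * (g₂⁻¹ * z ^ m * g₁)⁻¹
      = g₂⁻¹ * (z ^ m * (g₁ * t * g₁⁻¹) * (z ^ m)⁻¹) * g₂ := by group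
    _ = g₂⁻¹ * (g₂ * s * g₂⁻¹) * g₂ := by rw [hm]
    _ = s := by group

/-- hmix in the form used most often -/
lemma MC.hmix_false (h : MC G p a r Q z) {H : Subgroup G} {s i j : ℕ} (hs : s.Prime) (hs2 : s ≠ 2)
    (hsp : s ≠ p) (hsH : s ∣ Nat.card H) (h2H : 2 ∣ Nat.card H)
    (hd : Nat.card H ∣ s ^ i * 2 ^ j) : False := by
  have hpn : ¬ p ∣ s ^ i * 2 ^ j := by
    intro hpd
    rcases (Nat.Prime.dvd_mul h.p_prime).1 hpd with h1 | h1
    · exact hsp ((Nat.prime_dvd_prime_iff_eq h.p_prime hs).1 (h.p_prime.dvd_of_dvd_pow h1)).symm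
    · exact h.hp2 ((Nat.prime_dvd_prime_iff_eq h.p_prime Nat.prime_two).1
        (h.p_prime.dvd_of_dvd_pow h1))
  have hne : H ≠ ⊤ := by
    rintro rfl
    apply hpn
    have : Nat.card (⊤ : Subgroup G) = Nat.card G := Subgroup.card_top
    rw [this] at hd
    exact h.hpG.trans hd
  have hnp : ¬ IsPGroup 2 H := by
    intro hp2
    obtain ⟨n, hn⟩ := IsPGroup.iff_card.1 hp2
    rw [hn] at hsH
    exact hs2 ((Nat.prime_dvd_prime_iff_eq hs Nat.prime_two).1 (hs.dvd_of_dvd_pow hsH))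
  exact hpn ((h.hmix H hne hnp h2H).trans hd)

lemma card_zpowers_inv {t : G} (ht : Inv t) : Nat.card (zpowers t) = 2 := by
  rw [Nat.card_zpowers]
  apply orderOf_eq_prime (by simpa [pow_two] using ht.2) ht.1

lemma MC.no_prime_inv (h : MC G p a r Q z) {t g : G} {s : ℕ} (ht : Inv t) (hg : orderOf g = s)
    (hs : s.Prime) (hs2 : s ≠ 2) (hsp : s ≠ p)
    (hc : t * g * t⁻¹ = g ∨ t * g * t⁻¹ = g⁻¹) : False := by
  have hN : zpowers t ≤ normalizer (zpowers g : Set G) := by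
    apply zpowers_le_normalizer_of
    intro x hx
    obtain ⟨n, rfl⟩ := hx
    have : t * (fun n : ℤ => g ^ n) n * t⁻¹ = (t * g * t⁻¹) ^ n := by
      simp only
      rw [conj_zpow]
    rw [this]
    rcases hc with hc | hc <;> rw [hc]
    · exact zpow_mem (mem_zpowers g) n
    · exact zpow_mem (inv_mem (mem_zpowers g)) n
  have hd := card_sup_dvd _ _ hN
  rw [card_zpowers_inv ht, Nat.card_zpowers, hg] at hd
  refine h.hmix_false (H := zpowers t ⊔ zpowers g) (i := 1) (j := 1) hs hs2 hsp ?_ ?_ ?_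
  · have := Subgroup.card_dvd_of_le (le_sup_right : zpowers g ≤ zpowers t ⊔ zpowers g)
    rwa [Nat.card_zpowers, hg] at this
  · have := Subgroup.card_dvd_of_le (le_sup_left : zpowers t ≤ zpowers t ⊔ zpowers g)
    rwa [card_zpowers_inv ht] at this
  · simpa [mul_comm] using hd

lemma MC.no_prime_norm (h : MC G p a r Q z) {S : Subgroup G} {g : G} {s : ℕ} (hS : IsPGroup 2 S)
    (hS2 : 2 ∣ Nat.card S) (hg : orderOf g = s) (hs : s.Prime) (hs2 : s ≠ 2) (hsp : s ≠ p)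
    (hN : ∀ x ∈ S, g * x * g⁻¹ ∈ S) : False := by
  have hN' := zpowers_le_normalizer_of hN
  have hd := card_sup_dvd _ _ hN'
  rw [Nat.card_zpowers, hg] at hd
  refine h.hmix_false (H := zpowers g ⊔ S) (i := 1) (j := a) hs hs2 hsp ?_ ?_ ?_
  · have := Subgroup.card_dvd_of_le (le_sup_left : zpowers g ≤ zpowers g ⊔ S)
    rwa [Nat.card_zpowers, hg] at this
  · exact hS2.trans (Subgroup.card_dvd_of_le le_sup_right)
  · refine hd.trans ?_
    rw [pow_one]
    exact Nat.mul_dvd_mul_left _ (h.card_two_dvd hS)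

/-- elements of odd order which an involution centralises or inverts are p-elements -/
lemma MC.p_elt_of_inv (h : MC G p a r Q z) {t g : G} (ht : Inv t) (hodd : ¬ 2 ∣ orderOf g)
    (hc : t * g * t⁻¹ = g ∨ t * g * t⁻¹ = g⁻¹) : ∃ k : ℕ, g ^ (p ^ k) = 1 := by
  have hpos : orderOf g ≠ 0 := (orderOf_pos g).ne'
  have hall : ∀ {s : ℕ}, s.Prime → s ∣ orderOf g → s = p := by
    intro s hs hsd
    by_contra hsp
    have hs2 : s ≠ 2 := by
      rintro rfl
      exact hodd hsd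
    have ho : orderOf (g ^ (orderOf g / s)) = s := orderOf_pow_orderOf_div hpos hsd
    refine h.no_prime_inv ht ho hs hs2 hsp ?_
    rw [← conj_pow]
    rcases hc with hc | hc <;> rw [hc]
    · exact Or.inl rfl
    · exact Or.inr (inv_pow _ _)
  have := Nat.eq_prime_pow_of_unique_prime_dvd hpos hall
  exact ⟨_, by rw [← this, pow_orderOf_eq_one]⟩

/-- centralizers of involutions only involve 2 and p -/
lemma MC.cent_primes (h : MC G p a r Q z) {t : G} (ht : Inv t) {s : ℕ} (hs : s.Prime)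
    (hd : s ∣ Nat.card (centralizer ({t} : Set G))) : s = 2 ∨ s = p := by
  by_contra hcon
  push Not at hcon
  haveI : Fact s.Prime := ⟨hs⟩
  obtain ⟨x, hx⟩ := exists_prime_orderOf_dvd_card' (G := centralizer ({t} : Set G)) s hd
  have hx' : orderOf (x : G) = s := by
    rw [Subgroup.orderOf_coe]; exact hx
  have hxc : (x : G) * t = t * x := by
    have := Subgroup.mem_centralizer_iff.1 x.2 t (by simp)
    exact this.symm
  refine h.no_prime_inv ht hx' hs hcon.1 hcon.2 (Or.inl ?_)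
  rw [← hxc]; group

lemma MC.order_cent (h : MC G p a r Q z) {t g : G} (ht : Inv t) (hg : g * t = t * g) :
    ∃ i j : ℕ, orderOf g = 2 ^ i * p ^ j := by
  apply order_two_p h.p_prime h.hp2 (orderOf_pos g).ne'
  intro s hs hd
  have hmem : g ∈ centralizer ({t} : Set G) := by
    rw [Subgroup.mem_centralizer_iff]
    intro x hx
    rw [Set.mem_singleton_iff.1 hx]
    exact hg.symm
  have : orderOf g ∣ Nat.card (centralizer ({t} : Set G)) := by
    have := orderOf_dvd_natCard (⟨g, hmem⟩ : centralizer ({t} : Set G))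
    rwa [Subgroup.orderOf_mk] at this
  exact h.cent_primes ht hs (hd.trans this)

lemma mem_of_norm_sylow {q : ℕ} [Fact q.Prime] {P : Sylow q G} {x : G} {k : ℕ}
    (hk : x ^ (q ^ k) = 1) (hN : ∀ y ∈ (P : Subgroup G), x * y * x⁻¹ ∈ (P : Subgroup G)) :
    x ∈ (P : Subgroup G) :=
  mem_of_smul_eq hk (smul_eq_of_forall hN)

lemma zpow_norm {S : Subgroup G} {g : G} (hN : ∀ x ∈ S, g * x * g⁻¹ ∈ S) (n : ℤ) :
    ∀ x ∈ S, g ^ n * x * (g ^ n)⁻¹ ∈ S := by
  apply forall_of_mem_normalizer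
  exact zpow_mem (mem_normalizer_of_forall hN) n

/-- a fixed point in the Sylow forces centralising it (base Sylow) -/
lemma MC.fix_cent_Q (h : MC G p a r Q z) {g t : G} (hN : ∀ x ∈ (Q : Subgroup G), g * x * g⁻¹ ∈ (Q : Subgroup G))
    (ht : t ∈ (Q : Subgroup G)) (ht1 : t ≠ 1) (hg : g * t * g⁻¹ = t) :
    ∀ x ∈ (Q : Subgroup G), g * x * g⁻¹ = x := by
  have hQ2 : IsPGroup 2 (Q : Subgroup G) := Q.isPGroup'
  have h2Q : 2 ∣ Nat.card (Q : Subgroup G) := by
    rw [h.hQc]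
    exact dvd_pow_self 2 (by have := h.a_ge; omega)
  have hpos : orderOf g ≠ 0 := (orderOf_pos g).ne'
  obtain ⟨i, j, hij⟩ := order_two_p (N := orderOf g) h.p_prime h.hp2 hpos (by
    intro s hs hsd
    by_contra hcon
    push Not at hcon
    have ho : orderOf (g ^ (orderOf g / s)) = s := orderOf_pow_orderOf_div hpos hsd
    refine h.no_prime_norm hQ2 h2Q ho hs hcon.1 hcon.2 ?_
    intro x hx
    have := zpow_norm hN ((orderOf g / s : ℕ) : ℤ) x hx
    rwa [zpow_natCast] at this)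
  have hcop : Nat.Coprime (2 ^ i) (p ^ j) :=
    Nat.Coprime.pow _ _ (Nat.Coprime.symm h.p_odd)
  obtain ⟨u, v, hd, hg2, hgp⟩ := exists_decomp hij hcop
  set g₂ := g ^ (((p ^ j : ℕ) : ℤ) * v) with hg₂
  set gp := g ^ (((2 ^ i : ℕ) : ℤ) * u) with hgp'
  have hN2 := zpow_norm hN (((p ^ j : ℕ) : ℤ) * v)
  have hNp := zpow_norm hN (((2 ^ i : ℕ) : ℤ) * u)
  have hg2Q : g₂ ∈ (Q : Subgroup G) := mem_of_norm_sylow hg2 hN2
  have h2c : ∀ x ∈ (Q : Subgroup G), g₂ * x * g₂⁻¹ = x := by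
    intro x hx
    rw [h.Q_comm hg2Q hx]; group
  have hpt : gp * t * gp⁻¹ = t := by
    have h1 : g₂ * (gp * t * gp⁻¹) * g₂⁻¹ = t := by
      calc g₂ * (gp * t * gp⁻¹) * g₂⁻¹ = (g₂ * gp) * t * (g₂ * gp)⁻¹ := by group
        _ = g * t * g⁻¹ := by rw [← hd]
        _ = t := hg
    have hm : gp * t * gp⁻¹ ∈ (Q : Subgroup G) := hNp t ht
    rw [h2c _ hm] at h1
    exact h1
  have hpc : ∀ x ∈ (Q : Subgroup G), gp * x * gp⁻¹ = x := by
    intro x hx
    by_contra hmove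
    have hc : Nat.card (Q : Subgroup G) = p + 1 := by rw [h.hQc, h.hpa]
    obtain ⟨m, hm⟩ := (orbit_ge hgp hNp hx hmove).2 hc t ht ht1
    have hmt : gp ^ m * t * (gp ^ m)⁻¹ = t := by
      clear hm
      induction m with
      | zero => simp
      | succ m ih =>
          calc gp ^ (m + 1) * t * (gp ^ (m + 1))⁻¹
              = gp ^ m * (gp * t * gp⁻¹) * (gp ^ m)⁻¹ := by rw [pow_succ]; group
            _ = t := by rw [hpt, ih]
    have hxt : x = t := by
      have : gp ^ m * x * (gp ^ m)⁻¹ = gp ^ m * t * (gp ^ m)⁻¹ := by rw [hm, hmt]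
      simpa using this
    apply hmove
    rw [hxt, hpt]
  intro x hx
  calc g * x * g⁻¹ = g₂ * (gp * x * gp⁻¹) * g₂⁻¹ := by
        conv_lhs => rw [hd]
        group
    _ = g₂ * x * g₂⁻¹ := by rw [hpc x hx]
    _ = x := h2c x hx

/-- a fixed point in a Sylow 2-subgroup forces centralising it -/
lemma MC.fix_cent (h : MC G p a r Q z) {Q' : Sylow 2 G} {g t : G}
    (hN : ∀ x ∈ (Q' : Subgroup G), g * x * g⁻¹ ∈ (Q' : Subgroup G))
    (ht : t ∈ (Q' : Subgroup G)) (ht1 : t ≠ 1) (hg : g * t * g⁻¹ = t) :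
    ∀ x ∈ (Q' : Subgroup G), g * x * g⁻¹ = x := by
  obtain ⟨c, hc⟩ := MulAction.exists_smul_eq G Q' Q
  have key := fun x (hx : x ∈ (Q' : Subgroup G)) => (conj_mem_smul Q' c x).2 hx
  rw [hc] at key
  have hinv : ∀ y ∈ (Q : Subgroup G), c⁻¹ * y * c ∈ (Q' : Subgroup G) := by
    intro y hy
    have : c * (c⁻¹ * y * c) * c⁻¹ ∈ ((c • Q' : Sylow 2 G) : Subgroup G) := by
      rw [hc]
      convert hy using 1
      group
    exact (conj_mem_smul Q' c _).1 this
  have hN' : ∀ y ∈ (Q : Subgroup G), (c * g * c⁻¹) * y * (c * g * c⁻¹)⁻¹ ∈ (Q : Subgroup G) := by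
    intro y hy
    have := key _ (hN _ (hinv y hy))
    convert this using 1
    group
  have hfix := h.fix_cent_Q hN' (key t ht) (by
    intro h1
    apply ht1
    have : c * t = c := by
      calc c * t = (c * t * c⁻¹) * c := by group
        _ = c := by rw [h1, one_mul]
    simpa using this) (by
    calc (c * g * c⁻¹) * (c * t * c⁻¹) * (c * g * c⁻¹)⁻¹ = c * (g * t * g⁻¹) * c⁻¹ := by group
      _ = c * t * c⁻¹ := by rw [hg])
  intro x hx
  have := hfix _ (key x hx)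
  have h2 : c * (g * x * g⁻¹) * c⁻¹ = c * x * c⁻¹ := by
    rw [← this]; group
  simpa using h2

end ctx

/-- Burnside transfer, packaged: a normal Sylow p-subgroup in a {2,p}-group. -/
lemma exists_normal_p (p : ℕ) [Fact p.Prime] (hp2 : p ≠ 2) (C : Subgroup G)
    (hπ : ∀ s : ℕ, s.Prime → s ∣ Nat.card C → s = 2 ∨ s = p)
    (S : Subgroup G) (hSC : S ≤ C) (hS2 : IsPGroup 2 S) (hSsyl : ¬ 2 ∣ S.relIndex C)
    (hN : ∀ g ∈ C, (∀ x ∈ S, g * x * g⁻¹ ∈ S) → ∀ x ∈ S, g * x * g⁻¹ = x) :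
    ∃ W : Subgroup G, W ≤ C ∧ IsPGroup p W ∧ (∀ g ∈ C, ∀ k : ℕ, g ^ (p ^ k) = 1 → g ∈ W) ∧
      Nat.card C = Nat.card W * Nat.card S := by
  have hp : p.Prime := Fact.out
  have hS' : IsPGroup 2 (S.subgroupOf C) := by
    rw [IsPGroup.iff_card]
    obtain ⟨n, hn⟩ := IsPGroup.iff_card.1 hS2
    refine ⟨n, ?_⟩
    rw [← hn]
    exact Nat.card_congr (Subgroup.subgroupOfEquivOfLe hSC).toEquiv
  let Sy : Sylow 2 C := hS'.toSylow hSsyl
  have hSyc : (Sy : Subgroup C) = S.subgroupOf C := rfl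
  have hnorm : normalizer ((Sy : Subgroup C) : Set C) ≤ centralizer ((Sy : Subgroup C) : Set C) := by
    intro g hg
    rw [Subgroup.mem_centralizer_iff]
    intro x hx
    have hg' := forall_of_mem_normalizer hg
    rw [SetLike.mem_coe, hSyc, Subgroup.mem_subgroupOf] at hx
    have key := hN (g : G) g.2 (by
      intro y hy
      have hyC : y ∈ C := hSC hy
      have := hg' ⟨y, hyC⟩ (by rw [hSyc, Subgroup.mem_subgroupOf]; exact hy)
      rw [hSyc, Subgroup.mem_subgroupOf] at this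
      simpa using this) (x : G) hx
    apply Subtype.ext
    have h2 : (g : G) * x = x * g := by
      calc (g : G) * x = ((g : G) * x * (g : G)⁻¹) * g := by group
        _ = x * g := by rw [key]
    simpa using h2.symm
  let φ := MonoidHom.transferSylow Sy hnorm
  have hc : IsComplement' φ.ker (Sy : Subgroup C) := MonoidHom.ker_transferSylow_isComplement' Sy hnorm
  have hcard : Nat.card φ.ker * Nat.card (Sy : Subgroup C) = Nat.card C := hc.card_mul_card
  have hSycard : Nat.card (Sy : Subgroup C) = Nat.card S :=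
    Nat.card_congr (Subgroup.subgroupOfEquivOfLe hSC).toEquiv
  obtain ⟨n, hn⟩ := IsPGroup.iff_card.1 hS2
  have h2k : ¬ 2 ∣ Nat.card φ.ker := by
    have hi2 : (Sy : Subgroup C).index = Nat.card φ.ker := hc.index_eq_card
    rw [← hi2]
    exact Sy.not_dvd_index
  have hkp : IsPGroup p φ.ker := by
    rw [IsPGroup.iff_card]
    have hne : Nat.card φ.ker ≠ 0 := Nat.card_pos.ne'
    refine ⟨_, Nat.eq_prime_pow_of_unique_prime_dvd hne ?_⟩
    intro s hs hd
    have hd2 : s ∣ Nat.card C := hd.trans (by rw [← hcard]; exact dvd_mul_right _ _)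
    rcases hπ s hs hd2 with rfl | h
    · exact absurd hd h2k
    · exact h
  refine ⟨φ.ker.map C.subtype, ?_, ?_, ?_, ?_⟩
  · exact Subgroup.map_subtype_le _
  · rw [IsPGroup.iff_card]
    obtain ⟨m, hm⟩ := IsPGroup.iff_card.1 hkp
    refine ⟨m, ?_⟩
    rw [← hm]
    exact Nat.card_congr (Subgroup.equivMapOfInjective _ _ C.subtype_injective).symm.toEquiv
  · intro g hg k hk
    refine ⟨⟨g, hg⟩, ?_, rfl⟩
    have h1 : (φ ⟨g, hg⟩) ^ (p ^ k) = 1 := by
      rw [← map_pow]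
      have : (⟨g, hg⟩ : C) ^ (p ^ k) = 1 := Subtype.ext (by simpa using hk)
      rw [this, map_one]
    have d1 := orderOf_dvd_of_pow_eq_one h1
    have d2 : orderOf (φ ⟨g, hg⟩) ∣ 2 ^ n := by
      have := orderOf_dvd_natCard (φ ⟨g, hg⟩)
      rwa [show Nat.card (Sy : Subgroup C) = 2 ^ n by rw [hSycard, hn]] at this
    have hcp : Nat.Coprime (p ^ k) (2 ^ n) :=
      Nat.Coprime.pow _ _ ((Nat.coprime_primes hp Nat.prime_two).2 hp2)
    have := Nat.eq_one_of_dvd_coprimes hcp d1 d2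
    exact MonoidHom.mem_ker.2 (orderOf_eq_one_iff.1 this)
  · rw [← hcard, hSycard]
    congr 1
    exact Nat.card_congr (Subgroup.equivMapOfInjective _ _ C.subtype_injective).toEquiv

end Cfsg.Agent.Lib.Char.PDiv
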