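import Cfsg.Agent.Lib.Char.PDiv2

/-!
Statement S4017: the p-part of an involution centraliser, and uniqueness of the Sylow p-subgroup
through a p-element inverted by an involution.
-/

namespace Cfsg.Agent.Lib.Char.PDiv

open Subgroup

variable {G : Type*} [Group G] [Finite G]

/-- the p-elements of the centraliser of `t` generate this group -/
def Wt (p : ℕ) (t : G) : Subgroup G := closure {c | c * t = t * c ∧ ∃ k : ℕ, c ^ (p ^ k) = 1}

lemma exists_mem_ne (S : Subgroup G) (L : Finset G) (hc : L.card < Nat.card S) :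
    ∃ x ∈ S, x ∉ L := by
  classical
  by_contra hcon
  push Not at hcon
  haveI : Fintype S := Fintype.ofFinite S
  have : Nat.card S ≤ L.card := by
    rw [Nat.card_eq_fintype_card]
    apply Finset.card_le_card_of_injOn (s := Finset.univ) (fun x : S => (x : G))
    · intro x _
      exact hcon x x.2
    · intro x _ y _ hxy
      exact Subtype.ext hxy
  omega

section ctx

variable {p a r : ℕ} [Fact p.Prime] {Q : Sylow 2 G} {z : G}

lemma MC.mem_sylow2 (_h : MC G p a r Q z) {t s : G} (ht : Inv t) (hs : Inv s) (hc : t * s = s * t) :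
    ∃ Q' : Sylow 2 G, t ∈ (Q' : Subgroup G) ∧ s ∈ (Q' : Subgroup G) := by
  have hN : zpowers t ≤ normalizer (zpowers s : Set G) := by
    apply zpowers_le_normalizer_of
    intro x hx
    obtain ⟨n, rfl⟩ := hx
    have : t * (fun n : ℤ => s ^ n) n * t⁻¹ = (t * s * t⁻¹) ^ n := by
      simp only
      rw [conj_zpow]
    rw [this, hc]
    simp only [mul_inv_cancel_right]
    exact zpow_mem (mem_zpowers s) n
  have hd := card_sup_dvd _ _ hN
  rw [card_zpowers_inv ht, card_zpowers_inv hs] at hd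
  have hP : IsPGroup 2 ↥(zpowers t ⊔ zpowers s) := isPGroup_of_card_dvd (n := 2) (by simpa using hd)
  obtain ⟨P, hP'⟩ := hP.exists_le_sylow
  exact ⟨P, hP' (mem_sup_left (mem_zpowers t)), hP' (mem_sup_right (mem_zpowers s))⟩

lemma MC.mem_sylow (h : MC G p a r Q z) {t : G} (ht : Inv t) :
    ∃ Q' : Sylow 2 G, t ∈ (Q' : Subgroup G) := by
  obtain ⟨Q', h1, _⟩ := h.mem_sylow2 ht ht rfl
  exact ⟨Q', h1⟩

lemma MC.exists_W (h : MC G p a r Q z) {t : G} (ht : Inv t) :
    ∃ W : Subgroup G, (∀ c, c ∈ W ↔ (c * t = t * c ∧ ∃ k : ℕ, c ^ (p ^ k) = 1)) ∧ IsPGroup p W ∧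
      Nat.card (centralizer ({t} : Set G)) = Nat.card W * 2 ^ a := by
  obtain ⟨Q', hQ'⟩ := h.mem_sylow ht
  have hQ2 : IsPGroup 2 (Q' : Subgroup G) := Q'.isPGroup'
  have hle : (Q' : Subgroup G) ≤ centralizer ({t} : Set G) := by
    intro x hx
    rw [Subgroup.mem_centralizer_iff]
    intro y hy
    rw [Set.mem_singleton_iff.1 hy]
    exact h.two_comm hQ2 hQ' hx
  have hsyl : ¬ 2 ∣ (Q' : Subgroup G).relIndex (centralizer ({t} : Set G)) := by
    intro hd
    have h1 := Subgroup.index_mul_card ((Q' : Subgroup G).subgroupOf (centralizer ({t} : Set G)))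
    have h2 : Nat.card ((Q' : Subgroup G).subgroupOf (centralizer ({t} : Set G))) = 2 ^ a := by
      rw [← h.card_sylow Q']
      exact Nat.card_congr (Subgroup.subgroupOfEquivOfLe hle).toEquiv
    rw [h2] at h1
    have h3 : 2 ^ (a + 1) ∣ Nat.card G := by
      refine Dvd.dvd.trans ?_ (Subgroup.card_subgroup_dvd_card (centralizer ({t} : Set G)))
      rw [← h1, pow_succ, mul_comm]
      exact mul_dvd_mul_right hd _
    have h4 := h.pow_dvd_card h3
    have := Nat.le_of_dvd (by positivity) h4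
    rw [pow_succ] at this
    have hpos : 0 < 2 ^ a := by positivity
    omega
  obtain ⟨W, hWC, hWp, hW, hcard⟩ := exists_normal_p p h.hp2 (centralizer ({t} : Set G))
    (fun s hs hd => h.cent_primes ht hs hd) (Q' : Subgroup G) hle hQ2 hsyl (by
      intro g hg hN
      have hgt : g * t * g⁻¹ = t := by
        have := Subgroup.mem_centralizer_iff.1 hg t (by simp)
        rw [← this]; group
      exact h.fix_cent hN hQ' ht.1 hgt)
  refine ⟨W, ?_, hWp, ?_⟩
  · intro c
    constructor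
    · intro hc
      refine ⟨?_, ?_⟩
      · have := Subgroup.mem_centralizer_iff.1 (hWC hc) t (by simp)
        exact this.symm
      · obtain ⟨k, hk⟩ := hWp ⟨c, hc⟩
        refine ⟨k, ?_⟩
        have := congrArg Subtype.val hk
        simpa using this
    · rintro ⟨h1, k, hk⟩
      refine hW c ?_ k hk
      rw [Subgroup.mem_centralizer_iff]
      intro y hy
      rw [Set.mem_singleton_iff.1 hy]
      exact h1.symm
  · rw [hcard, h.card_sylow Q']

lemma MC.mem_Wt (h : MC G p a r Q z) {t : G} (ht : Inv t) {c : G} :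
    c ∈ Wt p t ↔ (c * t = t * c ∧ ∃ k : ℕ, c ^ (p ^ k) = 1) := by
  obtain ⟨W, hW, _, _⟩ := h.exists_W ht
  have : {c : G | c * t = t * c ∧ ∃ k : ℕ, c ^ (p ^ k) = 1} = (W : Set G) := by
    ext x
    exact (hW x).symm
  rw [Wt, this, closure_eq, hW]

lemma MC.Wt_eq (h : MC G p a r Q z) {t : G} (ht : Inv t) :
    IsPGroup p (Wt p t) ∧
      Nat.card (centralizer ({t} : Set G)) = Nat.card (Wt p t) * 2 ^ a := by
  obtain ⟨W, hW, h1, h2⟩ := h.exists_W ht
  have : Wt p t = W := by
    ext x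
    rw [h.mem_Wt ht, hW]
  rw [this]
  exact ⟨h1, h2⟩

lemma MC.Wt_comm (h : MC G p a r Q z) {t c₁ c₂ : G} (ht : Inv t) (h1 : c₁ ∈ Wt p t)
    (h2 : c₂ ∈ Wt p t) : c₁ * c₂ = c₂ * c₁ := by
  obtain ⟨P, hP⟩ := (h.Wt_eq ht).1.exists_le_sylow
  exact h.hab P _ (hP h1) _ (hP h2)

lemma MC.Wt_conj (h : MC G p a r Q z) {t : G} (ht : Inv t) (g : G) {c : G} :
    g * c * g⁻¹ ∈ Wt p (g * t * g⁻¹) ↔ c ∈ Wt p t := by
  rw [h.mem_Wt ht, h.mem_Wt (ht.conj g)]
  constructor
  · rintro ⟨h1, k, hk⟩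
    refine ⟨?_, k, ?_⟩
    · have : g * (c * t) * g⁻¹ = g * (t * c) * g⁻¹ := by
        calc g * (c * t) * g⁻¹ = (g * c * g⁻¹) * (g * t * g⁻¹) := by group
          _ = (g * t * g⁻¹) * (g * c * g⁻¹) := h1
          _ = g * (t * c) * g⁻¹ := by group
      simpa using this
    · rw [conj_pow] at hk
      have : g * c ^ (p ^ k) = g := by
        calc g * c ^ (p ^ k) = (g * c ^ (p ^ k) * g⁻¹) * g := by group
          _ = g := by rw [hk, one_mul]
      simpa using this
  · rintro ⟨h1, k, hk⟩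
    refine ⟨?_, k, ?_⟩
    · calc g * c * g⁻¹ * (g * t * g⁻¹) = g * (c * t) * g⁻¹ := by group
        _ = g * (t * c) * g⁻¹ := by rw [h1]
        _ = g * t * g⁻¹ * (g * c * g⁻¹) := by group
    · rw [conj_pow, hk]; group

lemma MC.Wt_card_conj (h : MC G p a r Q z) {t : G} (ht : Inv t) (g : G) :
    Nat.card (Wt p (g * t * g⁻¹)) = Nat.card (Wt p t) := by
  have : Wt p (g * t * g⁻¹) = (Wt p t).map (MulAut.conj g).toMonoidHom := by
    ext x
    constructor
    · intro hx
      refine ⟨g⁻¹ * x * g, ?_, by simp [MulAut.conj_apply]; group⟩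
      have h1 : g * (g⁻¹ * x * g) * g⁻¹ = x := by group
      rw [SetLike.mem_coe, ← h.Wt_conj ht g, h1]
      exact hx
    · rintro ⟨c, hc, rfl⟩
      exact (h.Wt_conj ht g).2 hc
  rw [this]
  exact Nat.card_congr (Subgroup.equivMapOfInjective _ _
    (MulAut.conj g).injective).symm.toEquiv

lemma MC.Wt_card_eq (h : MC G p a r Q z) {t s : G} (ht : Inv t) (hs : Inv s) :
    Nat.card (Wt p s) = Nat.card (Wt p t) := by
  obtain ⟨g, rfl⟩ := h.inv_conj ht hs
  exact h.Wt_card_conj ht g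

/-- the 2-part of the centraliser of an inverted element is small -/
lemma MC.two_part (h : MC G p a r Q z) {y v : G} (hy : y * y ≠ 1) (hv : Inv v)
    (hinv : v * y * v⁻¹ = y⁻¹) {S : Subgroup G} (hS : IsPGroup 2 S) (hSy : ∀ x ∈ S, x * y = y * x) :
    Nat.card S * 2 ∣ 2 ^ a := by
  set C := centralizer ({y} : Set G) with hC
  have hSC : S ≤ C := by
    intro x hx
    rw [hC, Subgroup.mem_centralizer_iff]
    intro w hw
    rw [Set.mem_singleton_iff.1 hw]
    exact (hSy x hx).symm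
  have hN : zpowers v ≤ normalizer (C : Set G) := by
    apply zpowers_le_normalizer_of
    intro c hc
    have hcy : c * y = y * c := (Subgroup.mem_centralizer_iff.1 hc y (by simp)).symm
    rw [hC, Subgroup.mem_centralizer_iff]
    intro w hw
    rw [Set.mem_singleton_iff.1 hw]
    have hyv : y = v * y⁻¹ * v⁻¹ := by
      have : v * y⁻¹ * v⁻¹ = (v * y * v⁻¹)⁻¹ := by group
      rw [this, hinv, inv_inv]
    have h1 : c * y⁻¹ = y⁻¹ * c := by
      have : y⁻¹ * (c * y) * y⁻¹ = y⁻¹ * (y * c) * y⁻¹ := by rw [hcy]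
      calc c * y⁻¹ = y⁻¹ * (y * c) * y⁻¹ := by group
        _ = y⁻¹ * (c * y) * y⁻¹ := by rw [hcy]
        _ = y⁻¹ * c := by group
    conv_lhs => rw [hyv]
    conv_rhs => rw [hyv]
    calc v * y⁻¹ * v⁻¹ * (v * c * v⁻¹) = v * (y⁻¹ * c) * v⁻¹ := by group
      _ = v * (c * y⁻¹) * v⁻¹ := by rw [h1]
      _ = v * c * v⁻¹ * (v * y⁻¹ * v⁻¹) := by group
  have hinf : zpowers v ⊓ C = ⊥ := by
    rw [eq_bot_iff]
    intro x hx
    obtain ⟨hx1, hx2⟩ := Subgroup.mem_inf.1 hx
    rw [Subgroup.mem_bot]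
    have hvy : v * y ≠ y * v := by
      intro hc
      apply hy
      have : y⁻¹ = y := by
        rw [← hinv, hc]; simp [mul_assoc]
      calc y * y = y⁻¹ * y := by rw [this]
        _ = 1 := by group
    -- x is a power of v
    obtain ⟨n, rfl⟩ := hx1
    simp only at hx2 ⊢
    rcases Int.even_or_odd n with he | ho
    · obtain ⟨m, rfl⟩ := he
      have : v ^ (m + m) = 1 := by
        rw [← two_mul, zpow_mul]
        have : v ^ (2 : ℤ) = 1 := by
          rw [show (2 : ℤ) = ((2 : ℕ) : ℤ) by rfl, zpow_natCast, pow_two]; exact hv.2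
        rw [this, one_zpow]
      exact this
    · obtain ⟨m, rfl⟩ := ho
      exfalso
      have : v ^ (2 * m + 1) = v := by
        rw [zpow_add_one, zpow_mul]
        have : v ^ (2 : ℤ) = 1 := by
          rw [show (2 : ℤ) = ((2 : ℕ) : ℤ) by rfl, zpow_natCast, pow_two]; exact hv.2
        rw [this, one_zpow, one_mul]
      rw [this] at hx2
      exact hvy (Subgroup.mem_centralizer_iff.1 hx2 y (by simp)).symm
  have hcard := card_sup_mul_inf _ _ hN
  rw [hinf, card_zpowers_inv hv, Subgroup.card_bot, mul_one] at hcard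
  have hd1 : 2 * Nat.card C ∣ Nat.card G := by
    rw [← hcard]
    exact Subgroup.card_subgroup_dvd_card _
  obtain ⟨n, hn⟩ := IsPGroup.iff_card.1 hS
  have hd2 : Nat.card S ∣ Nat.card C := Subgroup.card_dvd_of_le hSC
  have hd3 : 2 ^ (n + 1) ∣ Nat.card G := by
    refine Dvd.dvd.trans ?_ hd1
    rw [pow_succ', ← hn]
    exact mul_dvd_mul_left _ hd2
  have := h.pow_dvd_card hd3
  rwa [pow_succ, ← hn] at this

/-- uniqueness of the Sylow p-subgroup through an inverted p-element -/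
lemma MC.uniq_sylow (h : MC G p a r Q z) {y v : G} {k : ℕ} (hk : y ^ (p ^ k) = 1) (hy1 : y ≠ 1)
    (hv : Inv v) (hinv : v * y * v⁻¹ = y⁻¹) {P₁ P₂ : Sylow p G} (h1 : y ∈ (P₁ : Subgroup G))
    (h2 : y ∈ (P₂ : Subgroup G)) : P₁ = P₂ := by
  classical
  have hy2 : y * y ≠ 1 := fun hh => hy1 (h.eq_one_of_sq hk hh)
  set X := normalizer (zpowers y : Set G) with hX
  -- X is proper
  have hXtop : X ≠ ⊤ := by
    intro hXt
    have hn : ∀ g : G, g * y * g⁻¹ ∈ zpowers y := by
      intro g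
      have hg : g ∈ X := by rw [hXt]; trivial
      exact forall_of_mem_normalizer hg y (mem_zpowers y)
    have hall : ∀ x : G, Inv x → x * y * x⁻¹ = y⁻¹ := by
      intro x hx
      obtain ⟨c, rfl⟩ := h.inv_conj hv hx
      obtain ⟨n, hn'⟩ := hn c⁻¹
      have hn'' : c⁻¹ * y * c = y ^ n := by
        have : c⁻¹ * y * c⁻¹⁻¹ = y ^ n := hn'.symm
        simpa using this
      have hv2 : v * y ^ n * v⁻¹ = (y ^ n)⁻¹ := by
        rw [← conj_zpow, hinv, inv_zpow]
      calc c * v * c⁻¹ * y * (c * v * c⁻¹)⁻¹ = c * (v * (c⁻¹ * y * c) * v⁻¹) * c⁻¹ := by group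
        _ = c * (y ^ n)⁻¹ * c⁻¹ := by rw [hn'', hv2]
        _ = c * (c⁻¹ * y * c)⁻¹ * c⁻¹ := by rw [hn'']
        _ = y⁻¹ := by group
    -- two involutions of Q and their product
    have hcQ : 3 < Nat.card (Q : Subgroup G) + 0 := by
      rw [h.hQc]
      have ha := h.a_ge
      have : 2 ^ 2 ≤ 2 ^ a := Nat.pow_le_pow_right (by norm_num) ha
      omega
    obtain ⟨x₁, hx₁, hx₁n⟩ := exists_mem_ne (Q : Subgroup G) {1} (by simp; omega)
    obtain ⟨x₂, hx₂, hx₂n⟩ := exists_mem_ne (Q : Subgroup G) {1, x₁} (by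
      refine lt_of_le_of_lt (Finset.card_le_two) (by omega))
    simp only [Finset.mem_singleton, Finset.mem_insert, not_or] at hx₁n hx₂n
    have i1 : Inv x₁ := ⟨hx₁n, h.hQe _ hx₁⟩
    have i2 : Inv x₂ := ⟨hx₂n.1, h.hQe _ hx₂⟩
    have i3 : Inv (x₁ * x₂) := by
      refine ⟨?_, h.hQe _ ((Q : Subgroup G).mul_mem hx₁ hx₂)⟩
      intro he
      apply hx₂n.2
      have : x₁ * x₂ = x₁ * x₁ := by rw [he, h.hQe _ hx₁]
      exact mul_left_cancel this
    have e1 := hall _ i3
    have e2 : (x₁ * x₂) * y * (x₁ * x₂)⁻¹ = y := by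
      calc (x₁ * x₂) * y * (x₁ * x₂)⁻¹ = x₁ * (x₂ * y * x₂⁻¹) * x₁⁻¹ := by group
        _ = x₁ * y⁻¹ * x₁⁻¹ := by rw [hall _ i2]
        _ = (x₁ * y * x₁⁻¹)⁻¹ := by group
        _ = y := by rw [hall _ i1]; simp
    apply hy2
    rw [e2] at e1
    calc y * y = y⁻¹ * y := by rw [← e1]
      _ = 1 := by group
  have hvX : v ∈ X := by
    apply mem_normalizer_of_forall
    intro x hx
    obtain ⟨n, rfl⟩ := hx
    have : v * (fun n : ℤ => y ^ n) n * v⁻¹ = (v * y * v⁻¹) ^ n := by
      simp only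
      rw [conj_zpow]
    rw [this, hinv]
    exact zpow_mem (inv_mem (mem_zpowers y)) n
  have hyX : y ∈ X := by
    apply mem_normalizer_of_forall
    intro x hx
    have hc : y * x = x * y := by
      obtain ⟨n, rfl⟩ := hx
      exact (Commute.refl y).zpow_right n
    rw [hc]; simpa using hx
  have hX2 : 2 ∣ Nat.card X := by
    have := Subgroup.card_dvd_of_le ((Subgroup.zpowers_le).2 hvX)
    rwa [card_zpowers_inv hv] at this
  have hXn : ¬ IsPGroup 2 X := by
    intro hp2
    obtain ⟨m, hm⟩ := hp2 ⟨y, hyX⟩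
    have h3 : y ^ (2 ^ m) = 1 := by
      have := congrArg Subtype.val hm
      simpa using this
    exact hy1 (h.eq_one_of_pow hk h3)
  have hπX := h.ih X hXtop hX2 hXn
  set C := centralizer ({y} : Set G) with hC
  have hCX : C ≤ X := by
    intro c hc
    have hcy : c * y = y * c := (Subgroup.mem_centralizer_iff.1 hc y (by simp)).symm
    apply mem_normalizer_of_forall
    intro x hx
    obtain ⟨n, rfl⟩ := hx
    have : c * (fun n : ℤ => y ^ n) n * c⁻¹ = (c * y * c⁻¹) ^ n := by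
      simp only
      rw [conj_zpow]
    rw [this, hcy]
    simp only [mul_inv_cancel_right]
    exact zpow_mem (mem_zpowers y) n
  have hπC : ∀ s : ℕ, s.Prime → s ∣ Nat.card C → s = 2 ∨ s = p := by
    intro s hs hd
    rcases hπX s hs (hd.trans (Subgroup.card_dvd_of_le hCX)) with h' | h'
    · exact Or.inr h'
    · exact Or.inl h'
  obtain ⟨Sy⟩ : Nonempty (Sylow 2 C) := inferInstance
  set S : Subgroup G := (Sy : Subgroup C).map C.subtype with hS
  have hSC : S ≤ C := Subgroup.map_subtype_le _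
  have hS2 : IsPGroup 2 S := Sy.isPGroup'.map C.subtype
  have hmemS : ∀ c : C, c ∈ (Sy : Subgroup C) ↔ (c : G) ∈ S := by
    intro c
    rw [hS, Subgroup.mem_map]
    constructor
    · intro hc
      exact ⟨c, hc, rfl⟩
    · rintro ⟨d, hd, he⟩
      have : d = c := Subtype.ext he
      rwa [← this]
  have hSy : S.subgroupOf C = (Sy : Subgroup C) := by
    ext c
    rw [Subgroup.mem_subgroupOf, ← hmemS]
  have hsyl : ¬ 2 ∣ S.relIndex C := by
    rw [Subgroup.relIndex, hSy]
    exact Sy.not_dvd_index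
  have hSyc : ∀ x ∈ S, x * y = y * x := by
    intro x hx
    exact (Subgroup.mem_centralizer_iff.1 (hSC hx) y (by simp)).symm
  have hcardS := h.two_part hy2 hv hinv hS2 hSyc
  have hSlt : Nat.card S < p + 1 := by
    have h3 := Nat.le_of_dvd (by positivity) hcardS
    rw [← h.hpa] at h3
    have : 0 < Nat.card S := Nat.card_pos
    omega
  obtain ⟨W, hWC, hWp, hW, _⟩ := exists_normal_p p h.hp2 C hπC S hSC hS2 hsyl (by
    intro g hg hN
    have hpos : orderOf g ≠ 0 := (orderOf_pos g).ne'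
    have hoC : orderOf g ∣ Nat.card C := by
      have := orderOf_dvd_natCard (⟨g, hg⟩ : C)
      rwa [Subgroup.orderOf_mk] at this
    obtain ⟨i, j, hij⟩ := order_two_p (N := orderOf g) h.p_prime h.hp2 hpos
      (fun s hs hd => hπC s hs (hd.trans hoC))
    have hcop : Nat.Coprime (2 ^ i) (p ^ j) :=
      Nat.Coprime.pow _ _ (Nat.Coprime.symm h.p_odd)
    obtain ⟨u, v', hd, hg2, hgp⟩ := exists_decomp hij hcop
    set g₂ := g ^ (((p ^ j : ℕ) : ℤ) * v') with hg₂
    set gp := g ^ (((2 ^ i : ℕ) : ℤ) * u) with hgp'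
    have hN2 := zpow_norm hN (((p ^ j : ℕ) : ℤ) * v')
    have hNp := zpow_norm hN (((2 ^ i : ℕ) : ℤ) * u)
    have hg2C : g₂ ∈ C := zpow_mem hg _
    have hg2S : g₂ ∈ S := by
      rw [← show ((⟨g₂, hg2C⟩ : C) : G) = g₂ from rfl, ← hmemS]
      refine mem_of_norm_sylow (k := i) ?_ ?_
      · apply Subtype.ext
        simpa using hg2
      · intro w hw
        rw [hmemS]
        have hw' := (hmemS w).1 hw
        exact hN2 _ hw'
    have h2c : ∀ x ∈ S, g₂ * x * g₂⁻¹ = x := by
      intro x hx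
      rw [h.two_comm hS2 hg2S hx]; group
    have hpc : ∀ x ∈ S, gp * x * gp⁻¹ = x := by
      intro x hx
      by_contra hmove
      have := (orbit_ge hgp hNp hx hmove).1
      omega
    intro x hx
    calc g * x * g⁻¹ = g₂ * (gp * x * gp⁻¹) * g₂⁻¹ := by
          conv_lhs => rw [hd]
          group
      _ = g₂ * x * g₂⁻¹ := by rw [hpc x hx]
      _ = x := h2c x hx)
  have key : ∀ P : Sylow p G, y ∈ (P : Subgroup G) → W = (P : Subgroup G) := by
    intro P hP
    have hle : (P : Subgroup G) ≤ W := by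
      intro c hc
      obtain ⟨m, hm⟩ := P.isPGroup' ⟨c, hc⟩
      have hm' : c ^ (p ^ m) = 1 := by
        have := congrArg Subtype.val hm
        simpa using this
      refine hW c ?_ m hm'
      rw [hC, Subgroup.mem_centralizer_iff]
      intro w hw
      rw [Set.mem_singleton_iff.1 hw]
      exact h.hab P _ hP _ hc
    exact P.is_maximal' hWp hle
  exact Sylow.ext ((key P₁ h1).symm.trans (key P₂ h2))

/-- the p-part of an element -/
lemma MC.p_part (h : MC G p a r Q z) {g : G} {i j : ℕ} (hij : orderOf g = 2 ^ i * p ^ j) :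
    (g ^ (2 ^ i)) ^ (p ^ j) = 1 ∧ (g ^ (2 ^ i) = 1 → g * g = 1) := by
  constructor
  · rw [← pow_mul, ← hij, pow_orderOf_eq_one]
  · intro h1
    exact h.two_sq h1

end ctx

end Cfsg.Agent.Lib.Char.PDiv
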