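import Cfsg.Agent.Lib.Char.PDiv3
import Cfsg.Agent.Lib.Char.FriendReg

/-!
Statement S4017: the case where two non-commuting involutions commute with a third one;
this forces a regular friendship graph on the involutions.
-/

namespace Cfsg.Agent.Lib.Char.PDiv

open Subgroup

variable {G : Type*} [Group G] [Finite G]

section ctx

variable {p a r : ℕ} [Fact p.Prime] {Q : Sylow 2 G} {z : G}

/-- The non-commuting case. -/
def NonComm (G : Type*) [Group G] : Prop :=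
  ∃ t s₁ s₂ : G, Inv t ∧ Inv s₁ ∧ Inv s₂ ∧ s₁ * t = t * s₁ ∧ s₂ * t = t * s₂ ∧ s₁ * s₂ ≠ s₂ * s₁

lemma inv_mul_eq {s₁ s₂ : G} (h1 : Inv s₁) (h2 : Inv s₂) : (s₁ * s₂)⁻¹ = s₂ * s₁ := by
  rw [mul_inv_rev, h1.inv_eq, h2.inv_eq]

lemma conj_mul_inv {s₁ s₂ : G} (h1 : Inv s₁) (h2 : Inv s₂) :
    s₁ * (s₁ * s₂) * s₁⁻¹ = (s₁ * s₂)⁻¹ := by
  rw [inv_mul_eq h1 h2, h1.inv_eq]
  calc s₁ * (s₁ * s₂) * s₁ = (s₁ * s₁) * s₂ * s₁ := by group
    _ = s₂ * s₁ := by rw [h1.2, one_mul]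

lemma conj_mul_inv' {s₁ s₂ : G} (h1 : Inv s₁) (h2 : Inv s₂) :
    s₂ * (s₁ * s₂) * s₂⁻¹ = (s₁ * s₂)⁻¹ := by
  rw [inv_mul_eq h1 h2, h2.inv_eq]
  calc s₂ * (s₁ * s₂) * s₂ = s₂ * s₁ * (s₂ * s₂) := by group
    _ = s₂ * s₁ := by rw [h2.2, mul_one]

lemma comm_of_sq {s₁ s₂ : G} (h1 : Inv s₁) (h2 : Inv s₂) (h : (s₁ * s₂) * (s₁ * s₂) = 1) :
    s₁ * s₂ = s₂ * s₁ := by
  have := inv_eq_of_mul_eq_one_left h
  rw [inv_mul_eq h1 h2] at this
  exact this.symm

/-- a conjugate of an element by an involution inverting it, on powers -/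
lemma conj_pow_inv {u g : G} (h : u * g * u⁻¹ = g⁻¹) (n : ℕ) :
    u * g ^ n * u⁻¹ = (g ^ n)⁻¹ := by
  rw [← conj_pow, h, inv_pow]

lemma comm_pow {u g : G} (h : g * u = u * g) (n : ℕ) : g ^ n * u = u * g ^ n :=
  (Commute.pow_left h n)

lemma MC.beta_y (h : MC G p a r Q z) (hβ : NonComm G) :
    ∃ t u y : G, t ∈ (Q : Subgroup G) ∧ u ∈ (Q : Subgroup G) ∧ Inv t ∧ Inv u ∧ y ∈ Wt p t ∧ y ≠ 1 ∧
      u * y * u⁻¹ = y⁻¹ := by
  obtain ⟨t, s₁, s₂, ht, h1, h2, c1, c2, hne⟩ := hβ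
  set g := s₁ * s₂ with hg
  have hgt : g * t = t * g := by
    rw [hg, mul_assoc, c2, ← mul_assoc, c1, mul_assoc]
  obtain ⟨i, j, hij⟩ := h.order_cent ht hgt
  obtain ⟨hp1, hp2⟩ := h.p_part hij
  have hy1 : g ^ 2 ^ i ≠ 1 := fun he => hne (comm_of_sq h1 h2 (hp2 he))
  have hyW : g ^ 2 ^ i ∈ Wt p t := (h.mem_Wt ht).2 ⟨comm_pow hgt _, j, hp1⟩
  have hinv : s₁ * g ^ 2 ^ i * s₁⁻¹ = (g ^ 2 ^ i)⁻¹ := conj_pow_inv (conj_mul_inv h1 h2) _
  obtain ⟨Q', hm1, hm2⟩ := h.mem_sylow2 ht h1 c1.symm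
  obtain ⟨c, hc⟩ := MulAction.exists_smul_eq G Q' Q
  have key := fun x (hx : x ∈ (Q' : Subgroup G)) => (conj_mem_smul Q' c x).2 hx
  rw [hc] at key
  refine ⟨c * t * c⁻¹, c * s₁ * c⁻¹, c * g ^ 2 ^ i * c⁻¹, key _ hm1, key _ hm2, ht.conj c, h1.conj c,
    (h.Wt_conj ht c).2 hyW, ?_, ?_⟩
  · intro he
    apply hy1
    have : c * g ^ 2 ^ i = c := by
      calc c * g ^ 2 ^ i = (c * g ^ 2 ^ i * c⁻¹) * c := by group
        _ = c := by rw [he, one_mul]
    simpa using this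
  · calc c * s₁ * c⁻¹ * (c * g ^ 2 ^ i * c⁻¹) * (c * s₁ * c⁻¹)⁻¹
        = c * (s₁ * g ^ 2 ^ i * s₁⁻¹) * c⁻¹ := by group
      _ = c * (g ^ 2 ^ i)⁻¹ * c⁻¹ := by rw [hinv]
      _ = (c * g ^ 2 ^ i * c⁻¹)⁻¹ := by group

lemma MC.good_all (h : MC G p a r Q z) (hβ : NonComm G) {v : G} (hv : Inv v) :
    ∃ y u : G, Inv u ∧ y ∈ Wt p v ∧ y ≠ 1 ∧ u * y * u⁻¹ = y⁻¹ := by
  obtain ⟨t, u, y, -, -, ht, hu, hy, hy1, hinv⟩ := h.beta_y hβ
  obtain ⟨c, rfl⟩ := h.inv_conj ht hv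
  refine ⟨c * y * c⁻¹, c * u * c⁻¹, hu.conj c, (h.Wt_conj ht c).2 hy, ?_, ?_⟩
  · intro he
    apply hy1
    have : c * y = c := by
      calc c * y = (c * y * c⁻¹) * c := by group
        _ = c := by rw [he, one_mul]
    simpa using this
  · calc c * u * c⁻¹ * (c * y * c⁻¹) * (c * u * c⁻¹)⁻¹ = c * (u * y * u⁻¹) * c⁻¹ := by group
      _ = c * y⁻¹ * c⁻¹ := by rw [hinv]
      _ = (c * y * c⁻¹)⁻¹ := by group

lemma MC.exists_R (h : MC G p a r Q z) {v : G} (hv : Inv v) :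
    ∃ P : Sylow p G, Wt p v ≤ (P : Subgroup G) :=
  (h.Wt_eq hv).1.exists_le_sylow

lemma MC.R_mem (h : MC G p a r Q z) {v y u : G} (hv : Inv v) (hu : Inv u) (hy : y ∈ Wt p v)
    (hy1 : y ≠ 1) (hinv : u * y * u⁻¹ = y⁻¹) {P P' : Sylow p G} (hP : Wt p v ≤ (P : Subgroup G))
    (hy' : y ∈ (P' : Subgroup G)) : P' = P := by
  obtain ⟨-, k, hk⟩ := (h.mem_Wt hv).1 hy
  exact h.uniq_sylow hk hy1 hu hinv hy' (hP hy)

lemma MC.R_unique (h : MC G p a r Q z) (hβ : NonComm G) {v : G} (hv : Inv v) {P P' : Sylow p G}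
    (hP : Wt p v ≤ (P : Subgroup G)) (hP' : Wt p v ≤ (P' : Subgroup G)) : P' = P := by
  obtain ⟨y, u, hu, hy, hy1, hinv⟩ := h.good_all hβ hv
  exact h.R_mem hv hu hy hy1 hinv hP (hP' hy)

lemma MC.R_conj (h : MC G p a r Q z) {v : G} (hv : Inv v) {P : Sylow p G}
    (hP : Wt p v ≤ (P : Subgroup G)) (c : G) :
    Wt p (c * v * c⁻¹) ≤ ((c • P : Sylow p G) : Subgroup G) := by
  intro x hx
  have h1 : c * (c⁻¹ * x * c) * c⁻¹ = x := by group
  rw [← h1] at hx ⊢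
  exact (conj_mem_smul P c _).2 (hP ((h.Wt_conj hv c).1 hx))

lemma MC.cent_norm (h : MC G p a r Q z) (hβ : NonComm G) {v c : G} (hv : Inv v) {P : Sylow p G}
    (hP : Wt p v ≤ (P : Subgroup G)) (hc : c * v = v * c) : c • P = P := by
  have h1 := h.R_conj hv hP c
  have h2 : c * v * c⁻¹ = v := by rw [hc]; group
  rw [h2] at h1
  exact h.R_unique hβ hv hP h1

lemma MC.R_inj_Q (h : MC G p a r Q z) (hβ : NonComm G) {x₁ x₂ : G}
    (h1 : x₁ ∈ (Q : Subgroup G)) (h2 : x₂ ∈ (Q : Subgroup G)) (i1 : Inv x₁) (i2 : Inv x₂)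
    (hne : x₁ ≠ x₂) {P : Sylow p G} (hP1 : Wt p x₁ ≤ (P : Subgroup G))
    (hP2 : Wt p x₂ ≤ (P : Subgroup G)) : False := by
  obtain ⟨m, hm⟩ := h.hzT _ h1 _ h2 i1.1 i2.1
  obtain ⟨k, hk⟩ := h.hzp
  set w := z ^ m with hw
  have hwk : w ^ (p ^ k) = 1 := by
    rw [hw, ← pow_mul, mul_comm, pow_mul, hk, one_pow]
  have h3 := h.R_conj i1 hP1 w
  rw [hm] at h3
  have h4 : w • P = P := h.R_unique hβ i2 hP2 h3
  have hwP : w ∈ (P : Subgroup G) := mem_of_smul_eq hwk h4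
  have hwN : ∀ x ∈ (Q : Subgroup G), w * x * w⁻¹ ∈ (Q : Subgroup G) := by
    intro x hx
    have := zpow_norm h.hzN (m : ℤ) x hx
    rwa [zpow_natCast] at this
  have hcomm : ∀ q ∈ (Q : Subgroup G), q * w = w * q := by
    intro q hq
    have hqP : q • P = P := h.cent_norm hβ i1 hP1 (h.Q_comm hq h1)
    have hm1 : q * w * q⁻¹ ∈ (P : Subgroup G) := forall_of_smul_eq hqP w hwP
    have hκ1 : q * w * q⁻¹ * w⁻¹ ∈ (P : Subgroup G) := mul_mem hm1 (inv_mem hwP)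
    have hκ2 : q * w * q⁻¹ * w⁻¹ ∈ (Q : Subgroup G) := by
      have := mul_mem hq (hwN _ (inv_mem hq))
      convert this using 1
      group
    obtain ⟨n, hn⟩ := P.isPGroup' ⟨_, hκ1⟩
    have hn' : (q * w * q⁻¹ * w⁻¹) ^ (p ^ n) = 1 := by
      have := congrArg Subtype.val hn
      simpa using this
    have := h.eq_one_of_sq hn' (h.hQe _ hκ2)
    have h5 : q * w * q⁻¹ = w := by
      have h6 : q * w * q⁻¹ * w⁻¹ * w = w := by rw [this, one_mul]
      simpa using h6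
    calc q * w = q * w * q⁻¹ * q := by group
      _ = w * q := by rw [h5]
  apply hne
  have := hcomm x₁ h1
  rw [← hm, ← this]
  group

lemma MC.R_inj (h : MC G p a r Q z) (hβ : NonComm G) {t s : G} (ht : Inv t) (hs : Inv s)
    (hc : t * s = s * t) (hne : t ≠ s) {P : Sylow p G} (hP1 : Wt p t ≤ (P : Subgroup G))
    (hP2 : Wt p s ≤ (P : Subgroup G)) : False := by
  obtain ⟨Q', hm1, hm2⟩ := h.mem_sylow2 ht hs hc
  obtain ⟨c, hc'⟩ := MulAction.exists_smul_eq G Q' Q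
  have key := fun x (hx : x ∈ (Q' : Subgroup G)) => (conj_mem_smul Q' c x).2 hx
  rw [hc'] at key
  refine h.R_inj_Q hβ (key _ hm1) (key _ hm2) (ht.conj c) (hs.conj c) ?_
    (h.R_conj ht hP1 c) (h.R_conj hs hP2 c)
  intro he
  apply hne
  have : c * t * c⁻¹ = c * s * c⁻¹ := he
  simpa using this

/-- Everything outside the centraliser inverts -/
lemma MC.inverts_of_Q (h : MC G p a r Q z) (hβ : NonComm G) {t u y x : G}
    (ht : Inv t) (hu : Inv u) (hx : Inv x) (hxt : x * t = t * x) (hxu : x * u = u * x)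
    (hne : x ≠ t) (hy : y ∈ Wt p t) (hinv : u * y * u⁻¹ = y⁻¹) : x * y * x⁻¹ = y⁻¹ := by
  set y' := x * y * x⁻¹ with hy'
  have hy'W : y' ∈ Wt p t := by
    have := (h.Wt_conj ht x).2 hy
    rwa [show x * t * x⁻¹ = t by rw [hxt]; group] at this
  have hcomm := h.Wt_comm ht hy hy'W
  have hy2W : y * y' ∈ Wt p t := mul_mem hy hy'W
  have hfix : (y * y') * x = x * (y * y') := by
    have hxi : x⁻¹ = x := hx.inv_eq
    have e1 : x * y' * x⁻¹ = y := by
      rw [hy']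
      calc x * (x * y * x⁻¹) * x⁻¹ = (x * x) * y * (x⁻¹ * x⁻¹) := by group
        _ = y := by
          rw [hxi, hx.2]; group
    calc y * y' * x = y' * y * x := by rw [hcomm]
      _ = x * y * x⁻¹ * y * x := rfl
      _ = x * (y * (x⁻¹ * y * x)) := by group
      _ = x * (y * (x * y * x⁻¹)) := by rw [hxi]
      _ = x * (y * y') := rfl
  have hinv2 : u * (y * y') * u⁻¹ = (y * y')⁻¹ := by
    have e1 : u * y' * u⁻¹ = y'⁻¹ := by
      rw [hy']
      calc u * (x * y * x⁻¹) * u⁻¹ = x * (u * y * u⁻¹) * x⁻¹ := by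
            have hux : u * x = x * u := hxu.symm
            have hxi : x⁻¹ * u⁻¹ = u⁻¹ * x⁻¹ := by
              rw [← mul_inv_rev, ← mul_inv_rev, hxu]
            calc u * (x * y * x⁻¹) * u⁻¹ = (u * x) * y * (x⁻¹ * u⁻¹) := by group
              _ = (x * u) * y * (u⁻¹ * x⁻¹) := by rw [hux, hxi]
              _ = x * (u * y * u⁻¹) * x⁻¹ := by group
        _ = x * y⁻¹ * x⁻¹ := by rw [hinv]
        _ = (x * y * x⁻¹)⁻¹ := by group
    calc u * (y * y') * u⁻¹ = (u * y * u⁻¹) * (u * y' * u⁻¹) := by group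
      _ = y⁻¹ * y'⁻¹ := by rw [hinv, e1]
      _ = (y' * y)⁻¹ := by group
      _ = (y * y')⁻¹ := by rw [hcomm]
  by_cases hy2 : y * y' = 1
  · have : y' = y⁻¹ := by
      calc y' = y⁻¹ * (y * y') := by group
        _ = y⁻¹ := by rw [hy2, mul_one]
    exact this
  · exfalso
    obtain ⟨-, k, hk⟩ := (h.mem_Wt ht).1 hy2W
    have hy2x : y * y' ∈ Wt p x := (h.mem_Wt hx).2 ⟨hfix, k, hk⟩
    obtain ⟨Px, hPx⟩ := h.exists_R hx
    obtain ⟨Pt, hPt⟩ := h.exists_R ht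
    have : Px = Pt := h.R_mem ht hu hy2W hy2 hinv2 hPt (hPx hy2x)
    rw [this] at hPx
    exact h.R_inj hβ hx ht hxt hne hPx hPt

lemma finset_card_le {S : Subgroup G} {L : Finset G} (h : ∀ y ∈ L, y ∈ S) :
    L.card ≤ Nat.card S := by
  classical
  haveI : Fintype S := Fintype.ofFinite S
  rw [Nat.card_eq_fintype_card]
  have : L.card = (L.attach.image (fun y => (⟨y.1, h y.1 y.2⟩ : S))).card := by
    rw [Finset.card_image_of_injective, Finset.card_attach]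
    intro a b hab
    have := congrArg Subtype.val hab
    exact Subtype.ext this
  rw [this]
  exact Finset.card_le_univ _

lemma MC.a_eq_two (h : MC G p a r Q z) (hβ : NonComm G) : a = 2 := by
  classical
  by_contra hne
  have ha3 : 3 ≤ a := by have := h.a_ge; omega
  obtain ⟨t, u, y, htQ, huQ, ht, hu, hy, hy1, hinv⟩ := h.beta_y hβ
  have h8 : 8 ≤ Nat.card (Q : Subgroup G) := by
    rw [h.hQc]
    calc 8 = 2 ^ 3 := by norm_num
      _ ≤ 2 ^ a := Nat.pow_le_pow_right (by norm_num) ha3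
  obtain ⟨x₁, hx₁, hx₁n⟩ := exists_mem_ne (Q : Subgroup G) {1, t} (by
    refine lt_of_le_of_lt Finset.card_le_two (by omega))
  obtain ⟨x₂, hx₂, hx₂n⟩ := exists_mem_ne (Q : Subgroup G) {1, t, x₁, x₁ * t} (by
    refine lt_of_le_of_lt (Finset.card_le_four) (by omega))
  simp only [Finset.mem_singleton, Finset.mem_insert, not_or] at hx₁n hx₂n
  obtain ⟨n1, n2⟩ := hx₁n
  obtain ⟨n3, n4, n5, n6⟩ := hx₂n
  have i1 : Inv x₁ := ⟨n1, h.hQe _ hx₁⟩
  have i2 : Inv x₂ := ⟨n3, h.hQe _ hx₂⟩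
  have hm3 := (Q : Subgroup G).mul_mem hx₁ hx₂
  have i3 : Inv (x₁ * x₂) := by
    refine ⟨?_, h.hQe _ hm3⟩
    intro he
    apply n5
    have : x₁ * x₂ = x₁ * x₁ := by rw [he, h.hQe _ hx₁]
    exact mul_left_cancel this
  have hne3 : x₁ * x₂ ≠ t := by
    intro he
    apply n6
    have : x₁ * x₂ = x₁ * (x₁ * t) := by
      rw [he, ← mul_assoc, h.hQe _ hx₁, one_mul]
    exact mul_left_cancel this
  have e1 := h.inverts_of_Q hβ ht hu i1 (h.Q_comm hx₁ htQ) (h.Q_comm hx₁ huQ) n2 hy hinv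
  have e2 := h.inverts_of_Q hβ ht hu i2 (h.Q_comm hx₂ htQ) (h.Q_comm hx₂ huQ) n4 hy hinv
  have e3 := h.inverts_of_Q hβ ht hu i3 (h.Q_comm hm3 htQ) (h.Q_comm hm3 huQ) hne3 hy hinv
  have e4 : (x₁ * x₂) * y * (x₁ * x₂)⁻¹ = y := by
    calc (x₁ * x₂) * y * (x₁ * x₂)⁻¹ = x₁ * (x₂ * y * x₂⁻¹) * x₁⁻¹ := by group
      _ = x₁ * y⁻¹ * x₁⁻¹ := by rw [e2]
      _ = (x₁ * y * x₁⁻¹)⁻¹ := by group
      _ = y := by rw [e1]; simp
  rw [e4] at e3
  obtain ⟨-, k, hk⟩ := (h.mem_Wt ht).1 hy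
  apply hy1
  apply h.eq_one_of_sq hk
  calc y * y = y⁻¹ * y := by rw [← e3]
    _ = 1 := by group

/-- Sylow 2-subgroups are four-groups. -/
lemma MC.Q_eq (h : MC G p a r Q z) (hβ : NonComm G) {Q' : Sylow 2 G} {t s : G}
    (ht : t ∈ (Q' : Subgroup G)) (hs : s ∈ (Q' : Subgroup G)) (it : Inv t) (is : Inv s)
    (hne : t ≠ s) : ∀ x ∈ (Q' : Subgroup G), x = 1 ∨ x = t ∨ x = s ∨ x = t * s := by
  classical
  intro x hx
  by_contra hcon
  push Not at hcon
  obtain ⟨n1, n2, n3, n4⟩ := hcon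
  have hts1 : t * s ≠ 1 := by
    intro he
    apply hne
    have : t * s = t * t := by rw [he, it.2]
    exact (mul_left_cancel this).symm
  have hts2 : t * s ≠ t := by
    intro he
    exact is.1 (by simpa using he)
  have hts3 : t * s ≠ s := by
    intro he
    exact it.1 (by simpa using he)
  let L : Finset G := {x, 1, t, s, t * s}
  have hL : L.card = 5 := by
    have a1 : s ∉ ({t * s} : Finset G) := by
      rw [Finset.mem_singleton]; exact hts3.symm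
    have a2 : t ∉ ({s, t * s} : Finset G) := by
      simp only [Finset.mem_insert, Finset.mem_singleton, not_or]
      exact ⟨hne, hts2.symm⟩
    have a3 : (1 : G) ∉ ({t, s, t * s} : Finset G) := by
      simp only [Finset.mem_insert, Finset.mem_singleton, not_or]
      exact ⟨it.1.symm, is.1.symm, hts1.symm⟩
    have a4 : x ∉ ({1, t, s, t * s} : Finset G) := by
      simp only [Finset.mem_insert, Finset.mem_singleton, not_or]
      exact ⟨n1, n2, n3, n4⟩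
    simp only [L]
    rw [Finset.card_insert_of_notMem a4, Finset.card_insert_of_notMem a3,
      Finset.card_insert_of_notMem a2, Finset.card_insert_of_notMem a1, Finset.card_singleton]
  have hle : L.card ≤ Nat.card (Q' : Subgroup G) := by
    apply finset_card_le
    intro y hy
    simp only [L, Finset.mem_insert, Finset.mem_singleton] at hy
    rcases hy with rfl | rfl | rfl | rfl | rfl
    · exact hx
    · exact one_mem _
    · exact ht
    · exact hs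
    · exact mul_mem ht hs
  rw [hL, h.card_sylow Q', h.a_eq_two hβ] at hle
  omega

lemma MC.exists_u (h : MC G p a r Q z) (hβ : NonComm G) {t : G} (ht : Inv t) :
    ∃ u : G, Inv u ∧ u * t = t * u ∧ u ≠ t := by
  classical
  obtain ⟨Q', hQ'⟩ := h.mem_sylow ht
  have hc := h.card_sylow Q'
  rw [h.a_eq_two hβ] at hc
  obtain ⟨u, hu, hun⟩ := exists_mem_ne (Q' : Subgroup G) {1, t} (by
    refine lt_of_le_of_lt Finset.card_le_two (by omega))
  simp only [Finset.mem_singleton, Finset.mem_insert, not_or] at hun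
  have hQ2 : IsPGroup 2 (Q' : Subgroup G) := Q'.isPGroup'
  refine ⟨u, ⟨hun.1, ?_⟩, h.two_comm hQ2 hu hQ', hun.2⟩
  have : u ^ (2 ^ a) = 1 := by
    obtain ⟨n, hn⟩ := hQ2 ⟨u, hu⟩
    have hn' : u ^ (2 ^ n) = 1 := by
      have := congrArg Subtype.val hn
      simpa using this
    exact pow_eq_one_iff_modEq.2 (by
      have := orderOf_dvd_of_pow_eq_one hn'
      have hdvd : orderOf u ∣ 2 ^ a := by
        rw [← h.card_sylow Q']
        have := orderOf_dvd_natCard (⟨u, hu⟩ : (Q' : Subgroup G))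
        rwa [Subgroup.orderOf_mk] at this
      exact (Nat.modEq_zero_iff_dvd.2 hdvd))
  exact h.two_sq this

/-- `Wt` exhausts the Sylow subgroup -/
lemma MC.W_full (h : MC G p a r Q z) (hβ : NonComm G) {t : G} (ht : Inv t) {P : Sylow p G}
    (hP : Wt p t ≤ (P : Subgroup G)) : ∀ c ∈ (P : Subgroup G), c * t = t * c := by
  intro c hc
  by_contra hne
  obtain ⟨u, hu, hut, hun⟩ := h.exists_u hβ ht
  have htP : t • P = P := h.cent_norm hβ ht hP rfl
  have huP : u • P = P := h.cent_norm hβ ht hP hut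
  have hab := h.hab P
  have ht' := forall_of_smul_eq htP
  have hu' := forall_of_smul_eq huP
  set y := c⁻¹ * (t * c * t⁻¹) with hy
  have hyP : y ∈ (P : Subgroup G) := mul_mem (inv_mem hc) (ht' c hc)
  have hy1 : y ≠ 1 := by
    intro he
    apply hne
    have h1 : t * c * t⁻¹ = c := by
      calc t * c * t⁻¹ = c * y := by rw [hy]; group
        _ = c := by rw [he, mul_one]
    calc c * t = (t * c * t⁻¹) * t := by rw [h1]
      _ = t * c := by group
  have htinv : t⁻¹ = t := ht.inv_eq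
  have hyinv : t * y * t⁻¹ = y⁻¹ := by
    rw [hy]
    calc t * (c⁻¹ * (t * c * t⁻¹)) * t⁻¹ = t * c⁻¹ * t⁻¹ * (t * t * c * (t⁻¹ * t⁻¹)) := by group
      _ = t * c⁻¹ * t⁻¹ * c := by
        rw [htinv, ht.2]; group
      _ = (c⁻¹ * (t * c * t⁻¹))⁻¹ := by group
  obtain ⟨k, hk⟩ : ∃ k : ℕ, y ^ (p ^ k) = 1 := by
    obtain ⟨n, hn⟩ := P.isPGroup' ⟨y, hyP⟩
    refine ⟨n, ?_⟩
    have := congrArg Subtype.val hn
    simpa using this
  set y' := u * y * u⁻¹ with hy'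
  have hy'P : y' ∈ (P : Subgroup G) := hu' y hyP
  have hcomm := hab y hyP y' hy'P
  have hy2P : y * y' ∈ (P : Subgroup G) := mul_mem hyP hy'P
  have hui : u⁻¹ = u := hu.inv_eq
  have hty' : t * y' * t⁻¹ = y'⁻¹ := by
    rw [hy']
    have h1 : t * (u * y * u⁻¹) * t⁻¹ = u * (t * y * t⁻¹) * u⁻¹ := by
      calc t * (u * y * u⁻¹) * t⁻¹ = (t * u) * y * (u⁻¹ * t⁻¹) := by group
        _ = (u * t) * y * (t⁻¹ * u⁻¹) := by
          rw [hut.symm, ← mul_inv_rev, ← mul_inv_rev, hut]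
        _ = u * (t * y * t⁻¹) * u⁻¹ := by group
    rw [h1, hyinv]
    group
  have hinv2 : t * (y * y') * t⁻¹ = (y * y')⁻¹ := by
    calc t * (y * y') * t⁻¹ = (t * y * t⁻¹) * (t * y' * t⁻¹) := by group
      _ = y⁻¹ * y'⁻¹ := by rw [hyinv, hty']
      _ = (y' * y)⁻¹ := by group
      _ = (y * y')⁻¹ := by rw [hcomm]
  have hfix : (y * y') * u = u * (y * y') := by
    calc y * y' * u = y' * y * u := by rw [hcomm]
      _ = u * y * u⁻¹ * y * u := rfl
      _ = u * (y * (u⁻¹ * y * u)) := by group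
      _ = u * (y * (u * y * u⁻¹)) := by rw [hui]
      _ = u * (y * y') := rfl
  obtain ⟨k2, hk2⟩ : ∃ k : ℕ, (y * y') ^ (p ^ k) = 1 := by
    obtain ⟨n, hn⟩ := P.isPGroup' ⟨_, hy2P⟩
    refine ⟨n, ?_⟩
    have := congrArg Subtype.val hn
    simpa using this
  by_cases hy2 : y * y' = 1
  · -- `y' = y⁻¹`, so `u * t` centralises y
    have hy'e : y' = y⁻¹ := by
      calc y' = y⁻¹ * (y * y') := by group
        _ = y⁻¹ := by rw [hy2, mul_one]
    have iw : Inv (u * t) := by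
      refine ⟨?_, ?_⟩
      · intro he
        apply hun
        have : u * t = t * t := by rw [he, ht.2]
        exact mul_right_cancel this
      · calc u * t * (u * t) = u * (t * u) * t := by group
          _ = u * (u * t) * t := by rw [hut]
          _ = (u * u) * (t * t) := by group
          _ = 1 := by rw [hu.2, ht.2, one_mul]
    have hwc : (u * t) * t = t * (u * t) := by
      rw [mul_assoc, ht.2, mul_one, ← mul_assoc, ← hut, mul_assoc, ht.2, mul_one]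
    have hwne : u * t ≠ t := by
      intro he
      exact hu.1 (by simpa using he)
    have hfix2 : y * (u * t) = (u * t) * y := by
      have h1 : (u * t) * y * (u * t)⁻¹ = y := by
        calc (u * t) * y * (u * t)⁻¹ = u * (t * y * t⁻¹) * u⁻¹ := by group
          _ = u * y⁻¹ * u⁻¹ := by rw [hyinv]
          _ = (u * y * u⁻¹)⁻¹ := by group
          _ = y := by rw [← hy', hy'e, inv_inv]
      calc y * (u * t) = ((u * t) * y * (u * t)⁻¹) * (u * t) := by rw [h1]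
        _ = (u * t) * y := by group
    have hyW : y ∈ Wt p (u * t) := (h.mem_Wt iw).2 ⟨hfix2, k, hk⟩
    obtain ⟨Pw, hPw⟩ := h.exists_R iw
    have e : P = Pw := h.R_mem iw ht hyW hy1 hyinv hPw hyP
    rw [← e] at hPw
    exact h.R_inj hβ iw ht hwc hwne hPw hP
  · have hW : y * y' ∈ Wt p u := (h.mem_Wt hu).2 ⟨hfix, k2, hk2⟩
    obtain ⟨Pu, hPu⟩ := h.exists_R hu
    have e : P = Pu := h.R_mem hu ht hW hy2 hinv2 hPu hy2P
    rw [← e] at hPu
    exact h.R_inj hβ hu ht hut hun hPu hP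

/-- odd part of an element -/
lemma exists_odd_part (g : G) : ∃ i : ℕ, ¬ 2 ∣ orderOf (g ^ (2 ^ i)) := by
  have hpos : orderOf g ≠ 0 := (orderOf_pos g).ne'
  obtain ⟨i, m, hm, hi⟩ := Nat.exists_eq_two_pow_mul_odd hpos
  refine ⟨i, ?_⟩
  have : orderOf (g ^ (2 ^ i)) = m := by
    rw [orderOf_pow_of_dvd (by positivity) (by rw [hi]; exact dvd_mul_right _ _), hi]
    exact Nat.mul_div_cancel_left m (by positivity)
  rw [this]
  exact hm.not_two_dvd_nat

lemma MC.R_inj_all (h : MC G p a r Q z) (hβ : NonComm G) {t s : G} (ht : Inv t) (hs : Inv s)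
    {P : Sylow p G} (hP1 : Wt p t ≤ (P : Subgroup G)) (hP2 : Wt p s ≤ (P : Subgroup G)) : t = s := by
  by_contra hne
  have ft := h.W_full hβ ht hP1
  have fs := h.W_full hβ hs hP2
  obtain ⟨i, hi⟩ := exists_odd_part (t * s)
  set y := (t * s) ^ (2 ^ i) with hy
  have hinv : t * y * t⁻¹ = y⁻¹ := conj_pow_inv (conj_mul_inv ht hs) _
  obtain ⟨k, hk⟩ := h.p_elt_of_inv ht hi (Or.inr hinv)
  have hyP : y ∈ (P : Subgroup G) := by
    apply mem_of_norm_sylow hk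
    intro x hx
    have hxts : x * (t * s) = (t * s) * x := by
      rw [← mul_assoc, ft x hx, mul_assoc, fs x hx, mul_assoc]
    have hxy : y * x = x * y := by
      rw [hy]
      exact (Commute.pow_left (Commute.symm hxts) _)
    rw [hxy]
    simpa using hx
  have hyt := ft y hyP
  have hy1 : y = 1 := by
    apply h.eq_one_of_sq hk
    have h1 : t * y * t⁻¹ = y := by rw [← hyt]; group
    have h2 : y = y⁻¹ := by rw [← hinv, h1]
    calc y * y = y⁻¹ * y := by rw [← h2]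
      _ = 1 := by group
  have hsq : (t * s) * (t * s) = 1 := h.two_sq hy1
  exact h.R_inj hβ ht hs (comm_of_sq ht hs hsq) hne hP1 hP2

end ctx

end Cfsg.Agent.Lib.Char.PDiv
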