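import Cfsg.Agent.Lib.Char.PDiv4

/-!
Statement S4017: the friendship graph on the involutions in the non-commuting case.
-/

namespace Cfsg.Agent.Lib.Char.PDiv

open Subgroup

variable {G : Type*} [Group G] [Finite G]

/-- The commuting graph on the involutions. -/
def invGraph (G : Type*) [Group G] : SimpleGraph {t : G // Inv t} where
  Adj a b := a ≠ b ∧ (a : G) * b = b * a
  symm := ⟨fun _ _ h => ⟨h.1.symm, h.2.symm⟩⟩
  loopless := ⟨fun _ h => h.1 rfl⟩

section ctx

variable {p a r : ℕ} [Fact p.Prime] {Q : Sylow 2 G} {z : G}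

lemma inv_mul_of_comm {t s : G} (ht : Inv t) (hs : Inv s) (hc : t * s = s * t) (hne : t ≠ s) :
    Inv (t * s) := by
  refine ⟨?_, ?_⟩
  · intro he
    apply hne
    have : t * s = t * t := by rw [he, ht.2]
    exact (mul_left_cancel this).symm
  · calc t * s * (t * s) = t * (s * t) * s := by group
      _ = t * (t * s) * s := by rw [hc]
      _ = (t * t) * (s * s) := by group
      _ = 1 := by rw [ht.2, hs.2, one_mul]

lemma MC.common_comm (h : MC G p a r Q z) (hβ : NonComm G) {t s x : G} (ht : Inv t) (hs : Inv s)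
    (hc : t * s = s * t) (hne : t ≠ s) (hx : Inv x) (h1 : x * t = t * x) (h2 : x * s = s * x)
    (n1 : x ≠ t) (n2 : x ≠ s) : x = t * s := by
  obtain ⟨Q', mt, ms⟩ := h.mem_sylow2 ht hs hc
  have hQE := h.Q_eq hβ mt ms ht hs hne
  have hxm : x ∈ (Q' : Subgroup G) := by
    apply mem_of_norm_sylow (k := 1) (by simpa [pow_two] using hx.2)
    intro y hy
    have hxy : x * y = y * x := by
      rcases hQE y hy with rfl | rfl | rfl | rfl
      · simp
      · exact h1
      · exact h2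
      · rw [← mul_assoc, h1, mul_assoc, h2, mul_assoc]
    rw [hxy]
    simpa using hy
  rcases hQE x hxm with he | he | he | he
  · exact absurd he hx.1
  · exact absurd he n1
  · exact absurd he n2
  · exact he

lemma MC.common_noncomm_unique (h : MC G p a r Q z) (hβ : NonComm G) {t s x x' : G} (ht : Inv t)
    (hs : Inv s) (hne : t ≠ s) (hx : Inv x) (hx' : Inv x')
    (h1 : x * t = t * x) (h2 : x * s = s * x) (n1 : x ≠ t) (n2 : x ≠ s)
    (h1' : x' * t = t * x') (h2' : x' * s = s * x') (n1' : x' ≠ t) (n2' : x' ≠ s) : x = x' := by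
  by_contra hxx
  by_cases hc : x * x' = x' * x
  · have e1 := h.common_comm hβ hx hx' hc hxx ht h1.symm h1'.symm n1.symm n1'.symm
    have e2 := h.common_comm hβ hx hx' hc hxx hs h2.symm h2'.symm n2.symm n2'.symm
    exact hne (e1.trans e2.symm)
  · set g := x * x' with hg
    have hgt : g * t = t * g := by
      rw [hg, mul_assoc, h1', ← mul_assoc, h1, mul_assoc]
    have hgs : g * s = s * g := by
      rw [hg, mul_assoc, h2', ← mul_assoc, h2, mul_assoc]
    obtain ⟨i, j, hij⟩ := h.order_cent ht hgt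
    obtain ⟨hp1, hp2⟩ := h.p_part hij
    have hy1 : g ^ 2 ^ i ≠ 1 := fun he => hc (comm_of_sq hx hx' (hp2 he))
    have hyt : g ^ 2 ^ i ∈ Wt p t := (h.mem_Wt ht).2 ⟨comm_pow hgt _, j, hp1⟩
    have hys : g ^ 2 ^ i ∈ Wt p s := (h.mem_Wt hs).2 ⟨comm_pow hgs _, j, hp1⟩
    have hinv : x * g ^ 2 ^ i * x⁻¹ = (g ^ 2 ^ i)⁻¹ := conj_pow_inv (conj_mul_inv hx hx') _
    obtain ⟨Pt, hPt⟩ := h.exists_R ht
    obtain ⟨Ps, hPs⟩ := h.exists_R hs
    have e : Pt = Ps := h.R_mem hs hx hys hy1 hinv hPs (hPt hyt)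
    rw [e] at hPt
    exact hne (h.R_inj_all hβ ht hs hPt hPs)

lemma MC.exists_t_of_sylow (h : MC G p a r Q z) {t₀ : G} (ht₀ : Inv t₀) (P₁ : Sylow p G) :
    ∃ t₁ : G, Inv t₁ ∧ Wt p t₁ ≤ (P₁ : Subgroup G) := by
  obtain ⟨P₀, hP₀⟩ := h.exists_R ht₀
  obtain ⟨c, hc⟩ := MulAction.exists_smul_eq G P₀ P₁
  refine ⟨c * t₀ * c⁻¹, ht₀.conj c, ?_⟩
  have := h.R_conj ht₀ hP₀ c
  rwa [hc] at this

/-- existence of a common neighbour of non-commuting involutions -/
lemma MC.common_noncomm_exists (h : MC G p a r Q z) (hβ : NonComm G) {t s : G} (ht : Inv t)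
    (hs : Inv s) (hc : t * s ≠ s * t) :
    ∃ x : G, Inv x ∧ x * t = t * x ∧ x * s = s * x ∧ x ≠ t ∧ x ≠ s := by
  set g := t * s with hg
  have hg2 : g * g ≠ 1 := fun he => hc (comm_of_sq ht hs he)
  have c1 : t * g * t⁻¹ = g⁻¹ := conj_mul_inv ht hs
  have c2 : s * g * s⁻¹ = g⁻¹ := conj_mul_inv' ht hs
  have hinvcomm : ∀ u : G, Inv u → u * g * u⁻¹ = g⁻¹ → ∀ w : G, w * g = g * w → u ≠ w := by
    intro u _ hu w hw he
    subst he
    apply hg2
    have h1 : u * g * u⁻¹ = g := by rw [hw]; group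
    have h3 : g = g⁻¹ := by rw [← hu, h1]
    calc g * g = g⁻¹ * g := by rw [← h3]
      _ = 1 := by group
  by_cases h2 : 2 ∣ orderOf g
  · set v := g ^ (orderOf g / 2) with hv
    have ho : orderOf v = 2 := orderOf_pow_orderOf_div (orderOf_pos g).ne' h2
    have hv1 : v ≠ 1 := by
      intro he
      rw [he, orderOf_one] at ho
      omega
    have hvv : v * v = 1 := by
      have := pow_orderOf_eq_one v
      rwa [ho, pow_two] at this
    have iv : Inv v := ⟨hv1, hvv⟩
    have hvg : v * g = g * v := by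
      rw [hv]
      exact (Commute.pow_left (Commute.refl g) _)
    have ct : v * t = t * v := by
      have := conj_pow_inv c1 (orderOf g / 2)
      rw [← hv, iv.inv_eq] at this
      calc v * t = (t * v * t⁻¹) * t := by rw [this]
        _ = t * v := by group
    have cs : v * s = s * v := by
      have := conj_pow_inv c2 (orderOf g / 2)
      rw [← hv, iv.inv_eq] at this
      calc v * s = (s * v * s⁻¹) * s := by rw [this]
        _ = s * v := by group
    exact ⟨v, iv, ct, cs, (hinvcomm t ht c1 v hvg).symm, (hinvcomm s hs c2 v hvg).symm⟩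
  · obtain ⟨k, hk⟩ := h.p_elt_of_inv ht h2 (Or.inr c1)
    have hg1 : g ≠ 1 := by
      intro he
      apply hg2
      rw [he, one_mul]
    obtain ⟨P₁, hP₁⟩ := (isPGroup_zpowers_of (p := p) hk).exists_le_sylow
    have hgP : g ∈ (P₁ : Subgroup G) := hP₁ (mem_zpowers g)
    obtain ⟨t₁, it, hR⟩ := h.exists_t_of_sylow ht P₁
    have hfull := h.W_full hβ it hR
    have hcomm : ∀ u : G, Inv u → u * g * u⁻¹ = g⁻¹ → t₁ * u = u * t₁ := by
      intro u iu hu
      have hsm : g ∈ ((u • P₁ : Sylow p G) : Subgroup G) := by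
        have h1 := (conj_mem_smul P₁ u g⁻¹).2 (inv_mem hgP)
        have h3 : u * g⁻¹ * u⁻¹ = g := by
          have : u * g⁻¹ * u⁻¹ = (u * g * u⁻¹)⁻¹ := by group
          rw [this, hu, inv_inv]
        rwa [h3] at h1
      have hfix : u • P₁ = P₁ := h.uniq_sylow hk hg1 iu hu hsm hgP
      have hR2 := h.R_conj it hR u
      rw [hfix] at hR2
      have e := h.R_inj_all hβ (it.conj u) it hR2 hR
      calc t₁ * u = (u * t₁ * u⁻¹) * u := by rw [e]
        _ = u * t₁ := by group
    refine ⟨t₁, it, hcomm t ht c1, hcomm s hs c2, ?_, ?_⟩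
    · exact (hinvcomm t ht c1 t₁ (hfull g hgP).symm).symm
    · exact (hinvcomm s hs c2 t₁ (hfull g hgP).symm).symm

/-- uniqueness and existence of common neighbours -/
lemma MC.friend (h : MC G p a r Q z) (hβ : NonComm G) (x y : {t : G // Inv t}) (hxy : x ≠ y) :
    ∃! w, (invGraph G).Adj x w ∧ (invGraph G).Adj y w := by
  obtain ⟨t, ht⟩ := x
  obtain ⟨s, hs⟩ := y
  have hne : t ≠ s := fun he => hxy (Subtype.ext he)
  by_cases hc : t * s = s * t
  · have iw := inv_mul_of_comm ht hs hc hne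
    refine ⟨⟨t * s, iw⟩, ⟨⟨?_, ?_⟩, ⟨?_, ?_⟩⟩, ?_⟩
    · intro he
      have := congrArg Subtype.val he
      exact hs.1 (by simpa using this.symm)
    · show t * (t * s) = t * s * t
      rw [mul_assoc, ← hc]
    · intro he
      have := congrArg Subtype.val he
      exact ht.1 (by simpa using this.symm)
    · show s * (t * s) = t * s * s
      rw [← mul_assoc, ← hc]
    · rintro ⟨w, iw'⟩ ⟨⟨n1, h1⟩, ⟨n2, h2⟩⟩
      apply Subtype.ext
      refine h.common_comm hβ ht hs hc hne iw' h1.symm h2.symm ?_ ?_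
      · intro he
        exact n1 (Subtype.ext he.symm)
      · intro he
        exact n2 (Subtype.ext he.symm)
  · obtain ⟨w, iw, h1, h2, n1, n2⟩ := h.common_noncomm_exists hβ ht hs hc
    refine ⟨⟨w, iw⟩, ⟨⟨?_, h1.symm⟩, ⟨?_, h2.symm⟩⟩, ?_⟩
    · intro he
      exact n1 (congrArg Subtype.val he).symm
    · intro he
      exact n2 (congrArg Subtype.val he).symm
    · rintro ⟨w', iw'⟩ ⟨⟨n1', h1'⟩, ⟨n2', h2'⟩⟩
      apply Subtype.ext
      refine h.common_noncomm_unique hβ ht hs hne iw' iw h1'.symm h2'.symm ?_ ?_ h1 h2 n1 n2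
      · intro he
        exact n1' (Subtype.ext he.symm)
      · intro he
        exact n2' (Subtype.ext he.symm)

lemma MC.ncard_conj (_h : MC G p a r Q z) (x : {t : G // Inv t}) (c : G) :
    Set.ncard {w | (invGraph G).Adj ⟨c * x.1 * c⁻¹, x.2.conj c⟩ w} =
      Set.ncard {w | (invGraph G).Adj x w} := by
  let φ : {t : G // Inv t} → {t : G // Inv t} := fun w => ⟨c * w.1 * c⁻¹, w.2.conj c⟩
  have hφ : Function.Injective φ := by
    intro u v huv
    have := congrArg Subtype.val huv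
    simp only [φ] at this
    exact Subtype.ext (by simpa using this)
  have : {w | (invGraph G).Adj ⟨c * x.1 * c⁻¹, x.2.conj c⟩ w} = φ '' {w | (invGraph G).Adj x w} := by
    ext w
    constructor
    · rintro ⟨h1, h2⟩
      refine ⟨⟨c⁻¹ * w.1 * c, by simpa using w.2.conj c⁻¹⟩, ⟨?_, ?_⟩, ?_⟩
      · intro he
        apply h1
        apply Subtype.ext
        have h3 := congrArg Subtype.val he
        simp only at h3
        show c * x.1 * c⁻¹ = w.1
        rw [h3]; group
      · show x.1 * (c⁻¹ * w.1 * c) = c⁻¹ * w.1 * c * x.1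
        have h4 : (c * x.1 * c⁻¹) * w.1 = w.1 * (c * x.1 * c⁻¹) := h2
        have h5 : c * (x.1 * (c⁻¹ * w.1 * c)) * c⁻¹ = c * (c⁻¹ * w.1 * c * x.1) * c⁻¹ := by
          calc c * (x.1 * (c⁻¹ * w.1 * c)) * c⁻¹ = (c * x.1 * c⁻¹) * w.1 := by group
            _ = w.1 * (c * x.1 * c⁻¹) := h4
            _ = c * (c⁻¹ * w.1 * c * x.1) * c⁻¹ := by group
        simpa using h5
      · apply Subtype.ext
        show c * (c⁻¹ * w.1 * c) * c⁻¹ = w.1
        group
    · rintro ⟨v, ⟨h1, h2⟩, rfl⟩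
      refine ⟨?_, ?_⟩
      · intro he
        apply h1
        apply Subtype.ext
        have h3 := congrArg Subtype.val he
        have h3' : c * x.1 * c⁻¹ = c * v.1 * c⁻¹ := h3
        simpa using h3'
      · show (c * x.1 * c⁻¹) * (c * v.1 * c⁻¹) = (c * v.1 * c⁻¹) * (c * x.1 * c⁻¹)
        calc (c * x.1 * c⁻¹) * (c * v.1 * c⁻¹) = c * (x.1 * v.1) * c⁻¹ := by group
          _ = c * (v.1 * x.1) * c⁻¹ := by rw [show x.1 * v.1 = v.1 * x.1 from h2]
          _ = (c * v.1 * c⁻¹) * (c * x.1 * c⁻¹) := by group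
  rw [this]
  exact Set.ncard_image_of_injective _ hφ

/-- The non-commuting case is impossible -/
theorem MC.false_of_nonComm (h : MC G p a r Q z) (hβ : NonComm G) : False := by
  classical
  obtain ⟨t, u, y, htQ, huQ, ht, hu, hy, hy1, hinv⟩ := h.beta_y hβ
  obtain ⟨hyt, k, hk⟩ := (h.mem_Wt ht).1 hy
  have hut : u * t = t * u := h.Q_comm huQ htQ
  have hyy : y * y ≠ 1 := fun he => hy1 (h.eq_one_of_sq hk he)
  have hune : u ≠ t := by
    intro he
    subst he
    apply hyy
    have h1 : u * y * u⁻¹ = y := by rw [← hyt]; group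
    have h3 : y = y⁻¹ := by rw [← hinv, h1]
    calc y * y = y⁻¹ * y := by rw [← h3]
      _ = 1 := by group
  have iw := inv_mul_of_comm hu ht hut hune
  have in3 := hu.conj y
  haveI : Fintype {t : G // Inv t} := Fintype.ofFinite _
  haveI : Nonempty {t : G // Inv t} := ⟨⟨t, ht⟩⟩
  have hyu : y * u * y⁻¹ = y * y * u := by
    have h1 : u * y⁻¹ * u⁻¹ = y := by
      have : u * y⁻¹ * u⁻¹ = (u * y * u⁻¹)⁻¹ := by group
      rw [this, hinv, inv_inv]
    calc y * u * y⁻¹ = y * (u * y⁻¹ * u⁻¹) * u := by group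
      _ = y * y * u := by rw [h1]
  have A1 : (invGraph G).Adj ⟨t, ht⟩ ⟨u, hu⟩ :=
    ⟨fun he => hune (congrArg Subtype.val he).symm, hut.symm⟩
  have A2 : (invGraph G).Adj ⟨t, ht⟩ ⟨u * t, iw⟩ := by
    refine ⟨?_, ?_⟩
    · intro he
      have : t = u * t := congrArg Subtype.val he
      exact hu.1 (by simpa using this.symm)
    · show t * (u * t) = u * t * t
      rw [← mul_assoc, ← hut]
  have A3 : (invGraph G).Adj ⟨t, ht⟩ ⟨y * u * y⁻¹, in3⟩ := by
    refine ⟨?_, ?_⟩
    · intro he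
      have e : t = y * u * y⁻¹ := congrArg Subtype.val he
      apply hune
      have h1 : y⁻¹ * t * y = u := by rw [e]; group
      have h2 : y⁻¹ * t * y = t := by
        calc y⁻¹ * t * y = y⁻¹ * (t * y) := by group
          _ = y⁻¹ * (y * t) := by rw [hyt]
          _ = t := by group
      rw [← h1, h2]
    · show t * (y * u * y⁻¹) = y * u * y⁻¹ * t
      have hyit : y⁻¹ * t = t * y⁻¹ := by
        calc y⁻¹ * t = y⁻¹ * (t * y) * y⁻¹ := by group
          _ = y⁻¹ * (y * t) * y⁻¹ := by rw [hyt]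
          _ = t * y⁻¹ := by group
      calc t * (y * u * y⁻¹) = (t * y) * u * y⁻¹ := by group
        _ = y * (t * u) * y⁻¹ := by rw [← hyt]; group
        _ = y * (u * t) * y⁻¹ := by rw [hut]
        _ = y * u * (t * y⁻¹) := by group
        _ = y * u * y⁻¹ * t := by rw [← hyit]; group
  have n12 : (⟨u, hu⟩ : {t : G // Inv t}) ≠ ⟨u * t, iw⟩ := by
    intro he
    have : u = u * t := congrArg Subtype.val he
    exact ht.1 (by simpa using this.symm)
  have n13 : (⟨u, hu⟩ : {t : G // Inv t}) ≠ ⟨y * u * y⁻¹, in3⟩ := by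
    intro he
    have : u = y * u * y⁻¹ := congrArg Subtype.val he
    rw [hyu] at this
    exact hyy (by simpa using this.symm)
  have n23 : (⟨u * t, iw⟩ : {t : G // Inv t}) ≠ ⟨y * u * y⁻¹, in3⟩ := by
    intro he
    have e : u * t = y * u * y⁻¹ := congrArg Subtype.val he
    rw [hyu] at e
    have e2 : y * y = t := by
      have : y * y = y * y * u * u⁻¹ := by group
      rw [this, ← e, hut]
      group
    apply ht.1
    apply h.eq_one_of_sq (k := k) _ ht.2
    rw [← e2, ← pow_two, ← pow_mul, mul_comm, pow_mul, hk, one_pow]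
  have h3 : 3 ≤ Set.ncard {w | (invGraph G).Adj ⟨t, ht⟩ w} := by
    have hsub : ({⟨u, hu⟩, ⟨u * t, iw⟩, ⟨y * u * y⁻¹, in3⟩} : Set {t : G // Inv t}) ⊆
        {w | (invGraph G).Adj ⟨t, ht⟩ w} := by
      intro w hw
      simp only [Set.mem_insert_iff, Set.mem_singleton_iff] at hw
      rcases hw with rfl | rfl | rfl
      · exact A1
      · exact A2
      · exact A3
    have hc : Set.ncard ({⟨u, hu⟩, ⟨u * t, iw⟩, ⟨y * u * y⁻¹, in3⟩} : Set {t : G // Inv t}) = 3 :=
      Set.ncard_eq_three.2 ⟨_, _, _, n12, n13, n23, rfl⟩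
    rw [← hc]
    exact Set.ncard_le_ncard hsub (Set.toFinite _)
  have hd : ∀ v : {t : G // Inv t}, Set.ncard {w | (invGraph G).Adj v w} =
      Set.ncard {w | (invGraph G).Adj ⟨t, ht⟩ w} := by
    rintro ⟨v, iv⟩
    obtain ⟨c, rfl⟩ := h.inv_conj ht iv
    exact h.ncard_conj ⟨t, ht⟩ c
  exact FriendReg.false_of_regular (invGraph G) (h.friend hβ) _ hd h3

end ctx

end Cfsg.Agent.Lib.Char.PDiv
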