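import Cfsg.Agent.Lib.Char.PDiv5

/-!
Statement S4017: the commuting case, where two involutions commuting with a third commute.
-/

namespace Cfsg.Agent.Lib.Char.PDiv

open Subgroup

variable {G : Type*} [Group G] [Finite G]

section ctx

variable {p a r : ℕ} [Fact p.Prime] {Q : Sylow 2 G} {z : G}

lemma comm_of_not (hα : ¬ NonComm G) {t s₁ s₂ : G} (ht : Inv t) (h1 : Inv s₁) (h2 : Inv s₂)
    (c1 : s₁ * t = t * s₁) (c2 : s₂ * t = t * s₂) : s₁ * s₂ = s₂ * s₁ := by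
  by_contra hne
  exact hα ⟨t, s₁, s₂, ht, h1, h2, c1, c2, hne⟩

lemma MC.inv_of_mem (h : MC G p a r Q z) {Q' : Sylow 2 G} {x : G} (hx : x ∈ (Q' : Subgroup G))
    (h1 : x ≠ 1) : Inv x := by
  refine ⟨h1, ?_⟩
  obtain ⟨k, hk⟩ := Q'.isPGroup' ⟨x, hx⟩
  have hk' : x ^ (2 ^ k) = 1 := by
    have := congrArg Subtype.val hk
    simpa using this
  exact h.two_sq hk'

lemma MC.alpha_mem (h : MC G p a r Q z) (hα : ¬ NonComm G) {Q' : Sylow 2 G} {t s : G}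
    (hQ : t ∈ (Q' : Subgroup G)) (ht : Inv t) (hs : Inv s) (hc : s * t = t * s) :
    s ∈ (Q' : Subgroup G) := by
  have hN : ∀ y ∈ (Q' : Subgroup G), s * y * s⁻¹ ∈ (Q' : Subgroup G) := by
    intro y hy
    by_cases hy1 : y = 1
    · subst hy1
      simp
    · have iy := h.inv_of_mem hy hy1
      have c2 : y * t = t * y := h.two_comm Q'.isPGroup' hy hQ
      have := comm_of_not hα ht hs iy hc c2
      rw [this]
      simpa using hy
  refine mem_of_norm_sylow (k := 1) ?_ hN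
  rw [pow_one, pow_two]
  exact hs.2

lemma MC.alpha_cent (h : MC G p a r Q z) (hα : ¬ NonComm G) {Q' : Sylow 2 G} {t c : G}
    (hQ : t ∈ (Q' : Subgroup G)) (ht : Inv t) (hc : c * t = t * c) :
    ∀ x ∈ (Q' : Subgroup G), c * x * c⁻¹ = x := by
  have hg : c * t * c⁻¹ = t := by rw [hc]; group
  refine h.fix_cent ?_ hQ ht.1 hg
  intro x hx
  by_cases hx1 : x = 1
  · subst hx1
    simp
  · have ix := h.inv_of_mem hx hx1
    refine h.alpha_mem hα hQ ht (ix.conj c) ?_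
    have c2 : x * t = t * x := h.two_comm Q'.isPGroup' hx hQ
    calc c * x * c⁻¹ * t = c * x * c⁻¹ * (c * t * c⁻¹) := by rw [hg]
      _ = c * (x * t) * c⁻¹ := by group
      _ = c * (t * x) * c⁻¹ := by rw [c2]
      _ = (c * t * c⁻¹) * (c * x * c⁻¹) := by group
      _ = t * (c * x * c⁻¹) := by rw [hg]

lemma comm_of_conj {c x : G} (h : c * x * c⁻¹ = x) : x * c = c * x := by
  calc x * c = (c * x * c⁻¹) * c := by rw [h]
    _ = c * x := by group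

lemma MC.alpha_Wt (h : MC G p a r Q z) (hα : ¬ NonComm G) {v₁ v₂ : G} (i1 : Inv v₁) (i2 : Inv v₂)
    (hc : v₁ * v₂ = v₂ * v₁) {c : G} (hcm : c ∈ Wt p v₁) : c ∈ Wt p v₂ := by
  obtain ⟨Q', h1, h2⟩ := h.mem_sylow2 i1 i2 hc
  obtain ⟨hc1, k, hk⟩ := (h.mem_Wt i1).1 hcm
  refine (h.mem_Wt i2).2 ⟨?_, k, hk⟩
  exact (comm_of_conj (h.alpha_cent hα h1 i1 hc1 v₂ h2)).symm

lemma MC.alpha_no_inv (h : MC G p a r Q z) (hα : ¬ NonComm G) {t c v : G} (ht : Inv t)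
    (hc : c ∈ Wt p t) (hv : Inv v) (hinv : v * c * v⁻¹ = c⁻¹) : c = 1 := by
  by_contra hc1
  obtain ⟨hcom, k, hk⟩ := (h.mem_Wt ht).1 hc
  have hy2 : c * c ≠ 1 := fun hh => hc1 (h.eq_one_of_sq hk hh)
  obtain ⟨Q', hQ'⟩ := h.mem_sylow ht
  have := h.two_part hy2 hv hinv (S := (Q' : Subgroup G)) Q'.isPGroup' (fun x hx =>
    comm_of_conj (h.alpha_cent hα hQ' ht hcom x hx))
  rw [h.card_sylow Q', ← pow_succ] at this
  have h3 := Nat.le_of_dvd (by positivity) this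
  have h4 : 2 ^ a < 2 ^ (a + 1) := Nat.pow_lt_pow_right (by norm_num) (Nat.lt_succ_self a)
  omega

lemma MC.exists_two_mem (h : MC G p a r Q z) (Q' : Sylow 2 G) (x : G) :
    ∃ y ∈ (Q' : Subgroup G), y ≠ 1 ∧ y ≠ x := by
  classical
  have hcard : ({1, x} : Finset G).card < Nat.card (Q' : Subgroup G) := by
    rw [h.card_sylow Q']
    have h1 : ({1, x} : Finset G).card ≤ 2 := Finset.card_le_two
    have h2 : 2 ^ 2 ≤ 2 ^ a := Nat.pow_le_pow_right (by norm_num) h.a_ge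
    omega
  obtain ⟨y, hy, hy'⟩ := exists_mem_ne _ _ hcard
  refine ⟨y, hy, fun hh => hy' (by simp [hh]), fun hh => hy' (by simp [hh])⟩

lemma MC.alpha_not_all (h : MC G p a r Q z) (hα : ¬ NonComm G) {t : G} (ht : Inv t)
    (P : Sylow p G) : ¬ ∀ x ∈ (P : Subgroup G), x * t = t * x := by
  intro hall
  obtain ⟨t₀, ht₀Q, ht₀1, -⟩ := h.exists_two_mem Q 1
  have it₀ := h.inv_of_mem ht₀Q ht₀1
  obtain ⟨g, hg⟩ := h.inv_conj ht it₀
  -- `g • P` centralises `t₀`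
  have hall' : ∀ x ∈ ((g • P : Sylow p G) : Subgroup G), x * t₀ = t₀ * x := by
    intro x hx
    have hx' : g⁻¹ * x * g ∈ (P : Subgroup G) := by
      have : g * (g⁻¹ * x * g) * g⁻¹ ∈ ((g • P : Sylow p G) : Subgroup G) := by
        convert hx using 1
        group
      exact (conj_mem_smul P g _).1 this
    have := hall _ hx'
    rw [← hg]
    calc x * (g * t * g⁻¹) = g * ((g⁻¹ * x * g) * t) * g⁻¹ := by group
      _ = g * (t * (g⁻¹ * x * g)) * g⁻¹ := by rw [this]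
      _ = g * t * g⁻¹ * x := by group
  have hle : ((g • P : Sylow p G) : Subgroup G) ≤ Wt p t₀ := by
    intro x hx
    refine (h.mem_Wt it₀).2 ⟨hall' x hx, ?_⟩
    obtain ⟨k, hk⟩ := (g • P : Sylow p G).isPGroup' ⟨x, hx⟩
    refine ⟨k, ?_⟩
    have := congrArg Subtype.val hk
    simpa using this
  have heq : Wt p t₀ = ((g • P : Sylow p G) : Subgroup G) :=
    (g • P : Sylow p G).is_maximal' (h.Wt_eq it₀).1 hle
  have hzmem : z ∈ ((g • P : Sylow p G) : Subgroup G) := by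
    obtain ⟨k, hk⟩ := h.hzp
    refine mem_of_norm_sylow hk ?_
    intro y hy
    rw [← heq] at hy ⊢
    obtain ⟨hcom, k', hk'⟩ := (h.mem_Wt it₀).1 hy
    refine (h.mem_Wt it₀).2 ⟨?_, k', ?_⟩
    · have hcent := h.alpha_cent hα ht₀Q it₀ hcom
      have hzinv : z⁻¹ * t₀ * z ∈ (Q : Subgroup G) := by
        have := zpow_norm (S := (Q : Subgroup G)) (g := z) h.hzN (-1) t₀ ht₀Q
        simpa using this
      have h2 := comm_of_conj (hcent _ hzinv)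
      calc z * y * z⁻¹ * t₀ = z * (y * (z⁻¹ * t₀ * z)) * z⁻¹ := by group
        _ = z * ((z⁻¹ * t₀ * z) * y) * z⁻¹ := by rw [← h2]
        _ = t₀ * (z * y * z⁻¹) := by group
    · rw [conj_pow, hk']
      group
  rw [← heq] at hzmem
  obtain ⟨hcomz, -⟩ := (h.mem_Wt it₀).1 hzmem
  obtain ⟨y, hy, hy1, hyt⟩ := h.exists_two_mem Q t₀
  obtain ⟨m, hm⟩ := h.hzT t₀ ht₀Q y hy ht₀1 hy1
  apply hyt
  rw [← hm, comm_pow hcomz m]
  group

lemma MC.alpha_Wt_le (h : MC G p a r Q z) (hα : ¬ NonComm G) {v : G} (hv : Inv v) {P : Sylow p G}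
    (hN : v • P = P) : Wt p v ≤ (P : Subgroup G) := by
  obtain ⟨t₁, it₁, hle⟩ := h.exists_t_of_sylow hv P
  have hab := h.hab P
  have hN' := forall_of_smul_eq hN
  set K : Subgroup G := (P : Subgroup G) ⊓ Wt p v with hK
  have hvv : ∀ x : G, v * (v * x * v⁻¹) * v⁻¹ = x := by
    intro x
    rw [hv.inv_eq]
    calc v * (v * x * v) * v = (v * v) * x * (v * v) := by group
      _ = x := by rw [hv.2]; group
  have hmem : ∀ x : Wt p t₁, (x : G) * (v * x * v⁻¹) ∈ K := by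
    intro x
    have hx : (x : G) ∈ (P : Subgroup G) := hle x.2
    have hw := hN' x hx
    have hp := P.mul_mem' hx hw
    refine ⟨hp, (h.mem_Wt hv).2 ⟨?_, ?_⟩⟩
    · have e : v * ((x : G) * (v * x * v⁻¹)) * v⁻¹ = (x : G) * (v * x * v⁻¹) := by
        calc v * ((x : G) * (v * x * v⁻¹)) * v⁻¹
            = (v * x * v⁻¹) * (v * (v * x * v⁻¹) * v⁻¹) := by group
          _ = (v * x * v⁻¹) * x := by rw [hvv]
          _ = _ := hab _ hw _ hx
      exact comm_of_conj e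
    · obtain ⟨k, hk⟩ := P.isPGroup' ⟨_, hp⟩
      refine ⟨k, ?_⟩
      have := congrArg Subtype.val hk
      simpa using this
  let φ : Wt p t₁ → K := fun x => ⟨_, hmem x⟩
  have hinj : Function.Injective φ := by
    intro x₁ x₂ hφ
    have hφ' : (x₁ : G) * (v * x₁ * v⁻¹) = (x₂ : G) * (v * x₂ * v⁻¹) :=
      congrArg Subtype.val hφ
    have h1P : (x₁ : G) ∈ (P : Subgroup G) := hle x₁.2
    have h2P : (x₂ : G) ∈ (P : Subgroup G) := hle x₂.2
    have w1P := hN' _ h1P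
    have w2P := hN' _ h2P
    have hcm : (x₁ : G) * (x₂ : G)⁻¹ ∈ Wt p t₁ := (Wt p t₁).mul_mem x₁.2 ((Wt p t₁).inv_mem x₂.2)
    have hinv : v * ((x₁ : G) * (x₂ : G)⁻¹) * v⁻¹ = ((x₁ : G) * (x₂ : G)⁻¹)⁻¹ := by
      have e1 : v * ((x₁ : G) * (x₂ : G)⁻¹) * v⁻¹ = (v * x₁ * v⁻¹) * (v * x₂ * v⁻¹)⁻¹ := by group
      have e2 : (v * x₁ * v⁻¹) = (x₁ : G)⁻¹ * (x₂ : G) * (v * x₂ * v⁻¹) := by
        calc v * x₁ * v⁻¹ = (x₁ : G)⁻¹ * ((x₁ : G) * (v * x₁ * v⁻¹)) := by group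
          _ = (x₁ : G)⁻¹ * ((x₂ : G) * (v * x₂ * v⁻¹)) := by rw [hφ']
          _ = _ := by group
      have e3 := hab _ (P.inv_mem' h1P) _ h2P
      rw [e1, e2]
      calc (x₁ : G)⁻¹ * (x₂ : G) * (v * x₂ * v⁻¹) * (v * x₂ * v⁻¹)⁻¹ = (x₁ : G)⁻¹ * (x₂ : G) := by group
        _ = (x₂ : G) * (x₁ : G)⁻¹ := e3
        _ = _ := by group
    have := h.alpha_no_inv hα it₁ hcm hv hinv
    apply Subtype.ext
    exact mul_inv_eq_one.1 this
  have h1 : Nat.card (Wt p t₁) ≤ Nat.card K := Nat.card_le_card_of_injective φ hinj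
  have h2 : Nat.card (Wt p v) = Nat.card (Wt p t₁) := h.Wt_card_eq it₁ hv
  have h3 : K = Wt p v := Subgroup.eq_of_le_of_card_ge inf_le_right (by omega)
  rw [← h3]
  exact inf_le_left

lemma inv_of_comm_elt {v c : G} (hv : Inv v) :
    v * (c⁻¹ * (v * c * v⁻¹)) * v⁻¹ = (c⁻¹ * (v * c * v⁻¹))⁻¹ := by
  have hvv : v * (v * c * v⁻¹) * v⁻¹ = c := by
    rw [hv.inv_eq]
    calc v * (v * c * v) * v = (v * v) * c * (v * v) := by group
      _ = c := by rw [hv.2]; group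
  calc v * (c⁻¹ * (v * c * v⁻¹)) * v⁻¹ = (v * c⁻¹ * v⁻¹) * (v * (v * c * v⁻¹) * v⁻¹) := by group
    _ = (v * c⁻¹ * v⁻¹) * c := by rw [hvv]
    _ = _ := by group

lemma MC.alpha_no_two (h : MC G p a r Q z) (hα : ¬ NonComm G) {v₁ v₂ : G} (i1 : Inv v₁)
    (i2 : Inv v₂) (hc : v₁ * v₂ = v₂ * v₁) {P : Sylow p G} (n1 : v₁ • P = P) (n2 : v₂ • P = P) :
    v₁ = v₂ := by
  by_contra hne
  have hab := h.hab P
  have hN1 := forall_of_smul_eq n1
  have hN2 := forall_of_smul_eq n2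
  have hnot := h.alpha_not_all hα i1 P
  push Not at hnot
  obtain ⟨c, hcP, hcv⟩ := hnot
  set y := c⁻¹ * (v₁ * c * v₁⁻¹) with hy
  have hyP : y ∈ (P : Subgroup G) := P.mul_mem' (P.inv_mem' hcP) (hN1 c hcP)
  have hy1 : y ≠ 1 := by
    intro hh
    apply hcv
    have : v₁ * c * v₁⁻¹ = c := by
      have := inv_mul_eq_one.1 hh
      exact this.symm
    exact comm_of_conj this
  have hyinv : v₁ * y * v₁⁻¹ = y⁻¹ := inv_of_comm_elt i1
  set w := v₂ * y * v₂⁻¹ with hw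
  have hwP : w ∈ (P : Subgroup G) := hN2 y hyP
  have hyw : y * w = w * y := hab _ hyP _ hwP
  have hy₂P : y * w ∈ (P : Subgroup G) := P.mul_mem' hyP hwP
  have hfix : v₂ * (y * w) * v₂⁻¹ = y * w := by
    have : v₂ * w * v₂⁻¹ = y := by
      rw [hw, i2.inv_eq]
      calc v₂ * (v₂ * y * v₂) * v₂ = (v₂ * v₂) * y * (v₂ * v₂) := by group
        _ = y := by rw [i2.2]; group
    calc v₂ * (y * w) * v₂⁻¹ = (v₂ * y * v₂⁻¹) * (v₂ * w * v₂⁻¹) := by group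
      _ = w * y := by rw [this]
      _ = y * w := hyw.symm
  have hinv₂ : v₁ * (y * w) * v₁⁻¹ = (y * w)⁻¹ := by
    have e1 : v₁ * w * v₁⁻¹ = w⁻¹ := by
      calc v₁ * w * v₁⁻¹ = (v₁ * v₂) * y * (v₁ * v₂)⁻¹ := by rw [hw]; group
        _ = (v₂ * v₁) * y * (v₂ * v₁)⁻¹ := by rw [hc]
        _ = v₂ * (v₁ * y * v₁⁻¹) * v₂⁻¹ := by group
        _ = v₂ * y⁻¹ * v₂⁻¹ := by rw [hyinv]
        _ = w⁻¹ := by rw [hw]; group
    calc v₁ * (y * w) * v₁⁻¹ = (v₁ * y * v₁⁻¹) * (v₁ * w * v₁⁻¹) := by group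
      _ = y⁻¹ * w⁻¹ := by rw [hyinv, e1]
      _ = (w * y)⁻¹ := by group
      _ = (y * w)⁻¹ := by rw [hyw]
  obtain ⟨k₂, hk₂⟩ := P.isPGroup' ⟨_, hy₂P⟩
  have hk₂' : (y * w) ^ (p ^ k₂) = 1 := by
    have := congrArg Subtype.val hk₂
    simpa using this
  have hy₂W : y * w ∈ Wt p v₂ := (h.mem_Wt i2).2 ⟨comm_of_conj hfix, k₂, hk₂'⟩
  have hy₂1 : y * w = 1 := h.alpha_no_inv hα i2 hy₂W i1 hinv₂
  have hwinv : w = y⁻¹ := by
    exact eq_inv_of_mul_eq_one_right hy₂1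
  -- `v₁ v₂` centralises `y`
  have iu : Inv (v₁ * v₂) := inv_mul_of_comm i1 i2 hc hne
  have hufix : (v₁ * v₂) * y * (v₁ * v₂)⁻¹ = y := by
    calc (v₁ * v₂) * y * (v₁ * v₂)⁻¹ = v₁ * w * v₁⁻¹ := by rw [hw]; group
      _ = v₁ * y⁻¹ * v₁⁻¹ := by rw [hwinv]
      _ = (v₁ * y * v₁⁻¹)⁻¹ := by group
      _ = y := by rw [hyinv]; group
  obtain ⟨k, hk⟩ := P.isPGroup' ⟨_, hyP⟩
  have hk' : y ^ (p ^ k) = 1 := by
    have := congrArg Subtype.val hk
    simpa using this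
  have hyW : y ∈ Wt p (v₁ * v₂) := (h.mem_Wt iu).2 ⟨comm_of_conj hufix, k, hk'⟩
  have hcom : (v₁ * v₂) * v₁ = v₁ * (v₁ * v₂) := by
    calc (v₁ * v₂) * v₁ = (v₂ * v₁) * v₁ := by rw [hc]
      _ = v₂ := by rw [mul_assoc, i1.2, mul_one]
      _ = v₁ * (v₁ * v₂) := by rw [← mul_assoc, i1.2, one_mul]
  have hyW1 : y ∈ Wt p v₁ := h.alpha_Wt hα iu i1 hcom hyW
  exact hy1 (h.alpha_no_inv hα i1 hyW1 i1 hyinv)

lemma MC.alpha_conj_norm (h : MC G p a r Q z) (hα : ¬ NonComm G) {P : Sylow p G} {v₁ v₂ : G}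
    (i1 : Inv v₁) (i2 : Inv v₂) (n1 : v₁ • P = P) (n2 : v₂ • P = P) :
    ∃ c : G, c • P = P ∧ c * v₁ * c⁻¹ = v₂ := by
  set N : Subgroup G := MulAction.stabilizer G P with hN
  have m1 : v₁ ∈ N := n1
  have m2 : v₂ ∈ N := n2
  have hp1 : IsPGroup 2 (zpowers (⟨v₁, m1⟩ : N)) := by
    refine isPGroup_zpowers_of (k := 1) ?_
    apply Subtype.ext
    simp [pow_two, i1.2]
  have hp2 : IsPGroup 2 (zpowers (⟨v₂, m2⟩ : N)) := by
    refine isPGroup_zpowers_of (k := 1) ?_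
    apply Subtype.ext
    simp [pow_two, i2.2]
  obtain ⟨S₁, hS₁⟩ := hp1.exists_le_sylow
  obtain ⟨S₂, hS₂⟩ := hp2.exists_le_sylow
  obtain ⟨c, hc⟩ := MulAction.exists_smul_eq N S₁ S₂
  have hm1 : (⟨v₁, m1⟩ : N) ∈ (S₁ : Subgroup N) := hS₁ (mem_zpowers _)
  have hm2 : (⟨v₂, m2⟩ : N) ∈ (S₂ : Subgroup N) := hS₂ (mem_zpowers _)
  have hconj : c * ⟨v₁, m1⟩ * c⁻¹ ∈ (S₂ : Subgroup N) := by
    rw [← hc]
    exact (conj_mem_smul S₁ c _).2 hm1
  refine ⟨c, c.2, ?_⟩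
  have i3 : Inv ((c : G) * v₁ * (c : G)⁻¹) := i1.conj _
  have n3 : ((c : G) * v₁ * (c : G)⁻¹) • P = P := by
    have e : (c : G) • P = P := c.2
    have e' : (c : G)⁻¹ • P = P := by
      have := inv_smul_smul (c : G) P
      rwa [e] at this
    rw [mul_smul, mul_smul, e', n1, e]
  have hS2g : IsPGroup 2 ((S₂ : Subgroup N).map N.subtype) := S₂.isPGroup'.map _
  have hcm : ((c : G) * v₁ * (c : G)⁻¹) * v₂ = v₂ * ((c : G) * v₁ * (c : G)⁻¹) := by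
    refine h.two_comm hS2g ?_ ?_
    · exact ⟨_, hconj, rfl⟩
    · exact ⟨_, hm2, rfl⟩
  exact h.alpha_no_two hα i3 i2 hcm n3 n2

lemma MC.alpha_trans (h : MC G p a r Q z) (hα : ¬ NonComm G) {t : G} (ht : Inv t)
    {P₁ P₂ : Sylow p G} (n1 : t • P₁ = P₁) (n2 : t • P₂ = P₂) :
    ∃ d : G, d * t = t * d ∧ d • P₁ = P₂ := by
  obtain ⟨g, hg⟩ := MulAction.exists_smul_eq G P₁ P₂
  have i3 : Inv (g⁻¹ * t * g⁻¹⁻¹) := ht.conj _
  have n3 : (g⁻¹ * t * g⁻¹⁻¹) • P₁ = P₁ := by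
    rw [mul_smul, mul_smul, inv_inv, hg, n2, ← hg, inv_smul_smul]
  obtain ⟨c, hc1, hc2⟩ := h.alpha_conj_norm hα ht i3 n1 n3
  refine ⟨g * c, ?_, ?_⟩
  · have : (g * c) * t * (g * c)⁻¹ = t := by
      calc (g * c) * t * (g * c)⁻¹ = g * (c * t * c⁻¹) * g⁻¹ := by group
        _ = t := by rw [hc2]; group
    exact (comm_of_conj this).symm
  · rw [mul_smul, hc1, hg]

lemma MC.alpha_ncard_dvd (h : MC G p a r Q z) (hα : ¬ NonComm G) {t : G} (ht : Inv t)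
    {P₀ : Sylow p G} (hP₀ : t • P₀ = P₀) :
    Set.ncard {P : Sylow p G | t • P = P} ∣ 2 ^ a := by
  classical
  set C : Subgroup G := centralizer ({t} : Set G) with hC
  have hmemC : ∀ c : G, c ∈ C ↔ c * t = t * c := by
    intro c
    rw [hC, Subgroup.mem_centralizer_singleton_iff]
  have horbit : MulAction.orbit C P₀ = {P : Sylow p G | t • P = P} := by
    ext P
    constructor
    · rintro ⟨c, rfl⟩
      have hcm : (c : G) * t = t * c := (hmemC c).1 c.2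
      show t • (c • P₀) = c • P₀
      change t • ((c : G) • P₀) = (c : G) • P₀
      rw [← mul_smul, ← hcm, mul_smul, hP₀]
    · intro hP
      obtain ⟨d, hd, hdP⟩ := h.alpha_trans hα ht hP₀ hP
      exact ⟨⟨d, (hmemC d).2 hd⟩, hdP⟩
  have h1 : (MulAction.stabilizer C P₀).index = Set.ncard {P : Sylow p G | t • P = P} := by
    rw [MulAction.index_stabilizer, horbit]
  have h2 : Nat.card (MulAction.stabilizer C P₀) * (MulAction.stabilizer C P₀).index = Nat.card C :=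
    Subgroup.card_mul_index _
  have hW := (h.Wt_eq ht).2
  have hle : (Wt p t).subgroupOf C ≤ MulAction.stabilizer C P₀ := by
    intro c hc
    have hcW : (c : G) ∈ Wt p t := hc
    have hcP : (c : G) ∈ (P₀ : Subgroup G) := h.alpha_Wt_le hα ht hP₀ hcW
    rw [MulAction.mem_stabilizer_iff]
    change (c : G) • P₀ = P₀
    apply smul_eq_of_forall
    intro x hx
    exact P₀.mul_mem' (P₀.mul_mem' hcP hx) (P₀.inv_mem' hcP)
  have hWC : Wt p t ≤ C := by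
    intro c hc
    exact (hmemC c).2 ((h.mem_Wt ht).1 hc).1
  have h3 : Nat.card (Wt p t) ∣ Nat.card (MulAction.stabilizer C P₀) := by
    have := Subgroup.card_dvd_of_le hle
    rwa [Nat.card_congr (Subgroup.subgroupOfEquivOfLe hWC).toEquiv] at this
  obtain ⟨m, hm⟩ := h3
  rw [h1, hm, hW] at h2
  have hpos : 0 < Nat.card (Wt p t) := Nat.card_pos
  refine ⟨m, ?_⟩
  have : Nat.card (Wt p t) * (m * Set.ncard {P : Sylow p G | t • P = P}) = Nat.card (Wt p t) * 2 ^ a := by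
    rw [← h2]
    ring
  have := Nat.eq_of_mul_eq_mul_left hpos this
  rw [← this]
  ring

end ctx

end Cfsg.Agent.Lib.Char.PDiv
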