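import Cfsg.Agent.Lib.Char.PDiv6

/-!
Statement S4017: the commuting case, the counting argument.
-/

namespace Cfsg.Agent.Lib.Char.PDiv

open Subgroup Finset

variable {G : Type*} [Group G] [Finite G]

section ctx

variable {p a r : ℕ} [Fact p.Prime] {Q : Sylow 2 G} {z : G}

lemma MC.alpha_odd (h : MC G p a r Q z) (hα : ¬ NonComm G) {t s : G} (ht : Inv t) (hs : Inv s)
    (hc : s * t ≠ t * s) : ¬ 2 ∣ orderOf (t * s) := by
  rintro ⟨m, hm⟩
  have hpos : 0 < orderOf (t * s) := orderOf_pos _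
  have hm0 : m ≠ 0 := by
    rintro rfl
    rw [mul_zero] at hm
    omega
  set y := t * s with hy
  set v := y ^ m with hv
  have hv2 : v * v = 1 := by
    rw [hv, ← pow_add, ← two_mul, ← hm]
    exact pow_orderOf_eq_one y
  have hv1 : v ≠ 1 := by
    intro hh
    have := orderOf_dvd_of_pow_eq_one hh
    rw [hm] at this
    have h3 := Nat.le_of_dvd (Nat.pos_of_ne_zero hm0) this
    omega
  have iv : Inv v := ⟨hv1, hv2⟩
  have hvinv : v⁻¹ = v := iv.inv_eq
  have c1 : t * v * t⁻¹ = v := by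
    have := conj_pow_inv (conj_mul_inv ht hs) m
    rwa [← hv, hvinv] at this
  have c2 : s * v * s⁻¹ = v := by
    have := conj_pow_inv (conj_mul_inv' ht hs) m
    rwa [← hv, hvinv] at this
  have h1 := comm_of_conj c1
  have h2 := comm_of_conj c2
  exact hc (comm_of_not hα iv hs ht h2.symm h1.symm)

lemma MC.alpha_pair (h : MC G p a r Q z) (hα : ¬ NonComm G) {t s : G} (ht : Inv t) (hs : Inv s)
    (hc : s * t ≠ t * s) :
    t * s ≠ 1 ∧ (∃ k : ℕ, (t * s) ^ (p ^ k) = 1) ∧ ∃ P : Sylow p G, t * s ∈ (P : Subgroup G) ∧ t • P = P := by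
  have hy1 : t * s ≠ 1 := by
    intro hh
    apply hc
    have : s = t := by
      have := eq_inv_of_mul_eq_one_right hh
      rwa [ht.inv_eq] at this
    rw [this]
  have hinv := conj_mul_inv ht hs
  have hodd := h.alpha_odd hα ht hs hc
  obtain ⟨k, hk⟩ := h.p_elt_of_inv ht hodd (Or.inr hinv)
  refine ⟨hy1, ⟨k, hk⟩, ?_⟩
  obtain ⟨P, hP⟩ := (isPGroup_zpowers_of hk).exists_le_sylow
  have hyP : t * s ∈ (P : Subgroup G) := hP (mem_zpowers _)
  refine ⟨P, hyP, ?_⟩
  have h1 : t * s ∈ ((t • P : Sylow p G) : Subgroup G) := by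
    have h2 := (conj_mem_smul P t (t * s)).2 hyP
    rw [hinv] at h2
    simpa using (Subgroup.inv_mem _ h2)
  exact h.uniq_sylow hk hy1 ht hinv h1 hyP

lemma card_filter_mem [Fintype G] [DecidableEq G] (S : Subgroup G) [DecidablePred (· ∈ S)] :
    (univ.filter (fun x : G => x ∈ S)).card = Nat.card S := by
  rw [Nat.card_eq_fintype_card, Fintype.card_subtype]

/-- the elements of `P` inverted by `t` -/
def Yt (t : G) (P : Subgroup G) (hP : ∀ x ∈ P, ∀ y ∈ P, x * y = y * x) : Subgroup G where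
  carrier := {y | y ∈ P ∧ t * y * t⁻¹ = y⁻¹}
  mul_mem' := by
    rintro x y ⟨hx, hx'⟩ ⟨hy, hy'⟩
    refine ⟨P.mul_mem hx hy, ?_⟩
    calc t * (x * y) * t⁻¹ = (t * x * t⁻¹) * (t * y * t⁻¹) := by group
      _ = x⁻¹ * y⁻¹ := by rw [hx', hy']
      _ = (y * x)⁻¹ := by group
      _ = (x * y)⁻¹ := by rw [hP x hx y hy]
  one_mem' := ⟨P.one_mem, by group⟩
  inv_mem' := by
    rintro x ⟨hx, hx'⟩
    refine ⟨P.inv_mem hx, ?_⟩
    calc t * x⁻¹ * t⁻¹ = (t * x * t⁻¹)⁻¹ := by group
      _ = x⁻¹⁻¹ := by rw [hx']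

open Classical in
lemma MC.alpha_fibre (h : MC G p a r Q z) (hα : ¬ NonComm G) {t : G} (ht : Inv t) {P : Sylow p G}
    (hP : t • P = P) [Fintype G] :
    p ∣ (univ.filter (fun s : G => Inv s ∧ s * t ≠ t * s ∧ t * s ∈ (P : Subgroup G))).card + 1 := by
  set Y := Yt t (P : Subgroup G) (h.hab P) with hY
  have hYP : Y ≤ (P : Subgroup G) := fun x hx => hx.1
  have hpelt : ∀ y ∈ (P : Subgroup G), ∃ k : ℕ, y ^ (p ^ k) = 1 := by
    intro y hy
    obtain ⟨k, hk⟩ := P.isPGroup' ⟨y, hy⟩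
    refine ⟨k, ?_⟩
    have := congrArg Subtype.val hk
    simpa using this
  have hN := forall_of_smul_eq hP
  -- `Y` is a nontrivial `p`-group
  have hpY : p ∣ Nat.card Y := by
    have hpg : IsPGroup p Y := P.isPGroup'.to_le hYP
    obtain ⟨n, hn⟩ := IsPGroup.iff_card.1 hpg
    have hnot := h.alpha_not_all hα ht P
    push Not at hnot
    obtain ⟨c, hcP, hcv⟩ := hnot
    have hmem : c⁻¹ * (t * c * t⁻¹) ∈ Y :=
      ⟨P.mul_mem' (P.inv_mem' hcP) (hN c hcP), inv_of_comm_elt ht⟩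
    have hne : c⁻¹ * (t * c * t⁻¹) ≠ 1 := by
      intro hh
      have : t * c * t⁻¹ = c := (inv_mul_eq_one.1 hh).symm
      exact hcv (comm_of_conj this)
    rcases n with _ | n
    · rw [pow_zero] at hn
      have := Subgroup.eq_bot_of_card_eq Y hn
      rw [this] at hmem
      exact absurd (mem_bot.1 hmem) hne
    · rw [hn]
      exact dvd_pow_self p (Nat.succ_ne_zero n)
  have htt : ∀ s : G, t * (t * s) = s := by
    intro s
    rw [← mul_assoc, ht.2, one_mul]
  have hcard : (univ.filter (fun s : G => Inv s ∧ s * t ≠ t * s ∧ t * s ∈ (P : Subgroup G))).card =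
      ((univ.filter (fun x : G => x ∈ Y)).erase 1).card := by
    refine Finset.card_nbij' (fun s => t * s) (fun y => t * y) ?_ ?_ ?_ ?_
    · intro s hs
      obtain ⟨-, is, hc, hm⟩ := Finset.mem_filter.1 (Finset.mem_coe.1 hs)
      refine Finset.mem_coe.2 (Finset.mem_erase.2 ⟨(h.alpha_pair hα ht is hc).1, ?_⟩)
      exact Finset.mem_filter.2 ⟨mem_univ _, ⟨hm, conj_mul_inv ht is⟩⟩
    · intro y hy
      obtain ⟨hy1, hy2⟩ := Finset.mem_erase.1 (Finset.mem_coe.1 hy)
      obtain ⟨-, hyP, hyinv⟩ := Finset.mem_filter.1 hy2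
      obtain ⟨k, hk⟩ := hpelt y hyP
      have hyy : y * y ≠ 1 := fun hh => hy1 (h.eq_one_of_sq hk hh)
      refine Finset.mem_coe.2 (Finset.mem_filter.2 ⟨mem_univ _, ⟨?_, ?_⟩, ?_, ?_⟩)
      · intro hh
        have : y = t := by
          have := eq_inv_of_mul_eq_one_right hh
          rwa [ht.inv_eq] at this
        apply hyy
        rw [this]
        exact ht.2
      · calc t * y * (t * y) = (t * y * t⁻¹) * y := by rw [ht.inv_eq]; group
          _ = 1 := by rw [hyinv]; group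
      · intro hh
        apply hyy
        have h1 : t * y * t⁻¹ = y := by
          rw [ht.inv_eq, hh, htt]
        rw [hyinv] at h1
        calc y * y = y⁻¹ * y := by rw [h1]
          _ = 1 := by group
      · rw [htt]
        exact hyP
    · intro s _
      exact htt s
    · intro y _
      exact htt y
  have hone : (1 : G) ∈ univ.filter (fun x : G => x ∈ Y) :=
    Finset.mem_filter.2 ⟨mem_univ _, Y.one_mem⟩
  rw [hcard, Finset.card_erase_add_one hone, card_filter_mem]
  exact hpY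

open Classical in
lemma MC.alpha_B_dvd (h : MC G p a r Q z) (hα : ¬ NonComm G) {t : G} (ht : Inv t) [Fintype G]
    [Fintype (Sylow p G)] :
    p ∣ (univ.filter (fun s : G => Inv s ∧ s * t ≠ t * s)).card +
      (univ.filter (fun P : Sylow p G => t • P = P)).card := by
  set S := univ.filter (fun P : Sylow p G => t • P = P) with hS
  have hunion : univ.filter (fun s : G => Inv s ∧ s * t ≠ t * s) =
      S.biUnion (fun P => univ.filter (fun s : G => Inv s ∧ s * t ≠ t * s ∧ t * s ∈ (P : Subgroup G))) := by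
    ext s
    simp only [Finset.mem_filter, Finset.mem_univ, true_and, Finset.mem_biUnion, hS]
    constructor
    · rintro ⟨is, hc⟩
      obtain ⟨-, -, P, hP, hPt⟩ := h.alpha_pair hα ht is hc
      exact ⟨P, hPt, is, hc, hP⟩
    · rintro ⟨P, -, is, hc, -⟩
      exact ⟨is, hc⟩
  have hdisj : ∀ P₁ ∈ S, ∀ P₂ ∈ S, P₁ ≠ P₂ →
      Disjoint (univ.filter (fun s : G => Inv s ∧ s * t ≠ t * s ∧ t * s ∈ (P₁ : Subgroup G)))
        (univ.filter (fun s : G => Inv s ∧ s * t ≠ t * s ∧ t * s ∈ (P₂ : Subgroup G))) := by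
    intro P₁ _ P₂ _ hne
    rw [Finset.disjoint_left]
    intro s hs1 hs2
    obtain ⟨-, is, hc, h1⟩ := Finset.mem_filter.1 hs1
    obtain ⟨-, -, -, h2⟩ := Finset.mem_filter.1 hs2
    obtain ⟨hy1, ⟨k, hk⟩, -⟩ := h.alpha_pair hα ht is hc
    exact hne (h.uniq_sylow hk hy1 ht (conj_mul_inv ht is) h1 h2)
  rw [hunion, Finset.card_biUnion hdisj]
  have hsum : ∑ P ∈ S, (univ.filter (fun s : G => Inv s ∧ s * t ≠ t * s ∧ t * s ∈ (P : Subgroup G))).card + S.card =
      ∑ P ∈ S, ((univ.filter (fun s : G => Inv s ∧ s * t ≠ t * s ∧ t * s ∈ (P : Subgroup G))).card + 1) := by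
    rw [Finset.sum_add_distrib, Finset.card_eq_sum_ones]
  rw [hsum]
  refine Finset.dvd_sum ?_
  intro P hP
  exact h.alpha_fibre hα ht (Finset.mem_filter.1 hP).2

open Classical in
lemma MC.card_sharp (h : MC G p a r Q z) (Q' : Sylow 2 G) [Fintype G] :
    (univ.filter (fun s : G => Inv s ∧ s ∈ (Q' : Subgroup G))).card = p := by
  have he : univ.filter (fun s : G => Inv s ∧ s ∈ (Q' : Subgroup G)) =
      (univ.filter (fun x : G => x ∈ (Q' : Subgroup G))).erase 1 := by
    ext s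
    simp only [Finset.mem_filter, Finset.mem_univ, true_and, Finset.mem_erase]
    constructor
    · rintro ⟨is, hs⟩
      exact ⟨is.1, hs⟩
    · rintro ⟨h1, hs⟩
      exact ⟨h.inv_of_mem hs h1, hs⟩
  have hone : (1 : G) ∈ univ.filter (fun x : G => x ∈ (Q' : Subgroup G)) :=
    Finset.mem_filter.2 ⟨mem_univ _, one_mem _⟩
  have h1 := Finset.card_erase_add_one hone
  rw [← he, card_filter_mem, h.card_sylow Q'] at h1
  have := h.hpa
  omega

lemma MC.alpha_uniq (h : MC G p a r Q z) (hα : ¬ NonComm G) {s : G} (is : Inv s)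
    {Q₁ Q₂ : Sylow 2 G} (h1 : s ∈ (Q₁ : Subgroup G)) (h2 : s ∈ (Q₂ : Subgroup G)) : Q₁ = Q₂ := by
  have hle : (Q₁ : Subgroup G) ≤ (Q₂ : Subgroup G) := by
    intro x hx
    by_cases hx1 : x = 1
    · subst hx1
      exact one_mem _
    · exact h.alpha_mem hα h2 is (h.inv_of_mem hx hx1) (h.two_comm Q₁.isPGroup' hx h1)
  exact Sylow.ext (Q₁.is_maximal' Q₂.isPGroup' hle).symm

open Classical in
lemma MC.alpha_card_I (h : MC G p a r Q z) (hα : ¬ NonComm G) [Fintype G] :
    p ∣ (univ.filter (fun s : G => Inv s)).card := by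
  letI := Fintype.ofFinite (Sylow 2 G)
  have hunion : univ.filter (fun s : G => Inv s) =
      (univ : Finset (Sylow 2 G)).biUnion (fun Q' => univ.filter (fun s : G => Inv s ∧ s ∈ (Q' : Subgroup G))) := by
    ext s
    simp only [Finset.mem_filter, Finset.mem_univ, true_and, Finset.mem_biUnion]
    constructor
    · intro is
      obtain ⟨Q', hQ'⟩ := h.mem_sylow is
      exact ⟨Q', is, hQ'⟩
    · rintro ⟨Q', is, -⟩
      exact is
  rw [hunion, Finset.card_biUnion]
  · refine Finset.dvd_sum ?_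
    intro Q' _
    rw [h.card_sharp Q']
  · intro Q₁ _ Q₂ _ hne
    change Disjoint _ _
    rw [Finset.disjoint_left]
    intro s hs1 hs2
    obtain ⟨-, is, h1⟩ := Finset.mem_filter.1 hs1
    obtain ⟨-, -, h2⟩ := Finset.mem_filter.1 hs2
    exact hne (h.alpha_uniq hα is h1 h2)

open Classical in
lemma MC.alpha_card_B (h : MC G p a r Q z) (hα : ¬ NonComm G) {t : G} (ht : Inv t) [Fintype G] :
    p ∣ (univ.filter (fun s : G => Inv s ∧ s * t ≠ t * s)).card := by
  obtain ⟨Q', hQ'⟩ := h.mem_sylow ht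
  have hA : univ.filter (fun s : G => Inv s ∧ s * t = t * s) =
      univ.filter (fun s : G => Inv s ∧ s ∈ (Q' : Subgroup G)) := by
    ext s
    simp only [Finset.mem_filter, Finset.mem_univ, true_and]
    constructor
    · rintro ⟨is, hc⟩
      exact ⟨is, h.alpha_mem hα hQ' ht is hc⟩
    · rintro ⟨is, hs⟩
      exact ⟨is, h.two_comm Q'.isPGroup' hs hQ'⟩
  have hd : Disjoint (univ.filter (fun s : G => Inv s ∧ s * t = t * s))
      (univ.filter (fun s : G => Inv s ∧ s * t ≠ t * s)) := by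
    rw [Finset.disjoint_left]
    intro s hs1 hs2
    exact (Finset.mem_filter.1 hs2).2.2 (Finset.mem_filter.1 hs1).2.2
  have hU : univ.filter (fun s : G => Inv s) = univ.filter (fun s : G => Inv s ∧ s * t = t * s) ∪
      univ.filter (fun s : G => Inv s ∧ s * t ≠ t * s) := by
    ext s
    simp only [Finset.mem_filter, Finset.mem_univ, true_and, Finset.mem_union]
    tauto
  have h1 := h.alpha_card_I hα
  rw [hU, Finset.card_union_of_disjoint hd, hA, h.card_sharp Q'] at h1
  exact (Nat.dvd_add_right (dvd_refl p)).1 h1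

theorem MC.false_of_alpha (h : MC G p a r Q z) (hα : ¬ NonComm G) : False := by
  classical
  letI := Fintype.ofFinite G
  letI := Fintype.ofFinite (Sylow p G)
  -- two non-commuting involutions
  have hexists : ∃ t s : G, Inv t ∧ Inv s ∧ s * t ≠ t * s := by
    by_contra hno
    push Not at hno
    obtain ⟨t₀, ht₀Q, ht₀1, -⟩ := h.exists_two_mem Q 1
    have it₀ := h.inv_of_mem ht₀Q ht₀1
    obtain ⟨y, hy⟩ := exists_prime_orderOf_dvd_card' r h.hrG (hp := ⟨h.hr⟩)
    refine h.no_prime_norm (S := (Q : Subgroup G)) Q.isPGroup' ?_ hy h.hr h.hr2 h.hrp ?_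
    · rw [h.hQc]
      exact dvd_pow_self 2 (by have := h.a_ge; omega)
    · intro x hx
      by_cases hx1 : x = 1
      · subst hx1
        simp
      · have ix := h.inv_of_mem hx hx1
        refine h.alpha_mem hα ht₀Q it₀ (ix.conj y) (hno t₀ _ it₀ (ix.conj y))
  obtain ⟨t, s, ht, hs, hc⟩ := hexists
  obtain ⟨-, -, P₀, -, hP₀⟩ := h.alpha_pair hα ht hs hc
  have d1 := h.alpha_B_dvd hα ht
  have d2 := h.alpha_ncard_dvd hα ht hP₀
  have d3 := h.alpha_card_B hα ht
  have d4 := (Nat.dvd_add_right d3).1 d1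
  have d5 : Set.ncard {P : Sylow p G | t • P = P} =
      (univ.filter (fun P : Sylow p G => t • P = P)).card := by
    rw [← Set.ncard_coe_finset]
    congr 1
    ext P
    simp
  rw [← d5] at d4
  have d6 := d4.trans d2
  have d7 := h.p_prime.dvd_of_dvd_pow d6
  have d8 := (Nat.prime_dvd_prime_iff_eq h.p_prime Nat.prime_two).1 d7
  exact h.hp2 d8

end ctx

end Cfsg.Agent.Lib.Char.PDiv
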