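import Cfsg.Agent.Lib.Char.PDiv7
import Cfsg.Agent.S0071

/-!
Statement S4017: assembly.
-/

namespace Cfsg.Agent.Lib.Char.PDiv

open Subgroup

universe u

section gen

variable {G : Type u} [Group G] [Finite G]

lemma mix_false {p q r : ℕ} (hp : p.Prime) (hq : q.Prime) (hr : r.Prime) (hpq : p ≠ q)
    (hrp : r ≠ p) (hrq : r ≠ q) (hpG : p ∣ Nat.card G)
    (hmix : ∀ H : Subgroup G, H ≠ ⊤ → ¬ IsPGroup q H → q ∣ Nat.card H → p ∣ Nat.card H)
    {H : Subgroup G} {i j : ℕ} (hrH : r ∣ Nat.card H) (hqH : q ∣ Nat.card H)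
    (hd : Nat.card H ∣ r ^ i * q ^ j) : False := by
  haveI := Fact.mk hq
  have hpn : ¬ p ∣ r ^ i * q ^ j := by
    intro hpd
    rcases (Nat.Prime.dvd_mul hp).1 hpd with h1 | h1
    · exact hrp ((Nat.prime_dvd_prime_iff_eq hp hr).1 (hp.dvd_of_dvd_pow h1)).symm
    · exact hpq ((Nat.prime_dvd_prime_iff_eq hp hq).1 (hp.dvd_of_dvd_pow h1))
  have hne : H ≠ ⊤ := by
    rintro rfl
    apply hpn
    have : Nat.card (⊤ : Subgroup G) = Nat.card G := Subgroup.card_top
    rw [this] at hd
    exact hpG.trans hd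
  have hnp : ¬ IsPGroup q H := by
    intro h2
    obtain ⟨n, hn⟩ := IsPGroup.iff_card.1 h2
    rw [hn] at hrH
    exact hrq ((Nat.prime_dvd_prime_iff_eq hr hq).1 (hr.dvd_of_dvd_pow hrH))
  exact hpn ((hmix H hne hnp hqH).trans hd)

lemma primes_of_complement {p q : ℕ} [Fact q.Prime] (hp : p.Prime) (hq : q.Prime) (hpq : p ≠ q)
    (hpG : p ∣ Nat.card G) (hqG : q ∣ Nat.card G)
    (hmix : ∀ H : Subgroup G, H ≠ ⊤ → ¬ IsPGroup q H → q ∣ Nat.card H → p ∣ Nat.card H)
    {T : Subgroup G} (hT : T.Normal) (S : Sylow q G) (hc : T.IsComplement' (S : Subgroup G))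
    {r : ℕ} (hr : r.Prime) (hrG : r ∣ Nat.card G) : r = p ∨ r = q := by
  by_contra hno
  push Not at hno
  obtain ⟨hrp, hrq⟩ := hno
  haveI := Fact.mk hr
  have hcard : Nat.card T * Nat.card S = Nat.card G := hc.card_mul_card
  obtain ⟨v, hv⟩ := IsPGroup.iff_card.1 S.isPGroup'
  have hrT : r ∣ Nat.card T := by
    rw [← hcard, hv] at hrG
    rcases (Nat.Prime.dvd_mul hr).1 hrG with h1 | h1
    · exact h1
    · exact absurd ((Nat.prime_dvd_prime_iff_eq hr hq).1 (hr.dvd_of_dvd_pow h1)) hrq
  have hqS : q ∣ Nat.card S := by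
    rw [Sylow.card_eq_multiplicity S]
    exact dvd_pow_self q (hq.factorization_pos_of_dvd Nat.card_pos.ne' hqG).ne'
  obtain ⟨y, hy⟩ := exists_prime_orderOf_dvd_card' r hrT
  have hyr : y ^ (r ^ 1) = 1 := by
    rw [pow_one, ← hy]
    exact pow_orderOf_eq_one y
  obtain ⟨R, hR⟩ := (isPGroup_zpowers_of hyr).exists_le_sylow
  have hyR : y ∈ (R : Subgroup T) := hR (mem_zpowers y)
  have hrR : r ∣ Nat.card (R : Subgroup T) := by
    have := Subgroup.orderOf_dvd_natCard (R : Subgroup T) hyR
    rwa [hy] at this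
  set R' := (R : Subgroup T).map T.subtype with hR'
  have hR'card : Nat.card R' = Nat.card (R : Subgroup T) :=
    Subgroup.card_map_of_injective T.subtype_injective
  set A := normalizer (R' : Set G) with hA
  have htop : A ⊔ T = ⊤ := Sylow.normalizer_sup_eq_top R
  have h1 := card_sup_mul_inf A T (fun g _ => mem_normalizer_of_forall
    (fun x hx => hT.conj_mem x hx g))
  rw [htop, Subgroup.card_top, ← hcard] at h1
  have hSA : Nat.card S ∣ Nat.card A := by
    refine ⟨Nat.card ↥(A ⊓ T), ?_⟩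
    have hpos : 0 < Nat.card T := Nat.card_pos
    apply Nat.eq_of_mul_eq_mul_left hpos
    rw [← mul_assoc, h1]
    ring
  obtain ⟨x, hx⟩ := exists_prime_orderOf_dvd_card' q (hqS.trans hSA)
  have hxo : orderOf (x : G) = q := by
    rw [Subgroup.orderOf_coe, hx]
  have hN : zpowers (x : G) ≤ normalizer (R' : Set G) := (Subgroup.zpowers_le).2 x.2
  have hd := card_sup_dvd _ _ hN
  rw [Nat.card_zpowers, hxo, hR'card] at hd
  obtain ⟨k, hk⟩ := IsPGroup.iff_card.1 R.isPGroup'
  refine mix_false hp hq hr hpq hrp hrq hpG hmix (H := zpowers (x : G) ⊔ R') (i := k) (j := 1)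
    ?_ ?_ ?_
  · have := Subgroup.card_dvd_of_le (le_sup_right : R' ≤ zpowers (x : G) ⊔ R')
    rw [hR'card] at this
    exact hrR.trans this
  · have := Subgroup.card_dvd_of_le (le_sup_left : zpowers (x : G) ≤ zpowers (x : G) ⊔ R')
    rwa [Nat.card_zpowers, hxo] at this
  · rw [pow_one, mul_comm, ← hk]
    exact hd

lemma exists_pp_part (U : Subgroup G) : ∀ (n : ℕ) (g : G), orderOf g = n →
    g ∉ centralizer (U : Set G) →
    ∃ (g₁ : G) (s e : ℕ), s.Prime ∧ orderOf g₁ = s ^ e ∧ g₁ ∈ zpowers g ∧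
      g₁ ∉ centralizer (U : Set G) := by
  intro n
  induction n using Nat.strong_induction_on with
  | _ n ih =>
    intro g hg hgC
    have hn0 : n ≠ 0 := by
      rw [← hg]
      exact (orderOf_pos g).ne'
    have hn1 : n ≠ 1 := by
      intro h1
      rw [h1, orderOf_eq_one_iff] at hg
      subst hg
      exact hgC (one_mem _)
    have hs : n.minFac.Prime := Nat.minFac_prime hn1
    obtain ⟨e, m, hm, hnm⟩ := Nat.exists_eq_pow_mul_and_not_dvd hn0 n.minFac hs.ne_one
    have hc : Nat.Coprime (n.minFac ^ e) m :=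
      Nat.Coprime.pow_left e ((Nat.Prime.coprime_iff_not_dvd hs).2 hm)
    have he : e ≠ 0 := by
      rintro rfl
      rw [pow_zero, one_mul] at hnm
      exact hm (hnm ▸ Nat.minFac_dvd n)
    obtain ⟨u, v, h1, h2, h3⟩ := exists_decomp (g := g) (m := n.minFac ^ e) (n := m)
      (by rw [hg]; exact hnm) hc
    by_cases hA : g ^ ((m : ℤ) * v) ∈ centralizer (U : Set G)
    · have hB : g ^ (((n.minFac ^ e : ℕ) : ℤ) * u) ∉ centralizer (U : Set G) := by
        intro hB
        apply hgC
        rw [h1]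
        exact mul_mem hA hB
      have hord : orderOf (g ^ (((n.minFac ^ e : ℕ) : ℤ) * u)) ∣ m := orderOf_dvd_of_pow_eq_one h3
      have hm0 : 0 < m := by
        rcases Nat.eq_zero_or_pos m with h0 | h0
        · subst h0
          simp at hnm
          exact absurd hnm hn0
        · exact h0
      have hmn : m < n := by
        have h2' : 2 ≤ n.minFac ^ e := by
          calc 2 ≤ n.minFac := hs.two_le
            _ = n.minFac ^ 1 := (pow_one _).symm
            _ ≤ n.minFac ^ e := Nat.pow_le_pow_right hs.pos (Nat.pos_of_ne_zero he)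
        calc m < 2 * m := by omega
          _ ≤ n.minFac ^ e * m := Nat.mul_le_mul_right m h2'
          _ = n := hnm.symm
      have hlt := lt_of_le_of_lt (Nat.le_of_dvd hm0 hord) hmn
      obtain ⟨g₁, s', e', hs', ho, hmem, hnot⟩ := ih _ hlt _ rfl hB
      refine ⟨g₁, s', e', hs', ho, ?_, hnot⟩
      exact (Subgroup.zpowers_le).2 ((zpowers g).zpow_mem (mem_zpowers g) _) hmem
    · have hord : orderOf (g ^ ((m : ℤ) * v)) ∣ n.minFac ^ e := orderOf_dvd_of_pow_eq_one h2
      obtain ⟨e', _, he'⟩ := (Nat.dvd_prime_pow hs).1 hord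
      exact ⟨_, n.minFac, e', hs, he', (zpowers g).zpow_mem (mem_zpowers g) _, hA⟩

lemma fail_data {p q : ℕ} [Fact p.Prime] [Fact q.Prime] (hp : p.Prime) (hq : q.Prime)
    (hpq : p ≠ q) (hpG : p ∣ Nat.card G)
    (hmix : ∀ H : Subgroup G, H ≠ ⊤ → ¬ IsPGroup q H → q ∣ Nat.card H → p ∣ Nat.card H)
    (hlarge : q ^ (Nat.card G).factorization q - 1 < p ∨
      (p = q ^ (Nat.card G).factorization q - 1 ∧ ∀ P : Sylow p G, IsMulCommutative P))
    (S : Sylow q G) {U : Subgroup G} (hU : U ≤ (S : Subgroup G)) {g : G}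
    (hgN : g ∈ normalizer (U : Set G)) (hgc : Nat.Coprime (orderOf g) q)
    (hgC : g ∉ centralizer (U : Set G)) :
    ∃ (z x₀ : G) (k : ℕ), z ^ (p ^ k) = 1 ∧
      (∀ y ∈ (S : Subgroup G), z * y * z⁻¹ ∈ (S : Subgroup G)) ∧ x₀ ∈ (S : Subgroup G) ∧
      z * x₀ * z⁻¹ ≠ x₀ ∧ p + 1 = q ^ (Nat.card G).factorization q ∧
      (∀ P : Sylow p G, IsMulCommutative P) := by
  obtain ⟨g₁, s, e, hs, ho, hmem, hnot⟩ := exists_pp_part U _ g rfl hgC
  have hg₁1 : g₁ ≠ 1 := by
    rintro rfl
    exact hnot (one_mem _)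
  have he : e ≠ 0 := by
    rintro rfl
    rw [pow_zero, orderOf_eq_one_iff] at ho
    exact hg₁1 ho
  have hsd : s ∣ orderOf g₁ := by
    rw [ho]
    exact dvd_pow_self s he
  have hsg : s ∣ orderOf g := hsd.trans (orderOf_dvd_of_mem_zpowers hmem)
  have hsq : s ≠ q := by
    rintro rfl
    exact hs.one_lt.ne' (Nat.Coprime.eq_one_of_dvd hgc.symm hsg)
  -- a moved element
  have hmoved : ∃ x ∈ U, g₁ * x * g₁⁻¹ ≠ x := by
    by_contra hall
    push Not at hall
    apply hnot
    rw [Subgroup.mem_centralizer_iff]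
    intro x hx
    have := hall x hx
    calc x * g₁ = (g₁ * x * g₁⁻¹) * g₁ := by rw [this]
      _ = g₁ * x := by group
  obtain ⟨x, hxU, hmove⟩ := hmoved
  have hN : ∀ y ∈ U, g₁ * y * g₁⁻¹ ∈ U := by
    obtain ⟨n, rfl⟩ := mem_zpowers_iff.1 hmem
    exact zpow_norm (forall_of_mem_normalizer hgN) n
  have hUq : IsPGroup q U := S.isPGroup'.to_le hU
  obtain ⟨b, hb⟩ := IsPGroup.iff_card.1 hUq
  have hx1 : x ≠ 1 := by
    rintro rfl
    apply hmove
    group
  have hqU : q ∣ Nat.card U := by
    rcases b with _ | b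
    · rw [pow_zero] at hb
      have := Subgroup.eq_bot_of_card_eq U hb
      rw [this] at hxU
      exact absurd (mem_bot.1 hxU) hx1
    · rw [hb]
      exact dvd_pow_self q (Nat.succ_ne_zero b)
  have hsp : s = p := by
    by_contra hsp
    have hzN : zpowers g₁ ≤ normalizer (U : Set G) := zpowers_le_normalizer_of hN
    have hd := card_sup_dvd _ _ hzN
    rw [Nat.card_zpowers, ho, hb] at hd
    refine mix_false hp hq hs hpq hsp hsq hpG hmix (H := zpowers g₁ ⊔ U) (i := e) (j := b) ?_ ?_ hd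
    · have := Subgroup.card_dvd_of_le (le_sup_left : zpowers g₁ ≤ zpowers g₁ ⊔ U)
      rw [Nat.card_zpowers] at this
      exact hsd.trans this
    · exact hqU.trans (Subgroup.card_dvd_of_le le_sup_right)
  have hk : g₁ ^ (p ^ e) = 1 := by
    rw [← hsp, ← ho]
    exact pow_orderOf_eq_one g₁
  have horb := orbit_ge hk hN hxU hmove
  have hSc := Sylow.card_eq_multiplicity S
  have hUS : Nat.card U ∣ Nat.card S := Subgroup.card_dvd_of_le hU
  have hle : p + 1 ≤ q ^ (Nat.card G).factorization q := by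
    rw [← hSc]
    exact horb.1.trans (Nat.le_of_dvd Nat.card_pos hUS)
  rcases hlarge with h1 | ⟨h1, hab⟩
  · omega
  · have hpa : p + 1 = q ^ (Nat.card G).factorization q := by omega
    have hUe : U = (S : Subgroup G) := Subgroup.eq_of_le_of_card_ge hU (by
      rw [hSc, ← hpa]
      exact horb.1)
    rw [hUe] at hN hxU
    exact ⟨g₁, x, e, hk, hN, hxU, hmove, hpa, hab⟩

lemma hmix_sub {p q : ℕ} [Fact q.Prime] {H : Subgroup G} (hne : H ≠ ⊤)
    (hmix : ∀ H : Subgroup G, H ≠ ⊤ → ¬ IsPGroup q H → q ∣ Nat.card H → p ∣ Nat.card H) :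
    ∀ L : Subgroup H, L ≠ ⊤ → ¬ IsPGroup q L → q ∣ Nat.card L → p ∣ Nat.card L := by
  intro L _ hnp hq
  have hc : Nat.card (L.map H.subtype) = Nat.card L :=
    Subgroup.card_map_of_injective H.subtype_injective
  have hne' : L.map H.subtype ≠ ⊤ := by
    intro hh
    apply hne
    rw [eq_top_iff, ← hh]
    exact map_subtype_le L
  have hnp' : ¬ IsPGroup q (L.map H.subtype) := by
    intro h
    obtain ⟨n, hn⟩ := IsPGroup.iff_card.1 h
    exact hnp (IsPGroup.of_card (hc ▸ hn))
  have := hmix _ hne' hnp' (hc ▸ hq)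
  rwa [hc] at this

lemma hlarge_sub {p : ℕ} [Fact p.Prime] (H : Subgroup G)
    (hpa : p + 1 = 2 ^ (Nat.card G).factorization 2) (hab : ∀ P : Sylow p G, IsMulCommutative P) :
    2 ^ (Nat.card H).factorization 2 - 1 < p ∨
      (p = 2 ^ (Nat.card H).factorization 2 - 1 ∧ ∀ P : Sylow p H, IsMulCommutative P) := by
  have hle : (Nat.card H).factorization 2 ≤ (Nat.card G).factorization 2 :=
    (Nat.factorization_le_iff_dvd Nat.card_pos.ne' Nat.card_pos.ne').2 (Subgroup.card_subgroup_dvd_card H) 2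
  rcases lt_or_eq_of_le hle with h | h
  · left
    have h1 := Nat.pow_lt_pow_right (by norm_num : 1 < 2) h
    have h2 : 1 ≤ 2 ^ (Nat.card H).factorization 2 := Nat.one_le_two_pow
    omega
  · right
    rw [h]
    refine ⟨by omega, fun P => ?_⟩
    have hP' : IsPGroup p ((P : Subgroup H).map H.subtype) := P.isPGroup'.map _
    obtain ⟨P₀, hP₀⟩ := hP'.exists_le_sylow
    haveI := hab P₀
    refine ⟨⟨fun x y => ?_⟩⟩
    apply Subtype.ext
    apply Subtype.ext
    have hx : (((x : H) : G)) ∈ (P₀ : Subgroup G) := hP₀ ⟨x, x.2, rfl⟩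
    have hy : (((y : H) : G)) ∈ (P₀ : Subgroup G) := hP₀ ⟨y, y.2, rfl⟩
    have h3 := congrArg Subtype.val (mul_comm' (⟨_, hx⟩ : (P₀ : Subgroup G)) ⟨_, hy⟩)
    simpa using h3

lemma conj_conj_helper (A B x₀ : G) :
    (A * B⁻¹) * (B * x₀ * B⁻¹) * (A * B⁻¹)⁻¹ = A * x₀ * A⁻¹ := by group

lemma conj_square (g x : G) : (g * x * g⁻¹) * (g * x * g⁻¹) = g * (x * x) * g⁻¹ := by group

end gen

theorem main_aux : ∀ (n : ℕ) (G : Type u) [Group G] [Finite G] (p q : ℕ) (_hp : p.Prime)
    (_hq : q.Prime) (_hpq : p ≠ q) (_hp2 : p ≠ 2) (_hpG : p ∣ Nat.card G) (_hqG : q ∣ Nat.card G)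
    (_hmix : ∀ H : Subgroup G, H ≠ ⊤ → ¬ IsPGroup q H → q ∣ Nat.card H → p ∣ Nat.card H)
    (_hlarge : q ^ (Nat.card G).factorization q - 1 < p ∨
      (p = q ^ (Nat.card G).factorization q - 1 ∧ ∀ P : Sylow p G, IsMulCommutative P)),
    Nat.card G = n → ∀ r : ℕ, r.Prime → r ∣ Nat.card G → r = p ∨ r = q := by
  intro n
  induction n using Nat.strong_induction_on with
  | _ n IH =>
    intro G _ _ p q hp hq hpq hp2 hpG hqG hmix hlarge hn r hr hrG
    haveI := Fact.mk hp
    haveI := Fact.mk hq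
    obtain ⟨S⟩ : Nonempty (Sylow q G) := inferInstance
    by_cases hF : ∀ U : Subgroup G, U ≤ (S : Subgroup G) → ∀ g ∈ normalizer (U : Set G),
        Nat.Coprime (orderOf g) q → g ∈ centralizer (U : Set G)
    · obtain ⟨T, hT, hc⟩ := (Cfsg.Agent.S0071.result S).2 hF
      exact primes_of_complement hp hq hpq hpG hqG hmix hT S hc hr hrG
    · push Not at hF
      obtain ⟨U, hU, g, hgN, hgc, hgC⟩ := hF
      obtain ⟨z, x₀, k, hz, hzN, hx₀, hmove, hpa, hab⟩ :=
        fail_data hp hq hpq hpG hmix hlarge S hU hgN hgc hgC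
      have hq2 : q = 2 := by
        have h2 : 2 ∣ p + 1 := by
          rcases hp.eq_two_or_odd with h | h
          · exact absurd h hp2
          · omega
        rw [hpa] at h2
        exact ((Nat.prime_dvd_prime_iff_eq Nat.prime_two hq).1
          (Nat.prime_two.dvd_of_dvd_pow h2)).symm
      subst hq2
      by_contra hno
      push Not at hno
      obtain ⟨hrp, hr2⟩ := hno
      have hSc := Sylow.card_eq_multiplicity S
      have horb := orbit_ge hz hzN hx₀ hmove
      have hSp : Nat.card (S : Subgroup G) = p + 1 := by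
        rw [hSc, hpa]
      have hT := horb.2 hSp
      have hx₀1 : x₀ ≠ 1 := by
        rintro rfl
        apply hmove
        group
      have hx₀2 : x₀ * x₀ = 1 := by
        have h2S : 2 ∣ Nat.card (S : Subgroup G) := by
          rw [hSc]
          exact dvd_pow_self 2 (Nat.prime_two.factorization_pos_of_dvd Nat.card_pos.ne' hqG).ne'
        obtain ⟨y, hy⟩ := exists_prime_orderOf_dvd_card' 2 h2S
        have hy1 : (y : G) ≠ 1 := by
          intro hh
          have : y = 1 := Subtype.ext hh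
          rw [this, orderOf_one] at hy
          omega
        have hy2 : (y : G) * y = 1 := by
          have := pow_orderOf_eq_one y
          rw [hy, pow_two] at this
          exact congrArg Subtype.val this
        obtain ⟨m, hm⟩ := hT y y.2 hy1
        have h3 := conj_square (z ^ m) x₀
        rw [hm, hy2] at h3
        have h4 : z ^ m * (x₀ * x₀) = z ^ m := by
          have := h3.symm
          exact mul_inv_eq_one.1 this
        simpa using h4
      have hzn : ∀ l : ℕ, z ^ (l * (p ^ k - 1)) = (z ^ l)⁻¹ := by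
        intro l
        apply eq_inv_of_mul_eq_one_left
        rw [← pow_add]
        have hpos : 1 ≤ p ^ k := Nat.one_le_pow _ _ hp.pos
        obtain ⟨c, hc⟩ : ∃ c, p ^ k = c + 1 := ⟨p ^ k - 1, by omega⟩
        have : l * (p ^ k - 1) + l = p ^ k * l := by
          rw [hc, Nat.add_sub_cancel]
          ring
        rw [this, pow_mul, hz, one_pow]
      have mc : MC G p ((Nat.card G).factorization 2) r S z :=
        { hp2 := hp2
          hr := hr
          hrp := hrp
          hr2 := hr2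
          hrG := hrG
          hpG := hpG
          hpa := hpa
          hQc := hSc
          hQe := by
            intro w hw
            by_cases hw1 : w = 1
            · subst hw1
              exact mul_one 1
            · obtain ⟨m, hm⟩ := hT w hw hw1
              rw [← hm, conj_square, hx₀2]
              group
          hzN := hzN
          hzp := ⟨k, hz⟩
          hzT := by
            intro x hx y hy hx1 hy1
            obtain ⟨l, hl⟩ := hT x hx hx1
            obtain ⟨m, hm⟩ := hT y hy hy1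
            refine ⟨m + l * (p ^ k - 1), ?_⟩
            rw [pow_add, hzn, ← hl, ← hm]
            exact conj_conj_helper _ _ _
          hmix := hmix
          hab := by
            intro P x hx y hy
            haveI := hab P
            exact congrArg Subtype.val (mul_comm' (⟨x, hx⟩ : (P : Subgroup G)) ⟨y, hy⟩)
          ih := by
            intro H hne h2H hnp s hs hsH
            have hlt : Nat.card H < n := by
              rw [← hn]
              have h1 : Nat.card H ≠ Nat.card G := fun hh => hne (Subgroup.eq_top_of_card_eq H hh)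
              have h2 : Nat.card H ≤ Nat.card G := Subgroup.card_le_card_group H
              omega
            exact IH (Nat.card H) hlt H p 2 hp hq hpq hp2 (hmix H hne hnp h2H) h2H
              (hmix_sub hne hmix) (hlarge_sub H hpa hab) rfl s hs hsH }
      by_cases hβ : NonComm G
      · exact mc.false_of_nonComm hβ
      · exact mc.false_of_alpha hβ

end Cfsg.Agent.Lib.Char.PDiv
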