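import Mathlib
import Cfsg.Prelude.Def_DegreeGraph
import Cfsg.Agent.Lib.Char.Clifford
import Cfsg.Agent.Lib.Char.Degree
import Cfsg.Agent.Lib.Char.Constituent
import Cfsg.Agent.Lib.Char.Kernel
import Cfsg.Agent.Lib.Char.Ind
import Cfsg.Agent.Lib.H8Group.Det
import Cfsg.Agent.Lib.H8Group.Extension

/-!
# Determinants along Clifford orbits

Preparations for the common-divisor graph on relative character degrees: the determinantal
character is additive, and a character over `θ` restricts to a multiple of the orbit sum of `θ`.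
-/

set_option autoImplicit false
set_option linter.unusedSectionVars false

namespace Cfsg.Agent.Lib.Char.RelGraph

open Cfsg Module Cfsg.Agent.Lib.Char Cfsg.Agent.Lib.H8Group

universe u

section Det

variable {G : Type u} [Group G] [Finite G]

theorem detChar_add {ξ η : G → ℂ} (hξ : IsCharacter G ξ) (hη : IsCharacter G η) (g : G) :
    detChar (ξ + η) g = detChar ξ g * detChar η g := by
  obtain ⟨n, ρ, rfl⟩ := hξ
  obtain ⟨m, σ, rfl⟩ := hη
  have h : ρ.character + σ.character = (ρ.prod σ).character := by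
    ext g; simp
  rw [h, detChar_of_rep, detChar_of_rep, detChar_of_rep]
  exact LinearMap.det_prodMap _ _

theorem detChar_zero (g : G) : detChar (0 : G → ℂ) g = 1 := by
  have h : (0 : G → ℂ) = (1 : Representation ℂ G (Fin 0 → ℂ)).character := by
    ext g; simp [Representation.character]
  rw [h, detChar_of_rep]
  exact LinearMap.det_eq_one_of_subsingleton _

theorem detChar_nsmul {ξ : G → ℂ} (hξ : IsCharacter G ξ) (n : ℕ) (g : G) :
    detChar (n • ξ) g = detChar ξ g ^ n := by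
  induction n with
  | zero => simpa using detChar_zero g
  | succ k ih =>
    rw [succ_nsmul, detChar_add (IsCharacter.nsmul hξ k) hξ, ih, pow_succ]

theorem detChar_sum {ι : Type*} (s : Finset ι) {f : ι → G → ℂ}
    (hf : ∀ i ∈ s, IsCharacter G (f i)) (g : G) :
    detChar (∑ i ∈ s, f i) g = ∏ i ∈ s, detChar (f i) g := by
  classical
  induction s using Finset.induction_on with
  | empty => simpa using detChar_zero g
  | insert a s ha ih =>
    rw [Finset.sum_insert ha, Finset.prod_insert ha,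
      detChar_add (hf a (Finset.mem_insert_self a s))
        (IsCharacter.sum s fun i hi => hf i (Finset.mem_insert_of_mem hi)),
      ih fun i hi => hf i (Finset.mem_insert_of_mem hi)]

theorem detChar_lin (φ : G →* ℂˣ) (g : G) : detChar (fun g => ((φ g : ℂˣ) : ℂ)) g = φ g := by
  have h : (fun g => ((φ g : ℂˣ) : ℂ)) = (linearRep φ).character := by
    ext g; exact (character_linearRep φ g).symm
  rw [h, detChar_of_rep]
  show LinearMap.det (((φ g : ℂˣ) : ℂ) • (LinearMap.id : (Fin 1 → ℂ) →ₗ[ℂ] (Fin 1 → ℂ))) = _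
  rw [LinearMap.det_smul, LinearMap.det_id]
  simp

theorem detChar_eq_one_of_mem_commutator {χ : G → ℂ} (hχ : IsCharacter G χ) {x : G}
    (hx : x ∈ commutator G) : detChar χ x = 1 := by
  obtain ⟨δ, hδ⟩ := exists_detHom hχ
  rw [hδ]
  have h : commutator G ≤ δ.ker := Abelianization.commutator_subset_ker δ
  have h2 : δ x = 1 := h hx
  rw [h2]
  simp

end Det

section Orbit

variable {G : Type u} [Group G] [Fintype G] (N : Subgroup G) [hN : N.Normal] [Fintype N]

open scoped Classical in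
/-- The set of `G`-conjugates of a function on `N`. -/
noncomputable def orbF (θ : N → ℂ) : Finset (N → ℂ) :=
  Finset.univ.image fun g : G => conjFun N g θ

theorem mem_orbF {θ μ : N → ℂ} : μ ∈ orbF N θ ↔ ∃ g : G, conjFun N g θ = μ := by
  classical
  simp [orbF]

theorem sum_conjFun_eq (θ : N → ℂ) (n : N) :
    ∑ g : G, conjFun N g θ n = (Nat.card (inertia N θ) : ℂ) * ∑ μ ∈ orbF N θ, μ n := by
  classical
  have h := Finset.sum_comp (s := (Finset.univ : Finset G)) (fun μ : N → ℂ => μ n)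
    (fun g : G => conjFun N g θ)
  rw [h, Finset.mul_sum]
  refine Finset.sum_congr ?_ fun μ hμ => ?_
  · simp [orbF]
  · obtain ⟨g₀, rfl⟩ := (mem_orbF N).1 (by simpa [orbF] using hμ)
    have h3 := card_filter_conjFun N θ g₀
    have h4 : (Finset.univ.filter fun g : G => conjFun N g θ = conjFun N g₀ θ).card =
        Nat.card (inertia N θ) := by
      rw [← h3]
      congr 1
      ext g
      simp [eq_comm]
    rw [nsmul_eq_mul, h4]

theorem card_inertia_ne_zero (θ : N → ℂ) : (Nat.card (inertia N θ) : ℂ) ≠ 0 := by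
  exact_mod_cast Nat.card_pos.ne'

theorem card_orbF (θ : N → ℂ) : (orbF N θ).card = (inertia N θ).index := by
  classical
  have h := Finset.card_eq_sum_card_image (fun g : G => conjFun N g θ) (Finset.univ : Finset G)
  have h2 : ∑ μ ∈ Finset.univ.image (fun g : G => conjFun N g θ),
      (Finset.univ.filter fun g : G => conjFun N g θ = μ).card =
      ∑ μ ∈ Finset.univ.image (fun g : G => conjFun N g θ), Nat.card (inertia N θ) := by
    refine Finset.sum_congr rfl fun μ hμ => ?_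
    obtain ⟨g₀, -, rfl⟩ := Finset.mem_image.1 hμ
    have h3 := card_filter_conjFun N θ g₀
    rw [← h3]
    congr 1
    ext g
    simp [eq_comm]
  rw [h2, Finset.sum_const, smul_eq_mul] at h
  have h5 := (inertia N θ).index_mul_card
  have h6 : Fintype.card G = Nat.card G := (Nat.card_eq_fintype_card).symm
  rw [Finset.card_univ, h6, ← h5] at h
  have hpos : 0 < Nat.card (inertia N θ) := Nat.card_pos
  exact (Nat.eq_of_mul_eq_mul_right hpos h).symm

/-- Clifford: a character over `θ` restricts to a multiple of the orbit sum. -/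
theorem res_eq_sum_orbF {χ : G → ℂ} {θ : N → ℂ} (hχ : IsIrrCharacter G χ)
    (hθ : IsIrrCharacter N θ) (h : classInner (resFun N χ) θ ≠ 0) {e : ℕ}
    (he : classInner (resFun N χ) θ = e) (n : N) :
    χ n = e * ∑ μ ∈ orbF N θ, μ n := by
  have h1 := clifford_sum N hχ hθ h n
  rw [sum_conjFun_eq, he] at h1
  have h2 := card_inertia_ne_zero N θ
  have h3 : (Nat.card (inertia N θ) : ℂ) * χ n =
      (Nat.card (inertia N θ) : ℂ) * (e * ∑ μ ∈ orbF N θ, μ n) := by
    rw [h1]; ring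
  exact mul_left_cancel₀ h2 h3

theorem resFun_eq_nsmul_sum {χ : G → ℂ} {θ : N → ℂ} (hχ : IsIrrCharacter G χ)
    (hθ : IsIrrCharacter N θ) (h : classInner (resFun N χ) θ ≠ 0) {e : ℕ}
    (he : classInner (resFun N χ) θ = e) :
    resFun N χ = e • ∑ μ ∈ orbF N θ, μ := by
  funext n
  show χ n = _
  rw [res_eq_sum_orbF N hχ hθ h he n]
  simp [Finset.sum_apply]

theorem isCharacter_of_mem_orbF {θ μ : N → ℂ} (hθ : IsCharacter N θ) (hμ : μ ∈ orbF N θ) :
    IsCharacter N μ := by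
  obtain ⟨g, rfl⟩ := (mem_orbF N).1 hμ
  exact isCharacter_conjFun N g hθ

theorem detChar_res {χ : G → ℂ} (hχ : IsCharacter G χ) (n : N) :
    detChar (resFun N χ) n = detChar χ n := by
  have := detChar_comp N.subtype hχ
  exact congrFun this n

/-- The determinant of `χ` on `N` along the Clifford orbit. -/
theorem detChar_eq_prod_orbF {χ : G → ℂ} {θ : N → ℂ} (hχ : IsIrrCharacter G χ)
    (hθ : IsIrrCharacter N θ) (h : classInner (resFun N χ) θ ≠ 0) {e : ℕ}
    (he : classInner (resFun N χ) θ = e) (n : N) :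
    detChar χ n = ∏ μ ∈ orbF N θ, detChar μ n ^ e := by
  have hθc := IsIrrCharacter.isCharacter hθ
  rw [← detChar_res N (IsIrrCharacter.isCharacter hχ) n, resFun_eq_nsmul_sum N hχ hθ h he,
    detChar_nsmul (IsCharacter.sum _ fun μ hμ => isCharacter_of_mem_orbF N hθc hμ),
    detChar_sum _ fun μ hμ => isCharacter_of_mem_orbF N hθc hμ, Finset.prod_pow]

end Orbit

section Lin

variable {G : Type u} [Group G] [Fintype G] (N : Subgroup G) [hN : N.Normal] [Fintype N]

/-- A homomorphism to `ℂˣ` as a function to `ℂ`. -/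
abbrev lc (φ : N →* ℂˣ) : N → ℂ := fun x => ((φ x : ℂˣ) : ℂ)

/-- Conjugate of a linear character. -/
def conjHom (g : G) (φ : N →* ℂˣ) : N →* ℂˣ := φ.comp (conjEquiv N g).toMonoidHom

theorem conjFun_lc (g : G) (φ : N →* ℂˣ) : conjFun N g (lc N φ) = lc N (conjHom N g φ) := by
  rw [conjFun_eq_comp]
  rfl

theorem lc_injective : Function.Injective (lc N) := by
  intro φ ψ h
  ext x
  exact congrFun h x

theorem isIrr_lc (φ : N →* ℂˣ) : IsIrrCharacter N (lc N φ) := isIrrCharacter_of_monoidHom φ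

theorem charDegree_lc (φ : N →* ℂˣ) : charDegree (lc N φ) = 1 := by
  apply charDegree_eq
  simp

theorem mem_orbF_lc {φ : N →* ℂˣ} {μ : N → ℂ} (hμ : μ ∈ orbF N (lc N φ)) :
    ∃ g : G, μ = lc N (conjHom N g φ) := by
  obtain ⟨g, rfl⟩ := (mem_orbF N).1 hμ
  exact ⟨g, conjFun_lc N g φ⟩

/-- Twist of a function by a linear character. -/
abbrev tw (φ : N →* ℂˣ) (θ : N → ℂ) : N → ℂ := fun x => ((φ x : ℂˣ) : ℂ) * θ x

theorem isIrr_tw (φ : N →* ℂˣ) {θ : N → ℂ} (hθ : IsIrrCharacter N θ) :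
    IsIrrCharacter N (tw N φ θ) := isIrr_twist φ hθ

theorem charDegree_tw (φ : N →* ℂˣ) {θ : N → ℂ} (hθ : IsIrrCharacter N θ) :
    charDegree (tw N φ θ) = charDegree θ := by
  apply charDegree_eq
  have h := apply_one_eq_charDegree (IsIrrCharacter.isCharacter hθ)
  simp [tw, h]

theorem conjFun_tw (g : G) (φ : N →* ℂˣ) (θ : N → ℂ) :
    conjFun N g (tw N φ θ) = fun x => conjFun N g (lc N φ) x * conjFun N g θ x := rfl

theorem tw_cancel {φ : N →* ℂˣ} {θ θ' : N → ℂ} (h : tw N φ θ = tw N φ θ') : θ = θ' := by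
  funext x
  have := congrFun h x
  exact mul_left_cancel₀ (Units.ne_zero _) this

/-- Power of the determinant. -/
noncomputable def tauF (c : ℕ) (θ : N → ℂ) : N → ℂ := fun x => detChar θ x ^ c

theorem tauF_conj (c : ℕ) (g : G) {θ : N → ℂ} (hθ : IsCharacter N θ) :
    tauF N c (conjFun N g θ) = conjFun N g (tauF N c θ) := by
  funext x
  simp only [tauF]
  rw [conjFun_eq_comp, conjFun_eq_comp]
  have h := congrFun (detChar_comp (conjEquiv N g).toMonoidHom hθ) x
  have h2 : detChar (θ ∘ conjEquiv N g) x = detChar θ (conjEquiv N g x) := h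
  rw [h2]
  rfl

theorem inertia_le_inertia_tauF (c : ℕ) {θ : N → ℂ} (hθ : IsCharacter N θ) :
    inertia N θ ≤ inertia N (tauF N c θ) := by
  intro g hg
  rw [mem_inertia] at hg ⊢
  rw [← tauF_conj N c g hθ, hg]

theorem exists_tau_hom (c : ℕ) {θ : N → ℂ} (hθ : IsCharacter N θ) :
    ∃ ω : N →* ℂˣ, tauF N c θ = lc N ω := by
  obtain ⟨δ, hδ⟩ := exists_detHom hθ
  refine ⟨δ ^ c, ?_⟩
  funext x
  simp only [tauF, hδ]
  show _ = (((δ x) ^ c : ℂˣ) : ℂ)
  simp

theorem tauF_lc (c : ℕ) (φ : N →* ℂˣ) : tauF N c (lc N φ) = lc N (φ ^ c) := by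
  funext x
  simp only [tauF, detChar_lin]
  show _ = (((φ x) ^ c : ℂˣ) : ℂ)
  simp

theorem pow_eq_of_modEq {M : Type*} [Monoid M] {u : M} {n a b : ℕ} (hu : u ^ n = 1)
    (h : a ≡ b [MOD n]) : u ^ a = u ^ b := by
  rw [← pow_mod_orderOf u a, ← pow_mod_orderOf u b]
  have h2 := h.of_dvd (orderOf_dvd_of_pow_eq_one hu)
  rw [show a % orderOf u = b % orderOf u from h2]

theorem tauF_tw {φ : N →* ℂˣ} {θ : N → ℂ} (hθ : IsCharacter N θ) {d n c : ℕ} (hd : θ 1 = d)
    (hφ : ∀ x, (φ x) ^ n = 1) (hc : d * c ≡ 1 [MOD n]) :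
    tauF N c (tw N φ θ) = fun x => lc N φ x * tauF N c θ x := by
  funext x
  simp only [tauF]
  have h := detChar_twist φ hθ hd x
  have h2 : detChar (tw N φ θ) x = ((φ x : ℂˣ) : ℂ) ^ d * detChar θ x := h
  rw [h2, mul_pow, ← pow_mul]
  have h3 : (φ x) ^ (d * c) = (φ x) ^ 1 := pow_eq_of_modEq (hφ x) hc
  congr 1
  have h4 := congrArg (fun u : ℂˣ => (u : ℂ)) h3
  simpa using h4

theorem coe_pow_eq_one_of_pow {φ : N →* ℂˣ} {n : ℕ} (hφ : ∀ x, (φ x) ^ n = 1) (x : N) :
    (lc N φ x) ^ n = 1 := by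
  have h4 := congrArg (fun u : ℂˣ => (u : ℂ)) (hφ x)
  simpa using h4

theorem prod_orbF_pow {φ : N →* ℂˣ} {n : ℕ} (hφ : ∀ x, (φ x) ^ n = 1) (x : N) :
    (∏ μ ∈ orbF N (lc N φ), μ x) ^ n = 1 := by
  rw [← Finset.prod_pow]
  refine Finset.prod_eq_one fun μ hμ => ?_
  obtain ⟨g, rfl⟩ := mem_orbF_lc N hμ
  exact coe_pow_eq_one_of_pow N (fun y => by
    show (φ (conjEquiv N g y)) ^ n = 1
    exact hφ _) x

theorem detChar_eq_prod_orbF_lin {χ : G → ℂ} {φ : N →* ℂˣ} (hχ : IsIrrCharacter G χ)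
    (h : classInner (resFun N χ) (lc N φ) ≠ 0) {e : ℕ}
    (he : classInner (resFun N χ) (lc N φ) = e) (n : N) :
    detChar χ n = (∏ μ ∈ orbF N (lc N φ), μ n) ^ e := by
  rw [detChar_eq_prod_orbF N hχ (isIrr_lc N φ) h he, ← Finset.prod_pow]
  refine Finset.prod_congr rfl fun μ hμ => ?_
  obtain ⟨g, rfl⟩ := mem_orbF_lc N hμ
  rw [detChar_lin]

/-- Clifford numerics: a character over `θ` has degree `e · t · θ(1)`. -/
theorem over_degree {χ : G → ℂ} {θ : N → ℂ} (hχ : IsIrrCharacter G χ) (hθ : IsIrrCharacter N θ)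
    (h : classInner (resFun N χ) θ ≠ 0) :
    ∃ e : ℕ, classInner (resFun N χ) θ = e ∧
      charDegree χ = e * (inertia N θ).index * charDegree θ := by
  obtain ⟨e, he⟩ := exists_multiplicity N (IsIrrCharacter.isCharacter hχ) hθ
  refine ⟨e, he, ?_⟩
  exact clifford_degree_nat N hχ hθ h (apply_one_eq_charDegree (IsIrrCharacter.isCharacter hχ))
    (apply_one_eq_charDegree (IsIrrCharacter.isCharacter hθ)) he

theorem index_dvd_degree {χ : G → ℂ} {θ : N → ℂ} (hχ : IsIrrCharacter G χ)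
    (hθ : IsIrrCharacter N θ) (h : classInner (resFun N χ) θ ≠ 0) :
    (inertia N θ).index ∣ charDegree χ := by
  obtain ⟨e, -, h2⟩ := over_degree N hχ hθ h
  rw [h2]
  exact ⟨e * charDegree θ, by ring⟩

theorem degree_dvd_degree {χ : G → ℂ} {θ : N → ℂ} (hχ : IsIrrCharacter G χ)
    (hθ : IsIrrCharacter N θ) (h : classInner (resFun N χ) θ ≠ 0) :
    charDegree θ ∣ charDegree χ := by
  obtain ⟨e, -, h2⟩ := over_degree N hχ hθ h
  rw [h2]
  exact Dvd.intro_left _ rfl

/-- If `θ` is invariant, the orbit is a singleton. -/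
theorem orbF_eq_singleton {θ : N → ℂ} (h : inertia N θ = ⊤) : orbF N θ = {θ} := by
  classical
  ext μ
  rw [mem_orbF, Finset.mem_singleton]
  constructor
  · rintro ⟨g, rfl⟩
    have : g ∈ inertia N θ := by rw [h]; trivial
    exact this
  · rintro rfl
    exact ⟨1, by simp⟩

theorem exists_over' {θ : N → ℂ} (hθ : IsIrrCharacter N θ) :
    ∃ χ : G → ℂ, IsIrrCharacter G χ ∧ classInner (resFun N χ) θ ≠ 0 := exists_over N hθ

end Lin

section Elem

variable {G : Type u} [Group G]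

theorem exists_mul_of_coprime_index [Finite G] {H K : Subgroup G}
    (hc : Nat.Coprime H.index K.index) (g : G) : ∃ h ∈ H, ∃ k ∈ K, g = h * k := by
  classical
  have h1 : (H ⊓ K).index = K.relIndex H * H.index := by
    rw [← Subgroup.relIndex_mul_index (inf_le_left : H ⊓ K ≤ H), Subgroup.inf_relIndex_left]
  have h2 : K.index ∣ K.relIndex H * H.index := by
    rw [← h1]
    exact Subgroup.index_dvd_of_le inf_le_right
  have h3 : K.index ∣ K.relIndex H := hc.symm.dvd_of_dvd_mul_right h2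
  have h4 : K.relIndex H ≠ 0 := by
    show (K.subgroupOf H).index ≠ 0
    exact Subgroup.index_ne_zero_of_finite
  have h5 : Nat.card (G ⧸ K) ≤ Nat.card (↥H ⧸ K.subgroupOf H) := Nat.le_of_dvd (Nat.pos_of_ne_zero h4) h3
  let i : ↥H ⧸ K.subgroupOf H → G ⧸ K := Quotient.map' (fun h : H => (h : G)) (by
    intro a b hab
    rw [QuotientGroup.leftRel_apply] at hab ⊢
    exact Subgroup.mem_subgroupOf.1 hab)
  have hi : Function.Injective i := by
    intro a b hab
    obtain ⟨a, rfl⟩ := QuotientGroup.mk_surjective a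
    obtain ⟨b, rfl⟩ := QuotientGroup.mk_surjective b
    have h6 : ((a : G) : G ⧸ K) = ((b : G) : G ⧸ K) := hab
    rw [QuotientGroup.eq] at h6
    rw [QuotientGroup.eq]
    exact Subgroup.mem_subgroupOf.2 h6
  have hbij : Function.Bijective i := (Function.Injective.bijective_of_nat_card_le hi h5)
  obtain ⟨y, hy⟩ := hbij.2 ((g : G) : G ⧸ K)
  obtain ⟨y, rfl⟩ := QuotientGroup.mk_surjective y
  have h7 : ((y : G) : G ⧸ K) = ((g : G) : G ⧸ K) := hy
  rw [QuotientGroup.eq] at h7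
  exact ⟨y, y.2, (y : G)⁻¹ * g, h7, by group⟩

theorem eq_one_of_pow_eq_one_of_coprime {M : Type*} [Monoid M] {u : M} {a b : ℕ} (ha : u ^ a = 1)
    (hb : u ^ b = 1) (hc : Nat.Coprime a b) : u = 1 := by
  have h := (pow_gcd_eq_one (a := u) (m := a) (n := b)).2 ⟨ha, hb⟩
  rw [hc.gcd_eq_one, pow_one] at h
  exact h

end Elem

section Constituents

variable {G : Type u} [Group G] [Fintype G]

/-- In a decomposition of a character the degrees add up: some constituent has degree prime to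
`r`. -/
theorem exists_constituent_not_dvd {ξ : G → ℂ} (hξ : IsCharacter G ξ) {r : ℕ} {n : ℕ}
    (hn : ξ 1 = n) (hr : ¬ r ∣ n) :
    ∃ ψ : G → ℂ, IsIrrCharacter G ψ ∧ classInner ξ ψ ≠ 0 ∧ ¬ r ∣ charDegree ψ := by
  classical
  obtain ⟨m, hm, hs⟩ := IsCharacter.exists_eq_sum hξ
  by_contra hcon
  push_neg at hcon
  apply hr
  have h1 : ((n : ℕ) : ℂ) = ((∑ ψ : IrrCharacter G, m ψ * charDegree (ψ : G → ℂ) : ℕ) : ℂ) := by
    rw [← hn, hs]
    push_cast
    simp only [Finset.sum_apply]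
    refine Finset.sum_congr rfl fun ψ _ => ?_
    rw [Pi.smul_apply, nsmul_eq_mul, apply_one_eq_charDegree (IsIrrCharacter.isCharacter ψ.2)]
  have h2 : n = ∑ ψ : IrrCharacter G, m ψ * charDegree (ψ : G → ℂ) := by exact_mod_cast h1
  rw [h2]
  refine Finset.dvd_sum fun ψ _ => ?_
  by_cases h0 : m ψ = 0
  · simp [h0]
  · refine Dvd.dvd.mul_left (hcon ψ ψ.2 ?_) _
    rw [hm]
    exact_mod_cast h0

/-- Going up: an irreducible `ν` of a subgroup of index prime to `r` lies under an irreducible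
of degree prime to `r` if its degree is. -/
theorem exists_over_not_dvd (H : Subgroup G) [Fintype H] {ν : H → ℂ} (hν : IsIrrCharacter H ν)
    {r : ℕ} (hr : r.Prime) (hH : ¬ r ∣ H.index) (hν1 : ¬ r ∣ charDegree ν) :
    ∃ χ : G → ℂ, IsIrrCharacter G χ ∧ classInner (resFun H χ) ν ≠ 0 ∧ ¬ r ∣ charDegree χ := by
  have hc := isCharacter_indFun (H := H) (IsIrrCharacter.isCharacter hν)
  have h1 : indFun H ν 1 = ((H.index * charDegree ν : ℕ) : ℂ) := by
    rw [indFun_one, apply_one_eq_charDegree (IsIrrCharacter.isCharacter hν)]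
    push_cast
    ring
  have hnd : ¬ r ∣ H.index * charDegree ν := by
    intro h
    rcases (Nat.Prime.dvd_mul hr).1 h with h | h
    · exact hH h
    · exact hν1 h
  obtain ⟨χ, hχ, h2, h3⟩ := exists_constituent_not_dvd hc h1 hnd
  refine ⟨χ, hχ, ?_, h3⟩
  have hcl : IsClassFunction G χ := IsCharacter.isClassFunction (IsIrrCharacter.isCharacter hχ)
  intro h4
  apply h2
  rw [classInner_indFun_left H _ _ hcl, classInner_conj_symm, h4, map_zero]

/-- Constituents of constituents are constituents. -/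
theorem isCharacter_res_aux (M : Subgroup G) {ξ : G → ℂ} (hξ : IsCharacter G ξ) :
    IsCharacter M (resFun M ξ) := IsCharacter.comp hξ M.subtype

theorem classInner_res_ne_zero_chain {ξ ψ : G → ℂ} (hξ : IsCharacter G ξ)
    (hψ : IsIrrCharacter G ψ) (h1 : classInner ξ ψ ≠ 0) (M : Subgroup G) [Fintype M]
    {θ : M → ℂ} (hθ : IsIrrCharacter M θ) (h2 : classInner (resFun M ψ) θ ≠ 0) :
    classInner (resFun M ξ) θ ≠ 0 := by
  classical
  obtain ⟨m, hm, hs⟩ := IsCharacter.exists_eq_sum hξ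
  have hres : resFun M ξ = ∑ β : IrrCharacter G, m β • resFun M (β : G → ℂ) := by
    funext x
    show ξ x = _
    rw [hs]
    simp [Finset.sum_apply]
  have hnat : ∀ β : IrrCharacter G, ∃ n : ℕ, classInner (resFun M (β : G → ℂ)) θ = n := fun β =>
    IsCharacter.classInner_irr_eq_nat
      (isCharacter_res_aux M (IsIrrCharacter.isCharacter β.2)) hθ
  choose n hn using hnat
  have h3 : classInner (resFun M ξ) θ = ((∑ β : IrrCharacter G, m β * n β : ℕ) : ℂ) := by
    rw [hres, classInner_sum_left]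
    push_cast
    refine Finset.sum_congr rfl fun β _ => ?_
    rw [← Nat.cast_smul_eq_nsmul ℂ, classInner_smul_left, hn]
  rw [h3]
  have h4 : m ⟨ψ, hψ⟩ ≠ 0 := by
    intro h0
    apply h1
    rw [hm ⟨ψ, hψ⟩, h0]
    simp
  have h5 : n ⟨ψ, hψ⟩ ≠ 0 := by
    intro h0
    apply h2
    have := hn ⟨ψ, hψ⟩
    rw [h0] at this
    simpa using this
  have h6 : 0 < ∑ β : IrrCharacter G, m β * n β :=
    Finset.sum_pos' (fun _ _ => Nat.zero_le _) ⟨⟨ψ, hψ⟩, Finset.mem_univ _,
      Nat.mul_pos (Nat.pos_of_ne_zero h4) (Nat.pos_of_ne_zero h5)⟩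
  exact_mod_cast h6.ne'

end Constituents

section PData

variable {G : Type u} [Group G] [Finite G]

/-- The data attached to a prime `r` dividing the order of `N`. -/
structure PData (N : Subgroup G) (r : ℕ) where
  k : ℕ
  q : ℕ
  Y : Subgroup G
  hNY : N ≤ Y
  hr : r.Prime
  hcard : Nat.card N = r ^ k * q
  hq : ¬ r ∣ q
  hk : 0 < k
  hY : ¬ r ∣ Y.index
  hYN : ∃ j, N.relIndex Y = r ^ j

variable {N : Subgroup G} {r : ℕ}

/-- `φ` has `r`-power order. -/
def PData.Lam (D : PData N r) (φ : N →* ℂˣ) : Prop := ∀ x, (φ x) ^ (r ^ D.k) = 1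

/-- `φ` extends to `Y`. -/
def PData.Ext (D : PData N r) (φ : N →* ℂˣ) : Prop :=
  ∃ ν : D.Y →* ℂˣ, ∀ x : N, ν ⟨x, D.hNY x.2⟩ = φ x

theorem PData.Ext.mul {D : PData N r} {φ ψ : N →* ℂˣ} (h1 : D.Ext φ) (h2 : D.Ext ψ) :
    D.Ext (φ * ψ) := by
  obtain ⟨ν, hν⟩ := h1
  obtain ⟨ν', hν'⟩ := h2
  exact ⟨ν * ν', fun x => by simp [hν, hν']⟩

theorem PData.Lam.mul {D : PData N r} {φ ψ : N →* ℂˣ} (h1 : D.Lam φ) (h2 : D.Lam ψ) :
    D.Lam (φ * ψ) := fun x => by
  rw [MonoidHom.mul_apply, mul_pow, h1 x, h2 x, one_mul]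

theorem PData.exists_c (D : PData N r) {d : ℕ} (hd : ¬ r ∣ d) :
    ∃ c : ℕ, D.q ∣ c ∧ d * c ≡ 1 [MOD r ^ D.k] ∧ Nat.Coprime c r := by
  have hrp := D.hr
  have h1 : Nat.Coprime (D.q * d) (r ^ D.k) := by
    apply Nat.Coprime.pow_right
    apply Nat.Coprime.symm
    rw [Nat.Prime.coprime_iff_not_dvd hrp]
    intro h
    rcases (Nat.Prime.dvd_mul hrp).1 h with h | h
    · exact D.hq h
    · exact hd h
  have hk1 : 1 < r ^ D.k := Nat.one_lt_pow D.hk.ne' hrp.one_lt
  obtain ⟨u, -, hu⟩ := Nat.exists_mul_mod_eq_one_of_coprime h1 hk1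
  refine ⟨D.q * u, Dvd.intro _ rfl, ?_, ?_⟩
  · have h2 : d * (D.q * u) = (D.q * d) * u := by ring
    rw [h2]
    show (D.q * d * u) % r ^ D.k = 1 % r ^ D.k
    rw [hu, Nat.mod_eq_of_lt hk1]
  · apply Nat.Coprime.symm
    rw [Nat.Prime.coprime_iff_not_dvd hrp]
    intro h
    have h3 : r ∣ D.q * d * u := by
      obtain ⟨w, hw⟩ := h
      exact ⟨d * w, by rw [show D.q * d * u = d * (D.q * u) by ring, hw]; ring⟩
    have h4 : r ∣ D.q * d * u % r ^ D.k := by
      rw [Nat.dvd_mod_iff (dvd_pow_self r D.hk.ne')]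
      exact h3
    rw [hu] at h4
    exact hrp.one_lt.ne' (Nat.dvd_one.1 h4)

end PData

section Core

variable {G : Type u} [Group G] [Fintype G] {N : Subgroup G} [hN : N.Normal] [Fintype N] {r : ℕ}
  (D : PData N r)

include D in
theorem PData.tau_lam {θ : N → ℂ} (hθ : IsCharacter N θ) {c : ℕ} (hc : D.q ∣ c) {ω : N →* ℂˣ}
    (hω : tauF N c θ = lc N ω) : D.Lam ω := by
  intro x
  obtain ⟨δ, hδ⟩ := exists_detHom hθ
  obtain ⟨u, rfl⟩ := hc
  have h1 : (ω x : ℂ) = (((δ x) ^ (D.q * u) : ℂˣ) : ℂ) := by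
    have := congrFun hω x
    simp only [tauF, hδ] at this
    rw [Units.val_pow_eq_pow_val]
    exact this.symm
  have h2 : ω x = (δ x) ^ (D.q * u) := Units.ext h1
  rw [h2, ← pow_mul]
  have h3 : D.q * u * r ^ D.k = Nat.card N * u := by
    rw [D.hcard]; ring
  rw [h3, pow_mul]
  have h4 : (δ x) ^ Nat.card N = 1 := by
    rw [← map_pow, pow_card_eq_one', map_one]
  rw [h4, one_pow]

theorem PData.lam_conj {D : PData N r} {φ : N →* ℂˣ} (h : D.Lam φ) (g : G) :
    D.Lam (conjHom N g φ) := fun x => h _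

include D in
theorem PData.eq_one_of_pow {u : ℂ} {e : ℕ} (h1 : u ^ (r ^ D.k) = 1) (h2 : u ^ e = 1)
    (he : ¬ r ∣ e) : u = 1 := by
  refine eq_one_of_pow_eq_one_of_coprime h1 h2 ?_
  apply Nat.Coprime.pow_left
  rw [Nat.Prime.coprime_iff_not_dvd D.hr]
  exact he

/-- Transfer of inner products along `N ≃ N.subgroupOf Y`. -/
theorem classInner_transfer (Y : Subgroup G) [Fintype Y] (hNY : N ≤ Y)
    [Fintype (N.subgroupOf Y)] (χ : G → ℂ) (θM : N.subgroupOf Y → ℂ) :
    classInner (resFun (N.subgroupOf Y) (resFun Y χ)) θM =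
      classInner (resFun N χ) (θM ∘ (Subgroup.subgroupOfEquivOfLe hNY).symm) := by
  have h := classInner_comp_mulEquiv (Subgroup.subgroupOfEquivOfLe hNY).symm
    (resFun (N.subgroupOf Y) (resFun Y χ)) θM
  rw [← h]
  rfl

theorem PData.exists_over_ext {φ : N →* ℂˣ} (hφ : D.Ext φ) :
    ∃ χ : G → ℂ, IsIrrCharacter G χ ∧ classInner (resFun N χ) (lc N φ) ≠ 0 ∧
      ¬ r ∣ charDegree χ := by
  classical
  letI : Fintype D.Y := Fintype.ofFinite _
  letI : Fintype (N.subgroupOf D.Y) := Fintype.ofFinite _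
  obtain ⟨ν, hν⟩ := hφ
  have hνi := isIrrCharacter_of_monoidHom ν
  have hdeg : charDegree (fun g => ((ν g : ℂˣ) : ℂ)) = 1 := by
    apply charDegree_eq
    simp
  obtain ⟨χ, hχ, h1, h2⟩ := exists_over_not_dvd D.Y hνi D.hr D.hY (by
    rw [hdeg]
    exact fun h => D.hr.one_lt.ne' (Nat.dvd_one.1 h))
  refine ⟨χ, hχ, ?_, h2⟩
  -- the restriction of `ν` to `N`, seen inside `Y`
  let νM : N.subgroupOf D.Y →* ℂˣ := ν.comp (N.subgroupOf D.Y).subtype
  have hνM := isIrrCharacter_of_monoidHom νM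
  have h3 : classInner (resFun (N.subgroupOf D.Y) (fun g : D.Y => ((ν g : ℂˣ) : ℂ)))
      (fun m => ((νM m : ℂˣ) : ℂ)) ≠ 0 := by
    have := classInner_irr_self hνM
    show classInner (fun m => ((νM m : ℂˣ) : ℂ)) (fun m => ((νM m : ℂˣ) : ℂ)) ≠ 0
    rw [this]
    exact one_ne_zero
  have h4 := classInner_res_ne_zero_chain (isCharacter_res_aux D.Y (IsIrrCharacter.isCharacter hχ))
    hνi h1 (N.subgroupOf D.Y) hνM h3
  rw [classInner_transfer D.Y D.hNY] at h4
  convert h4 using 2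
  funext x
  have := hν x
  simp only [Function.comp_apply]
  show ((φ x : ℂˣ) : ℂ) = _
  rw [← this]
  rfl

/-- Clifford for a normal subgroup of `r`-power index. -/
theorem det_ext_abstract {X : Type u} [Group X] [Fintype X] (M : Subgroup X) [M.Normal] [Fintype M]
    {ψ : X → ℂ} (hψ : IsIrrCharacter X ψ) {r : ℕ} (hr : r.Prime) (hψr : ¬ r ∣ charDegree ψ)
    (hXM : ∃ j, M.index = r ^ j) {θ : M → ℂ} (hθ : IsIrrCharacter M θ)
    (hov : classInner (resFun M ψ) θ ≠ 0) :
    ¬ r ∣ charDegree θ ∧ ∃ f : ℕ, ¬ r ∣ f ∧ ∀ n : M, detChar ψ n = detChar θ n ^ f := by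
  obtain ⟨e, he, hdeg⟩ := over_degree M hψ hθ hov
  rw [hdeg] at hψr
  have h1 : ¬ r ∣ charDegree θ := fun h => hψr (Dvd.dvd.mul_left h _)
  have h2 : ¬ r ∣ e := fun h => hψr (Dvd.dvd.mul_right (Dvd.dvd.mul_right h _) _)
  have h3 : ¬ r ∣ (inertia M θ).index := fun h => hψr (Dvd.dvd.mul_right (Dvd.dvd.mul_left h _) _)
  refine ⟨h1, e, h2, fun n => ?_⟩
  obtain ⟨j, hj⟩ := hXM
  have hle : M ≤ inertia M θ := le_inertia M (IsCharacter.isClassFunction (IsIrrCharacter.isCharacter hθ))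
  have h4 : (inertia M θ).index ∣ r ^ j := hj ▸ Subgroup.index_dvd_of_le hle
  obtain ⟨i, -, hi⟩ := (Nat.dvd_prime_pow hr).1 h4
  have h5 : (inertia M θ).index = 1 := by
    rcases i with _ | i
    · simpa using hi
    · exact absurd (hi ▸ dvd_pow_self r (Nat.succ_ne_zero i)) h3
  have h6 : inertia M θ = ⊤ := Subgroup.index_eq_one.1 h5
  rw [detChar_eq_prod_orbF M hψ hθ hov he n, orbF_eq_singleton M h6, Finset.prod_singleton]

theorem PData.exists_tau_ext {χ : G → ℂ} (hχ : IsIrrCharacter G χ) (hrχ : ¬ r ∣ charDegree χ) :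
    ∃ θ : N → ℂ, IsIrrCharacter N θ ∧ classInner (resFun N χ) θ ≠ 0 ∧ ¬ r ∣ charDegree θ ∧
      ∀ c : ℕ, D.q ∣ c → charDegree θ * c ≡ 1 [MOD r ^ D.k] → ∀ ω : N →* ℂˣ,
        tauF N c θ = lc N ω → D.Ext ω := by
  classical
  letI : Fintype D.Y := Fintype.ofFinite _
  letI : Fintype (N.subgroupOf D.Y) := Fintype.ofFinite _
  have hχc := IsIrrCharacter.isCharacter hχ
  have h1 : (resFun D.Y χ) 1 = (charDegree χ : ℂ) := by
    show χ 1 = _
    exact apply_one_eq_charDegree hχc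
  obtain ⟨ψ, hψ, h2, h3⟩ := exists_constituent_not_dvd (isCharacter_res_aux D.Y hχc) h1 hrχ
  haveI : (N.subgroupOf D.Y).Normal := Subgroup.normal_subgroupOf
  obtain ⟨θM, hθM, h4⟩ := exists_under hψ (N.subgroupOf D.Y)
  have h5 := classInner_res_ne_zero_chain (isCharacter_res_aux D.Y hχc) hψ h2 (N.subgroupOf D.Y) hθM h4
  rw [classInner_transfer D.Y D.hNY] at h5
  have hM : ∃ j, (N.subgroupOf D.Y).index = r ^ j := D.hYN
  obtain ⟨h6, f, hf, h7⟩ := det_ext_abstract (N.subgroupOf D.Y) hψ D.hr h3 hM hθM h4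
  set e := (Subgroup.subgroupOfEquivOfLe D.hNY).symm with he
  have hθi : IsIrrCharacter N (θM ∘ e) := isIrrCharacter_comp_mulEquiv e hθM
  have hdeg : charDegree (θM ∘ e) = charDegree θM := by
    apply charDegree_eq
    have h8 := apply_one_eq_charDegree (IsIrrCharacter.isCharacter hθM)
    simp only [Function.comp_apply, map_one]
    exact h8
  refine ⟨θM ∘ e, hθi, h5, by rwa [hdeg], ?_⟩
  intro c hc hc1 ω hω
  have hL : D.Lam ω := D.tau_lam (IsIrrCharacter.isCharacter hθi) hc hω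
  obtain ⟨δ, hδ⟩ := exists_detHom (IsIrrCharacter.isCharacter hψ)
  obtain ⟨c', -, hc', -⟩ := D.exists_c hf
  refine ⟨δ ^ (c * c'), fun x => ?_⟩
  have h8 : detChar (θM ∘ e) x = detChar θM (e x) :=
    congrFun (detChar_comp e.toMonoidHom (IsIrrCharacter.isCharacter hθM)) x
  have h9 : detChar ψ ((e x : N.subgroupOf D.Y) : D.Y) = detChar θM (e x) ^ f := h7 (e x)
  have h10 : ((e x : N.subgroupOf D.Y) : D.Y) = ⟨x, D.hNY x.2⟩ := rfl
  rw [h10, hδ] at h9
  have h11 : (ω x : ℂ) = detChar θM (e x) ^ c := by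
    have := congrFun hω x
    simp only [tauF, h8] at this
    exact this.symm
  have h12 : (((δ ^ (c * c')) ⟨x, D.hNY x.2⟩ : ℂˣ) : ℂ) = (ω x : ℂ) ^ (f * c') := by
    show (((δ ⟨x, D.hNY x.2⟩) ^ (c * c') : ℂˣ) : ℂ) = _
    rw [Units.val_pow_eq_pow_val, h9, h11, ← pow_mul, ← pow_mul]
    congr 1
    ring
  apply Units.ext
  rw [h12]
  have h13 : (ω x) ^ (f * c') = (ω x) ^ 1 := pow_eq_of_modEq (hL x) hc'
  have h14 := congrArg (fun u : ℂˣ => (u : ℂ)) h13
  simpa using h14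

end Core

end Cfsg.Agent.Lib.Char.RelGraph
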