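import Cfsg.Agent.Lib.Char.RelGraph
import Cfsg.Agent.Lib.Char.Linear

/-!
# The common-divisor graph on relative character degrees: hubs

Reachability, linear characters extending to `N R` (`R` a Sylow subgroup), and how vertices of
degree prime to `r` attach to them.
-/

set_option autoImplicit false
set_option linter.unusedSectionVars false

namespace Cfsg.Agent.Lib.Char.RelGraph

open Cfsg Module Cfsg.Agent.Lib.Char Cfsg.Agent.Lib.H8Group

universe u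

section Graph

variable {G : Type u} [Group G] (N : Subgroup G)

/-- Reachability in the induced graph, as a relation on numbers. -/
def RR (a b : ℕ) : Prop :=
  ∃ (ha : a ∈ relCharDegrees N) (hb : b ∈ relCharDegrees N),
    (commonDivisorGraph.induce (relCharDegrees N)).Reachable ⟨a, ha⟩ ⟨b, hb⟩

variable {N}

theorem RR.symm {a b : ℕ} (h : RR N a b) : RR N b a := by
  obtain ⟨ha, hb, h⟩ := h
  exact ⟨hb, ha, h.symm⟩

theorem RR.trans {a b c : ℕ} (h : RR N a b) (h' : RR N b c) : RR N a c := by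
  obtain ⟨ha, hb, h⟩ := h
  obtain ⟨hb', hc, h'⟩ := h'
  exact ⟨ha, hc, h.trans h'⟩

theorem RR_of_gcd {a b : ℕ} (ha : a ∈ relCharDegrees N) (hb : b ∈ relCharDegrees N)
    (h : 1 < Nat.gcd a b) : RR N a b := by
  refine ⟨ha, hb, ?_⟩
  by_cases hab : a = b
  · subst hab
    exact SimpleGraph.Reachable.refl _
  · apply SimpleGraph.Adj.reachable
    show commonDivisorGraph.Adj a b
    exact ⟨hab, h⟩

theorem RR_of_common {a b t : ℕ} (ha : a ∈ relCharDegrees N) (hb : b ∈ relCharDegrees N)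
    (ht : 1 < t) (h1 : t ∣ a) (h2 : t ∣ b) (ha0 : 0 < a) : RR N a b := by
  apply RR_of_gcd ha hb
  exact lt_of_lt_of_le ht (Nat.le_of_dvd (Nat.gcd_pos_of_pos_left _ ha0) (Nat.dvd_gcd h1 h2))

theorem coprime_of_not_RR {a b : ℕ} (ha : a ∈ relCharDegrees N) (hb : b ∈ relCharDegrees N)
    (ha0 : 0 < a) (h : ¬ RR N a b) : Nat.Coprime a b := by
  by_contra hc
  apply h
  apply RR_of_gcd ha hb
  have h1 : Nat.gcd a b ≠ 0 := (Nat.gcd_pos_of_pos_left _ ha0).ne'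
  have h2 : Nat.gcd a b ≠ 1 := hc
  omega

end Graph

section Vert

variable {G : Type u} [Group G] [Fintype G] {N : Subgroup G} [hN : N.Normal] [Fintype N]

theorem mem_rel_of_over {χ : G → ℂ} {θ : N → ℂ} (hχ : IsIrrCharacter G χ) (hθ : IsIrrCharacter N θ)
    (h : classInner (resFun N χ) θ ≠ 0) (hne : θ ≠ fun _ => 1) :
    charDegree χ ∈ relCharDegrees N := by
  refine ⟨⟨χ, hχ⟩, ?_, rfl⟩
  by_contra hcon
  push_neg at hcon
  apply h
  have h1 : resFun N χ = (χ 1) • (fun _ : N => (1 : ℂ)) := by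
    funext x
    show χ x = χ 1 * 1
    rw [mul_one]
    exact hcon x x.2
  rw [h1, classInner_smul_left, classInner_irr_of_ne isIrrCharacter_one hθ (Ne.symm hne), mul_zero]

theorem ne_one_of_vertex {χ : G → ℂ} {θ : N → ℂ} (hχ : IsIrrCharacter G χ)
    (h : classInner (resFun N χ) θ ≠ 0) (hv : ∃ x ∈ N, χ x ≠ χ 1) : θ ≠ fun _ => 1 := by
  rintro rfl
  have h1 := le_charKer_of_classInner_one_ne_zero N hχ h
  obtain ⟨x, hx, hne⟩ := hv
  exact hne ((mem_charKer (IsIrrCharacter.isCharacter hχ)).1 (h1 hx))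

theorem charDegree_pos_irr {χ : G → ℂ} (hχ : IsIrrCharacter G χ) : 0 < charDegree χ :=
  charDegree_pos hχ

theorem charDegree_conjFun {θ : N → ℂ} (hθ : IsCharacter N θ) (g : G) :
    charDegree (conjFun N g θ) = charDegree θ := by
  apply charDegree_eq
  have h := apply_one_eq_charDegree hθ
  rw [← h]
  simp only [conjFun_apply]
  congr 1
  ext
  simp

theorem lc_ne_one {φ : N →* ℂˣ} (h : φ ≠ 1) : lc N φ ≠ fun _ => 1 := by
  intro h2
  apply h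
  ext x
  simpa using congrFun h2 x

theorem hom_eq_one_of_lc {φ : N →* ℂˣ} (h : ∀ x, lc N φ x = 1) : φ = 1 := by
  ext x
  simpa using h x

theorem conjHom_eq_one {φ : N →* ℂˣ} {g : G} (h : conjHom N g φ = 1) : φ = 1 := by
  ext x
  have := congrFun (congrArg (fun f : N →* ℂˣ => (f : N → ℂˣ)) h) ((conjEquiv N g).symm x)
  simp only [conjHom, MonoidHom.coe_comp, Function.comp_apply, MonoidHom.one_apply] at this
  simpa using congrArg (fun u : ℂˣ => (u : ℂ)) this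

theorem index_gt_one {K : Subgroup G} (h : K ≠ ⊤) : 1 < K.index := by
  have h1 : K.index ≠ 0 := Subgroup.index_ne_zero_of_finite
  have h2 : K.index ≠ 1 := fun h3 => h (Subgroup.index_eq_one.1 h3)
  omega

theorem not_dvd_one' {r : ℕ} (hr : r.Prime) : ¬ r ∣ 1 := fun h => hr.one_lt.ne' (Nat.dvd_one.1 h)

theorem lc_mul (φ ψ : N →* ℂˣ) : lc N (φ * ψ) = fun x => lc N φ x * lc N ψ x := by
  funext x
  show (((φ x) * (ψ x) : ℂˣ) : ℂ) = _
  rw [Units.val_mul]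

theorem hom_mul_comm (φ ψ : N →* ℂˣ) : φ * ψ = ψ * φ := by
  ext x
  show (((φ x) * (ψ x) : ℂˣ) : ℂ) = (((ψ x) * (φ x) : ℂˣ) : ℂ)
  rw [mul_comm]

end Vert

section Core2

variable {G : Type u} [Group G] [Fintype G] {N : Subgroup G} [hN : N.Normal] [Fintype N] {r : ℕ}
  (D : PData N r)

theorem PData.inertia_ne_top (hNG : N ≤ commutator G) {φ : N →* ℂˣ} (hL : D.Lam φ) (hE : D.Ext φ)
    (hne : φ ≠ 1) : inertia N (lc N φ) ≠ ⊤ := by
  intro htop
  apply hne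
  obtain ⟨χ, hχ, h1, h2⟩ := D.exists_over_ext hE
  obtain ⟨e, he, hdeg⟩ := over_degree N hχ (isIrr_lc N φ) h1
  apply hom_eq_one_of_lc
  intro x
  have h3 := detChar_eq_prod_orbF_lin N hχ h1 he x
  rw [orbF_eq_singleton N htop, Finset.prod_singleton,
    detChar_eq_one_of_mem_commutator (IsIrrCharacter.isCharacter hχ) (hNG x.2)] at h3
  refine D.eq_one_of_pow (coe_pow_eq_one_of_pow N hL x) h3.symm ?_
  rw [hdeg] at h2
  exact fun h => h2 (Dvd.dvd.mul_right (Dvd.dvd.mul_right h _) _)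

theorem prod_orbF_mul {φ₁ φ₂ : N →* ℂˣ}
    (hT₁ : ∀ g : G, ∃ h ∈ inertia N (lc N φ₂), ∃ u ∈ inertia N (lc N φ₁), g = h * u)
    (hT₂ : ∀ g : G, ∃ h ∈ inertia N (lc N φ₂), ∃ u ∈ inertia N (lc N (φ₁ * φ₂)), g = h * u)
    (n : N) :
    ∏ μ ∈ orbF N (lc N (φ₁ * φ₂)), μ n =
      (∏ μ ∈ orbF N (lc N φ₁), μ n) * (lc N φ₂ n) ^ (inertia N (lc N φ₁)).index := by
  classical
  have hconj : ∀ h ∈ inertia N (lc N φ₂), conjFun N h (lc N (φ₁ * φ₂)) =
      fun x => conjFun N h (lc N φ₁) x * lc N φ₂ x := by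
    intro h hh
    rw [lc_mul]
    funext x
    have := congrFun ((mem_inertia N).1 hh) x
    show conjFun N h (lc N φ₁) x * conjFun N h (lc N φ₂) x = _
    rw [this]
  have horb : orbF N (lc N (φ₁ * φ₂)) =
      (orbF N (lc N φ₁)).image (fun μ x => μ x * lc N φ₂ x) := by
    ext μ'
    rw [mem_orbF, Finset.mem_image]
    constructor
    · rintro ⟨g, rfl⟩
      obtain ⟨h, hh, u, hu, rfl⟩ := hT₂ g
      refine ⟨conjFun N h (lc N φ₁), (mem_orbF N).2 ⟨h, rfl⟩, ?_⟩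
      rw [conjFun_mul, (mem_inertia N).1 hu, hconj h hh]
    · rintro ⟨μ, hμ, rfl⟩
      obtain ⟨g, rfl⟩ := (mem_orbF N).1 hμ
      obtain ⟨h, hh, u, hu, rfl⟩ := hT₁ g
      refine ⟨h, ?_⟩
      rw [hconj h hh, conjFun_mul, (mem_inertia N).1 hu]
  rw [horb, Finset.prod_image]
  · rw [Finset.prod_mul_distrib, Finset.prod_const, card_orbF]
  · intro μ _ μ' _ hμ
    funext x
    exact mul_right_cancel₀ (Units.ne_zero _) (congrFun hμ x)

include D in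
theorem PData.claimA_core (hNG : N ≤ commutator G) {φ₁ φ₂ : N →* ℂˣ} (hL₁ : D.Lam φ₁)
    (hL₂ : D.Lam φ₂)
    (hT₁ : ∀ g : G, ∃ h ∈ inertia N (lc N φ₂), ∃ u ∈ inertia N (lc N φ₁), g = h * u)
    (hT₂ : ∀ g : G, ∃ h ∈ inertia N (lc N φ₂), ∃ u ∈ inertia N (lc N (φ₁ * φ₂)), g = h * u)
    {χ : G → ℂ} (hχ : IsIrrCharacter G χ) (h : classInner (resFun N χ) (lc N (φ₁ * φ₂)) ≠ 0)
    (hr : ¬ r ∣ charDegree χ) {χ₁ : G → ℂ} (hχ₁ : IsIrrCharacter G χ₁)
    (h₁ : classInner (resFun N χ₁) (lc N φ₁) ≠ 0) (hr₁ : ¬ r ∣ charDegree χ₁) : φ₂ = 1 := by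
  obtain ⟨e, he, hdeg⟩ := over_degree N hχ (isIrr_lc N _) h
  obtain ⟨e₁, he₁, hdeg₁⟩ := over_degree N hχ₁ (isIrr_lc N _) h₁
  apply hom_eq_one_of_lc
  intro n
  have hLρ : D.Lam (φ₁ * φ₂) := hL₁.mul hL₂
  have h1 : ∏ μ ∈ orbF N (lc N φ₁), μ n = 1 := by
    have h3 := detChar_eq_prod_orbF_lin N hχ₁ h₁ he₁ n
    rw [detChar_eq_one_of_mem_commutator (IsIrrCharacter.isCharacter hχ₁) (hNG n.2)] at h3
    refine D.eq_one_of_pow (prod_orbF_pow N hL₁ n) h3.symm ?_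
    rw [hdeg₁] at hr₁
    exact fun h => hr₁ (Dvd.dvd.mul_right (Dvd.dvd.mul_right h _) _)
  have h2 : ∏ μ ∈ orbF N (lc N (φ₁ * φ₂)), μ n = 1 := by
    have h3 := detChar_eq_prod_orbF_lin N hχ h he n
    rw [detChar_eq_one_of_mem_commutator (IsIrrCharacter.isCharacter hχ) (hNG n.2)] at h3
    refine D.eq_one_of_pow (prod_orbF_pow N hLρ n) h3.symm ?_
    rw [hdeg] at hr
    exact fun h => hr (Dvd.dvd.mul_right (Dvd.dvd.mul_right h _) _)
  rw [prod_orbF_mul hT₁ hT₂ n, h1, one_mul] at h2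
  refine D.eq_one_of_pow (coe_pow_eq_one_of_pow N hL₂ n) h2 ?_
  rw [hdeg₁] at hr₁
  exact fun h => hr₁ (Dvd.dvd.mul_right (Dvd.dvd.mul_left h _) _)

theorem inertia_mul_le {φ₁ φ₂ : N →* ℂˣ} (h : φ₁ * φ₂ = 1) :
    inertia N (lc N φ₂) ≤ inertia N (lc N φ₁) := by
  intro g hg
  rw [mem_inertia N] at hg ⊢
  have h1 : ∀ x, lc N φ₁ x * lc N φ₂ x = 1 := fun x => by
    have := congrFun (lc_mul φ₁ φ₂) x
    rw [← this, h]
    simp
  funext x
  have h2 := h1 ⟨g⁻¹ * x * g, hN.conj_mem' x x.2 g⟩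
  have h3 := congrFun hg x
  rw [conjFun_apply] at h3
  rw [conjFun_apply]
  rw [h3] at h2
  exact mul_right_cancel₀ (Units.ne_zero (φ₂ x)) (h2.trans (h1 x).symm)

theorem PData.hub_reach (hNG : N ≤ commutator G) {φ₁ φ₂ : N →* ℂˣ} (hL₁ : D.Lam φ₁)
    (hL₂ : D.Lam φ₂) (hE₁ : D.Ext φ₁) (hE₂ : D.Ext φ₂) (hn₁ : φ₁ ≠ 1) (hn₂ : φ₂ ≠ 1)
    {χ₁ : G → ℂ} (hχ₁ : IsIrrCharacter G χ₁) (h₁ : classInner (resFun N χ₁) (lc N φ₁) ≠ 0)
    {χ₂ : G → ℂ} (hχ₂ : IsIrrCharacter G χ₂) (h₂ : classInner (resFun N χ₂) (lc N φ₂) ≠ 0) :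
    RR N (charDegree χ₁) (charDegree χ₂) := by
  by_contra hne
  have hv₁ := mem_rel_of_over hχ₁ (isIrr_lc N _) h₁ (lc_ne_one hn₁)
  have hv₂ := mem_rel_of_over hχ₂ (isIrr_lc N _) h₂ (lc_ne_one hn₂)
  have hd₁ := index_dvd_degree N hχ₁ (isIrr_lc N _) h₁
  have hd₂ := index_dvd_degree N hχ₂ (isIrr_lc N _) h₂
  have hc := coprime_of_not_RR hv₁ hv₂ (charDegree_pos hχ₁) hne
  have htt : Nat.Coprime (inertia N (lc N φ₁)).index (inertia N (lc N φ₂)).index :=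
    Nat.Coprime.coprime_dvd_left hd₁ (Nat.Coprime.coprime_dvd_right hd₂ hc)
  obtain ⟨χ, hχ, h, hr⟩ := D.exists_over_ext (hE₁.mul hE₂)
  obtain ⟨χ₁', hχ₁', h₁', hr₁'⟩ := D.exists_over_ext hE₁
  obtain ⟨χ₂', hχ₂', h₂', hr₂'⟩ := D.exists_over_ext hE₂
  have ht1 := index_gt_one (D.inertia_ne_top hNG hL₁ hE₁ hn₁)
  have hρ : φ₁ * φ₂ ≠ 1 := by
    intro hρ
    have hρ' : φ₂ * φ₁ = 1 := by rwa [hom_mul_comm]
    have : inertia N (lc N φ₁) = inertia N (lc N φ₂) :=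
      le_antisymm (inertia_mul_le hρ') (inertia_mul_le hρ)
    rw [this, Nat.coprime_self] at htt
    rw [this, htt] at ht1
    exact lt_irrefl _ ht1
  have hv := mem_rel_of_over hχ (isIrr_lc N _) h (lc_ne_one hρ)
  have hd := index_dvd_degree N hχ (isIrr_lc N _) h
  by_cases hcase : RR N (charDegree χ) (charDegree χ₂)
  · have hcase2 : ¬ RR N (charDegree χ) (charDegree χ₁) := fun h3 =>
      hne (h3.symm.trans hcase)
    have hc2 := coprime_of_not_RR hv hv₁ (charDegree_pos hχ) hcase2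
    have htt2 : Nat.Coprime (inertia N (lc N (φ₁ * φ₂))).index (inertia N (lc N φ₁)).index :=
      Nat.Coprime.coprime_dvd_left hd (Nat.Coprime.coprime_dvd_right hd₁ hc2)
    have hcomm : φ₂ * φ₁ = φ₁ * φ₂ := hom_mul_comm _ _
    apply hn₁
    refine D.claimA_core hNG hL₂ hL₁ (fun g => exists_mul_of_coprime_index htt g)
      (fun g => ?_) hχ (by rwa [hcomm]) hr hχ₂' h₂' hr₂'
    rw [hcomm]
    exact exists_mul_of_coprime_index htt2.symm g
  · have hc2 := coprime_of_not_RR hv hv₂ (charDegree_pos hχ) hcase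
    have htt2 : Nat.Coprime (inertia N (lc N (φ₁ * φ₂))).index (inertia N (lc N φ₂)).index :=
      Nat.Coprime.coprime_dvd_left hd (Nat.Coprime.coprime_dvd_right hd₂ hc2)
    apply hn₂
    exact D.claimA_core hNG hL₁ hL₂ (fun g => exists_mul_of_coprime_index htt.symm g)
      (fun g => exists_mul_of_coprime_index htt2.symm g) hχ h hr hχ₁' h₁' hr₁'

end Core2

section Twist

variable {G : Type u} [Group G] [Fintype G] {N : Subgroup G} [hN : N.Normal] [Fintype N] {r : ℕ}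
  (D : PData N r)

theorem tauF_one (c : ℕ) : tauF N c (fun _ => 1) = fun _ => 1 := by
  have h5 : (fun _ : N => (1 : ℂ)) = lc N (1 : N →* ℂˣ) := by
    funext y
    show (1 : ℂ) = (((1 : N →* ℂˣ) y : ℂˣ) : ℂ)
    rw [MonoidHom.one_apply, Units.val_one]
  have h6 : (1 : N →* ℂˣ) ^ c = 1 := by
    ext y
    show (((1 : ℂˣ) ^ c : ℂˣ) : ℂ) = _
    simp
  rw [h5, tauF_lc, h6]

include D in
theorem PData.tauF_tw_eq {θ : N → ℂ} (hθ : IsCharacter N θ) {c : ℕ}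
    (hc1 : charDegree θ * c ≡ 1 [MOD r ^ D.k]) (hτ : tauF N c θ = fun _ => 1) {φ : N →* ℂˣ}
    (hφ : D.Lam φ) : tauF N c (tw N φ θ) = lc N φ := by
  rw [tauF_tw N hθ (apply_one_eq_charDegree hθ) hφ hc1, hτ]
  funext x
  simp

include D in
theorem PData.inertia_tw_le_right {θ : N → ℂ} (hθ : IsIrrCharacter N θ) {c : ℕ}
    (hc1 : charDegree θ * c ≡ 1 [MOD r ^ D.k]) (hτ : tauF N c θ = fun _ => 1) {φ : N →* ℂˣ}
    (hφ : D.Lam φ) : inertia N (tw N φ θ) ≤ inertia N (lc N φ) := by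
  have h := inertia_le_inertia_tauF N c (IsIrrCharacter.isCharacter (isIrr_tw N φ hθ))
  rwa [D.tauF_tw_eq (IsIrrCharacter.isCharacter hθ) hc1 hτ hφ] at h

include D in
theorem PData.inertia_tw_le_left {θ : N → ℂ} (hθ : IsIrrCharacter N θ) {c : ℕ}
    (hc1 : charDegree θ * c ≡ 1 [MOD r ^ D.k]) (hτ : tauF N c θ = fun _ => 1) {φ : N →* ℂˣ}
    (hφ : D.Lam φ) : inertia N (tw N φ θ) ≤ inertia N θ := by
  intro g hg
  have h1 := D.inertia_tw_le_right hθ hc1 hτ hφ hg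
  rw [mem_inertia N] at hg h1 ⊢
  apply tw_cancel N (φ := φ)
  funext x
  have h2 := congrFun hg x
  rw [conjFun_tw] at h2
  simp only at h2
  rw [congrFun h1 x] at h2
  exact h2

include D in
theorem PData.gcd_twist (hNG : N ≤ commutator G) {θ : N → ℂ} (hθ : IsIrrCharacter N θ)
    (hne : θ ≠ fun _ => 1) {c : ℕ} (hc1 : charDegree θ * c ≡ 1 [MOD r ^ D.k])
    (hcop : Nat.Coprime c r) (hτ : tauF N c θ = fun _ => 1) {φ : N →* ℂˣ} (hφ : D.Lam φ)
    {χ : G → ℂ} (hχ : IsIrrCharacter G χ) (h : classInner (resFun N χ) θ ≠ 0) {χ' : G → ℂ}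
    (hχ' : IsIrrCharacter G χ') (h' : classInner (resFun N χ') (tw N φ θ) ≠ 0) :
    1 < Nat.gcd (charDegree χ) (charDegree χ') := by
  have hχpos := charDegree_pos hχ
  have hgcdpos := Nat.gcd_pos_of_pos_left (charDegree χ') hχpos
  have hθ' := isIrr_tw N φ hθ
  have hle₁ := D.inertia_tw_le_left hθ hc1 hτ hφ
  by_cases hI : inertia N θ = ⊤
  swap
  · have h1 := index_gt_one hI
    have h2 := index_dvd_degree N hχ hθ h
    have h3 := (Subgroup.index_dvd_of_le hle₁).trans (index_dvd_degree N hχ' hθ' h')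
    exact lt_of_lt_of_le h1 (Nat.le_of_dvd hgcdpos (Nat.dvd_gcd h2 h3))
  by_cases hd : charDegree θ = 1
  swap
  · have h1 : 1 < charDegree θ := by
      have := charDegree_pos hθ
      omega
    have h2 := degree_dvd_degree N hχ hθ h
    have h3 := degree_dvd_degree N hχ' hθ' h'
    rw [charDegree_tw N φ hθ] at h3
    exact lt_of_lt_of_le h1 (Nat.le_of_dvd hgcdpos (Nat.dvd_gcd h2 h3))
  have hθc := IsIrrCharacter.isCharacter hθ
  have h11 : θ 1 = 1 := by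
    rw [apply_one_eq_charDegree hθc, hd]
    simp
  obtain ⟨ϑ, rfl⟩ := IsCharacter.exists_monoidHom hθc h11
  by_contra hgcd
  have hcop2 : Nat.Coprime (charDegree χ) (charDegree χ') := by
    unfold Nat.Coprime
    omega
  apply hne
  suffices hu : ∀ x, lc N ϑ x = 1 from funext hu
  intro n
  obtain ⟨e, he, hdeg⟩ := over_degree N hχ hθ h
  have hA : (lc N ϑ n) ^ charDegree χ = 1 := by
    have h3 := detChar_eq_prod_orbF_lin N hχ h he n
    rw [orbF_eq_singleton N hI, Finset.prod_singleton,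
      detChar_eq_one_of_mem_commutator (IsIrrCharacter.isCharacter hχ) (hNG n.2)] at h3
    rw [hdeg, hI, Subgroup.index_top, hd]
    simpa using h3.symm
  have htw : tw N φ (lc N ϑ) = lc N (φ * ϑ) := (lc_mul φ ϑ).symm
  rw [htw] at h' hle₁
  have hle₂ := D.inertia_tw_le_right hθ hc1 hτ hφ
  rw [htw] at hle₂
  have hI' : ∀ g : G, g ∈ inertia N (lc N ϑ) := fun g => by rw [hI]; trivial
  have hT₁ : ∀ g : G, ∃ h ∈ inertia N (lc N ϑ), ∃ u ∈ inertia N (lc N φ), g = h * u :=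
    fun g => ⟨g, hI' g, 1, one_mem _, by simp⟩
  have hT₂ : ∀ g : G, ∃ h ∈ inertia N (lc N ϑ), ∃ u ∈ inertia N (lc N (φ * ϑ)), g = h * u :=
    fun g => ⟨g, hI' g, 1, one_mem _, by simp⟩
  have hge : inertia N (lc N φ) ≤ inertia N (lc N (φ * ϑ)) := by
    intro g hg
    rw [mem_inertia N] at hg ⊢
    rw [lc_mul]
    funext x
    show conjFun N g (lc N φ) x * conjFun N g (lc N ϑ) x = _
    rw [congrFun hg x, congrFun ((mem_inertia N).1 (hI' g)) x]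
  have hIeq : inertia N (lc N (φ * ϑ)) = inertia N (lc N φ) := le_antisymm hle₂ hge
  obtain ⟨e', he', hdeg'⟩ := over_degree N hχ' (isIrr_lc N _) h'
  have h3 := detChar_eq_prod_orbF_lin N hχ' h' he' n
  rw [detChar_eq_one_of_mem_commutator (IsIrrCharacter.isCharacter hχ') (hNG n.2),
    prod_orbF_mul hT₁ hT₂ n] at h3
  have hW := prod_orbF_pow N hφ n
  have hdeg2 : charDegree χ' = (inertia N (lc N φ)).index * e' := by
    rw [hdeg', hIeq, charDegree_lc]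
    ring
  have hB : ((lc N ϑ n) ^ charDegree χ') ^ (r ^ D.k) = 1 := by
    have h4 : 1 = ((∏ μ ∈ orbF N (lc N φ), μ n) ^ (r ^ D.k)) ^ e' *
        ((lc N ϑ n) ^ (charDegree χ')) ^ (r ^ D.k) := by
      have h5 := congrArg (fun u : ℂ => u ^ (r ^ D.k)) h3
      simp only [one_pow] at h5
      rw [h5, hdeg2]
      ring
    rw [hW, one_pow, one_mul] at h4
    exact h4.symm
  have hC : ((lc N ϑ n) ^ charDegree χ') ^ c = 1 := by
    have h4 := congrFun hτ n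
    simp only [tauF, detChar_lin] at h4
    rw [← pow_mul, mul_comm, pow_mul, h4, one_pow]
  have hD : (lc N ϑ n) ^ charDegree χ' = 1 :=
    eq_one_of_pow_eq_one_of_coprime hC hB (Nat.Coprime.pow_right _ hcop)
  exact eq_one_of_pow_eq_one_of_coprime hA hD hcop2

theorem PData.tau_conj_of_over {θ : N → ℂ} (hθ : IsIrrCharacter N θ) {c : ℕ} (hq : D.q ∣ c)
    (hc1 : charDegree θ * c ≡ 1 [MOD r ^ D.k]) {φ : N →* ℂˣ} (hτ : tauF N c θ = lc N φ)
    {χ : G → ℂ} (hχ : IsIrrCharacter G χ) (h : classInner (resFun N χ) θ ≠ 0)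
    (hr : ¬ r ∣ charDegree χ) : ∃ g : G, D.Ext (conjHom N g φ) := by
  obtain ⟨θ', hθ', h1, -, h2⟩ := D.exists_tau_ext hχ hr
  obtain ⟨g, rfl⟩ := clifford_constituent N hχ hθ hθ' h h1
  refine ⟨g, h2 c hq ?_ _ ?_⟩
  · rwa [charDegree_conjFun (IsIrrCharacter.isCharacter hθ)]
  · rw [tauF_conj N c g (IsIrrCharacter.isCharacter hθ), hτ, conjFun_lc]

/-- A vertex of degree prime to `r` attaches to a fixed hub. -/
theorem PData.reach_hub (hNG : N ≤ commutator G) {φ₀ : N →* ℂˣ} (hL₀ : D.Lam φ₀) (hE₀ : D.Ext φ₀)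
    (hn₀ : φ₀ ≠ 1) {χ₀ : G → ℂ} (hχ₀ : IsIrrCharacter G χ₀)
    (h₀ : classInner (resFun N χ₀) (lc N φ₀) ≠ 0) {χ : G → ℂ} (hχ : IsIrrCharacter G χ)
    (hv : ∃ x ∈ N, χ x ≠ χ 1) (hr : ¬ r ∣ charDegree χ) :
    RR N (charDegree χ) (charDegree χ₀) := by
  obtain ⟨θ, hθ, h1, h2, hτ⟩ := D.exists_tau_ext hχ hr
  obtain ⟨c, hq, hc1, hcop⟩ := D.exists_c h2
  have hθc := IsIrrCharacter.isCharacter hθ
  obtain ⟨ω, hω⟩ := exists_tau_hom N c hθc
  have hE := hτ c hq hc1 ω hω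
  have hL := D.tau_lam hθc hq hω
  have hθne := ne_one_of_vertex hχ h1 hv
  have hvχ := mem_rel_of_over hχ hθ h1 hθne
  have hvχ₀ := mem_rel_of_over hχ₀ (isIrr_lc N _) h₀ (lc_ne_one hn₀)
  by_cases hω1 : ω = 1
  · have hτ1 : tauF N c θ = fun _ => 1 := by
      rw [hω, hω1]
      funext x
      show (((1 : N →* ℂˣ) x : ℂˣ) : ℂ) = 1
      rw [MonoidHom.one_apply, Units.val_one]
    have hθ' := isIrr_tw N φ₀ hθ
    obtain ⟨χ', hχ', h'⟩ := exists_over N hθ'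
    have hg := D.gcd_twist hNG hθ hθne hc1 hcop hτ1 hL₀ hχ h1 hχ' h'
    have hne' : tw N φ₀ θ ≠ fun _ => 1 := by
      intro h3
      have h4 := D.tauF_tw_eq hθc hc1 hτ1 hL₀
      rw [h3, tauF_one] at h4
      exact lc_ne_one hn₀ h4.symm
    have hvχ' := mem_rel_of_over hχ' hθ' h' hne'
    have ht := index_gt_one (D.inertia_ne_top hNG hL₀ hE₀ hn₀)
    have hd1 := (Subgroup.index_dvd_of_le (D.inertia_tw_le_right hθ hc1 hτ1 hL₀)).trans
      (index_dvd_degree N hχ' hθ' h')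
    have hd2 := index_dvd_degree N hχ₀ (isIrr_lc N _) h₀
    exact (RR_of_gcd hvχ hvχ' hg).trans (RR_of_common hvχ' hvχ₀ ht hd1 hd2 (charDegree_pos hχ'))
  · obtain ⟨χ₁, hχ₁, h₁⟩ := exists_over N (isIrr_lc N ω)
    have hvχ₁ := mem_rel_of_over hχ₁ (isIrr_lc N _) h₁ (lc_ne_one hω1)
    have ht := index_gt_one (D.inertia_ne_top hNG hL hE hω1)
    have hle := inertia_le_inertia_tauF N c hθc
    rw [hω] at hle
    have hd1 := (Subgroup.index_dvd_of_le hle).trans (index_dvd_degree N hχ hθ h1)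
    have hd2 := index_dvd_degree N hχ₁ (isIrr_lc N _) h₁
    exact (RR_of_common hvχ hvχ₁ ht hd1 hd2 (charDegree_pos hχ)).trans
      (D.hub_reach hNG hL hL₀ hE hE₀ hω1 hn₀ hχ₁ h₁ hχ₀ h₀)

/-- With no hub, a vertex of degree prime to `r` is adjacent to a vertex of degree divisible by
`r`. -/
theorem PData.reach_rdiv (hNG : N ≤ commutator G) (hno : ∀ φ : N →* ℂˣ, D.Lam φ → D.Ext φ → φ = 1)
    {φ : N →* ℂˣ} (hL : D.Lam φ) (hn : φ ≠ 1) {χ : G → ℂ} (hχ : IsIrrCharacter G χ)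
    (hv : ∃ x ∈ N, χ x ≠ χ 1) (hr : ¬ r ∣ charDegree χ) :
    ∃ w ∈ relCharDegrees N, r ∣ w ∧ RR N (charDegree χ) w := by
  obtain ⟨θ, hθ, h1, h2, hτ⟩ := D.exists_tau_ext hχ hr
  obtain ⟨c, hq, hc1, hcop⟩ := D.exists_c h2
  have hθc := IsIrrCharacter.isCharacter hθ
  obtain ⟨ω, hω⟩ := exists_tau_hom N c hθc
  have hE := hτ c hq hc1 ω hω
  have hLω := D.tau_lam hθc hq hω
  have hω1 : ω = 1 := hno ω hLω hE
  have hθne := ne_one_of_vertex hχ h1 hv
  have hvχ := mem_rel_of_over hχ hθ h1 hθne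
  have hτ1 : tauF N c θ = fun _ => 1 := by
    rw [hω, hω1]
    funext x
    show (((1 : N →* ℂˣ) x : ℂˣ) : ℂ) = 1
    rw [MonoidHom.one_apply, Units.val_one]
  have hθ' := isIrr_tw N φ hθ
  obtain ⟨χ', hχ', h'⟩ := exists_over N hθ'
  have hg := D.gcd_twist hNG hθ hθne hc1 hcop hτ1 hL hχ h1 hχ' h'
  have hτ' := D.tauF_tw_eq hθc hc1 hτ1 hL
  have hne' : tw N φ θ ≠ fun _ => 1 := by
    intro h3
    rw [h3, tauF_one] at hτ'
    exact lc_ne_one hn hτ'.symm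
  have hvχ' := mem_rel_of_over hχ' hθ' h' hne'
  refine ⟨_, hvχ', ?_, RR_of_gcd hvχ hvχ' hg⟩
  by_contra hr'
  obtain ⟨g, hg'⟩ := D.tau_conj_of_over hθ' hq (by rwa [charDegree_tw N φ hθ]) hτ' hχ' h' hr'
  exact hn (conjHom_eq_one (hno _ (PData.lam_conj hL g) hg'))

/-- Part of the theorem: vertices of degree prime to `r` lie in one component. -/
theorem PData.star (hNG : N ≤ commutator G) {φ : N →* ℂˣ} (hL : D.Lam φ) (hn : φ ≠ 1) {a b : ℕ}
    (ha : a ∈ relCharDegrees N) (hb : b ∈ relCharDegrees N) (hra : ¬ r ∣ a) (hrb : ¬ r ∣ b) :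
    RR N a b := by
  obtain ⟨χa, hva, rfl⟩ := ha
  obtain ⟨χb, hvb, rfl⟩ := hb
  by_cases hhub : ∃ φ₀ : N →* ℂˣ, D.Lam φ₀ ∧ D.Ext φ₀ ∧ φ₀ ≠ 1
  · obtain ⟨φ₀, hL₀, hE₀, hn₀⟩ := hhub
    obtain ⟨χ₀, hχ₀, h₀⟩ := exists_over N (isIrr_lc N φ₀)
    exact (D.reach_hub hNG hL₀ hE₀ hn₀ hχ₀ h₀ χa.2 hva hra).trans
      (D.reach_hub hNG hL₀ hE₀ hn₀ hχ₀ h₀ χb.2 hvb hrb).symm
  · have hno : ∀ φ : N →* ℂˣ, D.Lam φ → D.Ext φ → φ = 1 := by
      intro φ hφ hφ'
      by_contra hne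
      exact hhub ⟨φ, hφ, hφ', hne⟩
    obtain ⟨w, hw, hrw, h1⟩ := D.reach_rdiv hNG hno hL hn χa.2 hva hra
    obtain ⟨w', hw', hrw', h2⟩ := D.reach_rdiv hNG hno hL hn χb.2 hvb hrb
    have hw0 : 0 < w := by
      obtain ⟨χ, -, rfl⟩ := hw
      exact charDegree_pos χ.2
    exact h1.trans ((RR_of_common hw hw' D.hr.one_lt hrw hrw' hw0).trans h2.symm)

end Twist

end Cfsg.Agent.Lib.Char.RelGraph
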