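import Cfsg.Agent.Lib.Char.RelGraph2

/-!
# The common-divisor graph on relative character degrees: the theorem

At most two components; in the disconnected case the degrees of one component are coprime to
`|N : N′|` and those of the other are divisible by every prime divisor of `|N : N′|`.
-/

set_option autoImplicit false
set_option linter.unusedSectionVars false

namespace Cfsg.Agent.Lib.Char.RelGraph

open Cfsg Module Cfsg.Agent.Lib.Char Cfsg.Agent.Lib.H8Group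

universe u

section Uniform

variable {G : Type u} [Group G] [Fintype G] {N : Subgroup G} [hN : N.Normal] [Fintype N] {r s : ℕ}
  (D : PData N r) (E : PData N s)

theorem mem_rel_pos {a : ℕ} (ha : a ∈ relCharDegrees N) : 0 < a := by
  obtain ⟨χ, -, rfl⟩ := ha
  exact charDegree_pos χ.2

include D E in
theorem PData.pow_dvd_q (hrs : r ≠ s) : s ^ E.k ∣ D.q := by
  have h1 : s ^ E.k ∣ r ^ D.k * D.q := by
    rw [← D.hcard, E.hcard]
    exact Dvd.intro _ rfl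
  have hc : Nat.Coprime (s ^ E.k) (r ^ D.k) :=
    Nat.Coprime.pow _ _ ((Nat.coprime_primes E.hr D.hr).2 hrs.symm)
  exact hc.dvd_of_dvd_mul_left h1

theorem tauF_lc_mul {D : PData N r} {E : PData N s} (hrs : r ≠ s) {φ μ : N →* ℂˣ} (hφ : D.Lam φ)
    (hμ : E.Lam μ) {c : ℕ} (hq : D.q ∣ c) (hc : 1 * c ≡ 1 [MOD r ^ D.k]) :
    tauF N c (lc N (φ * μ)) = lc N φ := by
  rw [tauF_lc]
  congr 1
  ext x
  obtain ⟨u, rfl⟩ := (PData.pow_dvd_q D E hrs).trans hq
  have h1 : (φ x) ^ (s ^ E.k * u) = φ x := by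
    have h2 : (φ x) ^ (1 * (s ^ E.k * u)) = (φ x) ^ 1 := pow_eq_of_modEq (hφ x) hc
    simpa using h2
  have h3 : (μ x) ^ (s ^ E.k * u) = 1 := by
    rw [pow_mul, hμ x, one_pow]
  show ((((φ x) * (μ x)) ^ (s ^ E.k * u) : ℂˣ) : ℂ) = _
  rw [mul_pow, h1, h3, mul_one]

theorem conjHom_ne_one {φ : N →* ℂˣ} (hn : φ ≠ 1) (g : G) : conjHom N g φ ≠ 1 :=
  fun h => hn (conjHom_eq_one h)

theorem RR_refl {a : ℕ} (ha : a ∈ relCharDegrees N) : RR N a a :=
  ⟨ha, ha, SimpleGraph.Reachable.refl _⟩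

theorem mixed_contra (hrs : r ≠ s) (hNG : N ≤ commutator G) {a b : ℕ}
    (ha : a ∈ relCharDegrees N) (hb : b ∈ relCharDegrees N) (hab : ¬ RR N a b) (hrb : ¬ r ∣ b)
    (hsa : ¬ s ∣ a) (hsb : s ∣ b) {φ : N →* ℂˣ} (hLφ : D.Lam φ) (hnφ : φ ≠ 1) {μ : N →* ℂˣ}
    (hLμ : E.Lam μ) (hnμ : μ ≠ 1)
    (hall : ∀ φ : N →* ℂˣ, D.Lam φ → φ ≠ 1 → ∃ g : G, D.Ext (conjHom N g φ)) : False := by
  have hsdiv : ∀ v ∈ relCharDegrees N, s ∣ v → RR N v b := fun v hv h =>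
    RR_of_common hv hb E.hr.one_lt h hsb (mem_rel_pos hv)
  obtain ⟨g, hE₁⟩ := hall φ hLφ hnφ
  have hL₁ : D.Lam (conjHom N g φ) := PData.lam_conj hLφ g
  have hn₁ := conjHom_ne_one hnφ g
  obtain ⟨χ₁, hχ₁, h₁, hr₁⟩ := D.exists_over_ext hE₁
  have hv₁ := mem_rel_of_over hχ₁ (isIrr_lc N _) h₁ (lc_ne_one hn₁)
  have hR₁ : RR N (charDegree χ₁) b := D.star hNG hLφ hnφ hv₁ hb hr₁ hrb
  have ht₁ := index_gt_one (D.inertia_ne_top hNG hL₁ hE₁ hn₁)
  have hd₁ := index_dvd_degree N hχ₁ (isIrr_lc N _) h₁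
  have key : ∃ (μ₀ : N →* ℂˣ) (a' : ℕ), E.Lam μ₀ ∧ μ₀ ≠ 1 ∧ a' ∈ relCharDegrees N ∧ RR N a' a ∧
      (inertia N (lc N μ₀)).index ∣ a' ∧ inertia N (lc N μ₀) ≠ ⊤ := by
    obtain ⟨χa, hva, rfl⟩ := ha
    obtain ⟨θ, hθ, h1, h2, hτ⟩ := E.exists_tau_ext χa.2 hsa
    obtain ⟨c, hq, hc1, hcop⟩ := E.exists_c h2
    have hθc := IsIrrCharacter.isCharacter hθ
    obtain ⟨ω, hω⟩ := exists_tau_hom N c hθc
    have hEω := hτ c hq hc1 ω hω
    have hLω := E.tau_lam hθc hq hω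
    have hθne := ne_one_of_vertex χa.2 h1 hva
    have hva' := mem_rel_of_over χa.2 hθ h1 hθne
    by_cases hω1 : ω = 1
    · have hτ1 : tauF N c θ = fun _ => 1 := by
        rw [hω, hω1]
        funext x
        show (((1 : N →* ℂˣ) x : ℂˣ) : ℂ) = 1
        rw [MonoidHom.one_apply, Units.val_one]
      have hθ' := isIrr_tw N μ hθ
      obtain ⟨χ', hχ', h'⟩ := exists_over N hθ'
      have hg := E.gcd_twist hNG hθ hθne hc1 hcop hτ1 hLμ χa.2 h1 hχ' h'
      have hτ' := E.tauF_tw_eq hθc hc1 hτ1 hLμ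
      have hne' : tw N μ θ ≠ fun _ => 1 := by
        intro h3
        rw [h3, tauF_one] at hτ'
        exact lc_ne_one hnμ hτ'.symm
      have hvχ' := mem_rel_of_over hχ' hθ' h' hne'
      have hRa : RR N (charDegree χ') (charDegree (χa : G → ℂ)) :=
        (RR_of_gcd hva' hvχ' hg).symm
      have hs' : ¬ s ∣ charDegree χ' := fun h => hab (hRa.symm.trans (hsdiv _ hvχ' h))
      obtain ⟨g', hg'⟩ := E.tau_conj_of_over hθ' hq (by rwa [charDegree_tw N μ hθ]) hτ' hχ' h' hs'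
      have hLg : E.Lam (conjHom N g' μ) := PData.lam_conj hLμ g'
      have hng := conjHom_ne_one hnμ g'
      refine ⟨conjHom N g' μ, _, hLg, hng, hvχ', hRa, ?_, E.inertia_ne_top hNG hLg hg' hng⟩
      have hcl := IsCharacter.isClassFunction (IsIrrCharacter.isCharacter hχ')
      have h3 : classInner (resFun N χ') (conjFun N g' (tw N μ θ)) ≠ 0 := by
        rwa [classInner_resFun_conjFun N g' hcl]
      have h4 := index_dvd_degree N hχ' (isIrrCharacter_conjFun N g' hθ') h3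
      have hθ'c := IsIrrCharacter.isCharacter hθ'
      have h5 := inertia_le_inertia_tauF N c (isCharacter_conjFun N g' hθ'c)
      rw [tauF_conj N c g' hθ'c, hτ', conjFun_lc] at h5
      exact (Subgroup.index_dvd_of_le h5).trans h4
    · refine ⟨ω, _, hLω, hω1, hva', RR_refl hva', ?_, E.inertia_ne_top hNG hLω hEω hω1⟩
      have hle := inertia_le_inertia_tauF N c hθc
      rw [hω] at hle
      exact (Subgroup.index_dvd_of_le hle).trans (index_dvd_degree N χa.2 hθ h1)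
  obtain ⟨μ₀, a', hL₀, hn₀, hva', hRa', hd₀, hne₀⟩ := key
  have ht₀ := index_gt_one hne₀
  obtain ⟨χ, hχ, h⟩ := exists_over N (isIrr_lc N (conjHom N g φ * μ₀))
  obtain ⟨c₁, hq₁, hc₁, -⟩ := D.exists_c (not_dvd_one' D.hr)
  obtain ⟨c₂, hq₂, hc₂, -⟩ := E.exists_c (not_dvd_one' E.hr)
  have hτ₁ := tauF_lc_mul hrs hL₁ hL₀ hq₁ hc₁
  have hτ₂ := tauF_lc_mul hrs.symm hL₀ hL₁ hq₂ hc₂
  rw [hom_mul_comm] at hτ₂
  have hle₁ := inertia_le_inertia_tauF N c₁ (IsIrrCharacter.isCharacter (isIrr_lc N (conjHom N g φ * μ₀)))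
  rw [hτ₁] at hle₁
  have hle₂ := inertia_le_inertia_tauF N c₂ (IsIrrCharacter.isCharacter (isIrr_lc N (conjHom N g φ * μ₀)))
  rw [hτ₂] at hle₂
  have hρ : conjHom N g φ * μ₀ ≠ 1 := by
    intro h0
    rw [h0] at hτ₁
    have h5 : (fun _ : N => (1 : ℂ)) = lc N (1 : N →* ℂˣ) := by
      funext y
      show (1 : ℂ) = (((1 : N →* ℂˣ) y : ℂˣ) : ℂ)
      rw [MonoidHom.one_apply, Units.val_one]
    rw [← h5, tauF_one] at hτ₁
    exact lc_ne_one hn₁ hτ₁.symm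
  have hv := mem_rel_of_over hχ (isIrr_lc N _) h (lc_ne_one hρ)
  have hd := index_dvd_degree N hχ (isIrr_lc N _) h
  have hR2 : RR N (charDegree χ) (charDegree χ₁) :=
    RR_of_common hv hv₁ ht₁ ((Subgroup.index_dvd_of_le hle₁).trans hd) hd₁ (charDegree_pos hχ)
  have hR3 : RR N (charDegree χ) a' :=
    RR_of_common hv hva' ht₀ ((Subgroup.index_dvd_of_le hle₂).trans hd) hd₀ (charDegree_pos hχ)
  exact hab (hRa'.symm.trans (hR3.symm.trans (hR2.trans hR₁)))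

theorem no_mixed (hrs : r ≠ s) (hNG : N ≤ commutator G) {a b : ℕ}
    (ha : a ∈ relCharDegrees N) (hb : b ∈ relCharDegrees N) (hab : ¬ RR N a b) (hra : r ∣ a)
    (hrb : ¬ r ∣ b) (hsa : ¬ s ∣ a) (hsb : s ∣ b) {φ : N →* ℂˣ} (hLφ : D.Lam φ) (hnφ : φ ≠ 1)
    {μ : N →* ℂˣ} (hLμ : E.Lam μ) (hnμ : μ ≠ 1) : False := by
  by_cases hall : ∀ φ : N →* ℂˣ, D.Lam φ → φ ≠ 1 → ∃ g : G, D.Ext (conjHom N g φ)
  · exact mixed_contra D E hrs hNG ha hb hab hrb hsa hsb hLφ hnφ hLμ hnμ hall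
  by_cases hall2 : ∀ μ : N →* ℂˣ, E.Lam μ → μ ≠ 1 → ∃ g : G, E.Ext (conjHom N g μ)
  · exact mixed_contra E D hrs.symm hNG hb ha (fun h => hab h.symm) hsa hrb hra hLμ hnμ hLφ hnφ hall2
  push_neg at hall hall2
  obtain ⟨φ₀, hL₀, hn₀, hφ₀⟩ := hall
  obtain ⟨μ₀, hM₀, hm₀, hμ₀⟩ := hall2
  obtain ⟨χ, hχ, h⟩ := exists_over N (isIrr_lc N (φ₀ * μ₀))
  obtain ⟨c₁, hq₁, hc₁, -⟩ := D.exists_c (not_dvd_one' D.hr)
  obtain ⟨c₂, hq₂, hc₂, -⟩ := E.exists_c (not_dvd_one' E.hr)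
  have hτ₁ := tauF_lc_mul hrs hL₀ hM₀ hq₁ hc₁
  have hτ₂ := tauF_lc_mul hrs.symm hM₀ hL₀ hq₂ hc₂
  rw [hom_mul_comm] at hτ₂
  have hρ : φ₀ * μ₀ ≠ 1 := by
    intro h0
    rw [h0] at hτ₁
    have h5 : (fun _ : N => (1 : ℂ)) = lc N (1 : N →* ℂˣ) := by
      funext y
      show (1 : ℂ) = (((1 : N →* ℂˣ) y : ℂˣ) : ℂ)
      rw [MonoidHom.one_apply, Units.val_one]
    rw [← h5, tauF_one] at hτ₁
    exact lc_ne_one hn₀ hτ₁.symm
  have hv := mem_rel_of_over hχ (isIrr_lc N _) h (lc_ne_one hρ)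
  have hdeg1 : charDegree (lc N (φ₀ * μ₀)) = 1 := charDegree_lc N _
  by_cases hrv : r ∣ charDegree χ
  · by_cases hsv : s ∣ charDegree χ
    · exact hab ((RR_of_common hv ha D.hr.one_lt hrv hra (mem_rel_pos hv)).symm.trans
        (RR_of_common hv hb E.hr.one_lt hsv hsb (mem_rel_pos hv)))
    · obtain ⟨g, hg⟩ := E.tau_conj_of_over (isIrr_lc N _) hq₂ (by rw [hdeg1]; exact hc₂) hτ₂ hχ h hsv
      exact hμ₀ g hg
  · obtain ⟨g, hg⟩ := D.tau_conj_of_over (isIrr_lc N _) hq₁ (by rw [hdeg1]; exact hc₁) hτ₁ hχ h hrv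
    exact hφ₀ g hg

end Uniform

section Data

variable {G : Type u} [Group G] [Finite G]

/-- The data for a prime dividing `|N : N′|`. -/
theorem exists_pdata (N : Subgroup G) [N.Normal] {r : ℕ} (hr : r.Prime)
    (hrm : r ∣ ⁅N, N⁆.relIndex N) : Nonempty (PData N r) := by
  classical
  haveI : Fact r.Prime := ⟨hr⟩
  have hcard : Nat.card N ≠ 0 := Nat.card_pos.ne'
  obtain ⟨k, q, hq, hc⟩ := Nat.exists_eq_pow_mul_and_not_dvd hcard r hr.one_lt.ne'
  have hdvd : r ∣ Nat.card N := hrm.trans (Subgroup.relIndex_dvd_card _ _)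
  have hk : 0 < k := by
    rcases k with _ | k
    · rw [pow_zero, one_mul] at hc
      rw [hc] at hdvd
      exact absurd hdvd hq
    · exact Nat.succ_pos k
  obtain ⟨R⟩ : Nonempty (Sylow r G) := inferInstance
  refine ⟨⟨k, q, N ⊔ (R : Subgroup G), le_sup_left, hr, hc, hq, hk, ?_, ?_⟩⟩
  · intro h
    exact R.not_dvd_index (h.trans (Subgroup.index_dvd_of_le le_sup_right))
  · rw [Subgroup.relIndex_sup_left]
    have h1 : N.relIndex (R : Subgroup G) ∣ Nat.card (R : Subgroup G) := Subgroup.relIndex_dvd_card _ _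
    obtain ⟨n, hn⟩ := IsPGroup.iff_card.1 R.2
    rw [hn] at h1
    obtain ⟨j, -, hj⟩ := (Nat.dvd_prime_pow hr).1 h1
    exact ⟨j, hj⟩

theorem card_hom_eq (N : Subgroup G) : Nat.card (N →* ℂˣ) = ⁅N, N⁆.relIndex N := by
  have h0 := Cfsg.Agent.Lib.Char.card_linear_eq_index_commutator (G := N)
  rw [Nat.card_congr (linearCharEquiv N)] at h0
  rw [h0]
  show _ = (⁅N, N⁆.subgroupOf N).index
  congr 1
  have h1 : (commutator N).map N.subtype = ⁅N, N⁆ := by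
    rw [commutator_def, Subgroup.map_commutator, ← MonoidHom.range_eq_map, Subgroup.range_subtype]
  rw [← h1]
  exact (Subgroup.comap_map_eq_self_of_injective N.subtype_injective _).symm

theorem exists_lin (N : Subgroup G) {r : ℕ} (hr : r.Prime) (hrm : r ∣ ⁅N, N⁆.relIndex N) :
    ∃ φ : N →* ℂˣ, φ ≠ 1 ∧ ∀ x, (φ x) ^ r = 1 := by
  haveI : Fact r.Prime := ⟨hr⟩
  have hc := card_hom_eq N
  have hpos : Nat.card (N →* ℂˣ) ≠ 0 := by
    rw [hc]
    show (⁅N, N⁆.subgroupOf N).index ≠ 0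
    exact Subgroup.index_ne_zero_of_finite
  haveI : Finite (N →* ℂˣ) := Nat.finite_of_card_ne_zero hpos
  obtain ⟨φ, hφ⟩ := exists_prime_orderOf_dvd_card' r (hc ▸ hrm)
  refine ⟨φ, ?_, fun x => ?_⟩
  · rintro rfl
    rw [orderOf_one] at hφ
    exact hr.one_lt.ne hφ
  · have h1 : φ ^ r = 1 := by rw [← hφ]; exact pow_orderOf_eq_one φ
    have h2 := congrArg (fun f : N →* ℂˣ => f x) h1
    exact h2

theorem PData.exists_lam {N : Subgroup G} {r : ℕ} (D : PData N r) (hrm : r ∣ ⁅N, N⁆.relIndex N) :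
    ∃ φ : N →* ℂˣ, D.Lam φ ∧ φ ≠ 1 := by
  obtain ⟨φ, h1, h2⟩ := exists_lin N D.hr hrm
  refine ⟨φ, fun x => ?_, h1⟩
  obtain ⟨j, hj⟩ : ∃ j, D.k = j + 1 := ⟨D.k - 1, by have := D.hk; omega⟩
  rw [hj, pow_succ, mul_comm, pow_mul, h2, one_pow]

end Data

section Main

variable {G : Type u} [Group G] [Finite G] (N : Subgroup G) [hN : N.Normal]

omit hN in
theorem mem_rel_pos' {a : ℕ} (ha : a ∈ relCharDegrees N) : 0 < a := by
  classical
  letI : Fintype G := Fintype.ofFinite G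
  obtain ⟨χ, -, rfl⟩ := ha
  exact charDegree_pos χ.2

/-- (★): degrees prime to `r` are in one component. -/
theorem star_main (hNG : N ≤ commutator G) {r : ℕ} (hr : r.Prime) (hrm : r ∣ ⁅N, N⁆.relIndex N)
    {a b : ℕ} (ha : a ∈ relCharDegrees N) (hb : b ∈ relCharDegrees N) (hra : ¬ r ∣ a)
    (hrb : ¬ r ∣ b) : RR N a b := by
  classical
  letI : Fintype G := Fintype.ofFinite G
  letI : Fintype N := Fintype.ofFinite N
  obtain ⟨D⟩ := exists_pdata N hr hrm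
  obtain ⟨φ, hL, hn⟩ := D.exists_lam hrm
  exact D.star hNG hL hn ha hb hra hrb

theorem no_mixed_main (hNG : N ≤ commutator G) {r s : ℕ} (hr : r.Prime) (hs : s.Prime)
    (hrm : r ∣ ⁅N, N⁆.relIndex N) (hsm : s ∣ ⁅N, N⁆.relIndex N) (hrs : r ≠ s)
    {a b : ℕ} (ha : a ∈ relCharDegrees N) (hb : b ∈ relCharDegrees N) (hab : ¬ RR N a b)
    (hra : r ∣ a) (hrb : ¬ r ∣ b) (hsa : ¬ s ∣ a) (hsb : s ∣ b) : False := by
  classical
  letI : Fintype G := Fintype.ofFinite G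
  letI : Fintype N := Fintype.ofFinite N
  obtain ⟨D⟩ := exists_pdata N hr hrm
  obtain ⟨E⟩ := exists_pdata N hs hsm
  obtain ⟨φ, hL, hn⟩ := D.exists_lam hrm
  obtain ⟨μ, hM, hm⟩ := E.exists_lam hsm
  exact no_mixed D E hrs hNG ha hb hab hra hrb hsa hsb hL hn hM hm

/-- The relative common-divisor graph has at most two components. -/
theorem card_components_le (hN' : ⁅N, N⁆ < N) (hNG : N ≤ commutator G) :
    Nat.card (commonDivisorGraph.induce (relCharDegrees N)).ConnectedComponent ≤ 2 := by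
  classical
  have hm : ⁅N, N⁆.relIndex N ≠ 1 := by
    intro h
    rw [Subgroup.relIndex_eq_one] at h
    exact absurd h (not_le_of_gt hN')
  obtain ⟨r, hr, hrm⟩ := Nat.exists_prime_and_dvd hm
  set Γ := commonDivisorGraph.induce (relCharDegrees N) with hΓ
  let rep : Γ.ConnectedComponent → relCharDegrees N := fun c => Classical.choose c.exists_rep
  have hrep : ∀ c : Γ.ConnectedComponent, Γ.connectedComponentMk (rep c) = c := fun c =>
    Classical.choose_spec c.exists_rep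
  let f : Γ.ConnectedComponent → Bool := fun c => decide (r ∣ (rep c : ℕ))
  have hf : Function.Injective f := by
    intro c c' hcc
    have h1 : r ∣ (rep c : ℕ) ↔ r ∣ (rep c' : ℕ) := by simpa [f] using hcc
    have h2 : RR N (rep c : ℕ) (rep c' : ℕ) := by
      by_cases h : r ∣ (rep c : ℕ)
      · exact RR_of_common (rep c).2 (rep c').2 hr.one_lt h (h1.1 h) (mem_rel_pos' N (rep c).2)
      · exact star_main N hNG hr hrm (rep c).2 (rep c').2 h (fun h' => h (h1.2 h'))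
    obtain ⟨h4, h5, h3⟩ := h2
    rw [← hrep c, ← hrep c']
    exact SimpleGraph.ConnectedComponent.eq.2 h3
  have := Nat.card_le_card_of_injective f hf
  simpa using this

/-- The dichotomy for non-reachable degrees. -/
theorem dichotomy (hNG : N ≤ commutator G) {a b : ℕ} (ha : a ∈ relCharDegrees N)
    (hb : b ∈ relCharDegrees N) (hab : ¬ RR N a b) :
    (Nat.Coprime a (⁅N, N⁆.relIndex N) ∧ ∀ r : ℕ, r.Prime → r ∣ ⁅N, N⁆.relIndex N → r ∣ b) ∨
      (Nat.Coprime b (⁅N, N⁆.relIndex N) ∧ ∀ r : ℕ, r.Prime → r ∣ ⁅N, N⁆.relIndex N → r ∣ a) := by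
  classical
  have hxor : ∀ r : ℕ, r.Prime → r ∣ ⁅N, N⁆.relIndex N → (r ∣ a ∧ ¬ r ∣ b) ∨ (¬ r ∣ a ∧ r ∣ b) := by
    intro r hr hrm
    by_cases h1 : r ∣ a <;> by_cases h2 : r ∣ b
    · exact absurd (RR_of_common ha hb hr.one_lt h1 h2 (mem_rel_pos' N ha)) hab
    · exact Or.inl ⟨h1, h2⟩
    · exact Or.inr ⟨h1, h2⟩
    · exact absurd (star_main N hNG hr hrm ha hb h1 h2) hab
  by_cases hall : ∀ r : ℕ, r.Prime → r ∣ ⁅N, N⁆.relIndex N → ¬ r ∣ a
  · left
    refine ⟨Nat.coprime_of_dvd fun r hr h1 h2 => hall r hr h2 h1, fun r hr hrm => ?_⟩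
    rcases hxor r hr hrm with h | h
    · exact absurd h.1 (hall r hr hrm)
    · exact h.2
  · right
    push_neg at hall
    obtain ⟨r, hr, hrm, hra⟩ := hall
    have hrb : ¬ r ∣ b := by
      rcases hxor r hr hrm with h | h
      · exact h.2
      · exact absurd hra h.1
    have hall2 : ∀ s : ℕ, s.Prime → s ∣ ⁅N, N⁆.relIndex N → ¬ s ∣ b := by
      intro s hs hsm hsb
      have hsa : ¬ s ∣ a := by
        rcases hxor s hs hsm with h | h
        · exact absurd hsb h.2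
        · exact h.1
      have hrs : r ≠ s := by
        rintro rfl
        exact hrb hsb
      exact no_mixed_main N hNG hr hs hrm hsm hrs ha hb hab hra hrb hsa hsb
    refine ⟨Nat.coprime_of_dvd fun r hr h1 h2 => hall2 r hr h2 h1, fun s hs hsm => ?_⟩
    rcases hxor s hs hsm with h | h
    · exact h.1
    · exact absurd h.2 (hall2 s hs hsm)

end Main

end Cfsg.Agent.Lib.Char.RelGraph
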