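import Mathlib
import Cfsg.Agent.Lib.Known.SL2Blocks2
import Cfsg.Prelude.Def_DegreeGraph
import Cfsg.Agent.Lib.Char.Kernel

/-!
# Character degrees of `SL₂(F)` and `PSL₂(F)`
-/

set_option autoImplicit false
set_option linter.unusedSectionVars false

namespace Cfsg.Agent.Lib.Char.SL2D

open Cfsg Cfsg.Agent.Lib.Char Cfsg.Agent.Lib.Known

theorem charDegree_eq_of_apply_one {G : Type*} [Group G] {χ : G → ℂ} {n : ℕ} (h : χ 1 = n) : charDegree χ = n := by
  simp [charDegree, h]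

theorem charDegree_eq_irrDeg {G : Type*} [Group G] (χ : IrrCharacter G) : charDegree (χ : G → ℂ) = irrDeg χ :=
  charDegree_eq_of_apply_one (irrDeg_spec χ)

theorem isIrr_comp_equiv {H K : Type*} [Group H] [Group K] [Fintype H] [Fintype K] (e : H ≃* K) {χ : K → ℂ}
    (hχ : IsIrrCharacter K χ) : IsIrrCharacter H (χ ∘ e) := by
  apply isIrrCharacter_of_classInner_self (IsCharacter.comp (IsIrrCharacter.isCharacter hχ) e.toMonoidHom)
  have h1 := classInner_irr_self hχ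
  rw [classInner] at h1 ⊢
  have h2 : Nat.card H = Nat.card K := Nat.card_congr e.toEquiv
  rw [h2, ← h1]
  congr 1
  exact Equiv.sum_comp e.toEquiv (fun k => χ k * (starRingEnd ℂ) (χ k))

/-- Character degrees are invariant under isomorphism. -/
theorem charDegrees_congr {S S' : Type*} [Group S] [Group S'] [Fintype S] [Fintype S'] (e : S ≃* S') :
    charDegrees S = charDegrees S' := by
  ext d
  constructor
  · rintro ⟨χ, rfl⟩
    refine ⟨⟨(χ : S → ℂ) ∘ e.symm, isIrr_comp_equiv e.symm χ.2⟩, ?_⟩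
    simp [charDegree]
  · rintro ⟨χ, rfl⟩
    refine ⟨⟨(χ : S' → ℂ) ∘ e, isIrr_comp_equiv e χ.2⟩, ?_⟩
    simp [charDegree]

section PSL

variable {F : Type*} [Field F] [Fintype F] [DecidableEq F]

/-- The projective group. -/
abbrev PSL2 (F : Type*) [Field F] := Matrix.ProjectiveSpecialLinearGroup (Fin 2) F

theorem center_cases {z : SL2 F} (hz : z ∈ Subgroup.center (SL2 F)) : z = 1 ∨ z = sl2M1 F := by
  obtain ⟨r, hr, hz'⟩ := Matrix.SpecialLinearGroup.mem_center_iff.mp hz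
  have hr2 : r ^ 2 = 1 := by simpa using hr
  have h : r = 1 ∨ r = -1 := by
    have h0 : (r - 1) * (r + 1) = 0 := by linear_combination hr2
    rcases mul_eq_zero.mp h0 with h | h
    · exact Or.inl (sub_eq_zero.mp h)
    · exact Or.inr (eq_neg_of_add_eq_zero_left h)
  rcases h with rfl | rfl
  · left
    apply Subtype.ext
    rw [← hz']
    simp
  · right
    apply Subtype.ext
    rw [← hz', sl2M1_coe]
    ext i j
    fin_cases i <;> fin_cases j <;> simp

theorem exists_psl_desc (ψ : IrrCharacter (SL2 F)) (h : (ψ : SL2 F → ℂ) (sl2M1 F) = (ψ : SL2 F → ℂ) 1) :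
    ∃ χ : IrrCharacter (PSL2 F), ∀ x : SL2 F, (χ : PSL2 F → ℂ) (x : PSL2 F) = (ψ : SL2 F → ℂ) x := by
  classical
  letI : Fintype (Subgroup.center (SL2 F)) := Fintype.ofFinite _
  letI : Fintype (SL2 F ⧸ Subgroup.center (SL2 F)) := Fintype.ofFinite _
  have hker : Subgroup.center (SL2 F) ≤ charKer (ψ : SL2 F → ℂ) := by
    intro z hz
    rw [mem_charKer (IsIrrCharacter.isCharacter ψ.2)]
    rcases center_cases hz with rfl | rfl
    · rfl
    · exact h
  obtain ⟨β, hβ, hψβ⟩ := exists_deflate (Subgroup.center (SL2 F)) ψ.2 hker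
  exact ⟨⟨β, hβ⟩, fun x => (congrFun hψβ x).symm⟩

theorem exists_psl_lift (χ : IrrCharacter (PSL2 F)) :
    ∃ ψ : IrrCharacter (SL2 F), ∀ x : SL2 F, (ψ : SL2 F → ℂ) x = (χ : PSL2 F → ℂ) (x : PSL2 F) := by
  classical
  letI : Fintype (Subgroup.center (SL2 F)) := Fintype.ofFinite _
  letI : Fintype (SL2 F ⧸ Subgroup.center (SL2 F)) := Fintype.ofFinite _
  exact ⟨⟨inflate (Subgroup.center (SL2 F)) χ, isIrrCharacter_inflate _ χ.2⟩, fun x => rfl⟩

theorem charDegree_of_lift {χ : IrrCharacter (PSL2 F)} {ψ : IrrCharacter (SL2 F)}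
    (h : ∀ x : SL2 F, (ψ : SL2 F → ℂ) x = (χ : PSL2 F → ℂ) (x : PSL2 F)) :
    charDegree (χ : PSL2 F → ℂ) = charDegree (ψ : SL2 F → ℂ) := by
  rw [charDegree, charDegree, h 1]
  rfl

theorem charDegrees_psl_subset : charDegrees (PSL2 F) ⊆ charDegrees (SL2 F) := by
  rintro _ ⟨χ, rfl⟩
  obtain ⟨ψ, hψ⟩ := exists_psl_lift χ
  exact ⟨ψ, (charDegree_of_lift hψ).symm⟩

theorem mem_charDegrees_psl (ψ : IrrCharacter (SL2 F)) (h : (ψ : SL2 F → ℂ) (sl2M1 F) = (ψ : SL2 F → ℂ) 1) :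
    charDegree (ψ : SL2 F → ℂ) ∈ charDegrees (PSL2 F) := by
  obtain ⟨χ, hχ⟩ := exists_psl_desc ψ h
  exact ⟨χ, charDegree_of_lift (fun x => (hχ x).symm)⟩

/-- The Steinberg character as an irreducible character. -/
noncomputable def stIrr (F : Type*) [Field F] [Fintype F] [DecidableEq F] : IrrCharacter (SL2 F) :=
  ⟨sl2St F, isIrr_sl2St⟩

theorem irrDeg_stIrr : irrDeg (stIrr F) = Fintype.card F :=
  (irrDeg_eq_iff _ _).mpr sl2St_apply_one

/-- A character of degree divisible by the characteristic is the Steinberg character. -/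
theorem eq_St_of_dvd (p : ℕ) [hp : Fact p.Prime] [CharP F p] (ψ : IrrCharacter (SL2 F)) (h : p ∣ irrDeg ψ) :
    ψ = stIrr F := by
  classical
  have hpp : p.Prime := hp.out
  obtain ⟨n, -, hq⟩ := FiniteField.card F p
  have hpq : p ∣ Fintype.card F := by
    rw [hq]
    exact dvd_pow_self p n.ne_zero
  have hp1 : ¬ p ∣ 1 := fun h => hpp.one_lt.ne' (Nat.dvd_one.mp h)
  by_cases hodd : Odd (Fintype.card F)
  · obtain ⟨D⟩ := exists_SL2OddData (F := F) hodd
    obtain ⟨r, hr⟩ := SL2OddData.odd_eq (F := F) hodd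
    rw [hr] at hpq
    rcases D.irrDeg_cases hodd r hr ψ with ⟨_, h1⟩ | ⟨h0, -⟩ | ⟨_, h1⟩ | ⟨_, h1⟩ | ⟨_, h1⟩ | ⟨_, h1⟩
    · rw [h1] at h
      exact absurd h hp1
    · exact h0
    · rw [h1] at h
      exact absurd ((Nat.dvd_add_right hpq).mp (by simpa using h)) hp1
    · rw [h1] at h
      have h2 : p ∣ 2 * r + 4 := by
        have : 2 * r + 4 = 2 * (r + 2) := by ring
        rw [this]
        exact h.mul_left 2
      exact absurd ((Nat.dvd_add_right hpq).mp (by simpa using h2)) hp1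
    · rw [h1] at h
      have h2 : p ∣ (2 * r + 2) + 1 := hpq
      exact absurd ((Nat.dvd_add_right h).mp h2) hp1
    · rw [h1] at h
      have h3 : p ∣ 2 * r + 2 := by
        have : 2 * r + 2 = 2 * (r + 1) := by ring
        rw [this]
        exact h.mul_left 2
      have h2 : p ∣ (2 * r + 2) + 1 := hpq
      exact absurd ((Nat.dvd_add_right h3).mp h2) hp1
  · have h2q : 2 ∣ Fintype.card F := (even_iff_two_dvd).mp (Nat.not_odd_iff_even.mp hodd)
    have hp2 : p = 2 := by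
      rw [hq] at h2q
      exact ((Nat.prime_dvd_prime_iff_eq Nat.prime_two hpp).mp (Nat.prime_two.dvd_of_dvd_pow h2q)).symm
    subst hp2
    have hm : ∃ m, Fintype.card F = m + 1 := ⟨Fintype.card F - 1, by have := Fintype.card_pos (α := F); omega⟩
    obtain ⟨m, hm⟩ := hm
    rcases sl2_irr_cases_even' ψ.2 with h1 | h1 | ⟨α, -, h1⟩ | ⟨-, h1⟩
    · exfalso
      have h3 : irrDeg ψ = 1 := (irrDeg_eq_iff _ _).mpr (by rw [h1]; simp [sl2One])
      rw [h3] at h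
      exact hp1 h
    · exact Subtype.ext h1
    · exfalso
      have h3 : irrDeg ψ = Fintype.card F + 1 := (irrDeg_eq_iff _ _).mpr (by rw [h1, sl2Ind_apply_one]; push_cast; ring)
      rw [h3] at h
      exact hp1 ((Nat.dvd_add_right hpq).mp h)
    · exfalso
      have h3 : irrDeg ψ = m := (irrDeg_eq_iff _ _).mpr (by rw [h1, hm]; push_cast; ring)
      rw [h3] at h
      rw [hm] at hpq
      exact hp1 ((Nat.dvd_add_right h).mp hpq)

theorem stIrr_M1 : (stIrr F : SL2 F → ℂ) (sl2M1 F) = (stIrr F : SL2 F → ℂ) 1 := St_M1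

end PSL

section Arith

/-- The graph, characteristic two. -/
theorem graph_even {D : Set ℕ} {q n : ℕ} (hq : q = 2 ^ n) (h4 : 4 ≤ q)
    (h1 : D = {1, q, q + 1, q - 1}) :
    {r : ℕ | r.Prime ∧ ∃ d ∈ D, r ∣ d} = {r : ℕ | r.Prime ∧ r ∣ q * (q ^ 2 - 1)} ∧
      ∀ r s : ℕ, (r ≠ s ∧ r.Prime ∧ s.Prime ∧ ∃ d ∈ D, r * s ∣ d) ↔
        (r ≠ s ∧ r.Prime ∧ s.Prime ∧ ((r ∣ q + 1 ∧ s ∣ q + 1) ∨ (r ∣ q - 1 ∧ s ∣ q - 1))) := by
  obtain ⟨m, rfl⟩ : ∃ m, q = m + 1 := ⟨q - 1, by omega⟩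
  have hfac : (m + 1) ^ 2 - 1 = m * (m + 2) := by
    rw [Nat.sub_eq_iff_eq_add (by nlinarith)]
    ring
  simp only [Nat.add_sub_cancel] at h1 ⊢
  rw [hfac]
  constructor
  · ext r
    simp only [Set.mem_setOf_eq, h1, Set.mem_insert_iff, Set.mem_singleton_iff, exists_eq_or_imp, exists_eq_left]
    constructor
    · rintro ⟨hr, h | h | h | h⟩
      · exact absurd (Nat.dvd_one.mp h) hr.one_lt.ne'
      · exact ⟨hr, h.mul_right _⟩
      · exact ⟨hr, Dvd.dvd.mul_left (Dvd.dvd.mul_left h _) _⟩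
      · exact ⟨hr, Dvd.dvd.mul_left (Dvd.dvd.mul_right h _) _⟩
    · rintro ⟨hr, h⟩
      refine ⟨hr, ?_⟩
      rcases (Nat.Prime.dvd_mul hr).mp h with h | h
      · exact Or.inr (Or.inl h)
      · rcases (Nat.Prime.dvd_mul hr).mp h with h | h
        · exact Or.inr (Or.inr (Or.inr h))
        · exact Or.inr (Or.inr (Or.inl h))
  · intro r s
    simp only [h1, Set.mem_insert_iff, Set.mem_singleton_iff, exists_eq_or_imp, exists_eq_left]
    constructor
    · rintro ⟨hne, hr, hs, h | h | h | h⟩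
      · exfalso
        exact hr.one_lt.ne' (Nat.dvd_one.mp ((dvd_mul_right r s).trans h))
      · exfalso
        rw [hq] at h
        have h2 := Nat.prime_two.eq_one_or_self_of_dvd r (hr.dvd_of_dvd_pow ((dvd_mul_right r s).trans h)) 
        have h3 := Nat.prime_two.eq_one_or_self_of_dvd s (hs.dvd_of_dvd_pow ((dvd_mul_left s r).trans h))
        have h4 := hr.one_lt.ne'
        have h5 := hs.one_lt.ne'
        omega
      · exact ⟨hne, hr, hs, Or.inl ⟨(dvd_mul_right r s).trans h, (dvd_mul_left s r).trans h⟩⟩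
      · exact ⟨hne, hr, hs, Or.inr ⟨(dvd_mul_right r s).trans h, (dvd_mul_left s r).trans h⟩⟩
    · rintro ⟨hne, hr, hs, ⟨h₁, h₂⟩ | ⟨h₁, h₂⟩⟩
      · refine ⟨hne, hr, hs, Or.inr (Or.inr (Or.inl ?_))⟩
        exact Nat.Coprime.mul_dvd_of_dvd_of_dvd ((Nat.coprime_primes hr hs).mpr hne) h₁ h₂
      · refine ⟨hne, hr, hs, Or.inr (Or.inr (Or.inr ?_))⟩
        exact Nat.Coprime.mul_dvd_of_dvd_of_dvd ((Nat.coprime_primes hr hs).mpr hne) h₁ h₂

/-- The graph, odd characteristic. -/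
theorem graph_odd {D : Set ℕ} {q t n : ℕ} (ht : t.Prime) (hq : q = t ^ n) (hodd : Odd q) (h5 : 5 < q)
    (h1 : q ∈ D) (h2 : q + 1 ∈ D) (h3 : q - 1 ∈ D)
    (h4 : ∀ d ∈ D, d = 1 ∨ d = q ∨ d = q + 1 ∨ d = q - 1 ∨ d = (q + 1) / 2 ∨ d = (q - 1) / 2) :
    {r : ℕ | r.Prime ∧ ∃ d ∈ D, r ∣ d} = {r : ℕ | r.Prime ∧ r ∣ q * (q ^ 2 - 1)} ∧
      ∀ r s : ℕ, (r ≠ s ∧ r.Prime ∧ s.Prime ∧ ∃ d ∈ D, r * s ∣ d) ↔
        (r ≠ s ∧ r.Prime ∧ s.Prime ∧ r ∣ q ^ 2 - 1 ∧ s ∣ q ^ 2 - 1 ∧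
          (r = 2 ∨ s = 2 ∨ (r ∣ q + 1 ∧ s ∣ q + 1) ∨ (r ∣ q - 1 ∧ s ∣ q - 1))) := by
  obtain ⟨k, rfl⟩ : ∃ k, q = 2 * k + 1 := hodd
  have hfac : (2 * k + 1) ^ 2 - 1 = (2 * k) * (2 * k + 2) := by
    rw [Nat.sub_eq_iff_eq_add (by nlinarith)]
    ring
  have e1 : (2 * k + 1 + 1) / 2 = k + 1 := by omega
  have e2 : 2 * k / 2 = k := by omega
  have e3 : 2 * k + 1 - 1 = 2 * k := by omega
  have e4 : 2 * k + 1 + 1 = 2 * k + 2 := rfl
  simp only [e1, e2, e3, e4] at h2 h3 h4 ⊢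
  rw [hfac]
  have h22 : ∀ r, r ∣ k + 1 → r ∣ 2 * k + 2 := fun r h => by
    have : 2 * k + 2 = 2 * (k + 1) := by ring
    rw [this]
    exact h.mul_left 2
  have h21 : ∀ r, r ∣ k → r ∣ 2 * k := fun r h => h.mul_left 2
  constructor
  · ext r
    simp only [Set.mem_setOf_eq]
    constructor
    · rintro ⟨hr, d, hd, hrd⟩
      refine ⟨hr, ?_⟩
      rcases h4 d hd with rfl | rfl | rfl | rfl | rfl | rfl
      · exact absurd (Nat.dvd_one.mp hrd) hr.one_lt.ne'
      · exact hrd.mul_right _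
      · exact Dvd.dvd.mul_left (Dvd.dvd.mul_left hrd _) _
      · exact Dvd.dvd.mul_left (Dvd.dvd.mul_right hrd _) _
      · exact Dvd.dvd.mul_left (Dvd.dvd.mul_left (h22 r hrd) _) _
      · exact Dvd.dvd.mul_left (Dvd.dvd.mul_right (h21 r hrd) _) _
    · rintro ⟨hr, h⟩
      refine ⟨hr, ?_⟩
      rcases (Nat.Prime.dvd_mul hr).mp h with h | h
      · exact ⟨_, h1, h⟩
      · rcases (Nat.Prime.dvd_mul hr).mp h with h | h
        · exact ⟨_, h3, h⟩
        · exact ⟨_, h2, h⟩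
  · intro r s
    constructor
    · rintro ⟨hne, hr, hs, d, hd, hrd⟩
      have hrd1 := (dvd_mul_right r s).trans hrd
      have hrd2 := (dvd_mul_left s r).trans hrd
      rcases h4 d hd with rfl | rfl | rfl | rfl | rfl | rfl
      · exact absurd (Nat.dvd_one.mp hrd1) hr.one_lt.ne'
      · exfalso
        rw [hq] at hrd1 hrd2
        have h6 := (Nat.prime_dvd_prime_iff_eq hr ht).mp (hr.dvd_of_dvd_pow hrd1)
        have h7 := (Nat.prime_dvd_prime_iff_eq hs ht).mp (hs.dvd_of_dvd_pow hrd2)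
        exact hne (h6.trans h7.symm)
      · exact ⟨hne, hr, hs, Dvd.dvd.mul_left hrd1 _, Dvd.dvd.mul_left hrd2 _, Or.inr (Or.inr (Or.inl ⟨hrd1, hrd2⟩))⟩
      · exact ⟨hne, hr, hs, Dvd.dvd.mul_right hrd1 _, Dvd.dvd.mul_right hrd2 _, Or.inr (Or.inr (Or.inr ⟨hrd1, hrd2⟩))⟩
      · have a1 := h22 r hrd1
        have a2 := h22 s hrd2
        exact ⟨hne, hr, hs, Dvd.dvd.mul_left a1 _, Dvd.dvd.mul_left a2 _, Or.inr (Or.inr (Or.inl ⟨a1, a2⟩))⟩
      · have a1 := h21 r hrd1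
        have a2 := h21 s hrd2
        exact ⟨hne, hr, hs, Dvd.dvd.mul_right a1 _, Dvd.dvd.mul_right a2 _, Or.inr (Or.inr (Or.inr ⟨a1, a2⟩))⟩
    · rintro ⟨hne, hr, hs, hr2, hs2, hcase⟩
      have hcop := (Nat.coprime_primes hr hs).mpr hne
      refine ⟨hne, hr, hs, ?_⟩
      rcases hcase with rfl | rfl | ⟨a1, a2⟩ | ⟨a1, a2⟩
      · -- `r = 2`
        rcases (Nat.Prime.dvd_mul hs).mp hs2 with h | h
        · exact ⟨_, h3, Nat.Coprime.mul_dvd_of_dvd_of_dvd hcop (dvd_mul_right 2 k) h⟩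
        · exact ⟨_, h2, Nat.Coprime.mul_dvd_of_dvd_of_dvd hcop ⟨k + 1, by ring⟩ h⟩
      · rcases (Nat.Prime.dvd_mul hr).mp hr2 with h | h
        · exact ⟨_, h3, Nat.Coprime.mul_dvd_of_dvd_of_dvd hcop h (dvd_mul_right 2 k)⟩
        · exact ⟨_, h2, Nat.Coprime.mul_dvd_of_dvd_of_dvd hcop h ⟨k + 1, by ring⟩⟩
      · exact ⟨_, h2, Nat.Coprime.mul_dvd_of_dvd_of_dvd hcop a1 a2⟩
      · exact ⟨_, h3, Nat.Coprime.mul_dvd_of_dvd_of_dvd hcop a1 a2⟩

end Arith

section Even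

variable {F : Type*} [Field F] [Fintype F] [DecidableEq F] [CharP F 2]

theorem sl2M1_eq_one : sl2M1 F = 1 := by
  apply Subtype.ext
  rw [sl2M1_coe]
  simp [CharTwo.neg_eq]

theorem charDegrees_psl_even : charDegrees (PSL2 F) = charDegrees (SL2 F) := by
  apply Set.Subset.antisymm charDegrees_psl_subset
  rintro _ ⟨ψ, rfl⟩
  exact mem_charDegrees_psl ψ (by rw [sl2M1_eq_one])

theorem charDegrees_sl2_even (h4 : 4 ≤ Fintype.card F) :
    charDegrees (SL2 F) = {1, Fintype.card F, Fintype.card F + 1, Fintype.card F - 1} := by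
  classical
  obtain ⟨m, hm⟩ : ∃ m, Fintype.card F = m + 1 := ⟨Fintype.card F - 1, by omega⟩
  ext d
  simp only [Set.mem_insert_iff, Set.mem_singleton_iff]
  constructor
  · rintro ⟨ψ, rfl⟩
    rw [charDegree_eq_irrDeg]
    rcases sl2_irr_cases_even' ψ.2 with h1 | h1 | ⟨α, -, h1⟩ | ⟨-, h1⟩
    · left
      exact (irrDeg_eq_iff _ _).mpr (by rw [h1]; simp [sl2One])
    · right; left
      exact (irrDeg_eq_iff _ _).mpr (by rw [h1]; exact sl2St_apply_one)
    · right; right; left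
      exact (irrDeg_eq_iff _ _).mpr (by rw [h1, sl2Ind_apply_one]; push_cast; ring)
    · right; right; right
      refine (irrDeg_eq_iff _ _).mpr ?_
      rw [h1, hm]
      simp
  · rintro (rfl | rfl | rfl | rfl)
    · exact ⟨⟨sl2One F, isIrr_sl2One⟩, charDegree_eq_of_apply_one (by simp [sl2One])⟩
    · exact ⟨stIrr F, charDegree_eq_of_apply_one sl2St_apply_one⟩
    · have hc := card_sl2IndSetEven (F := F)
      have hne : (sl2IndSetEven F).Nonempty := by
        rw [← Finset.card_pos]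
        omega
      obtain ⟨ψ, hψ⟩ := hne
      simp only [sl2IndSetEven, Finset.mem_filter, Finset.mem_univ, true_and] at hψ
      obtain ⟨α, -, h1⟩ := hψ
      exact ⟨ψ, charDegree_eq_of_apply_one (by rw [h1, sl2Ind_apply_one]; push_cast; ring)⟩
    · obtain ⟨hc, hdeg⟩ := sl2CuspSet_card_and_deg_even (F := F)
      have hne : (sl2CuspSet F).Nonempty := by
        rw [← Finset.card_pos]
        omega
      obtain ⟨ψ, hψ⟩ := hne
      exact ⟨ψ, by rw [charDegree_eq_irrDeg]; exact hdeg ψ hψ⟩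

end Even

section Odd

variable {F : Type*} [Field F] [Fintype F] [DecidableEq F]

theorem charDegrees_sl2_odd (hodd : Odd (Fintype.card F)) {d : ℕ} (hd : d ∈ charDegrees (SL2 F)) :
    d = 1 ∨ d = Fintype.card F ∨ d = Fintype.card F + 1 ∨ d = Fintype.card F - 1 ∨
      d = (Fintype.card F + 1) / 2 ∨ d = (Fintype.card F - 1) / 2 := by
  obtain ⟨ψ, rfl⟩ := hd
  rw [charDegree_eq_irrDeg]
  obtain ⟨D⟩ := exists_SL2OddData (F := F) hodd
  obtain ⟨r, hr⟩ := SL2OddData.odd_eq (F := F) hodd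
  rcases D.irrDeg_cases hodd r hr ψ with ⟨_, h1⟩ | ⟨_, h1⟩ | ⟨_, h1⟩ | ⟨_, h1⟩ | ⟨_, h1⟩ | ⟨_, h1⟩ <;> rw [h1, hr] <;> omega

theorem q_mem_psl : Fintype.card F ∈ charDegrees (PSL2 F) := by
  have h := mem_charDegrees_psl (stIrr F) stIrr_M1
  rwa [charDegree_eq_irrDeg, irrDeg_stIrr] at h

theorem qadd_mem_psl (h5 : 5 < Fintype.card F) : Fintype.card F + 1 ∈ charDegrees (PSL2 F) := by
  classical
  have hζ := Complex.isPrimitiveRoot_exp (Fintype.card Fˣ) (by
    have : 0 < Fintype.card Fˣ := Fintype.card_pos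
    omega)
  obtain ⟨ω, hω⟩ := MulChar.exists_mulChar_orderOf_eq_card_units (F := F) hζ
  have hcard : Fintype.card Fˣ = Fintype.card F - 1 := Fintype.card_units F
  have hα : (ω ^ 2) ^ 2 ≠ 1 := by
    intro h
    rw [← pow_mul] at h
    have h1 := orderOf_dvd_of_pow_eq_one h
    rw [hω, hcard] at h1
    have := Nat.le_of_dvd (by norm_num) h1
    omega
  have hev : (ω ^ 2) (-1 : F) = 1 := by
    rw [pow_two, MulChar.mul_apply, ← map_mul]
    simp
  let ψ : IrrCharacter (SL2 F) := ⟨sl2Ind (ω ^ 2), isIrr_sl2Ind hα⟩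
  have h1 : (ψ : SL2 F → ℂ) 1 = ((Fintype.card F + 1 : ℕ) : ℂ) := by
    show sl2Ind (ω ^ 2) 1 = _
    rw [sl2Ind_apply_one]
    push_cast
    ring
  have hM : (ψ : SL2 F → ℂ) (sl2M1 F) = (ψ : SL2 F → ℂ) 1 := by
    have h2 := sl2Ind_M1_mul (ω ^ 2) 1
    rw [mul_one, hev, one_mul] at h2
    exact h2
  have h := mem_charDegrees_psl ψ hM
  rwa [charDegree_eq_of_apply_one h1] at h

theorem qsub_mem_psl (hodd : Odd (Fintype.card F)) (h5 : 5 < Fintype.card F) : Fintype.card F - 1 ∈ charDegrees (PSL2 F) := by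
  classical
  obtain ⟨g, hg⟩ := exists_sl2NoEig (F := F)
  haveI := finite_dual hg
  let sq : (sl2T g →* ℂˣ) →* (sl2T g →* ℂˣ) := MonoidHom.mk' (fun τ => τ * τ) (fun a b => mul_mul_mul_comm a b a b)
  have hker : Nat.card sq.ker = 2 := by
    refine Eq.trans ?_ (card_dual_sq hodd hg)
    apply Nat.card_congr
    refine Equiv.subtypeEquivRight fun θ => ?_
    rw [MonoidHom.mem_ker]
    show θ * θ = 1 ↔ _
    constructor
    · intro h c
      have := DFunLike.congr_fun h c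
      rw [pow_two]
      simpa using this
    · intro h
      ext c
      have := congrArg Units.val (h c)
      rw [pow_two] at this
      simpa using this
  have hrange : Nat.card sq.ker * Nat.card sq.range = Fintype.card F + 1 := by
    rw [← card_dual hg, ← Subgroup.index_ker, Subgroup.card_mul_index]
  rw [hker] at hrange
  have hex : ∃ τ : sl2T g →* ℂˣ, ∃ c, ((τ * τ) c) ^ 2 ≠ 1 := by
    by_contra hcon
    push Not at hcon
    have hle : sq.range ≤ sq.ker := by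
      rintro _ ⟨τ, rfl⟩
      rw [MonoidHom.mem_ker]
      show (τ * τ) * (τ * τ) = 1
      ext c
      have := congrArg Units.val (hcon τ c)
      rw [pow_two] at this
      simpa using this
    have := Subgroup.card_le_of_le hle
    rw [hker] at this
    omega
  obtain ⟨τ, c, hc⟩ := hex
  have hθ : ∃ c, (τ * τ) c ^ 2 ≠ 1 := ⟨c, hc⟩
  let ψ : IrrCharacter (SL2 F) := ⟨dsHat hodd (τ * τ), isIrr_dsHat hodd hg (τ * τ) hθ⟩
  have h1 : (ψ : SL2 F → ℂ) 1 = ((Fintype.card F - 1 : ℕ) : ℂ) := by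
    show dsX _ _ 1 = _
    rw [dsX_one hg, Nat.cast_sub Fintype.card_pos]
    simp
  have hM : (ψ : SL2 F → ℂ) (sl2M1 F) = (ψ : SL2 F → ℂ) 1 := by
    have h2 := dsX_M1_mul hg (dsL_spec hodd (τ * τ)) 1
    rw [mul_one] at h2
    have h3 : (((τ * τ) (m1T g) : ℂˣ) : ℂ) = 1 := by
      have := theta_m1_sq τ
      simp only [MonoidHom.mul_apply, Units.val_mul]
      exact this
    rw [h3, one_mul] at h2
    exact h2
  have h := mem_charDegrees_psl ψ hM
  rwa [charDegree_eq_of_apply_one h1] at h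

end Odd

end Cfsg.Agent.Lib.Char.SL2D
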