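import Mathlib
import Cfsg.Agent.Lib.Char.MGroup

set_option autoImplicit false

/-!
Characters of finite direct powers: tensor products, and induction of tensor products.
-/

namespace Cfsg.Agent.Lib.Char.Wreath

open Cfsg Cfsg.Agent.Lib.Char ComplexConjugate

universe u

section Tuples

variable {ι : Type u} [Fintype ι] [DecidableEq ι] {M : Type u} [Group M]

/-- The tensor product of functions. -/
def tens (τ : ι → M → ℂ) : (ι → M) → ℂ := fun x => ∏ i, τ i (x i)

theorem isCharacter_tens {τ : ι → M → ℂ} (h : ∀ i, IsCharacter M (τ i)) : IsCharacter (ι → M) (tens τ) := by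
  classical
  have key : ∀ s : Finset ι, IsCharacter (ι → M) (fun x => ∏ i ∈ s, τ i (x i)) := by
    intro s
    induction s using Finset.induction_on with
    | empty =>
      simpa using IsIrrCharacter.isCharacter (isIrrCharacter_one (G := ι → M))
    | insert a s ha ih =>
      have h1 := IsCharacter.mul (IsCharacter.comp (h a) (Pi.evalMonoidHom (fun _ : ι => M) a)) ih
      have h2 : (fun x : ι → M => ∏ i ∈ insert a s, τ i (x i)) =
          (τ a ∘ (Pi.evalMonoidHom (fun _ : ι => M) a)) * (fun x => ∏ i ∈ s, τ i (x i)) := by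
        funext x
        rw [Finset.prod_insert ha]
        rfl
      rw [h2]
      exact h1
  exact key Finset.univ

variable [Fintype M]

theorem classInner_tens (τ τ' : ι → M → ℂ) :
    classInner (tens τ) (tens τ') = ∏ i, classInner (τ i) (τ' i) := by
  classical
  simp only [classInner, tens, map_prod]
  rw [Finset.prod_mul_distrib, Finset.prod_const, Finset.card_univ]
  have h1 : (Nat.card (ι → M) : ℂ) = (Nat.card M : ℂ) ^ Fintype.card ι := by
    rw [Nat.card_fun]
    simp [Nat.card_eq_fintype_card]
  rw [h1, inv_pow]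
  congr 1
  rw [Finset.prod_univ_sum, Fintype.piFinset_univ]
  refine Finset.sum_congr rfl fun x _ => ?_
  rw [Finset.prod_mul_distrib]

theorem isIrr_tens {τ : ι → M → ℂ} (h : ∀ i, IsIrrCharacter M (τ i)) : IsIrrCharacter (ι → M) (tens τ) := by
  apply isIrrCharacter_of_classInner_self (isCharacter_tens fun i => IsIrrCharacter.isCharacter (h i))
  rw [classInner_tens]
  simp only [classInner_irr_self (h _)]
  simp

theorem tens_injective {τ τ' : ι → M → ℂ} (h : ∀ i, IsIrrCharacter M (τ i)) (h' : ∀ i, IsIrrCharacter M (τ' i))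
    (heq : tens τ = tens τ') : τ = τ' := by
  classical
  funext i
  by_contra hne
  have h2 : classInner (tens τ) (tens τ') = 0 := by
    rw [classInner_tens]
    apply Finset.prod_eq_zero (Finset.mem_univ i)
    exact classInner_irr_of_ne (h i) (h' i) hne
  have h3 : classInner (tens τ) (tens τ') = 1 := by
    rw [← heq]
    exact classInner_irr_self (isIrr_tens h)
  rw [h2] at h3
  exact zero_ne_one h3

/-- Every irreducible character of a direct power is a tensor product. -/
theorem exists_tens {τ : (ι → M) → ℂ} (hτ : IsIrrCharacter (ι → M) τ) :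
    ∃ t : ι → M → ℂ, (∀ i, IsIrrCharacter M (t i)) ∧ τ = tens t := by
  classical
  by_contra hcon
  push Not at hcon
  -- orthogonality to all tensors
  have h0 : ∀ t : ι → IrrCharacter M, classInner τ (tens fun i => (t i : M → ℂ)) = 0 := by
    intro t
    apply classInner_irr_of_ne hτ (isIrr_tens fun i => (t i).2)
    exact hcon _ fun i => (t i).2
  -- the regular character
  let R : (ι → M) → ℂ := ∑ t : ι → IrrCharacter M,
    (∏ i, (t i : M → ℂ) 1) • tens fun i => (t i : M → ℂ)
  have hR : ∀ x : ι → M, R x = if x = 1 then (Nat.card (ι → M) : ℂ) else 0 := by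
    intro x
    simp only [R, Finset.sum_apply, Pi.smul_apply, tens, smul_eq_mul, ← Finset.prod_mul_distrib]
    have h1 := Finset.prod_univ_sum (fun _ : ι => (Finset.univ : Finset (IrrCharacter M)))
      (fun i (χ : IrrCharacter M) => (χ : M → ℂ) 1 * (χ : M → ℂ) (x i))
    rw [Fintype.piFinset_univ] at h1
    rw [← h1]
    simp only [sum_irr_degree_mul_apply]
    by_cases hx : x = 1
    · subst hx
      simp [Nat.card_fun, Nat.card_eq_fintype_card]
    · rw [if_neg hx]
      obtain ⟨i, hi⟩ : ∃ i, x i ≠ 1 := by
        by_contra hc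
        push Not at hc
        exact hx (funext hc)
      apply Finset.prod_eq_zero (Finset.mem_univ i)
      rw [if_neg hi]
  have h1 : classInner τ R = conj (τ 1) * 0 + τ 1 := by
    simp only [classInner]
    have h2 : ∑ g, τ g * conj (R g) = τ 1 * (Nat.card (ι → M) : ℂ) := by
      rw [Finset.sum_eq_single (1 : ι → M)]
      · rw [hR, if_pos rfl]
        simp
      · intro g _ hg
        rw [hR, if_neg hg]
        simp
      · simp
    rw [h2]
    have h3 : (Nat.card (ι → M) : ℂ) ≠ 0 := by exact_mod_cast Nat.card_pos.ne'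
    field_simp
    ring
  have h2 : classInner τ R = 0 := by
    simp only [R, classInner_sum_right, classInner_smul_right, h0, mul_zero]
    simp
  rw [h2] at h1
  apply IsIrrCharacter.apply_one_ne_zero hτ
  simpa using h1.symm

/-- The product of subgroups. -/
def prodSub (U : ι → Subgroup M) : Subgroup (ι → M) := Subgroup.pi Set.univ U

@[simp] theorem mem_prodSub {U : ι → Subgroup M} {x : ι → M} : x ∈ prodSub U ↔ ∀ i, x i ∈ U i := by
  simp [prodSub, Subgroup.mem_pi]

/-- The tensor product of linear characters. -/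
def prodHom {U : ι → Subgroup M} (lam : ∀ i, U i →* ℂˣ) : prodSub U →* ℂˣ where
  toFun x := ∏ i, lam i ⟨(x : ι → M) i, mem_prodSub.mp x.2 i⟩
  map_one' := by
    apply Finset.prod_eq_one
    intro i _
    exact map_one (lam i)
  map_mul' a b := by
    rw [← Finset.prod_mul_distrib]
    refine Finset.prod_congr rfl fun i _ => ?_
    rw [← map_mul]
    rfl

theorem card_prodSub (U : ι → Subgroup M) : Nat.card (prodSub U) = ∏ i, Nat.card (U i) := by
  classical
  let e : prodSub U ≃ ∀ i, U i :=
    { toFun := fun x i => ⟨(x : ι → M) i, mem_prodSub.mp x.2 i⟩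
      invFun := fun y => ⟨fun i => y i, mem_prodSub.mpr fun i => (y i).2⟩
      left_inv := fun _ => rfl
      right_inv := fun _ => rfl }
  rw [Nat.card_congr e, Nat.card_pi]

theorem extendByZero_prodHom {U : ι → Subgroup M} (lam : ∀ i, U i →* ℂˣ) (z : ι → M) :
    extendByZero (prodSub U) (fun x => (prodHom lam x : ℂ)) z =
      ∏ i, extendByZero (U i) (fun h => (lam i h : ℂ)) (z i) := by
  classical
  by_cases hz : z ∈ prodSub U
  · rw [extendByZero_of_mem _ _ hz]
    simp only [prodHom, MonoidHom.coe_mk, OneHom.coe_mk, Units.coe_prod]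
    refine Finset.prod_congr rfl fun i _ => ?_
    rw [extendByZero_of_mem _ _ (mem_prodSub.mp hz i)]
  · rw [extendByZero_of_notMem _ _ hz]
    rw [mem_prodSub] at hz
    push Not at hz
    obtain ⟨i, hi⟩ := hz
    symm
    apply Finset.prod_eq_zero (Finset.mem_univ i)
    exact extendByZero_of_notMem _ _ hi

theorem indFun_prodHom {U : ι → Subgroup M} (lam : ∀ i, U i →* ℂˣ) (x : ι → M) :
    indFun (prodSub U) (fun h => (prodHom lam h : ℂ)) x =
      ∏ i, indFun (U i) (fun h => (lam i h : ℂ)) (x i) := by
  classical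
  simp only [indFun_apply]
  rw [Finset.prod_mul_distrib, card_prodSub]
  push_cast
  rw [Finset.prod_inv_distrib]
  congr 1
  rw [Finset.prod_univ_sum, Fintype.piFinset_univ]
  refine Finset.sum_congr rfl fun y _ => ?_
  rw [extendByZero_prodHom]
  rfl

/-- A direct power of an M-group is an M-group. -/
theorem isInducedLinear_of_tuple (hM : ∀ χ : M → ℂ, IsIrrCharacter M χ → IsInducedLinear χ)
    {τ : (ι → M) → ℂ} (hτ : IsIrrCharacter (ι → M) τ) : IsInducedLinear τ := by
  classical
  obtain ⟨t, ht, rfl⟩ := exists_tens hτ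
  have h1 := fun i => hM _ (ht i)
  choose U lam hlam using h1
  refine ⟨prodSub U, prodHom lam, ?_⟩
  funext x
  rw [indFun_prodHom]
  simp only [tens]
  refine Finset.prod_congr rfl fun i _ => ?_
  rw [← hlam i]

end Tuples

section Iso

variable {G G' : Type u} [Group G] [Group G'] [Fintype G] [Fintype G']

/-- Transport of the property along an isomorphism. -/
theorem isInducedLinear_comp {χ : G → ℂ} (h : IsInducedLinear χ) (e : G' ≃* G) : IsInducedLinear (χ ∘ e) := by
  classical
  obtain ⟨H, lam, rfl⟩ := h
  let H' : Subgroup G' := H.comap e.toMonoidHom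
  let e' : H' ≃* H :=
    { toFun := fun x => ⟨e x, x.2⟩
      invFun := fun y => ⟨e.symm y, by
        show e (e.symm y) ∈ H
        simp⟩
      left_inv := fun x => by
        ext
        simp
      right_inv := fun y => by
        ext
        simp
      map_mul' := fun a b => by
        ext
        simp }
  refine ⟨H', lam.comp e'.toMonoidHom, ?_⟩
  funext g
  simp only [Function.comp_apply, indFun_apply]
  rw [Nat.card_congr e'.toEquiv]
  congr 1
  refine Fintype.sum_equiv e.symm.toEquiv _ _ fun x => ?_
  show extendByZero H _ (x⁻¹ * e g * x) = extendByZero H' _ ((e.symm x)⁻¹ * g * e.symm x)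
  by_cases hz : x⁻¹ * e g * x ∈ H
  · have hz' : (e.symm x)⁻¹ * g * e.symm x ∈ H' := by
      show e _ ∈ H
      simpa using hz
    rw [extendByZero_of_mem _ _ hz, extendByZero_of_mem _ _ hz']
    have h5 : e' ⟨_, hz'⟩ = ⟨_, hz⟩ := Subtype.ext (by simp [e'])
    show ((lam _ : ℂˣ) : ℂ) = ((lam (e' ⟨_, hz'⟩) : ℂˣ) : ℂ)
    rw [h5]
  · have hz' : (e.symm x)⁻¹ * g * e.symm x ∉ H' := by
      intro h0
      apply hz
      have h1 : e ((e.symm x)⁻¹ * g * e.symm x) ∈ H := h0
      simpa using h1
    rw [extendByZero_of_notMem _ _ hz, extendByZero_of_notMem _ _ hz']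

end Iso

/-- The product of an induced linear character and a linear character of the group. -/
theorem hom_mul_indFun {G : Type u} [Group G] [Fintype G] (H : Subgroup G) (lam : H →* ℂˣ) (ν : G →* ℂˣ) (g : G) :
    (ν g : ℂ) * indFun H (fun h => (lam h : ℂ)) g =
      indFun H (fun h => ((lam * ν.comp H.subtype) h : ℂ)) g := by
  classical
  simp only [indFun_apply]
  rw [mul_left_comm, Finset.mul_sum]
  congr 1
  refine Finset.sum_congr rfl fun x _ => ?_
  by_cases hz : x⁻¹ * g * x ∈ H
  · rw [extendByZero_of_mem _ _ hz, extendByZero_of_mem _ _ hz]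
    simp only [MonoidHom.mul_apply, MonoidHom.comp_apply, Subgroup.subtype_apply, Units.val_mul, map_mul,
      map_inv]
    have h0 : ((ν x : ℂˣ) : ℂ) ≠ 0 := Units.ne_zero _
    have h1 : ((ν x : ℂˣ) : ℂ)⁻¹ * (ν g : ℂˣ) * (ν x : ℂˣ) = (ν g : ℂˣ) := by
      field_simp
    rw [← Units.val_inv_eq_inv_val] at h1
    rw [h1, mul_comm]
  · rw [extendByZero_of_notMem _ _ hz, extendByZero_of_notMem _ _ hz]
    simp

end Cfsg.Agent.Lib.Char.Wreath
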