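import Mathlib
import Cfsg.Agent.Lib.Char.WreathA
import Cfsg.Agent.Lib.Char.CliffordBij
import Cfsg.Agent.Lib.Char.Gallagher
import Cfsg.Agent.Lib.Char.Linear

set_option autoImplicit false

/-!
The regular wreath product of an M-group with a group of prime order is an M-group.
-/

namespace Cfsg.Agent.Lib.Char.Wreath

open Cfsg Cfsg.Agent.Lib.Char ComplexConjugate RegularWreathProduct

universe u

section Wreath

variable {M Q : Type u} [Group M] [Group Q]

/-- The base group. -/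
def baseSub : Subgroup (M ≀ᵣ Q) := (rightHom : M ≀ᵣ Q →* Q).ker

theorem mem_baseSub {w : M ≀ᵣ Q} : w ∈ (baseSub : Subgroup (M ≀ᵣ Q)) ↔ w.right = 1 := Iff.rfl

instance : (baseSub : Subgroup (M ≀ᵣ Q)).Normal := MonoidHom.normal_ker _

/-- The base group is the direct power. -/
def baseEquiv : (Q → M) ≃* (baseSub : Subgroup (M ≀ᵣ Q)) where
  toFun f := ⟨⟨f, 1⟩, rfl⟩
  invFun b := b.1.left
  left_inv _ := rfl
  right_inv b := by
    apply Subtype.ext
    apply RegularWreathProduct.ext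
    · rfl
    · exact b.2.symm
  map_mul' f g := by
    apply Subtype.ext
    apply RegularWreathProduct.ext
    · funext x
      simp
    · simp

@[simp] theorem baseEquiv_coe (f : Q → M) : ((baseEquiv f : (baseSub : Subgroup (M ≀ᵣ Q))) : M ≀ᵣ Q) = ⟨f, 1⟩ := rfl

theorem conj_left (w : M ≀ᵣ Q) (f : Q → M) (k : Q) :
    (w⁻¹ * (⟨f, 1⟩ : M ≀ᵣ Q) * w).left k = (w.left (w.right * k))⁻¹ * f (w.right * k) * w.left (w.right * k) := by
  simp [RegularWreathProduct.mul_def]

theorem conj_right (w : M ≀ᵣ Q) (f : Q → M) : (w⁻¹ * (⟨f, 1⟩ : M ≀ᵣ Q) * w).right = 1 := by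
  simp

/-- The subgroup with all components in `U`. -/
def tildeSub (U : Subgroup M) : Subgroup (M ≀ᵣ Q) where
  carrier := {w | ∀ k, w.left k ∈ U}
  mul_mem' := by
    intro a b ha hb k
    simp only [RegularWreathProduct.mul_left, Pi.mul_apply]
    exact mul_mem (ha k) (hb _)
  one_mem' := by
    intro k
    simp [one_mem]
  inv_mem' := by
    intro a ha k
    simp only [RegularWreathProduct.inv_left, Pi.inv_apply]
    exact inv_mem (ha _)

@[simp] theorem mem_tildeSub {U : Subgroup M} {w : M ≀ᵣ Q} : w ∈ (tildeSub U : Subgroup (M ≀ᵣ Q)) ↔ ∀ k, w.left k ∈ U :=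
  Iff.rfl

variable [Fintype Q]

/-- The linear character of the subgroup with all components in `U`. -/
def tildeHom {U : Subgroup M} (lam : U →* ℂˣ) : (tildeSub U : Subgroup (M ≀ᵣ Q)) →* ℂˣ where
  toFun w := ∏ k, lam ⟨(w : M ≀ᵣ Q).left k, w.2 k⟩
  map_one' := by
    apply Finset.prod_eq_one
    intro i _
    exact map_one lam
  map_mul' a b := by
    rw [← Finset.prod_mul_distrib (s := Finset.univ)]
    have h1 : ∀ k : Q, lam ⟨((a * b : (tildeSub U : Subgroup (M ≀ᵣ Q))) : M ≀ᵣ Q).left k, (a * b).2 k⟩ =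
        lam ⟨(a : M ≀ᵣ Q).left k, a.2 k⟩ *
          lam ⟨(b : M ≀ᵣ Q).left ((a : M ≀ᵣ Q).right⁻¹ * k), b.2 _⟩ := by
      intro k
      rw [← map_mul]
      rfl
    simp only [h1, Finset.prod_mul_distrib]
    congr 1
    exact Fintype.prod_equiv (Equiv.mulLeft (a : M ≀ᵣ Q).right⁻¹) _ _ (fun k => rfl)

theorem card_tildeSub [Finite M] (U : Subgroup M) :
    Nat.card (tildeSub U : Subgroup (M ≀ᵣ Q)) = Nat.card U ^ Nat.card Q * Nat.card Q := by
  let e : (tildeSub U : Subgroup (M ≀ᵣ Q)) ≃ (Q → U) × Q :=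
    { toFun := fun w => (fun k => ⟨(w : M ≀ᵣ Q).left k, w.2 k⟩, (w : M ≀ᵣ Q).right)
      invFun := fun y => ⟨⟨fun k => y.1 k, y.2⟩, fun k => (y.1 k).2⟩
      left_inv := fun _ => rfl
      right_inv := fun _ => rfl }
  rw [Nat.card_congr e, Nat.card_prod, Nat.card_fun]

theorem extendByZero_tilde {U : Subgroup M} (lam : U →* ℂˣ) (w : M ≀ᵣ Q) :
    extendByZero (tildeSub U : Subgroup (M ≀ᵣ Q)) (fun x => (tildeHom lam x : ℂ)) w =
      ∏ k, extendByZero U (fun h => (lam h : ℂ)) (w.left k) := by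
  classical
  by_cases hz : w ∈ (tildeSub U : Subgroup (M ≀ᵣ Q))
  · rw [extendByZero_of_mem _ _ hz]
    simp only [tildeHom, MonoidHom.coe_mk, OneHom.coe_mk, Units.coe_prod]
    refine Finset.prod_congr rfl fun i _ => ?_
    rw [extendByZero_of_mem _ _ (hz i)]
  · rw [extendByZero_of_notMem _ _ hz]
    rw [mem_tildeSub] at hz
    push Not at hz
    obtain ⟨i, hi⟩ := hz
    symm
    apply Finset.prod_eq_zero (Finset.mem_univ i)
    exact extendByZero_of_notMem _ _ hi

variable [Fintype M] [Fintype (M ≀ᵣ Q)]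

theorem indFun_tilde_base {U : Subgroup M} (lam : U →* ℂˣ) (f : Q → M) :
    indFun (tildeSub U : Subgroup (M ≀ᵣ Q)) (fun h => (tildeHom lam h : ℂ)) ⟨f, 1⟩ =
      ∏ k, indFun U (fun h => (lam h : ℂ)) (f k) := by
  classical
  simp only [indFun_apply]
  rw [Finset.prod_mul_distrib, card_tildeSub]
  set E := extendByZero U (fun h => (lam h : ℂ)) with hE
  have h1 : ∀ w : M ≀ᵣ Q, extendByZero (tildeSub U : Subgroup (M ≀ᵣ Q)) (fun x => (tildeHom lam x : ℂ))
      (w⁻¹ * ⟨f, 1⟩ * w) = ∏ k, E ((w.left k)⁻¹ * f k * w.left k) := by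
    intro w
    rw [extendByZero_tilde]
    simp only [conj_left]
    exact Fintype.prod_equiv (Equiv.mulLeft w.right) _ _ (fun k => rfl)
  simp only [h1]
  have h2 : ∑ w : M ≀ᵣ Q, ∏ k, E ((w.left k)⁻¹ * f k * w.left k) =
      ∑ x : (Q → M) × Q, ∏ k, E ((x.1 k)⁻¹ * f k * x.1 k) :=
    Fintype.sum_equiv (equivProd M Q) _ _ (fun w => rfl)
  rw [h2, Fintype.sum_prod_type]
  simp only [Finset.sum_const, Finset.card_univ, nsmul_eq_mul]
  rw [Finset.prod_univ_sum, Fintype.piFinset_univ, Finset.prod_const, Finset.card_univ]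
  have hQ0 : (Fintype.card Q : ℂ) ≠ 0 := by
    exact_mod_cast Fintype.card_ne_zero
  rw [Nat.card_eq_fintype_card (α := Q)]
  push_cast
  rw [mul_inv, inv_pow, mul_assoc]
  congr 1
  rw [← Finset.mul_sum, ← mul_assoc, inv_mul_cancel₀ hQ0, one_mul]

end Wreath

end Cfsg.Agent.Lib.Char.Wreath
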