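import Mathlib
import Cfsg.Agent.Lib.Char.WreathB

set_option autoImplicit false

/-!
Every finite solvable group embeds in a finite M-group.
-/

namespace Cfsg.Agent.Lib.Char.Wreath

open Cfsg Cfsg.Agent.Lib.Char ComplexConjugate RegularWreathProduct
open scoped commutatorElement

universe u

section Main

variable {M Q : Type u} [Group M] [Group Q] [Fintype Q] [Fintype M] [Fintype (M ≀ᵣ Q)]

/-- The regular wreath product of an M-group with a group of prime order is an M-group. -/
theorem isInducedLinear_wreath (hQ : (Nat.card Q).Prime)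
    (hM : ∀ χ : M → ℂ, IsIrrCharacter M χ → IsInducedLinear χ) {χ : M ≀ᵣ Q → ℂ}
    (hχ : IsIrrCharacter (M ≀ᵣ Q) χ) : IsInducedLinear χ := by
  classical
  haveI : Fact (Nat.card Q).Prime := ⟨hQ⟩
  haveI hQcy : IsCyclic Q := isCyclic_of_prime_card (p := Nat.card Q) rfl
  have hQc : ∀ x y : Q, x * y = y * x := by
    letI := IsCyclic.commGroup (α := Q)
    exact mul_comm
  let B : Subgroup (M ≀ᵣ Q) := baseSub
  haveI hBn : B.Normal := inferInstanceAs (baseSub : Subgroup (M ≀ᵣ Q)).Normal
  letI : Fintype B := Fintype.ofFinite _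
  obtain ⟨τ, hτ, hne⟩ := exists_under hχ B
  letI : Fintype (inertia B τ) := Fintype.ofFinite _
  have hle : B ≤ inertia B τ := le_inertia_of_irr hτ
  have hBidx : B.index = Nat.card Q := by
    have h1 : B.index = Nat.card (rightHom : M ≀ᵣ Q →* Q).range := Subgroup.index_ker _
    rw [h1, MonoidHom.range_eq_top.mpr, Subgroup.card_top]
    intro q
    exact ⟨inl q, by simp⟩
  have hdich : inertia B τ = ⊤ ∨ inertia B τ = B := by
    have h1 := Subgroup.relIndex_mul_index hle
    rw [hBidx] at h1
    have h2 : (inertia B τ).index ∣ Nat.card Q := ⟨_, by rw [← h1, mul_comm]⟩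
    rcases (Nat.dvd_prime hQ).mp h2 with h3 | h3
    · exact Or.inl (Subgroup.index_eq_one.mp h3)
    · right
      rw [h3] at h1
      have h4 : B.relIndex (inertia B τ) = 1 := by
        have h5 : B.relIndex (inertia B τ) * Nat.card Q = 1 * Nat.card Q := by rw [h1, one_mul]
        exact Nat.eq_of_mul_eq_mul_right hQ.pos h5
      exact le_antisymm (Subgroup.relIndex_eq_one.mp h4) hle
  rcases hdich with hT | hT
  · -- the invariant case
    let t : (Q → M) → ℂ := τ ∘ baseEquiv
    have ht : IsIrrCharacter (Q → M) t := isIrrCharacter_comp_mulEquiv baseEquiv hτ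
    obtain ⟨s, hs, hst⟩ := exists_tens ht
    have hinv : ∀ (c : Q) (f : Q → M), t (fun k => f (c * k)) = t f := by
      intro c f
      have h1 : inl c ∈ inertia B τ := by
        rw [hT]
        trivial
      have h2 := congrFun h1 (baseEquiv f)
      simp only [conjFun_apply] at h2
      have h3 : t f = τ (baseEquiv f) := rfl
      rw [h3, ← h2]
      show τ _ = τ _
      congr 1
      apply Subtype.ext
      apply RegularWreathProduct.ext
      · funext k
        simp [RegularWreathProduct.mul_def, baseEquiv]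
      · simp [RegularWreathProduct.mul_def, baseEquiv]
    have hsame : ∀ c k : Q, s (c⁻¹ * k) = s k := by
      intro c
      have h1 : (fun k => s (c⁻¹ * k)) = s := by
        apply tens_injective (fun k => hs _) hs
        funext f
        rw [← hst]
        rw [← hinv c f, hst]
        simp only [tens]
        exact (Fintype.prod_equiv (Equiv.mulLeft c) _ _ (fun k => by simp)).symm
      exact fun k => congrFun h1 k
    have hall : ∀ k : Q, s k = s 1 := by
      intro k
      have := hsame k k
      rw [inv_mul_cancel] at this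
      exact this.symm
    obtain ⟨U, lam, hϑ⟩ := hM _ (hs 1)
    let ξ : M ≀ᵣ Q → ℂ := indFun (tildeSub U) (fun h => (tildeHom lam h : ℂ))
    have hξc : IsCharacter (M ≀ᵣ Q) ξ :=
      isCharacter_indFun _ (IsIrrCharacter.isCharacter (isIrrCharacter_of_monoidHom (tildeHom lam)))
    have hres : resFun B ξ = τ := by
      funext b
      have h1 : b = baseEquiv (b.1.left) := (baseEquiv.apply_symm_apply b).symm
      have h2 : τ b = t (b.1.left) := by
        show τ b = τ (baseEquiv _)
        rw [← h1]
      rw [h2, hst]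
      simp only [tens]
      have h3 : (b : M ≀ᵣ Q) = ⟨b.1.left, 1⟩ := congrArg Subtype.val h1
      show ξ b = _
      rw [h3]
      simp only [ξ]
      rw [indFun_tilde_base]
      refine Finset.prod_congr rfl fun k _ => ?_
      rw [hall k, hϑ]
    letI : Fintype ((M ≀ᵣ Q) ⧸ B) := Fintype.ofFinite _
    obtain ⟨β, hβ, hχeq⟩ := exists_gallagher B hξc (by rw [hres]; exact hτ) hχ (by rw [hres]; exact hne)
    have hβ1 : β 1 = 1 := by
      have h1 := comm_iff_irr_degree_one.mp (fun x y : (M ≀ᵣ Q) ⧸ B => by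
        obtain ⟨a, rfl⟩ := QuotientGroup.mk_surjective x
        obtain ⟨b, rfl⟩ := QuotientGroup.mk_surjective y
        rw [← QuotientGroup.mk_mul, ← QuotientGroup.mk_mul, QuotientGroup.eq, mem_baseSub]
        simp only [RegularWreathProduct.mul_right, RegularWreathProduct.inv_right, mul_inv_rev]
        rw [hQc b.right a.right]
        group) ⟨β, hβ⟩
      exact h1
    obtain ⟨ν, rfl⟩ := IsCharacter.exists_monoidHom (IsIrrCharacter.isCharacter hβ) hβ1
    let ν' : M ≀ᵣ Q →* ℂˣ := ν.comp (QuotientGroup.mk' B)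
    refine ⟨tildeSub U, tildeHom lam * ν'.comp (tildeSub U).subtype, ?_⟩
    funext g
    rw [hχeq, ← hom_mul_indFun]
    rfl
  · -- the non-invariant case
    obtain ⟨ψ, hψ, -, rfl⟩ := exists_indFun_over hτ hχ hne
    apply IsInducedLinear.indFun
    let e : inertia B τ ≃* (Q → M) := (MulEquiv.subgroupCongr hT).trans baseEquiv.symm
    have h1 : IsInducedLinear (ψ ∘ e.symm) :=
      isInducedLinear_of_tuple hM (isIrrCharacter_comp_mulEquiv e.symm hψ)
    have h2 := isInducedLinear_comp h1 e
    have h3 : (ψ ∘ e.symm) ∘ e = ψ := by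
      funext x
      simp
    rwa [h3] at h2

end Main

/-- A group with a normal subgroup with quotient `Q` embeds in the wreath product. -/
theorem exists_embedding {G N₀ : Type u} [Group G] [Group N₀] (N : Subgroup G) [hN : N.Normal]
    (ε : N →* N₀) (hε : Function.Injective ε) : ∃ f : G →* N₀ ≀ᵣ (G ⧸ N), Function.Injective f := by
  classical
  let s : G ⧸ N → G := Quotient.out
  have hs : ∀ i : G ⧸ N, (s i : G ⧸ N) = i := QuotientGroup.out_eq'
  have hmem : ∀ (g : G) (i : G ⧸ N), (s i)⁻¹ * g * s ((g : G ⧸ N)⁻¹ * i) ∈ N := by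
    intro g i
    rw [← QuotientGroup.eq_one_iff, QuotientGroup.mk_mul, QuotientGroup.mk_mul, QuotientGroup.mk_inv, hs, hs]
    group
  let F : G → N₀ ≀ᵣ (G ⧸ N) := fun g => ⟨fun i => ε ⟨_, hmem g i⟩, (g : G ⧸ N)⟩
  have hF : ∀ a b : G, F (a * b) = F a * F b := by
    intro a b
    apply RegularWreathProduct.ext
    · funext i
      simp only [F, RegularWreathProduct.mul_left, Pi.mul_apply]
      rw [← map_mul]
      congr 1
      apply Subtype.ext
      simp only [Subgroup.coe_mul, QuotientGroup.mk_mul, mul_inv_rev]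
      group
    · rfl
  have hF1 : F 1 = 1 := by
    have h1 := hF 1 1
    rw [mul_one] at h1
    exact (mul_eq_left.mp h1.symm)
  let f : G →* N₀ ≀ᵣ (G ⧸ N) :=
    { toFun := F
      map_one' := hF1
      map_mul' := hF }
  refine ⟨f, ?_⟩
  rw [injective_iff_map_eq_one]
  intro g hg
  have h1 : (f g).left 1 = 1 := by
    rw [hg]
    rfl
  have h2 : (f g).right = 1 := by
    rw [hg]
    rfl
  have h3 : (g : G ⧸ N) = 1 := h2
  have h4 : ε ⟨_, hmem g 1⟩ = 1 := h1
  have h5 : (⟨_, hmem g 1⟩ : N) = 1 := hε (h4.trans (map_one ε).symm)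
  have h6 : (s 1)⁻¹ * g * s ((g : G ⧸ N)⁻¹ * 1) = 1 := congrArg Subtype.val h5
  rw [h3] at h6
  simp only [inv_one, mul_one] at h6
  have h7 : g * s 1 = s 1 := by
    calc g * s 1 = s 1 * ((s 1)⁻¹ * g * s 1) := by group
      _ = s 1 := by rw [h6, mul_one]
  exact mul_eq_right.mp h7

/-- A nontrivial solvable group has a normal subgroup of prime index. -/
theorem exists_normal_prime_index {G : Type u} [Group G] [Finite G] [Group.IsSolvable G] [Nontrivial G] :
    ∃ N : Subgroup G, N.Normal ∧ (Nat.card (G ⧸ N)).Prime := by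
  classical
  have h1 : commutator G ≠ ⊤ := (Group.IsSolvable.commutator_lt_top_of_nontrivial G).ne
  obtain ⟨N, hle, hmax⟩ := Finite.exists_le_maximal
    (p := fun N : Subgroup G => N ≠ ⊤ ∧ commutator G ≤ N) (a := commutator G) ⟨h1, le_rfl⟩
  have hcomm : ∀ x y : G, ⁅x, y⁆ ∈ N := fun x y =>
    hmax.prop.2 (Subgroup.commutator_mem_commutator (Subgroup.mem_top x) (Subgroup.mem_top y))
  haveI hNn : N.Normal := ⟨fun n hn g => by
    have h2 : g * n * g⁻¹ = ⁅g, n⁆ * n := by
      rw [commutatorElement_def]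
      group
    rw [h2]
    exact mul_mem (hcomm g n) hn⟩
  refine ⟨N, hNn, ?_⟩
  have hQc : ∀ a b : G ⧸ N, a * b = b * a := by
    intro x y
    obtain ⟨a, rfl⟩ := QuotientGroup.mk_surjective x
    obtain ⟨b, rfl⟩ := QuotientGroup.mk_surjective y
    rw [← commutatorElement_eq_one_iff_mul_comm]
    have h2 : ⁅(a : G ⧸ N), (b : G ⧸ N)⁆ = ((⁅a, b⁆ : G) : G ⧸ N) :=
      (map_commutatorElement (QuotientGroup.mk' N) a b).symm
    rw [h2]
    exact (QuotientGroup.eq_one_iff _).mpr (hcomm a b)
  letI : CommGroup (G ⧸ N) := { (inferInstance : Group (G ⧸ N)) with mul_comm := hQc }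
  haveI hnt : Nontrivial (G ⧸ N) := QuotientGroup.nontrivial_iff.mpr hmax.prop.1
  haveI hsimple : IsSimpleGroup (G ⧸ N) := by
    refine ⟨fun H _ => ?_⟩
    by_cases hH : H.comap (QuotientGroup.mk' N) = ⊤
    · right
      rw [eq_top_iff]
      intro x _
      obtain ⟨a, rfl⟩ := QuotientGroup.mk_surjective x
      have : a ∈ H.comap (QuotientGroup.mk' N) := by
        rw [hH]
        trivial
      exact this
    · left
      have hNle : N ≤ H.comap (QuotientGroup.mk' N) := by
        intro n hn
        show QuotientGroup.mk' N n ∈ H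
        have h5 : QuotientGroup.mk' N n = 1 := (QuotientGroup.eq_one_iff n).mpr hn
        rw [h5]
        exact one_mem _
      have h3 := hmax.2 (y := H.comap (QuotientGroup.mk' N)) ⟨hH, hmax.prop.2.trans hNle⟩ hNle
      rw [eq_bot_iff]
      intro x hx
      obtain ⟨a, rfl⟩ := QuotientGroup.mk_surjective x
      rw [Subgroup.mem_bot, QuotientGroup.eq_one_iff]
      exact h3 hx
  exact IsSimpleGroup.prime_card

/-- The main theorem. -/
theorem embed_main : ∀ (n : ℕ) (G : Type u) [Group G] [Finite G], Nat.card G = n → Group.IsSolvable G →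
    ∃ (M : Type u) (_ : Group M) (_ : Fintype M),
      (∀ χ : M → ℂ, IsIrrCharacter M χ → (∃ (H : Subgroup M) (lam : H →* ℂˣ), χ = indFun H (fun h => (lam h : ℂ)))) ∧
        ∃ f : G →* M, Function.Injective f := by
  intro n
  induction n using Nat.strong_induction_on with
  | _ n ih =>
  intro G _ _ hn hsolv
  classical
  by_cases hG : Nontrivial G
  · obtain ⟨N, hNn, hprime⟩ := exists_normal_prime_index (G := G)
    have hlt : Nat.card N < n := by
      have h1 := Subgroup.card_mul_index N
      rw [Subgroup.index_eq_card, hn] at h1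
      have h2 : 0 < Nat.card N := Nat.card_pos
      have h3 := hprime.two_le
      nlinarith
    haveI hNs : Group.IsSolvable N := inferInstance
    obtain ⟨M₀, iM₀, fM₀, hM₀, ε, hε⟩ := ih _ hlt N rfl hNs
    letI : Fintype (G ⧸ N) := Fintype.ofFinite _
    letI : Fintype (M₀ ≀ᵣ (G ⧸ N)) := Fintype.ofFinite _
    obtain ⟨f, hf⟩ := exists_embedding N ε hε
    refine ⟨M₀ ≀ᵣ (G ⧸ N), inferInstance, inferInstance, ?_, f, hf⟩
    intro χ hχ
    exact isInducedLinear_wreath hprime (fun χ hχ => hM₀ χ hχ) hχ
  · rw [not_nontrivial_iff_subsingleton] at hG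
    refine ⟨PUnit, inferInstance, inferInstance, ?_, 1, ?_⟩
    · intro χ hχ
      apply IsInducedLinear.of_linear (IsIrrCharacter.isCharacter hχ)
      exact comm_iff_irr_degree_one.mp (fun _ _ => rfl) ⟨χ, hχ⟩
    · intro a b _
      exact Subsingleton.elim a b

end Cfsg.Agent.Lib.Char.Wreath
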