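import Cfsg.Agent.Lib.Char.Zassenhaus
import Cfsg.Agent.Lib.Char.Basic

/-!
# Zassenhaus groups: counting elements by fixed points.
-/

set_option autoImplicit false

namespace Cfsg.Agent.Lib.Char.Zass

open Cfsg

variable {G Ω : Type*} [Group G] [Fintype G] [MulAction G Ω] [Fintype Ω]

/-- The order of a two-point stabilizer, as a count. -/
theorem card_two_stab (hZ : IsZassenhausGroup G Ω) {a b c d : Ω} (hab : a ≠ b) (hcd : c ≠ d) :
    Nat.card ↥(MulAction.stabilizer G c ⊓ MulAction.stabilizer G d : Subgroup G) =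
      Nat.card ↥(MulAction.stabilizer G a ⊓ MulAction.stabilizer G b : Subgroup G) := by
  obtain ⟨w, hw1, hw2⟩ := two_trans hZ hab hcd
  apply Nat.card_congr
  refine ⟨fun x => ⟨w⁻¹ * x.1 * w, ?_, ?_⟩, fun x => ⟨w * x.1 * w⁻¹, ?_, ?_⟩, ?_, ?_⟩
  · show (w⁻¹ * x.1 * w) • a = a
    rw [mul_smul, mul_smul, hw1]
    have : (x.1 : G) • c = c := x.2.1
    rw [this, ← hw1, inv_smul_smul]
  · show (w⁻¹ * x.1 * w) • b = b
    rw [mul_smul, mul_smul, hw2]
    have : (x.1 : G) • d = d := x.2.2
    rw [this, ← hw2, inv_smul_smul]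
  · show (w * x.1 * w⁻¹) • c = c
    rw [mul_smul, mul_smul, ← hw1, inv_smul_smul]
    have : (x.1 : G) • a = a := x.2.1
    rw [this]
  · show (w * x.1 * w⁻¹) • d = d
    rw [mul_smul, mul_smul, ← hw2, inv_smul_smul]
    have : (x.1 : G) • b = b := x.2.2
    rw [this]
  · rintro ⟨x, hx⟩
    apply Subtype.ext
    simp [mul_assoc]
  · rintro ⟨x, hx⟩
    apply Subtype.ext
    simp [mul_assoc]

open scoped Classical in
/-- The number of elements fixing `c` and `d` (distinct). -/
theorem card_filter_two (hZ : IsZassenhausGroup G Ω) {a b c d : Ω} (hab : a ≠ b) (hcd : c ≠ d) :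
    (Finset.univ.filter fun g : G => g • c = c ∧ g • d = d).card =
      Nat.card ↥(MulAction.stabilizer G a ⊓ MulAction.stabilizer G b : Subgroup G) := by
  rw [← card_two_stab hZ hab hcd, Nat.card_eq_fintype_card, ← Fintype.card_subtype]
  apply Fintype.card_congr
  exact Equiv.subtypeEquivRight fun g => Iff.rfl

open scoped Classical in
/-- The number of elements fixing `c`. -/
theorem card_filter_one (hZ : IsZassenhausGroup G Ω) {a b : Ω} (hab : a ≠ b) (c : Ω) :
    (Finset.univ.filter fun g : G => g • c = c).card = (Fintype.card Ω - 1) *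
      Nat.card ↥(MulAction.stabilizer G a ⊓ MulAction.stabilizer G b : Subgroup G) := by
  have h1 : ∀ d : Ω, (Finset.univ.filter fun g : G => g • c = c ∧ g • c = d).card =
      if d = c then (Finset.univ.filter fun g : G => g • c = c).card else 0 := by
    intro d
    split_ifs with h
    · subst h
      congr 1
      ext g
      simp
    · rw [Finset.card_eq_zero, Finset.filter_eq_empty_iff]
      rintro g - ⟨h2, h3⟩
      exact h (h3.symm.trans h2)
  -- pick a second point
  obtain ⟨d₀, hd₀⟩ : ∃ d₀ : Ω, d₀ ≠ c := by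
    by_cases hca : c = a
    · exact ⟨b, by rw [hca]; exact hab.symm⟩
    · exact ⟨a, fun h => hca h.symm⟩
  have h2 : (Finset.univ.filter fun g : G => g • c = c).card =
      ∑ d : Ω, (Finset.univ.filter fun g : G => g • c = c ∧ g • d₀ = d).card := by
    rw [Finset.card_eq_sum_card_fiberwise (f := fun g : G => g • d₀) (t := Finset.univ)
      (fun _ _ => Finset.mem_coe.mpr (Finset.mem_univ _))]
    refine Finset.sum_congr rfl fun d _ => ?_
    congr 1
    ext g
    simp
  rw [h2]
  have h3 : ∀ d : Ω, (Finset.univ.filter fun g : G => g • c = c ∧ g • d₀ = d).card =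
      if d = c then 0 else Nat.card ↥(MulAction.stabilizer G a ⊓ MulAction.stabilizer G b : Subgroup G) := by
    intro d
    split_ifs with h
    · rw [Finset.card_eq_zero, Finset.filter_eq_empty_iff]
      rintro g - ⟨h4, h5⟩
      rw [h] at h5
      apply hd₀
      exact smul_left_cancel g (h5.trans h4.symm)
    · obtain ⟨w, hw1, hw2⟩ := two_trans hZ hd₀.symm (Ne.symm h)
      rw [← card_filter_two hZ hab hd₀.symm]
      apply Finset.card_nbij' (fun g => w⁻¹ * g) (fun g => w * g)
      · intro g hg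
        simp only [Finset.coe_filter, Finset.mem_univ, true_and, Set.mem_ofPred_eq] at hg ⊢
        constructor
        · rw [mul_smul, hg.1, ← hw1, inv_smul_smul, hw1]
        · rw [mul_smul, hg.2, ← hw2, inv_smul_smul]
      · intro g hg
        simp only [Finset.coe_filter, Finset.mem_univ, true_and, Set.mem_ofPred_eq] at hg ⊢
        constructor
        · rw [mul_smul, hg.1, hw1]
        · rw [mul_smul, hg.2, hw2]
      · intro g _
        simp
      · intro g _
        simp
  rw [Finset.sum_congr rfl fun d _ => h3 d]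
  rw [Finset.sum_ite, Finset.sum_const_zero, zero_add, Finset.sum_const, smul_eq_mul]
  congr 1
  rw [Finset.filter_not, Finset.card_sdiff_of_subset (Finset.filter_subset _ _)]
  have h5 : (Finset.univ.filter fun x : Ω => x = c) = {c} := by
    ext x
    simp
  rw [h5, Finset.card_singleton, Finset.card_univ]

/-- Transitivity. -/
theorem exists_smul_eq (hZ : IsZassenhausGroup G Ω) {a b : Ω} (hab : a ≠ b) (c : Ω) :
    ∃ w : G, w • a = c := by
  obtain ⟨d, hd⟩ : ∃ d : Ω, d ≠ c := by
    by_cases hca : c = a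
    · exact ⟨b, by rw [hca]; exact hab.symm⟩
    · exact ⟨a, fun h => hca h.symm⟩
  obtain ⟨w, hw, -⟩ := two_trans hZ hab hd.symm
  exact ⟨w, hw⟩

/-- The order of the group. -/
theorem card_group (hZ : IsZassenhausGroup G Ω) {a b : Ω} (hab : a ≠ b) :
    Nat.card G = Fintype.card Ω * ((Fintype.card Ω - 1) *
      Nat.card ↥(MulAction.stabilizer G a ⊓ MulAction.stabilizer G b : Subgroup G)) := by
  classical
  have h1 : (Finset.univ : Finset G).card =
      ∑ c : Ω, (Finset.univ.filter fun g : G => g • a = c).card :=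
    Finset.card_eq_sum_card_fiberwise (fun _ _ => Finset.mem_coe.mpr (Finset.mem_univ _))
  have h2 : ∀ c : Ω, (Finset.univ.filter fun g : G => g • a = c).card =
      (Fintype.card Ω - 1) * Nat.card ↥(MulAction.stabilizer G a ⊓ MulAction.stabilizer G b : Subgroup G) := by
    intro c
    rw [← card_filter_one hZ hab a]
    obtain ⟨w, hw⟩ := exists_smul_eq hZ hab c
    apply Finset.card_nbij' (fun g => w⁻¹ * g) (fun g => w * g)
    · intro g hg
      simp only [Finset.coe_filter, Finset.mem_univ, true_and, Set.mem_ofPred_eq] at hg ⊢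
      rw [mul_smul, hg, ← hw, inv_smul_smul]
    · intro g hg
      simp only [Finset.coe_filter, Finset.mem_univ, true_and, Set.mem_ofPred_eq] at hg ⊢
      rw [mul_smul, hg, hw]
    · intro g _
      simp
    · intro g _
      simp
  rw [Nat.card_eq_fintype_card, ← Finset.card_univ, h1, Finset.sum_congr rfl fun c _ => h2 c,
    Finset.sum_const, smul_eq_mul, Finset.card_univ]

open scoped Classical in
/-- The number of fixed points. -/
noncomputable def fix (g : G) (Ω : Type*) [MulAction G Ω] [Fintype Ω] : ℕ := (Finset.univ.filter fun c : Ω => g • c = c).card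

theorem fix_le_two (hZ : IsZassenhausGroup G Ω) {g : G} (hg : g ≠ 1) : fix g Ω ≤ 2 := by
  classical
  by_contra hcon
  push Not at hcon
  simp only [fix] at hcon
  obtain ⟨x, hx, y, hy, z, hz, hxy, hxz, hyz⟩ := Finset.two_lt_card.mp hcon
  simp only [Finset.mem_filter, Finset.mem_univ, true_and] at hx hy hz
  exact hg (eq_one_of_three hZ hxy hyz hxz hx hy hz)

theorem fix_one : fix (1 : G) Ω = Fintype.card Ω := by
  classical
  simp [fix, Finset.card_univ]

/-- First moment. -/
theorem sum_fix (hZ : IsZassenhausGroup G Ω) {a b : Ω} (hab : a ≠ b) :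
    ∑ g : G, fix g Ω = Nat.card G := by
  classical
  simp only [fix, Finset.card_filter]
  rw [Finset.sum_comm]
  rw [card_group hZ hab]
  have h : ∀ c : Ω, ∑ g : G, (if g • c = c then 1 else 0) = (Fintype.card Ω - 1) *
      Nat.card ↥(MulAction.stabilizer G a ⊓ MulAction.stabilizer G b : Subgroup G) := by
    intro c
    rw [← card_filter_one hZ hab c, Finset.card_filter]
  rw [Finset.sum_congr rfl fun c _ => h c, Finset.sum_const, smul_eq_mul, Finset.card_univ]

/-- Second moment. -/
theorem sum_fix_sq (hZ : IsZassenhausGroup G Ω) {a b : Ω} (hab : a ≠ b) :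
    ∑ g : G, fix g Ω ^ 2 = 2 * Nat.card G := by
  classical
  have h1 : ∀ g : G, fix g Ω ^ 2 = ∑ c : Ω, ∑ d : Ω, if g • c = c ∧ g • d = d then 1 else 0 := by
    intro g
    simp only [fix, Finset.card_filter, sq, Finset.sum_mul_sum]
    refine Finset.sum_congr rfl fun c _ => Finset.sum_congr rfl fun d _ => ?_
    by_cases h3 : g • c = c <;> by_cases h4 : g • d = d <;> simp [h3, h4]
  simp only [h1]
  rw [Finset.sum_comm]
  have h2 : ∀ c : Ω, ∑ g : G, ∑ d : Ω, (if g • c = c ∧ g • d = d then 1 else 0) =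
      (Fintype.card Ω - 1) * Nat.card ↥(MulAction.stabilizer G a ⊓ MulAction.stabilizer G b : Subgroup G) * 2 := by
    intro c
    rw [Finset.sum_comm]
    have h3 : ∀ d : Ω, ∑ g : G, (if g • c = c ∧ g • d = d then 1 else 0) =
        if d = c then (Fintype.card Ω - 1) * Nat.card ↥(MulAction.stabilizer G a ⊓ MulAction.stabilizer G b : Subgroup G)
        else Nat.card ↥(MulAction.stabilizer G a ⊓ MulAction.stabilizer G b : Subgroup G) := by
      intro d
      split_ifs with h
      · rw [h, ← card_filter_one hZ hab c, Finset.card_filter]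
        refine Finset.sum_congr rfl fun g _ => ?_
        by_cases h4 : g • c = c <;> simp [h4]
      · rw [← card_filter_two hZ hab (Ne.symm h), Finset.card_filter]
    rw [Finset.sum_congr rfl fun d _ => h3 d, Finset.sum_ite, Finset.sum_const, Finset.sum_const, smul_eq_mul,
      smul_eq_mul]
    have h5 : (Finset.univ.filter fun x : Ω => x = c) = {c} := by
      ext x
      simp
    rw [h5, Finset.filter_not, Finset.card_sdiff_of_subset (Finset.filter_subset _ _), h5,
      Finset.card_singleton, Finset.card_univ]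
    ring
  rw [Finset.sum_congr rfl fun c _ => h2 c, Finset.sum_const, smul_eq_mul, Finset.card_univ, card_group hZ hab]
  ring

open scoped Classical in
/-- Number of non-identity elements with exactly `k` fixed points. -/
noncomputable def numFix (G Ω : Type*) [Group G] [Fintype G] [MulAction G Ω] [Fintype Ω] (k : ℕ) : ℕ :=
  (Finset.univ.filter fun g : G => g ≠ 1 ∧ fix g Ω = k).card

/-- The counting equations. -/
theorem count_eqs (hZ : IsZassenhausGroup G Ω) {a b : Ω} (hab : a ≠ b) :
    numFix G Ω 0 + numFix G Ω 1 + numFix G Ω 2 + 1 = Nat.card G ∧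
    Fintype.card Ω + numFix G Ω 1 + 2 * numFix G Ω 2 = Nat.card G ∧
    Fintype.card Ω ^ 2 + numFix G Ω 1 + 4 * numFix G Ω 2 = 2 * Nat.card G := by
  classical
  have hsplit : ∀ (F : ℕ → ℕ), ∑ g : G, F (fix g Ω) = F (Fintype.card Ω) + numFix G Ω 0 * F 0 +
      numFix G Ω 1 * F 1 + numFix G Ω 2 * F 2 := by
    intro F
    rw [← Finset.add_sum_erase Finset.univ _ (Finset.mem_univ (1 : G)), fix_one]
    have h1 : ∑ g ∈ Finset.univ.erase (1 : G), F (fix g Ω) =
        ∑ g ∈ Finset.univ.erase (1 : G), ((if fix g Ω = 0 then F 0 else 0) + (if fix g Ω = 1 then F 1 else 0) +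
          (if fix g Ω = 2 then F 2 else 0)) := by
      refine Finset.sum_congr rfl fun g hg => ?_
      have hg1 : g ≠ 1 := Finset.ne_of_mem_erase hg
      have h2 := fix_le_two hZ hg1
      interval_cases h3 : fix g Ω <;> simp
    rw [h1, Finset.sum_add_distrib, Finset.sum_add_distrib]
    have h4 : ∀ k, ∑ g ∈ Finset.univ.erase (1 : G), (if fix g Ω = k then F k else 0) = numFix G Ω k * F k := by
      intro k
      rw [← Finset.sum_filter, Finset.sum_const, smul_eq_mul]
      congr 2
      ext g
      simp only [Finset.mem_filter, Finset.mem_erase, Finset.mem_univ, and_true]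
      tauto
    rw [h4, h4, h4]
    ring
  have e1 := hsplit (fun k => k)
  have e2 := hsplit (fun k => k ^ 2)
  have e3 := hsplit (fun _ => 1)
  simp only [mul_zero, add_zero, mul_one] at e1
  norm_num at e2 e3
  rw [sum_fix hZ hab] at e1
  rw [sum_fix_sq hZ hab] at e2
  rw [← Nat.card_eq_fintype_card] at e3
  refine ⟨by omega, by omega, by omega⟩

/-- The number of elements fixing no point. -/
theorem numFix_zero (hZ : IsZassenhausGroup G Ω) {a b : Ω} (hab : a ≠ b) {h e : ℕ} (hh : Fintype.card Ω = h + 1)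
    (he : Nat.card ↥(MulAction.stabilizer G a ⊓ MulAction.stabilizer G b : Subgroup G) = e) :
    2 * numFix G Ω 0 = h * ((h + 1) * (e - 1) + 2) ∧ numFix G Ω 1 = (h + 1) * (h - 1) ∧
    2 * numFix G Ω 2 = (h + 1) * h * (e - 1) := by
  obtain ⟨e1, e2, e3⟩ := count_eqs hZ hab
  have hcard := card_group hZ hab
  rw [hh, he] at hcard
  simp only [Nat.add_sub_cancel] at hcard
  rw [hcard] at e1 e2 e3
  rw [hh] at e2 e3
  have hepos : 0 < e := by
    rw [← he]
    exact Nat.card_pos
  obtain ⟨e', rfl⟩ : ∃ e', e = e' + 1 := ⟨e - 1, by omega⟩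
  have hhpos : 0 < h := by
    have := (exists_third hZ hab)
    obtain ⟨c, hc1, hc2⟩ := this
    have h3 : 2 < Fintype.card Ω := Fintype.two_lt_card_iff.mpr ⟨a, b, c, hab, hc1.symm, hc2.symm⟩
    omega
  obtain ⟨h', rfl⟩ : ∃ h', h = h' + 1 := ⟨h - 1, by omega⟩
  simp only [Nat.add_sub_cancel]
  constructor
  · nlinarith
  constructor
  · nlinarith
  · nlinarith

theorem fix_eq_zero_iff {g : G} : fix g Ω = 0 ↔ ∀ c : Ω, g • c ≠ c := by
  classical
  simp only [fix, Finset.card_eq_zero, Finset.filter_eq_empty_iff, Finset.mem_univ, true_imp_iff]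

theorem card_gt_two (hZ : IsZassenhausGroup G Ω) {a b : Ω} (hab : a ≠ b) : 2 < Fintype.card Ω := by
  obtain ⟨c, hc1, hc2⟩ := exists_third hZ hab
  exact Fintype.two_lt_card_iff.mpr ⟨a, b, c, hab, hc1.symm, hc2.symm⟩

theorem two_le_card_two_stab (hZ : IsZassenhausGroup G Ω) {a b : Ω} (hab : a ≠ b) :
    2 ≤ Nat.card ↥(MulAction.stabilizer G a ⊓ MulAction.stabilizer G b : Subgroup G) := by
  obtain ⟨g, hg, hga, hgb⟩ := exists_ne_one_fix hZ hab
  by_contra hcon
  have h1 : Nat.card ↥(MulAction.stabilizer G a ⊓ MulAction.stabilizer G b : Subgroup G) = 1 := by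
    have : 0 < Nat.card ↥(MulAction.stabilizer G a ⊓ MulAction.stabilizer G b : Subgroup G) := Nat.card_pos
    omega
  have h2 := Subgroup.eq_bot_of_card_eq _ h1
  have h3 : g ∈ (MulAction.stabilizer G a ⊓ MulAction.stabilizer G b : Subgroup G) := ⟨hga, hgb⟩
  rw [h2] at h3
  exact hg h3

/-- Two non-conjugate fixed-point-free elements exist. -/
theorem exists_nonconj_fpf (hZ : IsZassenhausGroup G Ω) {a b : Ω} (hab : a ≠ b)
    (hodd : Odd (Nat.card ↥(MulAction.stabilizer G a ⊓ MulAction.stabilizer G b : Subgroup G))) :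
    ∃ x y : G, (∀ c : Ω, x • c ≠ c) ∧ (∀ c : Ω, y • c ≠ c) ∧ ¬ IsConj x y := by
  classical
  by_contra hcon
  push Not at hcon
  set e := Nat.card ↥(MulAction.stabilizer G a ⊓ MulAction.stabilizer G b : Subgroup G) with he
  have he2 : 2 ≤ e := two_le_card_two_stab hZ hab
  obtain ⟨k, hk⟩ := hodd
  have hk1 : 1 ≤ k := by omega
  obtain ⟨h, hh⟩ : ∃ h, Fintype.card Ω = h + 1 := ⟨Fintype.card Ω - 1, by
    have := card_gt_two hZ hab
    omega⟩
  have hn := card_gt_two hZ hab
  have hh2 : 2 ≤ h := by omega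
  obtain ⟨h1, -, -⟩ := numFix_zero hZ hab hh he.symm
  have hN : numFix G Ω 0 = h * ((h + 1) * k + 1) := by
    have : e - 1 = 2 * k := by omega
    rw [this] at h1
    nlinarith
  have hNpos : 0 < numFix G Ω 0 := by
    rw [hN]
    positivity
  obtain ⟨x, hx⟩ := Finset.card_pos.mp hNpos
  simp only [Finset.mem_filter, Finset.mem_univ, true_and] at hx
  have hxf := fix_eq_zero_iff.mp hx.2
  have hclass : Nat.card {y : G // IsConj x y} = numFix G Ω 0 := by
    rw [Nat.card_eq_fintype_card, Fintype.card_subtype]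
    congr 1
    ext y
    simp only [Finset.mem_filter, Finset.mem_univ, true_and]
    constructor
    · intro hc
      obtain ⟨w, hw⟩ := isConj_iff.mp hc
      have hyf : ∀ c : Ω, y • c ≠ c := by
        intro c hc'
        apply hxf (w⁻¹ • c)
        rw [← hw] at hc'
        simp only [mul_smul] at hc'
        rw [← smul_left_cancel_iff w, hc', smul_inv_smul]
      refine ⟨?_, fix_eq_zero_iff.mpr hyf⟩
      rintro rfl
      exact hx.1 (isConj_one_right.mp hc.symm)
    · rintro ⟨-, hy⟩
      exact hcon x y hxf (fix_eq_zero_iff.mp hy)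
  have hmul := card_conj_mul_card_centralizer x
  rw [hclass, hN, card_group hZ hab, hh, ← he] at hmul
  simp only [Nat.add_sub_cancel] at hmul
  set c := Nat.card ↥(Subgroup.centralizer ({x} : Set G)) with hc
  have hhpos : 0 < h := by omega
  have h2 : ((h + 1) * k + 1) * c = (h + 1) * e := by
    apply Nat.eq_of_mul_eq_mul_left hhpos
    rw [← mul_assoc, hmul]
    ring
  have hcop : Nat.Coprime ((h + 1) * k + 1) (h + 1) := by
    simp
  have h3 : ((h + 1) * k + 1) ∣ e := hcop.dvd_of_dvd_mul_left ⟨c, h2.symm⟩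
  have h4 := Nat.le_of_dvd (by omega) h3
  rw [hk] at h4
  nlinarith

end Cfsg.Agent.Lib.Char.Zass
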