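import Cfsg.Agent.Lib.Char.ZassSetup

/-!
# Zassenhaus groups with odd two-point stabilizers: the basic data.
-/

set_option autoImplicit false

namespace Cfsg.Agent.Lib.Char.Zass

open Cfsg Cfsg.Agent.Lib.Char
open scoped ComplexConjugate

/-- The data attached to a Zassenhaus group with two-point stabilizer of odd order, together with
a kernel of the stabilizer of a point. -/
structure KData (G Ω : Type*) [Group G] [Fintype G] [MulAction G Ω] [Fintype Ω] where
  hZ : IsZassenhausGroup G Ω
  a : Ω
  b : Ω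
  hab : a ≠ b
  hodd : Odd (Nat.card ↥(MulAction.stabilizer G a ⊓ MulAction.stabilizer G b : Subgroup G))
  t : G
  ht3 : t * t = 1
  hta : t • a = b
  htb : t • b = a
  H : Subgroup G
  hHcard : Nat.card H + 1 = Fintype.card Ω
  hHa : H ≤ MulAction.stabilizer G a
  hHfix : ∀ u ∈ H, u ≠ 1 → ∀ c : Ω, u • c = c → c = a

namespace KData

variable {G Ω : Type*} [Group G] [Fintype G] [MulAction G Ω] [Fintype Ω] (D : KData G Ω)

/-- The stabilizer of the first point. -/
abbrev S : Subgroup G := MulAction.stabilizer G D.a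

/-- The two-point stabilizer. -/
abbrev E : Subgroup G := MulAction.stabilizer G D.a ⊓ MulAction.stabilizer G D.b

noncomputable instance instFintypeS : Fintype D.S := Fintype.ofFinite _
noncomputable instance instFintypeE : Fintype D.E := Fintype.ofFinite _

theorem t_inv : D.t⁻¹ = D.t := inv_eq_of_mul_eq_one_left D.ht3

theorem mem_S {g : G} : g ∈ D.S ↔ g • D.a = D.a := Iff.rfl

theorem mem_E {g : G} : g ∈ D.E ↔ g • D.a = D.a ∧ g • D.b = D.b := Iff.rfl

theorem E_le_S : D.E ≤ D.S := inf_le_left

theorem card_pos_E : (Nat.card D.E : ℂ) ≠ 0 := by exact_mod_cast Nat.card_pos.ne'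

theorem h_pos : 0 < Nat.card D.H := Nat.card_pos

theorem card_S : Nat.card D.S = Nat.card D.H * Nat.card D.E := by
  classical
  have h1 := card_filter_one D.hZ D.hab D.a
  have h2 : Nat.card D.S = (Finset.univ.filter fun g : G => g • D.a = D.a).card := by
    rw [Nat.card_eq_fintype_card, ← Fintype.card_subtype]
    apply Fintype.card_congr
    exact Equiv.subtypeEquivRight fun g => Iff.rfl
  rw [h2, h1, ← D.hHcard]
  simp

theorem card_G : Nat.card G = Fintype.card Ω * (Nat.card D.H * Nat.card D.E) := by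
  have h1 := card_group D.hZ D.hab
  rw [← D.hHcard] at h1 ⊢
  simpa using h1

theorem inner_ind (μ μ' : D.S → ℂ) (hμ : IsClassFunction D.S μ) (hμ' : IsClassFunction D.S μ') :
    classInner (indFun D.S μ) (indFun D.S μ') = classInner μ μ' +
      (Nat.card D.E : ℂ)⁻¹ * ∑ x : D.E, extendByZero D.S μ x *
        conj (extendByZero D.S μ' (D.t * (x : G) * D.t)) := by
  have h1 := classInner_ind_ind_two D.S μ μ' hμ hμ' D.t (fun x hx =>
    exists_double_coset D.hab D.hHcard D.hHa D.hHfix D.hta hx)
  rw [h1]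
  congr 1
  have hc : ((Nat.card G - Nat.card D.S : ℂ) / (Nat.card D.S : ℂ) ^ 2) = (Nat.card D.E : ℂ)⁻¹ := by
    have hE := D.card_pos_E
    have hH : (Nat.card D.H : ℂ) ≠ 0 := by exact_mod_cast Nat.card_pos.ne'
    rw [D.card_G, D.card_S, ← D.hHcard]
    push_cast
    field_simp
    ring
  rw [hc]
  congr 1
  rw [D.t_inv]
  have h2 := sum_subgroup_of_support D.E_le_S
    (fun g => extendByZero D.S μ g * conj (extendByZero D.S μ' (D.t * g * D.t))) (by
      intro g hg hgE
      have hnot : D.t * g * D.t ∉ D.S := by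
        intro hc
        apply hgE
        refine ⟨hg, ?_⟩
        have h3 : (D.t * g * D.t) • D.a = D.a := hc
        rw [mul_smul, mul_smul, D.hta, ← D.htb, smul_left_cancel_iff] at h3
        have h4 : D.b = D.t • D.a := D.hta.symm
        show g • D.b = D.b
        exact h3
      rw [extendByZero_of_notMem D.S μ' hnot]
      simp)
  refine Eq.trans ?_ h2
  refine Finset.sum_congr rfl fun g _ => ?_
  rw [extendByZero_coe]

/-- The sum over the stabilizer in terms of the sum over the two-point stabilizer. -/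
theorem sum_S (F : G → ℂ) (hF : ∀ u ∈ D.H, ∀ x ∈ D.E, F (u * x) = F x) :
    ∑ s : D.S, F s = (Nat.card D.H : ℂ) * ∑ x : D.E, F x := by
  classical
  haveI : Fintype D.H := Fintype.ofFinite _
  let φ : D.H × D.E → D.S := fun p => ⟨p.1 * p.2, D.S.mul_mem (D.hHa p.1.2) (D.E_le_S p.2.2)⟩
  have hφ : Function.Bijective φ := by
    constructor
    · rintro ⟨u, x⟩ ⟨u', x'⟩ h
      have h1 : (u : G) * x = u' * x' := congrArg Subtype.val h
      have h2 : (u' : G)⁻¹ * u = x' * (x : G)⁻¹ := by
        calc (u' : G)⁻¹ * u = (u' : G)⁻¹ * (u * x) * (x : G)⁻¹ := by group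
          _ = x' * (x : G)⁻¹ := by rw [h1]; group
      have hH : (u' : G)⁻¹ * u ∈ D.H := D.H.mul_mem (D.H.inv_mem u'.2) u.2
      have hE : (u' : G)⁻¹ * u ∈ D.E := by
        rw [h2]
        exact D.E.mul_mem x'.2 (D.E.inv_mem x.2)
      have h3 : (u' : G)⁻¹ * u = 1 := by
        by_contra hne
        exact D.hab (D.hHfix _ hH hne D.b hE.2).symm
      have h4 : (u : G) = u' := by
        have := h3
        rw [inv_mul_eq_one] at this
        exact this.symm
      have h5 : (x : G) = x' := by
        rw [h4] at h1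
        exact mul_left_cancel h1
      simp only [Prod.mk.injEq]
      exact ⟨Subtype.ext h4, Subtype.ext h5⟩
    · rintro ⟨s, hs⟩
      obtain ⟨u, hu, x, hxa, hxb, rfl⟩ := exists_kernel_mul D.hab D.hHcard D.hHa D.hHfix hs
      exact ⟨(⟨u, hu⟩, ⟨x, hxa, hxb⟩), rfl⟩
  rw [← hφ.sum_comp (fun s : D.S => F s), Fintype.sum_prod_type]
  have h1 : ∀ u : D.H, ∑ x : D.E, F (φ (u, x)) = ∑ x : D.E, F x := fun u =>
    Finset.sum_congr rfl fun x _ => hF u u.2 x x.2
  rw [Finset.sum_congr rfl fun u _ => h1 u, Finset.sum_const, Finset.card_univ,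
    ← Nat.card_eq_fintype_card, nsmul_eq_mul]

end KData

end Cfsg.Agent.Lib.Char.Zass
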