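import Cfsg.Agent.Lib.Char.ZassNoInv
import Cfsg.Agent.S0035
import Cfsg.Agent.Lib.OddLocal.FrobComp

/-!
# Zassenhaus groups with odd two-point stabilizers: the transposition acts freely.
-/

set_option autoImplicit false

namespace Cfsg.Agent.Lib.Char.Zass

open Cfsg Cfsg.Agent.Lib.Char
open scoped ComplexConjugate Pointwise

section Kernel

variable {G Ω : Type*} [Group G] [Fintype G] [MulAction G Ω] [Fintype Ω]

/-- The stabilizer of a point has a Frobenius kernel. -/
theorem exists_kernel (hZ : IsZassenhausGroup G Ω) {a b : Ω} (hab : a ≠ b) :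
    ∃ H : Subgroup G, Nat.card H + 1 = Fintype.card Ω ∧ H ≤ MulAction.stabilizer G a ∧
      ∀ u ∈ H, u ≠ 1 → ∀ c : Ω, u • c = c → c = a := by
  classical
  let S : Subgroup G := MulAction.stabilizer G a
  let E' : Subgroup G := MulAction.stabilizer G a ⊓ MulAction.stabilizer G b
  let K : Subgroup S := E'.subgroupOf S
  have hmemK : ∀ s : S, s ∈ K ↔ (s : G) • b = b := by
    intro s
    constructor
    · intro h
      exact (Subgroup.mem_subgroupOf.mp h).2
    · intro h
      exact Subgroup.mem_subgroupOf.mpr ⟨s.2, h⟩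
  have hconj : ∀ (w v : S), v ∈ MulAut.conj w • K ↔ ((w : G)⁻¹ * v * w) • b = b := by
    intro w v
    rw [Subgroup.mem_pointwise_smul_iff_inv_smul_mem, hmemK]
    have : (((MulAut.conj w)⁻¹ • v : S) : G) = (w : G)⁻¹ * v * w := by
      simp [MulAut.smul_def]
    rw [this]
  have hK : IsFrobeniusComplement K := by
    refine ⟨?_, ?_, ?_⟩
    · intro h
      obtain ⟨x, hx1, hxa, hxb⟩ := exists_ne_one_fix hZ hab
      have h1 : (⟨x, hxa⟩ : S) ∈ K := (hmemK _).mpr hxb
      rw [h, Subgroup.mem_bot] at h1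
      exact hx1 (congrArg Subtype.val h1)
    · intro h
      obtain ⟨c, hca, hcb⟩ := exists_third hZ hab
      obtain ⟨w, hw1, hw2⟩ := two_trans hZ hab (Ne.symm hca)
      have h1 : (⟨w, hw1⟩ : S) ∈ K := by
        rw [h]
        trivial
      have h2 := (hmemK _).mp h1
      apply hcb
      rw [← hw2]
      exact h2
    · intro g hg
      rw [Subgroup.eq_bot_iff_forall]
      rintro x ⟨hx1, hx2⟩
      have hgb : (g : G) • b ≠ b := fun h => hg ((hmemK g).mpr h)
      have hga : (g : G) • a = a := g.2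
      have hxb : (x : G) • b = b := (hmemK x).mp hx1
      have hxa : (x : G) • a = a := x.2
      have hxc : ((g : G)⁻¹ * x * g) • b = b := (hconj g x).mp (by exact hx2)
      have hxc' : (x : G) • ((g : G) • b) = (g : G) • b := by
        rw [mul_smul, mul_smul, inv_smul_eq_iff] at hxc
        exact hxc
      have hgba : (g : G) • b ≠ a := by
        intro h
        apply hab
        have : (g : G) • b = (g : G) • a := by rw [h, hga]
        exact (smul_left_cancel _ this).symm
      apply Subtype.ext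
      exact eq_one_of_three hZ hab hgb.symm hgba.symm hxa hxb hxc'
  obtain ⟨N, hNset, -, hcomp⟩ := Cfsg.Agent.S0035.result K hK
  refine ⟨N.map S.subtype, ?_, ?_, ?_⟩
  · have h1 : Nat.card (N.map S.subtype) = Nat.card N :=
      Nat.card_congr (N.equivMapOfInjective S.subtype S.subtype_injective).symm.toEquiv
    have h2 := hcomp.card_mul_card
    have h3 : Nat.card K = Nat.card E' :=
      Nat.card_congr (Subgroup.subgroupOfEquivOfLe (inf_le_left : E' ≤ S)).toEquiv
    have h4 : Nat.card S = (Fintype.card Ω - 1) * Nat.card E' := by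
      rw [← card_filter_one hZ hab a, Nat.card_eq_fintype_card, ← Fintype.card_subtype]
      apply Fintype.card_congr
      exact Equiv.subtypeEquivRight fun g => Iff.rfl
    rw [h3, h4] at h2
    have h5 : Nat.card N = Fintype.card Ω - 1 := Nat.eq_of_mul_eq_mul_right Nat.card_pos h2
    have h6 := card_gt_two hZ hab
    rw [h1, h5]
    omega
  · rintro _ ⟨v, -, rfl⟩
    exact v.2
  · rintro _ ⟨v, hv, rfl⟩ hv1 c hc
    have hv' : v ∈ frobeniusKernel K := by
      rw [← hNset]
      exact hv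
    rcases hv' with h | h
    · exact absurd (congrArg Subtype.val h) hv1
    · by_contra hca
      obtain ⟨w, hw1, hw2⟩ := two_trans hZ hab (Ne.symm hca)
      apply h ⟨w, hw1⟩
      rw [hconj]
      rw [mul_smul, mul_smul, inv_smul_eq_iff, hw2]
      exact hc

end Kernel

section Abstract

/-- On a cyclic normal subgroup, conjugation is a power map. -/
theorem exists_power_map {A : Type*} [Group A] (C : Subgroup A) [hC : IsCyclic C] (hn : C.Normal)
    (x : A) : ∃ r : ℤ, ∀ w ∈ C, x * w * x⁻¹ = w ^ r := by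
  obtain ⟨c, hc⟩ := hC.exists_generator
  have h1 : x * (c : A) * x⁻¹ ∈ C := hn.conj_mem _ c.2 x
  obtain ⟨r, hr⟩ := hc ⟨_, h1⟩
  have hr' : (c : A) ^ r = x * (c : A) * x⁻¹ := by
    have := congrArg Subtype.val hr
    simpa using this
  refine ⟨r, fun w hw => ?_⟩
  obtain ⟨k, hk⟩ := hc ⟨w, hw⟩
  have hk' : (c : A) ^ k = w := by
    have := congrArg Subtype.val hk
    simpa using this
  rw [← hk', ← zpow_mul, mul_comm, zpow_mul, hr']
  simp only [conj_zpow]

/-- An involutory automorphism inverting the abelianization of a Z-group of odd order is fixed-point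
free. -/
theorem free_of_inverting {A : Type*} [Group A] [Finite A] [IsZGroup A] (hodd : Odd (Nat.card A))
    (τ : A →* A) (hτ : ∀ x, τ (τ x) = x) (hinv : ∀ x, x * τ x ∈ commutator A) {z : A}
    (hz : τ z = z) : z = 1 := by
  classical
  haveI hcyc : IsCyclic (commutator A) := IsZGroup.isCyclic_commutator A
  have hnorm : (commutator A).Normal := inferInstance
  have hτC : ∀ w ∈ commutator A, τ w ∈ commutator A := by
    intro w hw
    have h1 : (commutator A).map τ ≤ commutator A := by
      rw [commutator_def, Subgroup.map_commutator]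
      exact Subgroup.commutator_mono le_top le_top
    exact h1 (Subgroup.mem_map_of_mem _ hw)
  have hab : ∀ w ∈ commutator A, ∀ v ∈ commutator A, w * v = v * w := by
    intro w hw v hv
    letI := IsCyclic.commGroup (α := commutator A)
    have h := mul_comm (⟨w, hw⟩ : commutator A) ⟨v, hv⟩
    exact congrArg Subtype.val h
  have key : ∀ x : A, ∀ w ∈ commutator A, τ x * w * (τ x)⁻¹ = x * w * x⁻¹ := by
    intro x w hw
    obtain ⟨r, hr⟩ := exists_power_map (commutator A) hnorm x
    have h1 : τ (x * τ w * x⁻¹) = τ x * w * (τ x)⁻¹ := by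
      rw [map_mul, map_mul, map_inv, hτ]
    rw [← h1, hr _ (hτC w hw), map_zpow, hτ, hr w hw]
  have hcomm : ∀ x : A, ∀ w ∈ commutator A, x * w = w * x := by
    intro x w hw
    have hv := hinv x
    have h1 : τ x = x⁻¹ * (x * τ x) := by group
    have h2 := key x w hw
    have h3 : τ x * w * (τ x)⁻¹ = x⁻¹ * w * x := by
      calc τ x * w * (τ x)⁻¹ = x⁻¹ * (x * τ x) * w * (x⁻¹ * (x * τ x))⁻¹ := by rw [← h1]
        _ = x⁻¹ * ((x * τ x) * w) * (x * τ x)⁻¹ * x := by group
        _ = x⁻¹ * (w * (x * τ x)) * (x * τ x)⁻¹ * x := by rw [hab _ hv w hw]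
        _ = x⁻¹ * w * x := by group
    have h4 : x⁻¹ * w * x = x * w * x⁻¹ := h3.symm.trans h2
    have h5 : w * (x * x) = (x * x) * w := by
      calc w * (x * x) = x * (x⁻¹ * w * x) * x := by group
        _ = x * (x * w * x⁻¹) * x := by rw [h4]
        _ = (x * x) * w := by group
    have h6 : Commute w (x * x) := h5
    obtain ⟨m, hm⟩ := hodd
    have h7 : x ^ (2 * m + 1) = 1 := by
      rw [← hm]
      exact pow_card_eq_one'
    have h8 : x = (x * x) ^ (m + 1) := by
      rw [← pow_two, ← pow_mul]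
      have : 2 * (m + 1) = (2 * m + 1) + 1 := by ring
      rw [this, pow_succ, h7, one_mul]
    have h9 : Commute w x := by
      rw [h8]
      exact h6.pow_right _
    exact h9.eq.symm
  have hnil : Group.IsNilpotent A := by
    rw [Subgroup.nilpotent_iff_lowerCentralSeries]
    refine ⟨2, ?_⟩
    rw [Subgroup.lowerCentralSeries_succ, Subgroup.top_lowerCentralSeries_one,
      Subgroup.commutator_eq_bot_iff_le_centralizer]
    intro w hw
    rw [Subgroup.mem_centralizer_iff]
    intro x _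
    exact hcomm x w hw
  haveI : IsCyclic A := inferInstance
  have hbot : commutator A = ⊥ := by
    rw [commutator_def, Subgroup.commutator_eq_bot_iff_le_centralizer]
    intro w _
    rw [Subgroup.mem_centralizer_iff]
    intro x _
    letI := IsCyclic.commGroup (α := A)
    exact mul_comm x w
  have h1 := hinv z
  rw [hz, hbot, Subgroup.mem_bot] at h1
  obtain ⟨m, hm⟩ := hodd
  have h7 : z ^ (2 * m + 1) = 1 := by
    rw [← hm]
    exact pow_card_eq_one'
  rw [pow_succ, pow_mul, pow_two, h1, one_pow, one_mul] at h7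
  exact h7

end Abstract

namespace KData

variable {G Ω : Type*} [Group G] [Fintype G] [MulAction G Ω] [Fintype Ω] (D : KData G Ω)

theorem kernel_mul_unique {u u' x x' : G} (hu : u ∈ D.H) (hu' : u' ∈ D.H) (hx : x ∈ D.E)
    (hx' : x' ∈ D.E) (h : u * x = u' * x') : x = x' := by
  have h2 : u'⁻¹ * u = x' * x⁻¹ := by
    calc u'⁻¹ * u = u'⁻¹ * (u * x) * x⁻¹ := by group
      _ = x' * x⁻¹ := by rw [h]; group
  have hH : u'⁻¹ * u ∈ D.H := D.H.mul_mem (D.H.inv_mem hu') hu
  have hE : u'⁻¹ * u ∈ D.E := by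
    rw [h2]
    exact D.E.mul_mem hx' (D.E.inv_mem hx)
  have h3 : u'⁻¹ * u = 1 := by
    by_contra hne
    exact D.hab (D.hHfix _ hH hne D.b hE.2).symm
  have h4 : u = u' := by
    rw [inv_mul_eq_one] at h3
    exact h3.symm
  rw [h4] at h
  exact mul_left_cancel h

theorem exists_decomp (s : D.S) : ∃ x : D.E, ∃ u ∈ D.H, (s : G) = u * x := by
  obtain ⟨u, hu, x, hxa, hxb, hs⟩ := exists_kernel_mul D.hab D.hHcard D.hHa D.hHfix s.2
  exact ⟨⟨x, hxa, hxb⟩, u, hu, hs⟩

/-- The retraction of the stabilizer onto the two-point stabilizer. -/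
noncomputable def rho : D.S →* D.E :=
  MonoidHom.mk' (fun s => (D.exists_decomp s).choose) (by
    intro s₁ s₂
    obtain ⟨u₁, hu₁, h₁⟩ := (D.exists_decomp s₁).choose_spec
    obtain ⟨u₂, hu₂, h₂⟩ := (D.exists_decomp s₂).choose_spec
    obtain ⟨u, hu, h⟩ := (D.exists_decomp (s₁ * s₂)).choose_spec
    set x₁ := (D.exists_decomp s₁).choose
    set x₂ := (D.exists_decomp s₂).choose
    set x := (D.exists_decomp (s₁ * s₂)).choose
    apply Subtype.ext
    have hx₁ : (x₁ : G) • D.a = D.a := x₁.2.1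
    have hc : (x₁ : G) * u₂ * (x₁ : G)⁻¹ ∈ D.H :=
      conj_mem_kernel D.hZ D.hHcard D.hHa D.hHfix hx₁ hu₂
    refine D.kernel_mul_unique hu (D.H.mul_mem hu₁ hc) x.2 (D.E.mul_mem x₁.2 x₂.2) ?_
    rw [← h]
    show (s₁ : G) * s₂ = _
    rw [h₁, h₂]
    push_cast
    group)

theorem rho_mul {u x : G} (hu : u ∈ D.H) (hx : x ∈ D.E) (s : D.S) (hs : (s : G) = u * x) :
    (D.rho s : G) = x := by
  obtain ⟨u', hu', h⟩ := (D.exists_decomp s).choose_spec
  exact D.kernel_mul_unique hu' hu (D.exists_decomp s).choose.2 hx (h.symm.trans hs)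

theorem rho_of_mem (x : D.E) : D.rho ⟨x, D.E_le_S x.2⟩ = x := by
  apply Subtype.ext
  exact D.rho_mul D.H.one_mem x.2 _ (by simp)

theorem rho_of_kernel (s : D.S) (hs : (s : G) ∈ D.H) : D.rho s = 1 := by
  apply Subtype.ext
  exact D.rho_mul hs D.E.one_mem _ (by simp)

/-- Every character of `E` lifts to the stabilizer. -/
noncomputable def lift (ν : D.E →* ℂˣ) : D.S →* ℂˣ := ν.comp D.rho

theorem ff_lift (ν : D.E →* ℂˣ) (x : D.E) : D.ff (D.lift ν) x = ν x := by
  rw [D.ff_of_mem _ (D.E_le_S x.2)]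
  show ((ν (D.rho ⟨x, D.E_le_S x.2⟩) : ℂˣ) : ℂ) = _
  rw [D.rho_of_mem]

theorem lift_kernel (ν : D.E →* ℂˣ) (s : D.S) (hs : (s : G) ∈ D.H) : D.lift ν s = 1 := by
  show ν (D.rho s) = 1
  rw [D.rho_of_kernel s hs, map_one]

theorem conjE_conjE (x : D.E) : D.conjE (D.conjE x) = x := by
  apply Subtype.ext
  show D.t * (D.t * x * D.t) * D.t = x
  calc D.t * (D.t * x * D.t) * D.t = (D.t * D.t) * x * (D.t * D.t) := by group
    _ = x := by rw [D.ht3]; group

/-- Every character of `E` is inverted by `t`. -/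
theorem hom_mul_conj [IsSimpleGroup G] (ν : D.E →* ℂˣ) (x : D.E) : ν (x * D.conjE x) = 1 := by
  by_contra hcon
  let ν' : D.E →* ℂˣ := ν * ν.comp D.conjE
  have hν' : ∀ y : D.E, ν' y = ν (y * D.conjE y) := by
    intro y
    simp [ν', map_mul]
  have hne : ∃ y : D.E, D.ff (D.lift ν') y ≠ 1 := by
    refine ⟨x, ?_⟩
    rw [D.ff_lift]
    intro h
    apply hcon
    rw [← hν']
    exact Units.ext h
  obtain ⟨y, hy⟩ := D.exists_not_invariant (D.lift ν') (D.lift_kernel ν') hne
  apply hy
  have h1 : D.t * (y : G) * D.t = ((D.conjE y : D.E) : G) := rfl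
  rw [h1, D.ff_lift, D.ff_lift, hν', hν', D.conjE_conjE, map_mul, map_mul, mul_comm]

theorem mem_commutator_of_forall_hom {A : Type*} [Group A] [Finite A] {q : A}
    (h : ∀ φ : A →* ℂˣ, φ q = 1) : q ∈ commutator A := by
  by_contra hq
  have hne : (Abelianization.of q : Abelianization A) ≠ 1 := by
    intro h1
    exact hq ((QuotientGroup.eq_one_iff q).mp h1)
  obtain ⟨ξ, hξ⟩ := CommGroup.exists_apply_ne_one_of_hasEnoughRootsOfUnity (Abelianization A) ℂ hne
  exact hξ (h (ξ.comp Abelianization.of))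

theorem isZGroup_E : IsZGroup D.E := by
  classical
  refine ⟨fun p hp P => ?_⟩
  haveI : Fact p.Prime := ⟨hp⟩
  let K : Subgroup D.S := D.H.subgroupOf D.S
  haveI hKn : K.Normal := by
    constructor
    intro k hk g
    show (((g * k * g⁻¹ : D.S)) : G) ∈ D.H
    have : (((g * k * g⁻¹ : D.S)) : G) = (g : G) * k * (g : G)⁻¹ := rfl
    rw [this]
    exact conj_mem_kernel D.hZ D.hHcard D.hHa D.hHfix g.2 hk
  have hK : K ≠ ⊥ := by
    intro h
    have h1 := card_gt_two D.hZ D.hab
    have h2 := D.hHcard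
    have h3 : 1 < Nat.card D.H := by omega
    haveI : Nontrivial D.H := Finite.one_lt_card_iff_nontrivial.mp h3
    obtain ⟨u, hu⟩ := exists_ne (1 : D.H)
    have h4 : (⟨u, D.hHa u.2⟩ : D.S) ∈ K := Subgroup.mem_subgroupOf.mpr u.2
    rw [h, Subgroup.mem_bot] at h4
    apply hu
    apply Subtype.ext
    have h5 : ((⟨u, D.hHa u.2⟩ : D.S) : G) = ((1 : D.S) : G) := congrArg Subtype.val h4
    exact h5
  let φ : D.E →* D.S := Subgroup.inclusion D.E_le_S
  have hφ : Function.Injective φ := Subgroup.inclusion_injective _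
  let T : Subgroup D.S := (P : Subgroup D.E).map φ
  have hT : IsPGroup p T := P.isPGroup'.map φ
  have hTP : (P : Subgroup D.E) ≃* T := (P : Subgroup D.E).equivMapOfInjective φ hφ
  have hfpf : ∀ h ∈ T, h ≠ 1 → K ⊓ Subgroup.centralizer {h} = ⊥ := by
    rintro _ ⟨y, -, rfl⟩ hy
    rw [Subgroup.eq_bot_iff_forall]
    rintro k ⟨hk1, hk2⟩
    have hk2' : k ∈ Subgroup.centralizer {φ y} := hk2
    rw [Subgroup.mem_centralizer_singleton_iff] at hk2'
    have hy1 : (y : G) ≠ 1 := by
      intro h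
      apply hy
      apply Subtype.ext
      exact h
    apply Subtype.ext
    refine kernel_fpf D.hZ D.hab D.hHa D.hHfix y.2.1 y.2.2 hy1 hk1 ?_
    exact (congrArg Subtype.val hk2').symm
  rcases Cfsg.Agent.Lib.OddLocal.cyclic_or_quaternion_of_fpf hK hT hfpf with h | ⟨n, ⟨e⟩⟩
  · exact isCyclic_of_surjective hTP.symm hTP.symm.surjective
  · exfalso
    have h1 : Nat.card T = Nat.card (QuaternionGroup (2 ^ n)) := Nat.card_congr e.toEquiv
    rw [Nat.card_eq_fintype_card (α := QuaternionGroup (2 ^ n)), QuaternionGroup.card] at h1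
    have h2 : Nat.card T ∣ Nat.card D.E := by
      rw [← Nat.card_congr hTP.toEquiv]
      exact Subgroup.card_subgroup_dvd_card _
    obtain ⟨m, hm⟩ := D.hodd
    rw [h1, hm] at h2
    have h3 : 2 ∣ 2 * m + 1 := Dvd.dvd.trans (Dvd.intro_left (2 * 2 ^ n) (by ring)) h2
    omega

/-- The transposition acts without fixed points on the two-point stabilizer. -/
theorem hfree [IsSimpleGroup G] : ∀ z : G, z • D.a = D.a → z • D.b = D.b → D.t * z = z * D.t → z = 1 := by
  intro z hza hzb hzt
  haveI := D.isZGroup_E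
  have h1 : D.conjE ⟨z, hza, hzb⟩ = ⟨z, hza, hzb⟩ := by
    apply Subtype.ext
    show D.t * z * D.t = z
    rw [hzt, mul_assoc, D.ht3, mul_one]
  have h2 := free_of_inverting D.hodd D.conjE D.conjE_conjE (fun x =>
    mem_commutator_of_forall_hom (fun φ => D.hom_mul_conj φ x)) h1
  exact congrArg Subtype.val h2

end KData

end Cfsg.Agent.Lib.Char.Zass
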