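import Cfsg.Agent.Lib.Char.ZassCount
import Mathlib.GroupTheory.Perm.Cycle.Type

/-!
# Zassenhaus groups with two-point stabilizers of odd order: involutions.
-/

set_option autoImplicit false

namespace Cfsg.Agent.Lib.Char.Zass

open Cfsg

variable {G Ω : Type*} [Group G] [Fintype G] [MulAction G Ω] [Fintype Ω]

/-- An element conjugating a non-identity element of `E` into `E` permutes `{a, b}`. -/
theorem perm_of_conj (hZ : IsZassenhausGroup G Ω) {a b : Ω} (hab : a ≠ b) {g x : G}
    (hxa : x • a = a) (hxb : x • b = b) (hx1 : x ≠ 1)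
    (hca : (g * x * g⁻¹) • a = a) (hcb : (g * x * g⁻¹) • b = b) :
    (g • a = a ∧ g • b = b) ∨ (g • a = b ∧ g • b = a) := by
  have hne : g * x * g⁻¹ ≠ 1 := by
    intro h
    apply hx1
    have : x = g⁻¹ * (g * x * g⁻¹) * g := by group
    rw [this, h]; group
  have hfa : (g * x * g⁻¹) • (g • a) = g • a := by
    rw [mul_smul, mul_smul, inv_smul_smul, hxa]
  have hfb : (g * x * g⁻¹) • (g • b) = g • b := by
    rw [mul_smul, mul_smul, inv_smul_smul, hxb]
  have hgab : g • a ≠ g • b := fun h => hab (smul_left_cancel _ h)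
  have cases_of : ∀ c : Ω, (g * x * g⁻¹) • c = c → c = a ∨ c = b := by
    intro c hc
    by_contra hcon
    push Not at hcon
    exact hne (eq_one_of_three hZ hab hcon.2.symm hcon.1.symm hca hcb hc)
  rcases cases_of _ hfa with h1 | h1 <;> rcases cases_of _ hfb with h2 | h2
  · exact absurd (h1.trans h2.symm) hgab
  · exact Or.inl ⟨h1, h2⟩
  · exact Or.inr ⟨h1, h2⟩
  · exact absurd (h1.trans h2.symm) hgab

/-- An element of the two-point stabilizer has order dividing `e`. -/
theorem pow_card_two_stab {a b : Ω} {x : G} (hxa : x • a = a) (hxb : x • b = b) :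
    x ^ Nat.card ↥(MulAction.stabilizer G a ⊓ MulAction.stabilizer G b : Subgroup G) = 1 := by
  have := pow_card_eq_one' (x := (⟨x, hxa, hxb⟩ : ↥(MulAction.stabilizer G a ⊓ MulAction.stabilizer G b : Subgroup G)))
  exact congrArg Subtype.val this

/-- There is an involution interchanging the two points. -/
theorem exists_swap_inv (hZ : IsZassenhausGroup G Ω) {a b : Ω} (hab : a ≠ b)
    (hodd : Odd (Nat.card ↥(MulAction.stabilizer G a ⊓ MulAction.stabilizer G b : Subgroup G))) :
    ∃ t : G, t • a = b ∧ t • b = a ∧ t * t = 1 := by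
  obtain ⟨w, hw1, hw2⟩ := two_trans hZ hab hab.symm
  obtain ⟨k, hk⟩ := hodd
  set e := Nat.card ↥(MulAction.stabilizer G a ⊓ MulAction.stabilizer G b : Subgroup G) with he
  have hwa : (w * w) • a = a := by rw [mul_smul, hw1, hw2]
  have hwb : (w * w) • b = b := by rw [mul_smul, hw2, hw1]
  have hpa : ∀ j : ℕ, ((w * w) ^ j) • a = a := by
    intro j
    induction j with
    | zero => simp
    | succ j ih => rw [pow_succ, mul_smul, hwa, ih]
  have hpb : ∀ j : ℕ, ((w * w) ^ j) • b = b := by
    intro j
    induction j with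
    | zero => simp
    | succ j ih => rw [pow_succ, mul_smul, hwb, ih]
  have hcomm : w ^ e = (w * w) ^ k * w := by
    rw [hk, pow_succ, pow_mul, sq]
  refine ⟨w ^ e, ?_, ?_, ?_⟩
  · rw [hcomm, mul_smul, hw1, hpb]
  · rw [hcomm, mul_smul, hw2, hpa]
  · rw [← pow_add, ← two_mul, pow_mul, sq]
    exact pow_card_two_stab hwa hwb

/-- An involution fixes at most one point. -/
theorem fix_inv_le_one (hZ : IsZassenhausGroup G Ω) {a b : Ω} (hab : a ≠ b)
    (hodd : Odd (Nat.card ↥(MulAction.stabilizer G a ⊓ MulAction.stabilizer G b : Subgroup G)))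
    {x : G} (hx1 : x ≠ 1) (hx : x * x = 1) : fix x Ω ≤ 1 := by
  classical
  by_contra hcon
  push Not at hcon
  simp only [fix] at hcon
  obtain ⟨p, hp, q, hq, hpq⟩ := Finset.one_lt_card.mp hcon
  simp only [Finset.mem_filter, Finset.mem_univ, true_and] at hp hq
  have h1 := pow_card_two_stab hp hq
  rw [card_two_stab hZ hab hpq] at h1
  obtain ⟨k, hk⟩ := hodd
  rw [hk, pow_succ, pow_mul, sq, hx, one_pow, one_mul] at h1
  exact hx1 h1

/-- Parity of the number of fixed points. -/
theorem fix_inv_parity {x : G} (hx : x * x = 1) : Fintype.card Ω ≡ fix x Ω [MOD 2] := by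
  classical
  haveI : Fact (Nat.Prime 2) := ⟨Nat.prime_two⟩
  let f : Function.End Ω := fun c => x • c
  have hf : f ^ 2 ^ 1 = 1 := by
    funext c
    show x • (x • c) = c
    rw [← mul_smul, hx, one_smul]
  have h1 := Equiv.Perm.card_fixedPoints_modEq hf
  have h2 : Fintype.card (Function.fixedPoints f) = fix x Ω := by
    rw [fix, ← Fintype.card_subtype]
    apply Fintype.card_congr
    exact Equiv.subtypeEquivRight fun c => Iff.rfl
  rwa [h2] at h1

/-- The number of fixed points of an involution. -/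
theorem fix_inv_eq (hZ : IsZassenhausGroup G Ω) {a b : Ω} (hab : a ≠ b)
    (hodd : Odd (Nat.card ↥(MulAction.stabilizer G a ⊓ MulAction.stabilizer G b : Subgroup G)))
    {x : G} (hx1 : x ≠ 1) (hx : x * x = 1) {h : ℕ} (hh : Fintype.card Ω = h + 1) :
    fix x Ω = if Even h then 1 else 0 := by
  have h1 := fix_inv_le_one hZ hab hodd hx1 hx
  have h2 := fix_inv_parity (Ω := Ω) hx
  rw [hh] at h2
  unfold Nat.ModEq at h2
  split_ifs with he
  · obtain ⟨r, hr⟩ := he
    omega
  · rw [Nat.not_even_iff] at he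
    omega

section Free

variable {a b : Ω} {t : G}

/-- The structure theorem: if `t` acts without fixed points on `E`, it inverts `E`. -/
theorem inverts_of_free (ht3 : t * t = 1)
    (hta : t • a = b) (htb : t • b = a)
    (hfree : ∀ z : G, z • a = a → z • b = b → t * z = z * t → z = 1) {y : G}
    (hya : y • a = a) (hyb : y • b = b) : t * y * t = y⁻¹ := by
  classical
  set E : Subgroup G := MulAction.stabilizer G a ⊓ MulAction.stabilizer G b with hE
  have htE : ∀ x ∈ E, t * x * t ∈ E := by
    intro x hx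
    have hxa : x • a = a := hx.1
    have hxb : x • b = b := hx.2
    constructor
    · show (t * x * t) • a = a
      rw [mul_smul, mul_smul, hta, hxb, htb]
    · show (t * x * t) • b = b
      rw [mul_smul, mul_smul, htb, hxa, hta]
  let f : E → E := fun x => ⟨x.1⁻¹ * (t * x.1 * t), E.mul_mem (E.inv_mem x.2) (htE _ x.2)⟩
  have hinj : Function.Injective f := by
    intro x w hxw
    have h1 : x.1⁻¹ * (t * x.1 * t) = w.1⁻¹ * (t * w.1 * t) := congrArg Subtype.val hxw
    have h2 : w.1 * x.1⁻¹ = t * (w.1 * x.1⁻¹) * t := by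
      have h3 : t * (w.1 * x.1⁻¹) * t = (t * w.1 * t) * (t * x.1⁻¹ * t) := by
        calc t * (w.1 * x.1⁻¹) * t = t * w.1 * (t * t) * x.1⁻¹ * t := by
              rw [ht3]; group
          _ = _ := by group
      rw [h3]
      have h4 : t * x.1⁻¹ * t = (t * x.1 * t)⁻¹ := by
        rw [mul_inv_rev, mul_inv_rev]
        have htinv : t⁻¹ = t := inv_eq_of_mul_eq_one_left ht3
        rw [htinv]
        group
      rw [h4]
      have h5 : t * w.1 * t = w.1 * (x.1⁻¹ * (t * x.1 * t)) := by
        rw [h1]
        group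
      rw [h5]
      group
    have h6 : t * (w.1 * x.1⁻¹) = (w.1 * x.1⁻¹) * t := by
      calc t * (w.1 * x.1⁻¹) = t * (w.1 * x.1⁻¹) * (t * t) := by rw [ht3, mul_one]
        _ = (t * (w.1 * x.1⁻¹) * t) * t := by group
        _ = _ := by rw [← h2]
    have h7 : w.1 * x.1⁻¹ ∈ E := E.mul_mem w.2 (E.inv_mem x.2)
    have h8 := hfree _ h7.1 h7.2 h6
    apply Subtype.ext
    rw [mul_inv_eq_one] at h8
    exact h8.symm
  have hsurj := Finite.surjective_of_injective hinj
  obtain ⟨x, hx⟩ := hsurj ⟨y, hya, hyb⟩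
  have hy : y = x.1⁻¹ * (t * x.1 * t) := (congrArg Subtype.val hx).symm
  rw [hy]
  have htinv : t⁻¹ = t := inv_eq_of_mul_eq_one_left ht3
  have e1 : t * (x.1⁻¹ * (t * x.1 * t)) * t = t * x.1⁻¹ * t * x.1 * (t * t) := by
    simp only [mul_assoc]
  have e2 : (x.1⁻¹ * (t * x.1 * t))⁻¹ = t * x.1⁻¹ * t * x.1 := by
    rw [mul_inv_rev, mul_inv_rev, mul_inv_rev, htinv, inv_inv]
    simp only [mul_assoc]
  rw [e1, ht3, mul_one, e2]

/-- The number of involutions interchanging `a` and `b`. -/
theorem card_inv_swap (ht3 : t * t = 1) (hta : t • a = b) (htb : t • b = a)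
    (hfree : ∀ z : G, z • a = a → z • b = b → t * z = z * t → z = 1) :
    open scoped Classical in
    (Finset.univ.filter fun x : G => x * x = 1 ∧ x • a = b).card =
      Nat.card ↥(MulAction.stabilizer G a ⊓ MulAction.stabilizer G b : Subgroup G) := by
  classical
  rw [Nat.card_eq_fintype_card, ← Fintype.card_subtype]
  apply Fintype.card_congr
  refine ⟨fun x => ⟨x.1 * t, ?_, ?_⟩, fun y => ⟨y.1 * t, ?_, ?_⟩, ?_, ?_⟩
  · show (x.1 * t) • a = a
    have h1 : x.1 • (x.1 • a) = a := by
      rw [← mul_smul, x.2.1, one_smul]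
    rw [x.2.2] at h1
    rw [mul_smul, hta, h1]
  · show (x.1 * t) • b = b
    rw [mul_smul, htb, x.2.2]
  · have hya : y.1 • a = a := y.2.1
    have hyb : y.1 • b = b := y.2.2
    have := inverts_of_free ht3 hta htb hfree hya hyb
    calc y.1 * t * (y.1 * t) = y.1 * (t * y.1 * t) := by group
      _ = 1 := by rw [this]; group
  · have hyb : y.1 • b = b := y.2.2
    rw [mul_smul, hta, hyb]
  · intro x
    apply Subtype.ext
    show x.1 * t * t = x.1
    rw [mul_assoc, ht3, mul_one]
  · intro y
    apply Subtype.ext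
    show y.1 * t * t = y.1
    rw [mul_assoc, ht3, mul_one]

/-- The number of involutions sending `p` to `q`. -/
theorem card_inv_send (hZ : IsZassenhausGroup G Ω) (hab : a ≠ b) (ht3 : t * t = 1) (hta : t • a = b) (htb : t • b = a)
    (hfree : ∀ z : G, z • a = a → z • b = b → t * z = z * t → z = 1) {p q : Ω} (hpq : p ≠ q) :
    open scoped Classical in
    (Finset.univ.filter fun x : G => x * x = 1 ∧ x • p = q).card =
      Nat.card ↥(MulAction.stabilizer G a ⊓ MulAction.stabilizer G b : Subgroup G) := by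
  classical
  rw [← card_inv_swap ht3 hta htb hfree]
  obtain ⟨w, hw1, hw2⟩ := two_trans hZ hab hpq
  apply Finset.card_nbij' (fun x => w⁻¹ * x * w) (fun x => w * x * w⁻¹)
  · intro x hx
    simp only [Finset.coe_filter, Finset.mem_univ, true_and, Set.mem_ofPred_eq] at hx ⊢
    constructor
    · calc w⁻¹ * x * w * (w⁻¹ * x * w) = w⁻¹ * (x * x) * w := by group
        _ = 1 := by rw [hx.1]; group
    · rw [mul_smul, mul_smul, hw1, hx.2, ← hw2, inv_smul_smul]
  · intro x hx
    simp only [Finset.coe_filter, Finset.mem_univ, true_and, Set.mem_ofPred_eq] at hx ⊢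
    constructor
    · calc w * x * w⁻¹ * (w * x * w⁻¹) = w * (x * x) * w⁻¹ := by group
        _ = 1 := by rw [hx.1]; group
    · rw [mul_smul, mul_smul, ← hw1, inv_smul_smul, hx.2, hw2]
  · intro x _
    group
  · intro x _
    group

/-- The total number of involutions. -/
theorem card_inv (hZ : IsZassenhausGroup G Ω) (hab : a ≠ b)
    (hodd : Odd (Nat.card ↥(MulAction.stabilizer G a ⊓ MulAction.stabilizer G b : Subgroup G)))
    (ht3 : t * t = 1) (hta : t • a = b) (htb : t • b = a)
    (hfree : ∀ z : G, z • a = a → z • b = b → t * z = z * t → z = 1) {h e : ℕ}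
    (hh : Fintype.card Ω = h + 1)
    (he : Nat.card ↥(MulAction.stabilizer G a ⊓ MulAction.stabilizer G b : Subgroup G) = e) :
    Nat.card {x : G // orderOf x = 2} = if Even h then e * (h + 1) else e * h := by
  classical
  set I := (Finset.univ.filter fun x : G => orderOf x = 2) with hI
  have hcard : Nat.card {x : G // orderOf x = 2} = I.card := by
    rw [Nat.card_eq_fintype_card, Fintype.card_subtype]
  have hord : ∀ x : G, orderOf x = 2 ↔ x * x = 1 ∧ x ≠ 1 := by
    intro x
    constructor
    · intro hx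
      refine ⟨?_, ?_⟩
      · rw [← sq, ← hx]
        exact pow_orderOf_eq_one x
      · rintro rfl
        simp at hx
    · rintro ⟨h1, h2⟩
      apply orderOf_eq_prime (by rw [sq]; exact h1) h2
  -- double count
  have h1 : ∀ p : Ω, (I.filter fun x : G => x • p ≠ p).card = h * e := by
    intro p
    have hmaps : ∀ x ∈ (I.filter fun x : G => x • p ≠ p), x • p ∈ (Finset.univ.filter fun q : Ω => q ≠ p) := by
      intro x hx
      simp only [Finset.mem_filter, Finset.mem_univ, true_and]
      exact (Finset.mem_filter.mp hx).2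
    rw [Finset.card_eq_sum_card_fiberwise (f := fun x : G => x • p) hmaps]
    have h2 : ∀ q ∈ (Finset.univ.filter fun q : Ω => q ≠ p),
        ((I.filter fun x : G => x • p ≠ p).filter fun x : G => x • p = q).card = e := by
      intro q hq
      have hqp : q ≠ p := (Finset.mem_filter.mp hq).2
      rw [← he, ← card_inv_send hZ hab ht3 hta htb hfree (Ne.symm hqp)]
      congr 1
      ext x
      simp only [Finset.mem_filter, Finset.mem_univ, true_and, hI, hord]
      constructor
      · rintro ⟨⟨⟨h3, -⟩, -⟩, h4⟩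
        exact ⟨h3, h4⟩
      · rintro ⟨h3, h4⟩
        have h5 : x ≠ 1 := by
          rintro rfl
          apply hqp
          rw [← h4, one_smul]
        exact ⟨⟨⟨h3, h5⟩, by rw [h4]; exact hqp⟩, h4⟩
    rw [Finset.sum_congr rfl h2, Finset.sum_const, smul_eq_mul]
    congr 1
    rw [Finset.filter_not, Finset.card_sdiff_of_subset (Finset.filter_subset _ _)]
    have h5 : (Finset.univ.filter fun x : Ω => x = p) = {p} := by
      ext x
      simp
    rw [h5, Finset.card_singleton, Finset.card_univ, hh]
    simp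
  have h2 : ∑ x ∈ I, (Finset.univ.filter fun p : Ω => x • p ≠ p).card =
      ∑ p : Ω, (I.filter fun x : G => x • p ≠ p).card :=
    Finset.sum_card_bipartiteAbove_eq_sum_card_bipartiteBelow _
  have h3 : ∀ x ∈ I, (Finset.univ.filter fun p : Ω => x • p ≠ p).card = h + 1 - (if Even h then 1 else 0) := by
    intro x hx
    have hx' := (hord x).mp (Finset.mem_filter.mp hx).2
    rw [← fix_inv_eq hZ hab hodd hx'.2 hx'.1 hh, ← hh, Finset.filter_not,
      Finset.card_sdiff_of_subset (Finset.filter_subset _ _), Finset.card_univ]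
    simp only [fix]
  rw [Finset.sum_congr rfl h3, Finset.sum_congr rfl fun p _ => h1 p, Finset.sum_const, Finset.sum_const,
    smul_eq_mul, smul_eq_mul, Finset.card_univ, hh] at h2
  rw [hcard]
  have hhpos : 0 < h := by
    have := card_gt_two hZ hab
    omega
  split_ifs at h2 ⊢ with hev
  · simp only [Nat.add_sub_cancel] at h2
    apply Nat.eq_of_mul_eq_mul_right hhpos
    rw [h2]
    ring
  · simp only [Nat.sub_zero] at h2
    apply Nat.eq_of_mul_eq_mul_right (show 0 < h + 1 by omega)
    rw [h2]
    ring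

/-- All involutions are conjugate. -/
theorem inv_isConj (hZ : IsZassenhausGroup G Ω) (hab : a ≠ b)
    (hodd : Odd (Nat.card ↥(MulAction.stabilizer G a ⊓ MulAction.stabilizer G b : Subgroup G)))
    (ht3 : t * t = 1) (hta : t • a = b) (htb : t • b = a) {x : G} (hx : x * x = 1) (hx1 : x ≠ 1) :
    IsConj x t := by
  classical
  haveI := hZ.1
  -- `x` moves a point
  obtain ⟨p, hp⟩ : ∃ p : Ω, x • p ≠ p := by
    by_contra hcon
    push Not at hcon
    apply hx1
    apply FaithfulSMul.eq_of_smul_eq_smul (α := Ω)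
    intro c
    rw [hcon c, one_smul]
  obtain ⟨w, hw1, hw2⟩ := two_trans hZ hab (Ne.symm hp : p ≠ x • p)
  set x' := w⁻¹ * x * w with hx'
  have hx'a : x' • a = b := by
    rw [hx', mul_smul, mul_smul, hw1, ← hw2, inv_smul_smul]
  have hx'x' : x' * x' = 1 := by
    calc x' * x' = w⁻¹ * (x * x) * w := by rw [hx']; group
      _ = 1 := by rw [hx]; group
  have hx'b : x' • b = a := by
    rw [← hx'a, ← mul_smul, hx'x', one_smul]
  set y := x' * t with hy
  have hya : y • a = a := by rw [hy, mul_smul, hta, hx'b]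
  have hyb : y • b = b := by rw [hy, mul_smul, htb, hx'a]
  have htinv : t⁻¹ = t := inv_eq_of_mul_eq_one_left ht3
  have hx'inv : x'⁻¹ = x' := inv_eq_of_mul_eq_one_left hx'x'
  have hytyt : t * y * t = y⁻¹ := by
    rw [hy, mul_inv_rev, htinv, hx'inv]
    calc t * (x' * t) * t = t * x' * (t * t) := by group
      _ = t * x' := by rw [ht3, mul_one]
  obtain ⟨k, hk⟩ := hodd
  have hyorder : y ^ (2 * k + 1) = 1 := by
    rw [← hk]
    exact pow_card_two_stab hya hyb
  set r := y ^ (k + 1) with hr
  have hr2 : r * r = y := by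
    rw [hr, ← pow_add]
    have : k + 1 + (k + 1) = (2 * k + 1) + 1 := by ring
    rw [this, pow_succ, hyorder, one_mul]
  have htr : t * r * t = r⁻¹ := by
    rw [hr]
    have : ∀ j : ℕ, t * y ^ j * t = (y⁻¹) ^ j := by
      intro j
      induction j with
      | zero => simp [ht3]
      | succ j ih =>
        calc t * y ^ (j + 1) * t = (t * y ^ j * t) * (t * y * t) := by
              rw [pow_succ]
              calc t * (y ^ j * y) * t = t * y ^ j * (t * t) * y * t := by rw [ht3]; group
                _ = _ := by group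
          _ = (y⁻¹) ^ (j + 1) := by rw [ih, hytyt, pow_succ]
    rw [this, inv_pow]
  have hconj : r * t * r⁻¹ = x' := by
    have h1 : r * t * r⁻¹ = r * (t * r⁻¹ * t) * t := by
      calc r * t * r⁻¹ = r * t * r⁻¹ * (t * t) := by rw [ht3, mul_one]
        _ = _ := by group
    have h2 : t * r⁻¹ * t = r := by
      have : (t * r * t)⁻¹ = t * r⁻¹ * t := by
        rw [mul_inv_rev, mul_inv_rev, htinv]
        group
      rw [← this, htr, inv_inv]
    rw [h1, h2, hr2, hy]
    calc x' * t * t = x' * (t * t) := by group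
      _ = x' := by rw [ht3, mul_one]
  have h5 : IsConj t x' := isConj_iff.mpr ⟨r, hconj⟩
  have h6 : IsConj x' x := isConj_iff.mpr ⟨w, by rw [hx']; group⟩
  exact (h5.trans h6).symm

end Free

end Cfsg.Agent.Lib.Char.Zass
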