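import Cfsg.Agent.Lib.Char.ZassData
import Cfsg.Agent.Lib.Char.Coset
import Cfsg.Agent.Lib.Char.Linear

/-!
# Zassenhaus groups with odd two-point stabilizers: linear characters of the stabilizer.
-/

set_option autoImplicit false

namespace Cfsg.Agent.Lib.Char.Zass

open Cfsg Cfsg.Agent.Lib.Char
open scoped ComplexConjugate

namespace KData

variable {G Ω : Type*} [Group G] [Fintype G] [MulAction G Ω] [Fintype Ω] (D : KData G Ω)
  (lam : D.S →* ℂˣ)

/-- The character of the stabilizer, as a function. -/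
def mu : D.S → ℂ := fun s => (lam s : ℂ)

/-- The character of the stabilizer, extended to the whole group. -/
noncomputable def ff : G → ℂ := extendByZero D.S (D.mu lam)

theorem ff_of_mem {g : G} (hg : g ∈ D.S) : D.ff lam g = lam ⟨g, hg⟩ :=
  extendByZero_of_mem D.S _ hg

theorem ff_coe (s : D.S) : D.ff lam s = lam s := extendByZero_coe D.S _ s

theorem ff_mul {g h : G} (hg : g ∈ D.S) (hh : h ∈ D.S) :
    D.ff lam (g * h) = D.ff lam g * D.ff lam h := by
  rw [D.ff_of_mem lam hg, D.ff_of_mem lam hh, D.ff_of_mem lam (D.S.mul_mem hg hh), ← Units.val_mul,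
    ← map_mul]
  rfl

theorem ff_one : D.ff lam 1 = 1 := by
  rw [D.ff_of_mem lam D.S.one_mem]
  have : (⟨1, D.S.one_mem⟩ : D.S) = 1 := rfl
  rw [this, map_one]
  rfl

theorem ff_ne_zero {g : G} (hg : g ∈ D.S) : D.ff lam g ≠ 0 := by
  rw [D.ff_of_mem lam hg]
  exact Units.ne_zero _

theorem ff_pow {g : G} (hg : g ∈ D.S) (n : ℕ) : D.ff lam (g ^ n) = D.ff lam g ^ n := by
  induction n with
  | zero => simp [ff_one]
  | succ k ih => rw [pow_succ, pow_succ, D.ff_mul lam (D.S.pow_mem hg k) hg, ih]

theorem ff_norm {g : G} (hg : g ∈ D.S) : ‖D.ff lam g‖ = 1 := by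
  have h1 : D.ff lam g ^ orderOf g = 1 := by
    rw [← ff_pow D lam hg, pow_orderOf_eq_one, ff_one]
  exact Complex.norm_eq_one_of_pow_eq_one h1 (orderOf_pos g).ne'

theorem ff_mul_conj {g : G} (hg : g ∈ D.S) : D.ff lam g * conj (D.ff lam g) = 1 := by
  rw [Complex.mul_conj, Complex.normSq_eq_norm_sq, ff_norm D lam hg]
  simp

theorem isIrr_mu : IsIrrCharacter D.S (D.mu lam) := isIrrCharacter_of_monoidHom lam

theorem isClass_mu : IsClassFunction D.S (D.mu lam) :=
  IsCharacter.isClassFunction (IsIrrCharacter.isCharacter (D.isIrr_mu lam))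

/-- An odd power argument: `ff` on the two-point stabilizer has odd order. -/
theorem ff_eq_one_of_sq {x : G} (hx : x ∈ D.E) (h : D.ff lam x ^ 2 = 1) : D.ff lam x = 1 := by
  obtain ⟨k, hk⟩ := D.hodd
  have h1 : x ^ Nat.card D.E = 1 := pow_card_two_stab hx.1 hx.2
  have h2 : D.ff lam x ^ Nat.card D.E = 1 := by
    rw [← ff_pow D lam (D.E_le_S hx), h1, ff_one]
  rw [hk, pow_succ, pow_mul, h, one_pow, one_mul] at h2
  exact h2

/-- The restriction of the character to the two-point stabilizer. -/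
def lamE : D.E →* ℂˣ := lam.comp (Subgroup.inclusion D.E_le_S)

theorem lamE_apply (x : D.E) : ((D.lamE lam x : ℂˣ) : ℂ) = D.ff lam x := by
  rw [D.ff_of_mem lam (D.E_le_S x.2)]
  rfl

/-- Conjugation by `t` on the two-point stabilizer. -/
theorem conj_mem {x : G} (hx : x ∈ D.E) : D.t * x * D.t ∈ D.E := by
  constructor
  · show (D.t * x * D.t) • D.a = D.a
    rw [mul_smul, mul_smul, D.hta, hx.2, D.htb]
  · show (D.t * x * D.t) • D.b = D.b
    rw [mul_smul, mul_smul, D.htb, hx.1, D.hta]

/-- Conjugation by `t` as an endomorphism of `E`. -/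
def conjE : D.E →* D.E where
  toFun x := ⟨D.t * x * D.t, D.conj_mem x.2⟩
  map_one' := by
    apply Subtype.ext
    simp [D.ht3]
  map_mul' x y := by
    apply Subtype.ext
    show D.t * (x * y : G) * D.t = (D.t * x * D.t) * (D.t * y * D.t)
    calc D.t * (x * y : G) * D.t = D.t * x * 1 * y * D.t := by group
      _ = D.t * x * (D.t * D.t) * y * D.t := by rw [D.ht3]
      _ = (D.t * x * D.t) * (D.t * y * D.t) := by group

theorem sum_ff_eq_zero (hne : ∃ x : D.E, D.ff lam x ≠ 1) : ∑ x : D.E, D.ff lam x = 0 := by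
  classical
  let g : D.E →* ℂ := (Units.coeHom ℂ).comp (D.lamE lam)
  have hg : g ≠ 1 := by
    intro h
    obtain ⟨x, hx⟩ := hne
    apply hx
    have := congrArg (fun φ : D.E →* ℂ => φ x) h
    simp only [g, MonoidHom.comp_apply, Units.coeHom_apply, D.lamE_apply, MonoidHom.one_apply] at this
    exact this
  have := sum_hom_units_eq_zero g hg
  simpa [g, D.lamE_apply] using this

/-- The twisted sum vanishes when the character is not invariant. -/
theorem sum_twist_eq_zero (hne : ∃ x : D.E, D.ff lam x ≠ D.ff lam (D.t * x * D.t)) :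
    ∑ x : D.E, D.ff lam x * conj (D.ff lam (D.t * x * D.t)) = 0 := by
  classical
  let ν : D.E →* ℂˣ := D.lamE lam * ((D.lamE lam).comp D.conjE)⁻¹
  let g : D.E →* ℂ := (Units.coeHom ℂ).comp ν
  have hν : ∀ x : D.E, ((ν x : ℂˣ) : ℂ) = D.ff lam x * conj (D.ff lam (D.t * x * D.t)) := by
    intro x
    have h1 : (((D.lamE lam).comp D.conjE x : ℂˣ) : ℂ) = D.ff lam (D.t * x * D.t) := by
      rw [MonoidHom.comp_apply, lamE_apply]
      rfl
    have h2 := D.ff_mul_conj lam (D.E_le_S (D.conj_mem x.2))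
    simp only [ν, MonoidHom.mul_apply, MonoidHom.inv_apply, Units.val_mul, Units.val_inv_eq_inv_val,
      h1, lamE_apply]
    congr 1
    exact inv_eq_of_mul_eq_one_right h2
  have hg : g ≠ 1 := by
    intro h
    obtain ⟨x, hx⟩ := hne
    apply hx
    have h3 := congrArg (fun φ : D.E →* ℂ => φ x) h
    simp only [g, MonoidHom.comp_apply, Units.coeHom_apply, hν, MonoidHom.one_apply] at h3
    have h2 := D.ff_mul_conj lam (D.E_le_S (D.conj_mem x.2))
    calc D.ff lam x = D.ff lam x * (D.ff lam (D.t * x * D.t) * conj (D.ff lam (D.t * x * D.t))) := by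
          rw [h2, mul_one]
      _ = (D.ff lam x * conj (D.ff lam (D.t * x * D.t))) * D.ff lam (D.t * x * D.t) := by ring
      _ = D.ff lam (D.t * x * D.t) := by rw [h3, one_mul]
  have := sum_hom_units_eq_zero g hg
  simpa [g, hν] using this

/-- The norm of the induced character. -/
theorem inner_self :
    classInner (indFun D.S (D.mu lam)) (indFun D.S (D.mu lam)) =
      1 + (Nat.card D.E : ℂ)⁻¹ * ∑ x : D.E, D.ff lam x * conj (D.ff lam (D.t * x * D.t)) := by
  rw [D.inner_ind _ _ (D.isClass_mu lam) (D.isClass_mu lam), classInner_irr_self (D.isIrr_mu lam)]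
  rfl

/-- The induced character when the character is not invariant is irreducible. -/
theorem isIrr_ind_of_not_invariant (hne : ∃ x : D.E, D.ff lam x ≠ D.ff lam (D.t * x * D.t)) :
    IsIrrCharacter G (indFun D.S (D.mu lam)) := by
  have h1 := D.inner_self lam
  rw [D.sum_twist_eq_zero lam hne, mul_zero, add_zero] at h1
  have hch : IsCharacter G (indFun D.S (D.mu lam)) :=
    isCharacter_indFun D.S (IsIrrCharacter.isCharacter (D.isIrr_mu lam))
  apply isIrrCharacter_of_norm_le_one hch
  · intro h0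
    rw [classInner_self_eq_sum_normSq] at h1
    have h2 : ((Nat.card G : ℝ)⁻¹ * ∑ g : G, ‖indFun D.S (D.mu lam) g‖ ^ 2) = 1 := by
      exact_mod_cast h1
    rw [indFun_one] at h0
    have h3 : (D.S.index : ℂ) ≠ 0 := by
      have : D.S.index ≠ 0 := Subgroup.index_ne_zero_of_finite
      exact_mod_cast this
    have h4 : D.mu lam 1 = 1 := by
      simp [mu]
    rw [h4, mul_one] at h0
    exact h3 h0
  · rw [classInner_self_eq_sum_normSq] at h1
    have h2 : ((Nat.card G : ℝ)⁻¹ * ∑ g : G, ‖indFun D.S (D.mu lam) g‖ ^ 2) = 1 := by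
      exact_mod_cast h1
    exact h2.le

/-- The value of the induced function at a fixed-point-free element. -/
theorem ind_of_fpf (θ : D.S → ℂ) {g : G} (hg : ∀ c : Ω, g • c ≠ c) : indFun D.S θ g = 0 := by
  rw [indFun_apply]
  have : ∀ x : G, extendByZero D.S θ (x⁻¹ * g * x) = 0 := by
    intro x
    apply extendByZero_of_notMem
    intro h
    have h1 : (x⁻¹ * g * x) • D.a = D.a := h
    rw [mul_smul, mul_smul, inv_smul_eq_iff] at h1
    exact hg _ h1
  simp [this]

/-- The value of the induced character at a nonidentity element of the kernel. -/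
theorem ind_of_kernel (hH : ∀ s : D.S, (s : G) ∈ D.H → lam s = 1) {u : G} (hu : u ∈ D.H) (hu1 : u ≠ 1) :
    indFun D.S (D.mu lam) u = 1 := by
  classical
  rw [indFun_apply]
  have h1 : ∀ x : G, extendByZero D.S (D.mu lam) (x⁻¹ * u * x) = if x ∈ D.S then 1 else 0 := by
    intro x
    split_ifs with hx
    · have h2 : x⁻¹ * u * x ∈ D.H := by
        have := conj_mem_kernel D.hZ D.hHcard D.hHa D.hHfix (g := x⁻¹) (D.S.inv_mem hx) hu
        simpa using this
      have h3 : x⁻¹ * u * x ∈ D.S := D.hHa h2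
      rw [extendByZero_of_mem D.S _ h3]
      simp [mu, hH ⟨_, h3⟩ h2]
    · apply extendByZero_of_notMem
      intro h
      apply hx
      have h2 : (x⁻¹ * u * x) • D.a = D.a := h
      rw [mul_smul, mul_smul, inv_smul_eq_iff] at h2
      have h3 := D.hHfix u hu hu1 _ h2
      exact h3
  simp only [h1, Finset.sum_ite, Finset.sum_const_zero, add_zero, Finset.sum_const, smul_eq_mul, mul_one,
    nsmul_eq_mul]
  have h4 : ((Finset.univ.filter fun x : G => x ∈ D.S).card : ℂ) = (Nat.card D.S : ℂ) := by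
    congr 1
    rw [Nat.card_eq_fintype_card, ← Fintype.card_subtype]
  rw [h4]
  have hS : (Nat.card D.S : ℂ) ≠ 0 := by exact_mod_cast Nat.card_pos.ne'
  field_simp

end KData

end Cfsg.Agent.Lib.Char.Zass
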