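import Cfsg.Agent.Lib.Char.ZassInv
import Cfsg.Agent.Lib.Char.TI
import Cfsg.Agent.Lib.Char.Coset
import Cfsg.Agent.Lib.Char.Linear

/-!
# Mackey's formula for two double cosets and its application to induced linear characters.
-/

set_option autoImplicit false

namespace Cfsg.Agent.Lib.Char.Zass

open Cfsg Cfsg.Agent.Lib.Char
open scoped ComplexConjugate

section Mackey

variable {G : Type*} [Group G] [Fintype G] (S : Subgroup G) [Fintype S]

theorem extendByZero_conj {μ : S → ℂ} (hμ : IsClassFunction S μ) (s : S) (y : G) :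
    extendByZero S μ ((s : G) * y * (s : G)⁻¹) = extendByZero S μ y := by
  by_cases hy : y ∈ S
  · have h1 : (s : G) * y * (s : G)⁻¹ ∈ S := S.mul_mem (S.mul_mem s.2 hy) (S.inv_mem s.2)
    rw [extendByZero_of_mem S μ h1, extendByZero_of_mem S μ hy]
    have := hμ ⟨y, hy⟩ s
    rw [← this]
    congr 1
  · have h1 : (s : G) * y * (s : G)⁻¹ ∉ S := by
      intro h2
      apply hy
      have : y = (s : G)⁻¹ * ((s : G) * y * (s : G)⁻¹) * s := by group
      rw [this]
      exact S.mul_mem (S.mul_mem (S.inv_mem s.2) h2) s.2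
    rw [extendByZero_of_notMem S μ h1, extendByZero_of_notMem S μ hy]

/-- Mackey's formula when `S` has exactly two double cosets. -/
theorem classInner_ind_ind_two (μ lam : S → ℂ) (hμ : IsClassFunction S μ) (hlam : IsClassFunction S lam)
    (t : G) (ht : ∀ x : G, x ∉ S → ∃ s ∈ S, ∃ s' ∈ S, x = s * t * s') :
    classInner (indFun S μ) (indFun S lam) = classInner μ lam +
      ((Nat.card G - Nat.card S : ℂ) / (Nat.card S : ℂ) ^ 2) *
        ∑ g : S, μ g * conj (extendByZero S lam (t⁻¹ * (g : G) * t)) := by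
  classical
  have hS : (Nat.card S : ℂ) ≠ 0 := by exact_mod_cast Nat.card_pos.ne'
  rw [classInner_indFun_left S μ _ (isClassFunction_indFun S lam)]
  let Φ : G → ℂ := fun x => ∑ g : S, μ g * conj (extendByZero S lam (x⁻¹ * (g : G) * x))
  have h1 : ∑ g : S, μ g * conj (indFun S lam g) = (Nat.card S : ℂ)⁻¹ * ∑ x : G, Φ x := by
    simp only [indFun_apply, map_mul, map_inv₀, Complex.conj_natCast, map_sum, Φ]
    rw [Finset.sum_comm, Finset.mul_sum]
    refine Finset.sum_congr rfl fun g _ => ?_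
    rw [← Finset.mul_sum]
    ring
  have h2 : ∀ x ∈ S, Φ x = ∑ g : S, μ g * conj (lam g) := by
    intro x hx
    refine Finset.sum_congr rfl fun g _ => ?_
    have h3 : x⁻¹ * (g : G) * x = ((⟨x⁻¹, S.inv_mem hx⟩ : S) : G) * (g : G) * ((⟨x⁻¹, S.inv_mem hx⟩ : S) : G)⁻¹ := by
      simp
    rw [h3, extendByZero_conj S hlam, extendByZero_coe]
  have h3 : ∀ x, x ∉ S → Φ x = Φ t := by
    intro x hx
    obtain ⟨s, hs, s', hs', rfl⟩ := ht x hx
    simp only [Φ]
    have e1 : ∀ g : S, extendByZero S lam ((s * t * s')⁻¹ * (g : G) * (s * t * s')) =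
        extendByZero S lam (t⁻¹ * (((⟨s, hs⟩ : S)⁻¹ * g * (⟨s, hs⟩ : S) : S) : G) * t) := by
      intro g
      have h4 : (s * t * s')⁻¹ * (g : G) * (s * t * s') =
          ((⟨s', hs'⟩ : S)⁻¹ : S) * (t⁻¹ * (((⟨s, hs⟩ : S)⁻¹ * g * (⟨s, hs⟩ : S) : S) : G) * t) * (((⟨s', hs'⟩ : S)⁻¹ : S) : G)⁻¹ := by
        simp
        group
      rw [h4, extendByZero_conj S hlam]
    simp only [e1]
    let σ : S ≃ S :=
      { toFun := fun g => (⟨s, hs⟩ : S)⁻¹ * g * (⟨s, hs⟩ : S)
        invFun := fun g => (⟨s, hs⟩ : S) * g * (⟨s, hs⟩ : S)⁻¹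
        left_inv := fun g => by group
        right_inv := fun g => by group }
    have hμσ : ∀ g : S, μ g = μ (σ g) := by
      intro g
      have := hμ g (⟨s, hs⟩ : S)⁻¹
      simp only [inv_inv] at this
      exact this.symm
    refine Eq.trans (Finset.sum_congr rfl fun g _ => by rw [hμσ g]) ?_
    exact Equiv.sum_comp σ (fun g => μ g * conj (extendByZero S lam (t⁻¹ * (g : G) * t)))
  have h4 : ∑ x : G, Φ x = (Nat.card S : ℂ) * ∑ g : S, μ g * conj (lam g) +
      (Nat.card G - Nat.card S : ℂ) * Φ t := by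
    rw [← Finset.sum_filter_add_sum_filter_not Finset.univ (· ∈ S)]
    have h5 : ∑ x ∈ Finset.univ.filter (· ∈ S), Φ x =
        (Nat.card S : ℂ) * ∑ g : S, μ g * conj (lam g) := by
      rw [Finset.sum_congr rfl fun x hx => h2 x (Finset.mem_filter.mp hx).2, Finset.sum_const, nsmul_eq_mul]
      congr 2
      rw [Nat.card_eq_fintype_card, Fintype.card_subtype]
    have h6 : ∑ x ∈ Finset.univ.filter (· ∉ S), Φ x = (Nat.card G - Nat.card S : ℂ) * Φ t := by
      rw [Finset.sum_congr rfl fun x hx => h3 x (Finset.mem_filter.mp hx).2, Finset.sum_const, nsmul_eq_mul]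
      congr 1
      have h7 := Finset.card_filter_add_card_filter_not (s := (Finset.univ : Finset G)) (· ∈ S)
      have h8 : (Finset.univ.filter (· ∈ S)).card = Nat.card S := by
        rw [Nat.card_eq_fintype_card, Fintype.card_subtype]
      rw [h8, Finset.card_univ, ← Nat.card_eq_fintype_card] at h7
      rw [← h7]
      push_cast
      ring
    rw [h5, h6]
  simp only [classInner]
  rw [h1, h4]
  simp only [Φ]
  field_simp

end Mackey

end Cfsg.Agent.Lib.Char.Zass
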