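import Cfsg.Agent.Lib.Char.ZassZeta

/-!
# Zassenhaus groups with odd two-point stabilizers: no invariant linear characters.
-/

set_option autoImplicit false

namespace Cfsg.Agent.Lib.Char.Zass

open Cfsg Cfsg.Agent.Lib.Char
open scoped ComplexConjugate

section General

variable {G : Type*} [Group G] [Fintype G]

/-- Expansion of a norm for the parity argument. -/
theorem calc_W {Y α β : G → ℂ} (hY : classInner Y Y = 2) (hα : classInner α α = 1)
    (hβ : classInner β β = 1) (hαβ : classInner α β = 0) (k : ℤ) (h1 : classInner Y α = k)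
    (h2 : classInner Y β = -k) : k ^ 2 ≤ 1 ∧ (k ^ 2 = 1 → Y = (k : ℂ) • (α - β)) := by
  have hβα : classInner β α = 0 := by
    rw [classInner_conj_symm, hαβ, map_zero]
  have hαY : classInner α Y = k := by
    rw [classInner_conj_symm, h1, map_intCast]
  have hβY : classInner β Y = -k := by
    rw [classInner_conj_symm, h2, map_neg, map_intCast]
  set W := Y - (k : ℂ) • (α - β) with hW
  have hWW : classInner W W = 2 - 2 * (k : ℂ) ^ 2 := by
    rw [hW, classInner_sub_left, classInner_sub_right, classInner_sub_right, classInner_smul_left,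
      classInner_smul_right, classInner_smul_right, classInner_smul_left, classInner_sub_left,
      classInner_sub_right, classInner_sub_right, classInner_sub_left, classInner_sub_left, hY, h1, h2,
      hαY, hβY, hα, hβ, hαβ, hβα, map_intCast]
    ring
  rw [classInner_self_eq_sum_normSq] at hWW
  have hR : ((Nat.card G : ℝ)⁻¹ * ∑ g : G, ‖W g‖ ^ 2) = 2 - 2 * (k : ℝ) ^ 2 := by
    have : (((Nat.card G : ℝ)⁻¹ * ∑ g : G, ‖W g‖ ^ 2 : ℝ) : ℂ) = ((2 - 2 * (k : ℝ) ^ 2 : ℝ) : ℂ) := by
      rw [hWW]
      push_cast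
      ring
    exact_mod_cast this
  have hnn : 0 ≤ (Nat.card G : ℝ)⁻¹ * ∑ g : G, ‖W g‖ ^ 2 := by positivity
  constructor
  · rw [hR] at hnn
    have : (k : ℝ) ^ 2 ≤ 1 := by linarith
    exact_mod_cast this
  · intro hk
    have hk' : (k : ℝ) ^ 2 = 1 := by exact_mod_cast hk
    rw [hk'] at hR
    have hG : (Nat.card G : ℝ)⁻¹ ≠ 0 := by
      have : (Nat.card G : ℝ) ≠ 0 := by exact_mod_cast Nat.card_pos.ne'
      exact inv_ne_zero this
    have h3 : ∑ g : G, ‖W g‖ ^ 2 = 0 := by
      have : (Nat.card G : ℝ)⁻¹ * ∑ g : G, ‖W g‖ ^ 2 = 0 := by rw [hR]; norm_num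
      exact (mul_eq_zero.mp this).resolve_left hG
    have h4 := (Finset.sum_eq_zero_iff_of_nonneg (fun g _ => by positivity)).mp h3
    have h5 : W = 0 := by
      funext g
      have := h4 g (Finset.mem_univ g)
      simpa using this
    exact sub_eq_zero.mp h5

end General

section Linear

variable {G Ω : Type*} [Group G] [Fintype G] [MulAction G Ω] [Fintype Ω]

/-- A nontrivial linear character of a simple Zassenhaus group cannot exist. -/
theorem false_of_linear (hZ : IsZassenhausGroup G Ω) {a b : Ω} (hab : a ≠ b) [hS : IsSimpleGroup G]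
    {ρ : G → ℂ} (hρ : IsCharacter G ρ) (h1 : ρ 1 = 1) (h0 : classInner ρ (fun _ => 1) = 0) : False := by
  classical
  obtain ⟨φ, rfl⟩ := IsCharacter.exists_monoidHom hρ h1
  rcases (φ.normal_ker).eq_bot_or_eq_top with hk | hk
  · have hinj : Function.Injective φ := (MonoidHom.ker_eq_bot_iff φ).mp hk
    have hcomm : ∀ x y : G, x * y = y * x := by
      intro x y
      apply hinj
      rw [map_mul, map_mul, mul_comm]
    obtain ⟨x, hx1, hxa, -⟩ := exists_ne_one_fix hZ hab
    haveI := hZ.1
    apply hx1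
    apply FaithfulSMul.eq_of_smul_eq_smul (α := Ω)
    intro c
    obtain ⟨w, rfl⟩ := exists_smul_eq hZ hab c
    rw [one_smul, ← mul_smul, hcomm, mul_smul, hxa]
  · have h2 : (fun g => ((φ g : ℂˣ) : ℂ)) = fun _ => 1 := by
      funext g
      have : g ∈ φ.ker := by rw [hk]; trivial
      rw [MonoidHom.mem_ker.mp this]
      rfl
    rw [h2, classInner_irr_self isIrrCharacter_one] at h0
    exact one_ne_zero h0

end Linear

namespace KData

variable {G Ω : Type*} [Group G] [Fintype G] [MulAction G Ω] [Fintype Ω] (D : KData G Ω)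

/-- The permutation character. -/
noncomputable abbrev perm : G → ℂ := indFun D.S (fun _ => 1)

theorem isChar_perm : IsCharacter G D.perm :=
  isCharacter_indFun D.S (IsIrrCharacter.isCharacter isIrrCharacter_one)

theorem ext_one {x : G} (hx : x ∈ D.E) : extendByZero D.S (fun _ => 1) (D.t * x * D.t) = 1 :=
  extendByZero_of_mem D.S _ (D.E_le_S (D.conj_mem hx))

theorem inner_pi_pi : classInner D.perm D.perm = 2 := by
  have hE := D.card_pos_E
  rw [D.inner_ind _ _ (IsCharacter.isClassFunction
    (IsIrrCharacter.isCharacter isIrrCharacter_one)) (IsCharacter.isClassFunction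
    (IsIrrCharacter.isCharacter isIrrCharacter_one)), classInner_irr_self isIrrCharacter_one]
  simp only [D.ext_one (Subtype.property _), map_one, mul_one]
  have h1 : ∀ x : D.E, extendByZero D.S (fun _ => (1 : ℂ)) x = 1 := fun x =>
    extendByZero_of_mem D.S _ (D.E_le_S x.2)
  simp only [h1, Finset.sum_const, Finset.card_univ, nsmul_eq_mul, mul_one]
  rw [← Nat.card_eq_fintype_card]
  field_simp
  norm_num

theorem inner_pi_one : classInner D.perm (fun _ => 1) = 1 := by
  rw [classInner_indFun_left D.S _ _ (fun _ _ => rfl)]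
  exact classInner_irr_self isIrrCharacter_one

end KData

namespace IData

variable {G Ω : Type*} [Group G] [Fintype G] [MulAction G Ω] [Fintype Ω] {D : KData G Ω} (I : IData D)

open KData

/-- The induced character. -/
noncomputable def chi : G → ℂ := indFun D.S (D.mu I.lam)

/-- The permutation character. -/
noncomputable def pi : G → ℂ := indFun D.S (fun _ => 1)

theorem isChar_chi : IsCharacter G I.chi :=
  isCharacter_indFun D.S (IsIrrCharacter.isCharacter (D.isIrr_mu I.lam))

theorem isChar_pi : IsCharacter G D.perm :=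
  isCharacter_indFun D.S (IsIrrCharacter.isCharacter isIrrCharacter_one)

theorem mu_ne_one : D.mu I.lam ≠ fun _ => 1 := by
  intro h
  obtain ⟨x, hx⟩ := I.hne
  apply hx
  rw [D.ff_of_mem I.lam (D.E_le_S x.2)]
  exact congrFun h ⟨x, D.E_le_S x.2⟩

theorem inner_chi_chi : classInner I.chi I.chi = 2 := by
  have hE := D.card_pos_E
  rw [chi, D.inner_self]
  have h1 : ∀ x : D.E, D.ff I.lam x * conj (D.ff I.lam (D.t * x * D.t)) = 1 := by
    intro x
    rw [I.hinv x]
    exact D.ff_mul_conj I.lam (D.E_le_S x.2)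
  simp only [h1, Finset.sum_const, Finset.card_univ, nsmul_eq_mul, mul_one]
  rw [← Nat.card_eq_fintype_card]
  field_simp
  norm_num

theorem inner_chi_pi : classInner I.chi D.perm = 0 := by
  rw [chi, D.inner_ind _ _ (D.isClass_mu I.lam) (IsCharacter.isClassFunction
    (IsIrrCharacter.isCharacter isIrrCharacter_one)),
    classInner_irr_of_ne (D.isIrr_mu I.lam) isIrrCharacter_one I.mu_ne_one, zero_add]
  simp only [D.ext_one (Subtype.property _), map_one, mul_one]
  have h1 : ∀ x : D.E, extendByZero D.S (D.mu I.lam) x = D.ff I.lam x := fun _ => rfl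
  simp only [h1]
  rw [D.sum_ff_eq_zero I.lam I.hne, mul_zero]

theorem inner_chi_one : classInner I.chi (fun _ => 1) = 0 := by
  rw [chi, classInner_indFun_left D.S _ _ (fun _ _ => rfl)]
  exact classInner_irr_of_ne (D.isIrr_mu I.lam) isIrrCharacter_one I.mu_ne_one

/-- The key identity expressing a difference of multiplicities on the two-point stabilizer. -/
theorem inner_diff {α : G → ℂ} (hα : IsClassFunction G α) :
    classInner I.chi α - classInner D.perm α =
      (Nat.card D.E : ℂ)⁻¹ * ∑ x : D.E, (D.ff I.lam x - 1) * conj (α x) := by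
  have hE := D.card_pos_E
  have hH : (Nat.card D.H : ℂ) ≠ 0 := by exact_mod_cast Nat.card_pos.ne'
  rw [chi, classInner_indFun_left D.S _ _ hα, classInner_indFun_left D.S _ _ hα]
  simp only [classInner]
  rw [← mul_sub, ← Finset.sum_sub_distrib]
  have h1 : ∀ s : D.S, D.mu I.lam s * conj (α s) - 1 * conj (α s) = (D.ff I.lam s - 1) * conj (α s) := by
    intro s
    rw [D.ff_coe]
    simp only [mu]
    ring
  rw [Finset.sum_congr rfl fun s _ => h1 s]
  rw [D.sum_S (fun g => (D.ff I.lam g - 1) * conj (α g))]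
  · rw [D.card_S]
    push_cast
    field_simp
  · intro u hu x hx
    have hfu : D.ff I.lam u = 1 := by
      rw [D.ff_of_mem I.lam (D.hHa hu), I.hlamH ⟨u, D.hHa hu⟩ hu]
      rfl
    rw [D.ff_mul I.lam (D.hHa hu) (D.E_le_S hx), hfu, one_mul]
    by_cases hx1 : x = 1
    · subst hx1
      rw [D.ff_one]
      simp
    · obtain ⟨v, -, hv⟩ := exists_conj_of_kernel D.hZ D.hab D.hHcard D.hHa D.hHfix hx.1 hx.2 hx1 hu
      rw [hv, hα]

/-- The parity of the inner product of `Z` with a class function. -/
theorem inner_Z_parity {α : G → ℂ} (hα : IsCharacter G α) (hd : classInner I.chi α - classInner D.perm α = 1) :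
    ∃ k : ℤ, classInner I.Z α = 2 * (k : ℂ) - 1 := by
  have hE := D.card_pos_E
  have hαM : IsCharacter D.M (fun y : D.M => α y) :=
    IsCharacter.comp hα D.M.subtype
  obtain ⟨n₁, h1⟩ := IsCharacter.classInner_nat (IsIrrCharacter.isCharacter I.isIrr_lamMf) hαM
  obtain ⟨n₃, h3⟩ := IsCharacter.classInner_nat (IsIrrCharacter.isCharacter (isIrrCharacter_one (G := D.M))) hαM
  refine ⟨(n₁ : ℤ) - n₃, ?_⟩
  rw [I.inner_diff (IsCharacter.isClassFunction hα)] at hd
  rw [Z, classInner_indFun_left D.M I.zeta _ (IsCharacter.isClassFunction hα), I.inner_zeta]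
  -- expansions over `E`
  let LG : G → ℂ := fun g => by
    classical
    exact if g ∈ D.E then D.ff I.lam g else D.ff I.lam (g * D.t)
  have hLG : ∀ y : D.M, I.lamMf y = LG y := by
    intro y
    by_cases hy : (y : G) ∈ D.E
    · simp only [LG, lamMf, I.lamM_of_mem hy, if_pos hy]
    · simp only [LG, lamMf, I.lamM_of_notMem hy, if_neg hy]
  have hLG1 : ∀ x : D.E, LG x = D.ff I.lam x := by
    intro x
    simp only [LG, if_pos x.2]
  have hLG2 : ∀ x : D.E, LG (x * D.t) = D.ff I.lam x := by
    intro x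
    simp only [LG, if_neg (D.mul_t_not_mem_E x.2), mul_assoc, D.ht3, mul_one]
  have e1 : classInner I.lamMf (fun y : D.M => α y) =
      (2 * (Nat.card D.E : ℂ))⁻¹ * ((∑ x : D.E, D.ff I.lam x * conj (α x)) +
        ∑ x : D.E, D.ff I.lam x * conj (α (x * D.t))) := by
    simp only [classInner, hLG]
    rw [D.card_M, D.sum_M (fun g => LG g * conj (α g)), Finset.sum_add_distrib]
    simp only [hLG1, hLG2]
  have e3 : classInner (fun _ : D.M => (1 : ℂ)) (fun y : D.M => α y) =
      (2 * (Nat.card D.E : ℂ))⁻¹ * ((∑ x : D.E, conj (α x)) + ∑ x : D.E, conj (α (x * D.t))) := by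
    simp only [classInner, one_mul]
    rw [D.card_M, D.sum_M (fun g => conj (α g)), Finset.sum_add_distrib]
  rw [e1] at h1
  rw [e3] at h3
  set A := ∑ x : D.E, D.ff I.lam x * conj (α x)
  set B := ∑ x : D.E, D.ff I.lam x * conj (α (x * D.t))
  set C := ∑ x : D.E, conj (α x)
  set F := ∑ x : D.E, conj (α (x * D.t))
  have hd2 : ∑ x : D.E, (D.ff I.lam x - 1) * conj (α x) = A - C := by
    simp only [A, C, sub_mul, one_mul, Finset.sum_sub_distrib]
  have hc2 : ∑ x : D.E, (D.ff I.lam x - 1) * conj (α (x * D.t)) = B - F := by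
    simp only [B, F, sub_mul, one_mul, Finset.sum_sub_distrib]
  rw [hd2] at hd
  rw [hc2]
  push_cast
  rw [← h1, ← h3]
  have hd3 : (A - C) = (Nat.card D.E : ℂ) := by
    field_simp at hd
    exact hd
  field_simp
  linear_combination -hd3

theorem linear_constituent {α β : G → ℂ} (hα : IsIrrCharacter G α) (hβ : IsIrrCharacter G β)
    (hαβ : α ≠ β) (hχ : I.chi = α + β) : α 1 = 1 ∨ β 1 = 1 := by
  have h11 := classInner_irr_self hα
  have h22 := classInner_irr_self hβ
  have h12 := classInner_irr_of_ne hα hβ hαβ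
  have h21 : classInner β α = 0 := classInner_irr_of_ne hβ hα (Ne.symm hαβ)
  have hαc := IsIrrCharacter.isCharacter hα
  have hβc := IsIrrCharacter.isCharacter hβ
  have hone : IsCharacter G (fun _ : G => (1 : ℂ)) := IsIrrCharacter.isCharacter isIrrCharacter_one
  -- multiplicities of the trivial character and the permutation character vanish
  have nat_add : ∀ {φ : G → ℂ}, IsCharacter G φ → classInner I.chi φ = 0 →
      classInner α φ = 0 ∧ classInner β φ = 0 := by
    intro φ hφ h0
    obtain ⟨m, hm⟩ := IsCharacter.classInner_nat hαc hφ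
    obtain ⟨n, hn⟩ := IsCharacter.classInner_nat hβc hφ
    rw [hχ, classInner_add_left, hm, hn] at h0
    have h3 : m + n = 0 := by exact_mod_cast h0
    have hm0 : m = 0 := by omega
    have hn0 : n = 0 := by omega
    rw [hm, hn, hm0, hn0]
    simp
  obtain ⟨hα1, hβ1⟩ := nat_add hone I.inner_chi_one
  obtain ⟨hαπ, hβπ⟩ := nat_add D.isChar_perm I.inner_chi_pi
  have sw : ∀ {φ ψ : G → ℂ}, classInner φ ψ = 0 → classInner ψ φ = 0 := by
    intro φ ψ h
    rw [classInner_conj_symm, h, map_zero]
  have hχα : classInner I.chi α = 1 := by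
    rw [hχ, classInner_add_left, h11, h21, add_zero]
  have hχβ : classInner I.chi β = 1 := by
    rw [hχ, classInner_add_left, h22, h12, zero_add]
  have hπα := sw hαπ
  have hπβ := sw hβπ
  -- the parity
  obtain ⟨k, hk⟩ := I.inner_Z_parity hαc (by rw [hχα, hπα, sub_zero])
  have hZχ : classInner I.Z I.chi = 0 := I.inner_Z_ind _
  have hZβ : classInner I.Z β = -(2 * (k : ℂ) - 1) := by
    rw [hχ, classInner_add_right, hk] at hZχ
    linear_combination hZχ
  -- the class function
  let Y : G → ℂ := I.Z + (2 : ℂ) • (fun _ => 1) - D.perm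
  have hZπ : classInner I.Z D.perm = 0 := I.inner_Z_ind _
  have hπZ : classInner D.perm I.Z = 0 := sw hZπ
  have h1Z : classInner (fun _ : G => (1 : ℂ)) I.Z = -1 := by
    rw [classInner_conj_symm, I.inner_Z_one]
    simp
  have h1π : classInner (fun _ : G => (1 : ℂ)) D.perm = 1 := by
    rw [classInner_conj_symm, D.inner_pi_one]
    simp
  have h11' : classInner (fun _ : G => (1 : ℂ)) (fun _ : G => (1 : ℂ)) = 1 :=
    classInner_irr_self isIrrCharacter_one
  have hYY : classInner Y Y = 2 := by
    simp only [Y, classInner_sub_left, classInner_add_left, classInner_sub_right, classInner_add_right,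
      classInner_smul_left, classInner_smul_right, I.inner_Z_Z, I.inner_Z_one, hZπ, hπZ, h1Z, h1π, h11',
      D.inner_pi_pi, D.inner_pi_one, map_ofNat]
    norm_num
  have hYα : classInner Y α = ((2 * k - 1 : ℤ) : ℂ) := by
    simp only [Y]
    rw [classInner_sub_left, classInner_add_left, classInner_smul_left, hk, sw hα1, hπα]
    push_cast
    ring
  have hYβ : classInner Y β = -((2 * k - 1 : ℤ) : ℂ) := by
    simp only [Y]
    rw [classInner_sub_left, classInner_add_left, classInner_smul_left, hZβ, sw hβ1, hπβ]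
    push_cast
    ring
  obtain ⟨hle, heq⟩ := calc_W hYY h11 h22 h12 (2 * k - 1) hYα hYβ
  have hKK : (2 * k - 1) ^ 2 = 1 := by
    have h5 : (2 * k - 1) ^ 2 ≠ 0 := by
      apply pow_ne_zero
      omega
    have h6 : 0 ≤ (2 * k - 1) ^ 2 := sq_nonneg _
    omega
  have hY := heq hKK
  have hK : 2 * k - 1 = 1 ∨ 2 * k - 1 = -1 := by
    have : (2 * k - 1 - 1) * (2 * k - 1 + 1) = 0 := by linear_combination hKK
    rcases mul_eq_zero.mp this with h | h
    · left; omega
    · right; omega
  -- evaluate at `1`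
  have hY1 := congrFun hY 1
  have hindex : (D.S.index : ℂ) = Fintype.card Ω := by
    have h7 : Nat.card D.S * D.S.index = Nat.card G := Subgroup.card_mul_index D.S
    rw [D.card_G, D.card_S] at h7
    have h8 : 0 < Nat.card D.H * Nat.card D.E := Nat.mul_pos Nat.card_pos Nat.card_pos
    have h9 : D.S.index = Fintype.card Ω := by
      apply Nat.eq_of_mul_eq_mul_left h8
      rw [h7]
      ring
    rw [h9]
  have hπ1 : D.perm 1 = Fintype.card Ω := by
    show indFun D.S (fun _ => 1) 1 = _
    rw [indFun_one, hindex, mul_one]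
  have hχ1 : I.chi 1 = Fintype.card Ω := by
    rw [chi, indFun_one, hindex]
    simp [mu]
  have hsum : α 1 + β 1 = Fintype.card Ω := by
    rw [← hχ1, hχ]
    rfl
  have hY1' : (2 : ℂ) - Fintype.card Ω = ((2 * k - 1 : ℤ) : ℂ) * (α 1 - β 1) := by
    have h10 : Y 1 = (2 : ℂ) - Fintype.card Ω := by
      simp only [Y, Pi.sub_apply, Pi.add_apply, Pi.smul_apply, smul_eq_mul, mul_one]
      rw [I.Z_one, hπ1, zero_add]
    rw [← h10, hY1]
    rfl
  rcases hK with hK | hK
  · left
    rw [hK] at hY1'
    push_cast at hY1'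
    rw [← hsum] at hY1'
    linear_combination -(1 / 2 : ℂ) * hY1'
  · right
    rw [hK] at hY1'
    push_cast at hY1'
    rw [← hsum] at hY1'
    linear_combination -(1 / 2 : ℂ) * hY1'

/-- A simple Zassenhaus group with two-point stabilizer of odd order admits no invariant nontrivial
linear character of the stabilizer trivial on the kernel. -/
theorem no_invariant (I : IData D) [IsSimpleGroup G] : False := by
  obtain ⟨α, β, hα, hβ, hαβ, hχ⟩ := exists_add_of_norm_two I.isChar_chi I.inner_chi_chi
  have h0 : ∀ {ρ : G → ℂ}, IsIrrCharacter G ρ → (classInner I.chi (fun _ => 1)) = classInner α (fun _ => 1) + classInner β (fun _ => 1) := by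
    intro ρ _
    rw [hχ, classInner_add_left]
  have hone : IsCharacter G (fun _ : G => (1 : ℂ)) := IsIrrCharacter.isCharacter isIrrCharacter_one
  obtain ⟨m, hm⟩ := IsCharacter.classInner_nat (IsIrrCharacter.isCharacter hα) hone
  obtain ⟨n, hn⟩ := IsCharacter.classInner_nat (IsIrrCharacter.isCharacter hβ) hone
  have h1 := h0 hα
  rw [I.inner_chi_one, hm, hn] at h1
  have h3 : m + n = 0 := by exact_mod_cast h1.symm
  have hm0 : m = 0 := by omega
  have hn0 : n = 0 := by omega
  rcases I.linear_constituent hα hβ hαβ hχ with h | h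
  · exact false_of_linear D.hZ D.hab (IsIrrCharacter.isCharacter hα) h (by rw [hm, hm0]; simp)
  · exact false_of_linear D.hZ D.hab (IsIrrCharacter.isCharacter hβ) h (by rw [hn, hn0]; simp)

end IData

namespace KData

variable {G Ω : Type*} [Group G] [Fintype G] [MulAction G Ω] [Fintype Ω] (D : KData G Ω)

theorem exists_not_invariant [IsSimpleGroup G] (lam : D.S →* ℂˣ)
    (hH : ∀ s : D.S, (s : G) ∈ D.H → lam s = 1) (hne : ∃ x : D.E, D.ff lam x ≠ 1) :
    ∃ x : D.E, D.ff lam x ≠ D.ff lam (D.t * x * D.t) := by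
  by_contra hcon
  push Not at hcon
  exact IData.no_invariant (D := D) ⟨lam, hH, hne, fun x => (hcon x).symm⟩

theorem isIrr_ind [IsSimpleGroup G] (lam : D.S →* ℂˣ)
    (hH : ∀ s : D.S, (s : G) ∈ D.H → lam s = 1) (hne : ∃ x : D.E, D.ff lam x ≠ 1) :
    IsIrrCharacter G (indFun D.S (D.mu lam)) :=
  D.isIrr_ind_of_not_invariant lam (D.exists_not_invariant lam hH hne)

/-- A nontrivial character trivial on the kernel is nontrivial on `E`. -/
theorem exists_ne_of_ne (lam : D.S →* ℂˣ)
    (hH : ∀ s : D.S, (s : G) ∈ D.H → lam s = 1) (hne : lam ≠ 1) : ∃ x : D.E, D.ff lam x ≠ 1 := by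
  by_contra hcon
  push Not at hcon
  apply hne
  ext s
  obtain ⟨u, hu, x, hxa, hxb, hs⟩ := exists_kernel_mul D.hab D.hHcard D.hHa D.hHfix s.2
  have h1 : s = (⟨u, D.hHa hu⟩ : D.S) * (⟨x, hxa⟩ : D.S) := Subtype.ext hs
  have h2 := hcon ⟨x, hxa, hxb⟩
  rw [D.ff_of_mem lam hxa] at h2
  rw [h1, map_mul, hH ⟨u, D.hHa hu⟩ hu, one_mul, MonoidHom.one_apply]
  rw [h2]
  rfl

end KData

end Cfsg.Agent.Lib.Char.Zass
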