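import Cfsg.Agent.Lib.Char.ZassMackey
import Cfsg.Agent.Lib.Char.FrobKer

/-!
# Zassenhaus groups: structure of the stabilizers.
-/

set_option autoImplicit false

namespace Cfsg.Agent.Lib.Char.Zass

open Cfsg Cfsg.Agent.Lib.Char
open scoped ComplexConjugate

section NormTwo

variable {G : Type*} [Group G] [Fintype G]

/-- A character of norm two is a sum of two distinct irreducible characters. -/
theorem exists_add_of_norm_two {χ : G → ℂ} (hχ : IsCharacter G χ) (h2 : classInner χ χ = 2) :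
    ∃ α β : G → ℂ, IsIrrCharacter G α ∧ IsIrrCharacter G β ∧ α ≠ β ∧ χ = α + β := by
  classical
  obtain ⟨c, hc, hs⟩ := IsCharacter.exists_eq_sum hχ
  have hcl := IsCharacter.isClassFunction hχ
  have hsum : ∑ ψ : IrrCharacter G, c ψ ^ 2 = 2 := by
    have h3 := classInner_eq_sum_coeffs χ χ hcl hcl
    rw [h2] at h3
    simp only [hc, map_natCast] at h3
    have h4 : ((∑ ψ : IrrCharacter G, c ψ ^ 2 : ℕ) : ℂ) = ((2 : ℕ) : ℂ) := by
      push_cast
      rw [h3]
      refine Finset.sum_congr rfl fun ψ _ => ?_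
      ring
    exact_mod_cast h4
  have hne : ∃ a, c a ≠ 0 := by
    by_contra hcon
    push Not at hcon
    simp [hcon] at hsum
  obtain ⟨a, ha⟩ := hne
  have hposa : 1 ≤ c a ^ 2 := Nat.pos_of_ne_zero (pow_ne_zero _ ha)
  have hsplit := Finset.add_sum_erase Finset.univ (fun ψ : IrrCharacter G => c ψ ^ 2) (Finset.mem_univ a)
  rw [hsum] at hsplit
  have hne2 : ∃ b, b ≠ a ∧ c b ≠ 0 := by
    by_contra hcon
    push Not at hcon
    have h0 : ∑ ψ ∈ Finset.univ.erase a, c ψ ^ 2 = 0 :=
      Finset.sum_eq_zero fun ψ hψ => by rw [hcon ψ (Finset.ne_of_mem_erase hψ)]; simp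
    rw [h0, add_zero] at hsplit
    have h5 : c a ^ 2 = 2 := hsplit
    have h6 : c a < 2 := by nlinarith
    have h7 : c a = 1 := by omega
    rw [h7] at h5
    omega
  obtain ⟨b, hba, hb⟩ := hne2
  have hposb : 1 ≤ c b ^ 2 := Nat.pos_of_ne_zero (pow_ne_zero _ hb)
  have hsplit2 := Finset.add_sum_erase (Finset.univ.erase a) (fun ψ : IrrCharacter G => c ψ ^ 2)
    (Finset.mem_erase.mpr ⟨hba, Finset.mem_univ b⟩)
  have hrest : ∑ ψ ∈ (Finset.univ.erase a).erase b, c ψ ^ 2 = 0 := by omega
  have hrest' := (Finset.sum_eq_zero_iff).mp hrest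
  have hca : c a = 1 := by
    have : c a ^ 2 = 1 := by omega
    exact (Nat.pow_eq_one.mp this).resolve_right (by norm_num)
  have hcb : c b = 1 := by
    have : c b ^ 2 = 1 := by omega
    exact (Nat.pow_eq_one.mp this).resolve_right (by norm_num)
  refine ⟨a.1, b.1, a.2, b.2, fun h => hba (Subtype.ext h.symm), ?_⟩
  rw [hs, ← Finset.add_sum_erase Finset.univ _ (Finset.mem_univ a),
    ← Finset.add_sum_erase (Finset.univ.erase a) _ (Finset.mem_erase.mpr ⟨hba, Finset.mem_univ b⟩),
    Finset.sum_eq_zero, hca, hcb]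
  · simp
  · intro ψ hψ
    have := hrest' ψ hψ
    have h0 : c ψ = 0 := by simpa using this
    rw [h0]
    simp

end NormTwo

section Sums

variable {G : Type*} [Group G]

theorem sum_subgroup_of_support {K L : Subgroup G} [Fintype K] [Fintype L] (hKL : K ≤ L) (F : G → ℂ)
    (hF : ∀ g ∈ L, g ∉ K → F g = 0) : ∑ g : L, F g = ∑ g : K, F g := by
  classical
  have hinj : Function.Injective (Subgroup.inclusion hKL) := Subgroup.inclusion_injective hKL
  rw [← Finset.sum_subset (s₁ := Finset.univ.map ⟨_, hinj⟩) (s₂ := Finset.univ)]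
  · rw [Finset.sum_map]
    rfl
  · exact Finset.subset_univ _
  · intro x _ hx
    apply hF x x.2
    intro hk
    apply hx
    exact Finset.mem_map.mpr ⟨⟨x, hk⟩, Finset.mem_univ _, rfl⟩

/-- Sum over a subgroup containing another with index two, with transversal `1, t`. -/
theorem sum_index_two {E M : Subgroup G} [Fintype E] [Fintype M] (hEM : E ≤ M) {t : G}
    (htM : t ∈ M) (htE : t ∉ E) (hM : ∀ y ∈ M, y ∉ E → y * t⁻¹ ∈ E) (F : G → ℂ) :
    ∑ y : M, F y = ∑ x : E, (F x + F (x * t)) := by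
  classical
  rw [Finset.sum_add_distrib]
  have h1 := sum_subgroup_of_support hEM (fun g => if g ∈ E then F g else 0)
    (by intro g _ hg; simp [hg])
  have h2 : ∑ x : E, F x = ∑ y : M, (if (y : G) ∈ E then F y else 0) := by
    rw [h1]
    refine Finset.sum_congr rfl fun x _ => ?_
    simp
  have h3 : ∑ x : E, F (x * t) = ∑ y : M, (if (y : G) ∉ E then F y else 0) := by
    let f : E → M := fun x => ⟨x * t, M.mul_mem (hEM x.2) htM⟩
    have hfnot : ∀ x : E, (x : G) * t ∉ E := by
      intro x hx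
      apply htE
      have : t = (x : G)⁻¹ * (x * t) := by group
      rw [this]
      exact E.mul_mem (E.inv_mem x.2) hx
    refine Finset.sum_bij_ne_zero (fun x _ _ => f x) ?_ ?_ ?_ ?_
    · intro x _ _
      exact Finset.mem_univ _
    · intro x _ _ y _ _ hxy
      have : (x : G) * t = y * t := congrArg Subtype.val hxy
      exact Subtype.ext (mul_right_cancel this)
    · intro y _ hy
      have hyE : (y : G) ∉ E := by
        intro h
        simp [h] at hy
      refine ⟨⟨y * t⁻¹, hM y y.2 hyE⟩, Finset.mem_univ _, ?_, ?_⟩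
      · simp only [inv_mul_cancel_right]
        simpa [hyE] using hy
      · apply Subtype.ext
        simp [f]
    · intro x _ _
      simp [f, hfnot x]
  rw [h2, h3, ← Finset.sum_add_distrib]
  refine Finset.sum_congr rfl fun y _ => ?_
  by_cases hy : (y : G) ∈ E <;> simp [hy]

end Sums

section Struct

variable {G Ω : Type*} [Group G] [Fintype G] [MulAction G Ω] [Fintype Ω]

/-- Every element of the stabilizer is a product of an element of the kernel and one of the
two-point stabilizer. -/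
theorem exists_kernel_mul {a b : Ω} (hab : a ≠ b) {H : Subgroup G}
    (hHcard : Nat.card H + 1 = Fintype.card Ω)
    (hHa : H ≤ MulAction.stabilizer G a)
    (hHfix : ∀ u ∈ H, u ≠ 1 → ∀ c : Ω, u • c = c → c = a) {s : G} (hs : s • a = a) :
    ∃ u ∈ H, ∃ x : G, x • a = a ∧ x • b = b ∧ s = u * x := by
  have hd : s • b ≠ a := by
    intro h
    apply hab
    have : s • b = s • a := by rw [h, hs]
    exact (smul_left_cancel _ this).symm
  obtain ⟨u, hu, hub⟩ := regular_of_kernel hHcard hHa hHfix hab.symm hd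
  refine ⟨u, hu, u⁻¹ * s, ?_, ?_, by group⟩
  · rw [mul_smul, hs]
    exact inv_smul_eq_iff.mpr (hHa hu).symm
  · rw [mul_smul, ← hub, inv_smul_smul]

/-- Two double cosets. -/
theorem exists_double_coset {a b : Ω} (hab : a ≠ b) {H : Subgroup G}
    (hHcard : Nat.card H + 1 = Fintype.card Ω)
    (hHa : H ≤ MulAction.stabilizer G a)
    (hHfix : ∀ u ∈ H, u ≠ 1 → ∀ c : Ω, u • c = c → c = a) {t : G} (hta : t • a = b) {x : G}
    (hx : x ∉ MulAction.stabilizer G a) :
    ∃ s ∈ MulAction.stabilizer G a, ∃ s' ∈ MulAction.stabilizer G a, x = s * t * s' := by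
  have hx' : x • a ≠ a := hx
  obtain ⟨u, hu, hub⟩ := regular_of_kernel hHcard hHa hHfix hab.symm hx'
  refine ⟨u, hHa hu, t⁻¹ * u⁻¹ * x, ?_, by group⟩
  show (t⁻¹ * u⁻¹ * x) • a = a
  rw [mul_smul, mul_smul, ← hub, inv_smul_smul, ← hta, inv_smul_smul]

/-- A nonidentity element of `E` acts without fixed points on the kernel. -/
theorem kernel_fpf (hZ : IsZassenhausGroup G Ω) {a b : Ω} (hab : a ≠ b) {H : Subgroup G}
    (hHa : H ≤ MulAction.stabilizer G a)
    (hHfix : ∀ u ∈ H, u ≠ 1 → ∀ c : Ω, u • c = c → c = a) {x : G} (hxa : x • a = a)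
    (hxb : x • b = b) (hx1 : x ≠ 1) {u : G} (hu : u ∈ H) (hux : x * u = u * x) : u = 1 := by
  by_contra hu1
  have hc : u • b ≠ b := by
    intro h
    exact hab (hHfix u hu hu1 b h).symm
  have hcfix : x • (u • b) = u • b := by
    rw [← mul_smul, hux, mul_smul, hxb]
  have hca : u • b ≠ a := by
    intro h
    apply hab
    have : u • b = u • a := by rw [h]; exact (hHa hu).symm
    exact (smul_left_cancel _ this).symm
  exact hx1 (eq_one_of_three hZ hab hc.symm hca.symm hxa hxb hcfix)

/-- The kernel is normal in the stabilizer. -/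
theorem exists_conj_of_kernel (hZ : IsZassenhausGroup G Ω) {a b : Ω} (hab : a ≠ b) {H : Subgroup G}
    (hHcard : Nat.card H + 1 = Fintype.card Ω)
    (hHa : H ≤ MulAction.stabilizer G a)
    (hHfix : ∀ u ∈ H, u ≠ 1 → ∀ c : Ω, u • c = c → c = a) {x : G} (hxa : x • a = a)
    (hxb : x • b = b) (hx1 : x ≠ 1) {u : G} (hu : u ∈ H) :
    ∃ v ∈ H, u * x = v * x * v⁻¹ := by
  classical
  let S := MulAction.stabilizer G a
  let K : Subgroup S := H.subgroupOf S
  haveI hK : K.Normal := by
    constructor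
    intro k hk g
    show (((g * k * g⁻¹ : S)) : G) ∈ H
    have : (((g * k * g⁻¹ : S)) : G) = (g : G) * k * (g : G)⁻¹ := rfl
    rw [this]
    exact conj_mem_kernel hZ hHcard hHa hHfix g.2 hk
  have hu' : (⟨u, hHa hu⟩ : S) ∈ K := hu
  obtain ⟨v, hv, hv2⟩ := exists_conj_of_coset_of_fpf K (h := (⟨x, hxa⟩ : S)) (by
    intro k hk hkc
    apply Subtype.ext
    exact kernel_fpf hZ hab hHa hHfix hxa hxb hx1 hk (congrArg Subtype.val hkc)) _ hu'
  refine ⟨v, hv, ?_⟩
  exact congrArg Subtype.val hv2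

end Struct

end Cfsg.Agent.Lib.Char.Zass
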