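import Cfsg.Agent.Lib.Char.ZassLam
import Cfsg.Agent.Lib.Char.TI

/-!
# Zassenhaus groups with odd two-point stabilizers: invariant linear characters.

We set up the exceptional class function on the normalizer of the two-point stabilizer attached
to an invariant linear character.
-/

set_option autoImplicit false

namespace Cfsg.Agent.Lib.Char.Zass

open Cfsg Cfsg.Agent.Lib.Char
open scoped ComplexConjugate

namespace KData

variable {G Ω : Type*} [Group G] [Fintype G] [MulAction G Ω] [Fintype Ω] (D : KData G Ω)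

/-- The setwise stabilizer of the two points. -/
def M : Subgroup G where
  carrier := {g | (g • D.a = D.a ∧ g • D.b = D.b) ∨ (g • D.a = D.b ∧ g • D.b = D.a)}
  mul_mem' := by
    rintro g h (⟨h1, h2⟩ | ⟨h1, h2⟩) (⟨h3, h4⟩ | ⟨h3, h4⟩)
    · left; simp only [mul_smul, h1, h2, h3, h4, and_self]
    · right; simp only [mul_smul, h1, h2, h3, h4, and_self]
    · right; simp only [mul_smul, h1, h2, h3, h4, and_self]
    · left; simp only [mul_smul, h1, h2, h3, h4, and_self]
  one_mem' := by left; simp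
  inv_mem' := by
    rintro g (⟨h1, h2⟩ | ⟨h1, h2⟩)
    · left
      exact ⟨inv_smul_eq_iff.mpr h1.symm, inv_smul_eq_iff.mpr h2.symm⟩
    · right
      exact ⟨inv_smul_eq_iff.mpr h2.symm, inv_smul_eq_iff.mpr h1.symm⟩

noncomputable instance instFintypeM : Fintype D.M := Fintype.ofFinite _

theorem mem_M {g : G} : g ∈ D.M ↔ (g • D.a = D.a ∧ g • D.b = D.b) ∨ (g • D.a = D.b ∧ g • D.b = D.a) :=
  Iff.rfl

theorem E_le_M : D.E ≤ D.M := fun _ hg => Or.inl hg

theorem t_mem_M : D.t ∈ D.M := Or.inr ⟨D.hta, D.htb⟩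

theorem t_not_mem_E : D.t ∉ D.E := fun h => D.hab (h.1.symm.trans D.hta)

/-- An element of `M` outside `E` swaps the points. -/
theorem swap_of_mem_M {y : G} (hy : y ∈ D.M) (hyE : y ∉ D.E) : y • D.a = D.b ∧ y • D.b = D.a := by
  rcases hy with h | h
  · exact absurd h hyE
  · exact h

theorem mul_t_mem_E {y : G} (hy : y ∈ D.M) (hyE : y ∉ D.E) : y * D.t ∈ D.E := by
  obtain ⟨h1, h2⟩ := D.swap_of_mem_M hy hyE
  constructor
  · show (y * D.t) • D.a = D.a
    rw [mul_smul, D.hta, h2]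
  · show (y * D.t) • D.b = D.b
    rw [mul_smul, D.htb, h1]

theorem mul_t_not_mem_E {x : G} (hx : x ∈ D.E) : x * D.t ∉ D.E := by
  intro h
  apply D.t_not_mem_E
  have : D.t = x⁻¹ * (x * D.t) := by group
  rw [this]
  exact D.E.mul_mem (D.E.inv_mem hx) h

theorem mul_t_mem_M {x : G} (hx : x ∈ D.E) : x * D.t ∈ D.M :=
  D.M.mul_mem (D.E_le_M hx) D.t_mem_M

theorem sum_M (F : G → ℂ) : ∑ y : D.M, F y = ∑ x : D.E, (F x + F (x * D.t)) := by
  apply sum_index_two D.E_le_M D.t_mem_M D.t_not_mem_E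
  intro y hy hyE
  rw [D.t_inv]
  exact D.mul_t_mem_E hy hyE

theorem card_M : (Nat.card D.M : ℂ) = 2 * (Nat.card D.E : ℂ) := by
  have := D.sum_M (fun _ => 1)
  simp only [Finset.sum_const, Finset.card_univ, nsmul_eq_mul, mul_one] at this
  rw [← Nat.card_eq_fintype_card, ← Nat.card_eq_fintype_card] at this
  rw [this]
  ring

theorem conj_mem_E_of_mem_M {g x : G} (hg : g ∈ D.M) (hx : x ∈ D.E) : g * x * g⁻¹ ∈ D.E := by
  rcases hg with ⟨h1, h2⟩ | ⟨h1, h2⟩
  · constructor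
    · show (g * x * g⁻¹) • D.a = D.a
      rw [mul_smul, mul_smul, inv_smul_eq_iff.mpr h1.symm, hx.1, h1]
    · show (g * x * g⁻¹) • D.b = D.b
      rw [mul_smul, mul_smul, inv_smul_eq_iff.mpr h2.symm, hx.2, h2]
  · constructor
    · show (g * x * g⁻¹) • D.a = D.a
      rw [mul_smul, mul_smul, inv_smul_eq_iff.mpr h2.symm, hx.2, h2]
    · show (g * x * g⁻¹) • D.b = D.b
      rw [mul_smul, mul_smul, inv_smul_eq_iff.mpr h1.symm, hx.1, h1]

variable (lam : D.S →* ℂˣ)

/-- The character of the stabilizer, with unit values, on the whole group. -/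
noncomputable def lamU (g : G) : ℂˣ := by
  classical
  exact if h : g ∈ D.S then lam ⟨g, h⟩ else 1

theorem lamU_of_mem {g : G} (hg : g ∈ D.S) : D.lamU lam g = lam ⟨g, hg⟩ := by
  simp only [lamU, dif_pos hg]

theorem lamU_coe {g : G} (hg : g ∈ D.S) : ((D.lamU lam g : ℂˣ) : ℂ) = D.ff lam g := by
  rw [D.lamU_of_mem lam hg, D.ff_of_mem lam hg]

theorem lamU_mul {g h : G} (hg : g ∈ D.S) (hh : h ∈ D.S) :
    D.lamU lam (g * h) = D.lamU lam g * D.lamU lam h := by
  rw [D.lamU_of_mem lam hg, D.lamU_of_mem lam hh, D.lamU_of_mem lam (D.S.mul_mem hg hh), ← map_mul]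
  rfl

end KData

/-- An invariant linear character of the stabilizer, trivial on the kernel. -/
structure IData {G Ω : Type*} [Group G] [Fintype G] [MulAction G Ω] [Fintype Ω] (D : KData G Ω) where
  lam : D.S →* ℂˣ
  hlamH : ∀ s : D.S, (s : G) ∈ D.H → lam s = 1
  hne : ∃ x : D.E, D.ff lam x ≠ 1
  hinv : ∀ x : D.E, D.ff lam (D.t * x * D.t) = D.ff lam x

namespace IData

variable {G Ω : Type*} [Group G] [Fintype G] [MulAction G Ω] [Fintype Ω] {D : KData G Ω} (I : IData D)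

open KData

theorem lamU_inv {x : G} (hx : x ∈ D.E) : D.lamU I.lam (D.t * x * D.t) = D.lamU I.lam x := by
  apply Units.ext
  rw [D.lamU_coe I.lam (D.E_le_S hx), D.lamU_coe I.lam (D.E_le_S (D.conj_mem hx))]
  exact I.hinv ⟨x, hx⟩

/-- The extension of the character to the setwise stabilizer. -/
noncomputable def lamM : D.M →* ℂˣ := by
  classical
  refine MonoidHom.mk' (fun y => if (y : G) ∈ D.E then D.lamU I.lam y else D.lamU I.lam (y * D.t)) ?_
  intro y₁ y₂
  have hS : ∀ {x : G}, x ∈ D.E → x ∈ D.S := fun h => D.E_le_S h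
  by_cases h1 : (y₁ : G) ∈ D.E <;> by_cases h2 : (y₂ : G) ∈ D.E
  · have h3 : ((y₁ * y₂ : D.M) : G) ∈ D.E := D.E.mul_mem h1 h2
    simp only [h1, h2, h3, if_true]
    exact D.lamU_mul I.lam (hS h1) (hS h2)
  · have h3 : ((y₁ * y₂ : D.M) : G) ∉ D.E := by
      intro h
      apply h2
      have : (y₂ : G) = (y₁ : G)⁻¹ * ((y₁ * y₂ : D.M) : G) := by simp
      rw [this]
      exact D.E.mul_mem (D.E.inv_mem h1) h
    simp only [h1, h2, h3, if_true, if_false]
    have h4 : ((y₁ * y₂ : D.M) : G) * D.t = y₁ * ((y₂ : G) * D.t) := by simp [mul_assoc]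
    rw [h4]
    exact D.lamU_mul I.lam (hS h1) (hS (D.mul_t_mem_E y₂.2 h2))
  · have h3 : ((y₁ * y₂ : D.M) : G) ∉ D.E := by
      intro h
      apply h1
      have : (y₁ : G) = ((y₁ * y₂ : D.M) : G) * (y₂ : G)⁻¹ := by simp
      rw [this]
      exact D.E.mul_mem h (D.E.inv_mem h2)
    simp only [h1, h2, h3, if_true, if_false]
    have h4 : ((y₁ * y₂ : D.M) : G) * D.t = ((y₁ : G) * D.t) * (D.t * y₂ * D.t) := by
      calc ((y₁ * y₂ : D.M) : G) * D.t = (y₁ : G) * 1 * y₂ * D.t := by simp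
        _ = (y₁ : G) * (D.t * D.t) * y₂ * D.t := by rw [D.ht3]
        _ = _ := by group
    rw [h4, D.lamU_mul I.lam (hS (D.mul_t_mem_E y₁.2 h1)) (hS (D.conj_mem h2)), I.lamU_inv h2]
  · have hmul : ((y₁ * y₂ : D.M) : G) = ((y₁ : G) * D.t) * (D.t * ((y₂ : G) * D.t) * D.t) := by
      calc ((y₁ * y₂ : D.M) : G) = (y₁ : G) * 1 * y₂ * 1 := by simp
        _ = (y₁ : G) * (D.t * D.t) * y₂ * (D.t * D.t) := by rw [D.ht3]
        _ = _ := by group
    have hy2 := D.mul_t_mem_E y₂.2 h2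
    have hy1 := D.mul_t_mem_E y₁.2 h1
    have h3 : ((y₁ * y₂ : D.M) : G) ∈ D.E := by
      rw [hmul]
      exact D.E.mul_mem hy1 (D.conj_mem hy2)
    simp only [h1, h2, h3, if_true, if_false]
    rw [hmul, D.lamU_mul I.lam (hS hy1) (hS (D.conj_mem hy2)), I.lamU_inv hy2]

theorem lamM_of_mem {y : D.M} (hy : (y : G) ∈ D.E) : ((I.lamM y : ℂˣ) : ℂ) = D.ff I.lam y := by
  have h1 : I.lamM y = D.lamU I.lam y := by
    simp only [lamM, MonoidHom.mk'_apply, if_pos hy]
  rw [h1, D.lamU_coe I.lam (D.E_le_S hy)]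

theorem lamM_of_notMem {y : D.M} (hy : (y : G) ∉ D.E) :
    ((I.lamM y : ℂˣ) : ℂ) = D.ff I.lam (y * D.t) := by
  have h1 : I.lamM y = D.lamU I.lam (y * D.t) := by
    simp only [lamM, MonoidHom.mk'_apply, if_neg hy]
  rw [h1, D.lamU_coe I.lam (D.E_le_S (D.mul_t_mem_E y.2 hy))]

/-- The function on `M` as a character value. -/
noncomputable def lamMf : D.M → ℂ := fun y => ((I.lamM y : ℂˣ) : ℂ)

theorem isIrr_lamMf : IsIrrCharacter D.M I.lamMf := isIrrCharacter_of_monoidHom I.lamM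

/-- The exceptional function, on the whole group. -/
noncomputable def zetaG (g : G) : ℂ := by
  classical
  exact if g ∈ D.E then 0 else 2 * (D.ff I.lam (g * D.t) - 1)

theorem zetaG_of_mem {g : G} (hg : g ∈ D.E) : I.zetaG g = 0 := by
  simp only [zetaG, if_pos hg]

theorem zetaG_of_notMem {g : G} (hg : g ∉ D.E) : I.zetaG g = 2 * (D.ff I.lam (g * D.t) - 1) := by
  simp only [zetaG, if_neg hg]

theorem zetaG_mul_t {x : G} (hx : x ∈ D.E) : I.zetaG (x * D.t) = 2 * (D.ff I.lam x - 1) := by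
  rw [I.zetaG_of_notMem (D.mul_t_not_mem_E hx), mul_assoc, D.ht3, mul_one]

/-- The exceptional function on `M`. -/
noncomputable def zeta : D.M → ℂ := fun y => I.zetaG y

theorem zeta_eq_lamM {y : D.M} (hy : (y : G) ∉ D.E) : I.zeta y = 2 * (I.lamMf y - 1) := by
  simp only [zeta, I.zetaG_of_notMem hy, lamMf, I.lamM_of_notMem hy]

theorem isClass_zeta : IsClassFunction D.M I.zeta := by
  intro y g
  by_cases hy : (y : G) ∈ D.E
  · have h1 : ((g * y * g⁻¹ : D.M) : G) ∈ D.E := D.conj_mem_E_of_mem_M g.2 hy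
    simp only [zeta, I.zetaG_of_mem h1, I.zetaG_of_mem hy]
  · have h1 : ((g * y * g⁻¹ : D.M) : G) ∉ D.E := by
      intro h
      apply hy
      have h2 := D.conj_mem_E_of_mem_M (D.M.inv_mem g.2) h
      have h3 : ((g : G)⁻¹ * ((g * y * g⁻¹ : D.M) : G) * ((g : G)⁻¹)⁻¹) = y := by
        simp
        group
      rwa [h3] at h2
    rw [I.zeta_eq_lamM hy, I.zeta_eq_lamM h1]
    have h5 : I.lamM (g * y * g⁻¹) = I.lamM y := by
      rw [map_mul, map_mul, map_inv, mul_comm (I.lamM g), mul_inv_cancel_right]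
    simp only [lamMf, h5]

/-- The inner product of the exceptional function with any function. -/
theorem inner_zeta (φ : G → ℂ) :
    classInner I.zeta (fun y : D.M => φ y) =
      (Nat.card D.E : ℂ)⁻¹ * ∑ x : D.E, (D.ff I.lam x - 1) * conj (φ (x * D.t)) := by
  have hE := D.card_pos_E
  simp only [classInner, zeta]
  rw [D.card_M, D.sum_M (fun g => I.zetaG g * conj (φ g))]
  have : ∀ x : D.E, I.zetaG x * conj (φ x) + I.zetaG (x * D.t) * conj (φ (x * D.t)) =
      2 * ((D.ff I.lam x - 1) * conj (φ (x * D.t))) := by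
    intro x
    rw [I.zetaG_of_mem x.2, I.zetaG_mul_t x.2]
    ring
  rw [Finset.sum_congr rfl fun x _ => this x, ← Finset.mul_sum]
  field_simp

/-- The support of the exceptional function. -/
theorem zetaG_support {y : G} (hy : y ∈ D.M) (h0 : I.zetaG y ≠ 0) : y ∉ D.E ∧ y * y ≠ 1 := by
  have hyE : y ∉ D.E := fun h => h0 (I.zetaG_of_mem h)
  refine ⟨hyE, fun h1 => h0 ?_⟩
  have h2 : I.lamM ⟨y, hy⟩ ^ 2 = 1 := by
    rw [← map_pow, pow_two]
    have : (⟨y, hy⟩ * ⟨y, hy⟩ : D.M) = 1 := Subtype.ext h1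
    rw [this, map_one]
  have h3 := D.mul_t_mem_E hy hyE
  have h4 : D.ff I.lam (y * D.t) ^ 2 = 1 := by
    rw [← I.lamM_of_notMem (y := ⟨y, hy⟩) hyE, ← Units.val_pow_eq_pow_val, h2]
    rfl
  rw [I.zetaG_of_notMem hyE, D.ff_eq_one_of_sq I.lam h3 h4]
  simp

/-- Elements in the support of the exceptional function have no fixed points. -/
theorem zetaG_fpf {y : G} (hy : y ∈ D.M) (h0 : I.zetaG y ≠ 0) (c : Ω) : y • c ≠ c := by
  obtain ⟨hyE, hyy⟩ := I.zetaG_support hy h0
  obtain ⟨h1, h2⟩ := D.swap_of_mem_M hy hyE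
  intro hc
  have hca : c ≠ D.a := by
    rintro rfl
    exact D.hab (hc.symm.trans h1)
  have hcb : c ≠ D.b := by
    rintro rfl
    exact D.hab (h2.symm.trans hc)
  apply hyy
  refine eq_one_of_three D.hZ D.hab hcb.symm hca.symm ?_ ?_ ?_
  · rw [mul_smul, h1, h2]
  · rw [mul_smul, h2, h1]
  · rw [mul_smul, hc, hc]

/-- The set on which the exceptional function lives. -/
def T : Set G := {g | g = 1 ∨ (g ∈ D.M ∧ g ∉ D.E ∧ g * g ≠ 1)}

theorem TI_T : ∀ g : G, g ∉ D.M → ∀ t ∈ (T (D := D)), g * t * g⁻¹ ∈ (T (D := D)) → t = 1 := by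
  rintro g hg y (h | ⟨hyM, hyE, hyy⟩) hgy
  · exact h
  · rcases hgy with h1 | ⟨hwM, hwE, hww⟩
    · have : y = g⁻¹ * (g * y * g⁻¹) * g := by group
      rw [this, h1]
      group
    · exfalso
      apply hg
      obtain ⟨h1, h2⟩ := D.swap_of_mem_M hyM hyE
      obtain ⟨h3, h4⟩ := D.swap_of_mem_M hwM hwE
      have := perm_of_conj D.hZ D.hab (g := g) (x := y * y) (by rw [mul_smul, h1, h2])
        (by rw [mul_smul, h2, h1]) hyy
        (by
          have : g * (y * y) * g⁻¹ = (g * y * g⁻¹) * (g * y * g⁻¹) := by group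
          rw [this, mul_smul, h3, h4])
        (by
          have : g * (y * y) * g⁻¹ = (g * y * g⁻¹) * (g * y * g⁻¹) := by group
          rw [this, mul_smul, h4, h3])
      exact this

theorem zeta_support (y : D.M) (hy : (y : G) ∉ T (D := D)) : I.zeta y = 0 := by
  by_contra h0
  obtain ⟨h1, h2⟩ := I.zetaG_support y.2 h0
  exact hy (Or.inr ⟨y.2, h1, h2⟩)

theorem zeta_one : I.zeta 1 = 0 := I.zetaG_of_mem D.E.one_mem

/-- The induced exceptional function. -/
noncomputable def Z : G → ℂ := indFun D.M I.zeta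

theorem inner_Z_Z : classInner I.Z I.Z = 4 := by
  have hE := D.card_pos_E
  rw [Z, classInner_indFun_of_TI D.M T TI_T I.zeta I.zeta I.isClass_zeta I.zeta_support I.zeta_support
    I.zeta_one]
  have h1 := I.inner_zeta I.zetaG
  have h2 : classInner I.zeta I.zeta = classInner I.zeta fun y : D.M => I.zetaG y := rfl
  rw [h2, h1]
  have h3 : ∀ x : D.E, (D.ff I.lam x - 1) * conj (I.zetaG (x * D.t)) =
      2 * (2 - D.ff I.lam x - conj (D.ff I.lam x)) := by
    intro x
    rw [I.zetaG_mul_t x.2]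
    have h4 := D.ff_mul_conj I.lam (D.E_le_S x.2)
    simp only [map_mul, map_sub, map_one, map_ofNat]
    linear_combination 2 * h4
  rw [Finset.sum_congr rfl fun x _ => h3 x, ← Finset.mul_sum, Finset.sum_sub_distrib,
    Finset.sum_sub_distrib, ← map_sum, D.sum_ff_eq_zero I.lam I.hne]
  simp only [Finset.sum_const, Finset.card_univ, nsmul_eq_mul, map_zero, sub_zero]
  rw [← Nat.card_eq_fintype_card]
  field_simp
  ring

theorem inner_Z_one : classInner I.Z (fun _ => 1) = -1 := by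
  have hE := D.card_pos_E
  rw [Z, classInner_indFun_left D.M I.zeta _ (fun _ _ => rfl), I.inner_zeta (fun _ => 1)]
  simp only [map_one, mul_one]
  rw [Finset.sum_sub_distrib, D.sum_ff_eq_zero I.lam I.hne]
  simp only [Finset.sum_const, Finset.card_univ, nsmul_eq_mul, mul_one, zero_sub]
  rw [← Nat.card_eq_fintype_card]
  field_simp

theorem inner_Z_ind (θ : D.S → ℂ) : classInner I.Z (indFun D.S θ) = 0 := by
  rw [Z, classInner_indFun_left D.M I.zeta _ (isClassFunction_indFun D.S θ)]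
  simp only [classInner]
  rw [Finset.sum_eq_zero, mul_zero]
  intro y _
  by_cases h0 : I.zetaG y = 0
  · simp [zeta, h0]
  · rw [D.ind_of_fpf θ (I.zetaG_fpf y.2 h0)]
    simp

theorem Z_one : I.Z 1 = 0 := by
  rw [Z, indFun_one, I.zeta_one, mul_zero]

end IData

end Cfsg.Agent.Lib.Char.Zass
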