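import Mathlib
import Cfsg.Prelude.Def_LieExceptional

/-! # Zassenhaus groups: elementary structure. -/

set_option autoImplicit false

namespace Cfsg.Agent.Lib.Char.Zass

open Cfsg

variable {G Ω : Type*} [Group G] [MulAction G Ω]

theorem two_trans (hZ : IsZassenhausGroup G Ω) {a b c d : Ω} (hab : a ≠ b) (hcd : c ≠ d) :
    ∃ g : G, g • a = c ∧ g • b = d :=
  (MulAction.is_two_pretransitive_iff.mp hZ.2.1) hab hcd

theorem eq_one_of_three (hZ : IsZassenhausGroup G Ω) {g : G} {a b c : Ω} (hab : a ≠ b) (hbc : b ≠ c)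
    (hac : a ≠ c) (ha : g • a = a) (hb : g • b = b) (hc : g • c = c) : g = 1 :=
  hZ.2.2.1 g a b c hab hbc hac ha hb hc

/-- Two-point stabilizers are nontrivial. -/
theorem exists_ne_one_fix (hZ : IsZassenhausGroup G Ω) {a b : Ω} (hab : a ≠ b) :
    ∃ g : G, g ≠ 1 ∧ g • a = a ∧ g • b = b := by
  obtain ⟨g, hg, c, d, hcd, hc, hd⟩ := hZ.2.2.2.1
  obtain ⟨u, hu1, hu2⟩ := two_trans hZ hcd hab
  refine ⟨u * g * u⁻¹, ?_, ?_, ?_⟩
  · intro h
    apply hg
    have : g = u⁻¹ * (u * g * u⁻¹) * u := by group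
    rw [this, h]; group
  · rw [← hu1]
    simp [mul_smul, hc]
  · rw [← hu2]
    simp [mul_smul, hd]

/-- There is a third point. -/
theorem exists_third (hZ : IsZassenhausGroup G Ω) {a b : Ω} (hab : a ≠ b) :
    ∃ c : Ω, c ≠ a ∧ c ≠ b := by
  obtain ⟨g, hg, ha, hb⟩ := exists_ne_one_fix hZ hab
  by_contra hcon
  push Not at hcon
  apply hg
  haveI := hZ.1
  apply FaithfulSMul.eq_of_smul_eq_smul (α := Ω)
  intro c
  rw [one_smul]
  by_cases hca : c = a
  · rw [hca, ha]
  · rw [hcon c hca, hb]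

section Kernel

variable [Fintype Ω]

variable [Finite G]

/-- The subgroup `H` is regular on the complement of `a`. -/
theorem regular_of_kernel {a : Ω} {H : Subgroup G}
    (hHcard : Nat.card H + 1 = Fintype.card Ω)
    (hHa : H ≤ MulAction.stabilizer G a)
    (hHfix : ∀ u ∈ H, u ≠ 1 → ∀ c : Ω, u • c = c → c = a) {c d : Ω} (hc : c ≠ a) (hd : d ≠ a) :
    ∃ u ∈ H, u • c = d := by
  classical
  have hH : ∀ u ∈ H, u • a = a := fun u hu => hHa hu
  let φ : H → {x : Ω // x ≠ a} := fun u => ⟨(u : G) • c, by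
    intro h
    have h1 : (u : G) • a = a := hH u u.2
    have : (u : G) • c = (u : G) • a := by rw [h, h1]
    exact hc (smul_left_cancel _ this)⟩
  have hinj : Function.Injective φ := by
    intro u v huv
    have h1 : (u : G) • c = (v : G) • c := congrArg Subtype.val huv
    have h2 : ((v : G)⁻¹ * u) • c = c := by
      rw [mul_smul, h1, inv_smul_smul]
    by_contra hne
    have h3 : (v : G)⁻¹ * u ≠ 1 := by
      intro h
      apply hne
      apply Subtype.ext
      have : (v : G) * ((v : G)⁻¹ * u) = v := by rw [h, mul_one]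
      simpa using this
    exact hc (hHfix _ (H.mul_mem (H.inv_mem v.2) u.2) h3 c h2)
  let _ : Fintype H := Fintype.ofFinite H
  have hcard : Fintype.card H = Fintype.card {x : Ω // x ≠ a} := by
    rw [Fintype.card_subtype_compl, Fintype.card_subtype_eq]
    rw [← Nat.card_eq_fintype_card]
    omega
  have hbij : Function.Bijective φ := (Fintype.bijective_iff_injective_and_card φ).mpr ⟨hinj, hcard⟩
  obtain ⟨u, hu⟩ := hbij.2 ⟨d, hd⟩
  exact ⟨u, u.2, congrArg Subtype.val hu⟩

/-- An element of the stabilizer of `a` fixing no other point is in `H`. -/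
theorem mem_kernel_of_fpf (hZ : IsZassenhausGroup G Ω) {a : Ω} {H : Subgroup G}
    (hHcard : Nat.card H + 1 = Fintype.card Ω)
    (hHa : H ≤ MulAction.stabilizer G a)
    (hHfix : ∀ u ∈ H, u ≠ 1 → ∀ c : Ω, u • c = c → c = a) {x : G} (hxa : x • a = a)
    (hx : ∀ c : Ω, x • c = c → c = a) : x ∈ H := by
  classical
  by_contra hxH
  have hreg := fun (c d : Ω) (hc : c ≠ a) (hd : d ≠ a) => regular_of_kernel hHcard hHa hHfix hc hd
  have hne : ∀ c : {y : Ω // y ≠ a}, x • (c : Ω) ≠ a := by
    intro c h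
    have : x • (c : Ω) = x • a := by rw [h, hxa]
    exact c.2 (smul_left_cancel _ this)
  choose f hfH hf using fun c : {y : Ω // y ≠ a} => hreg c (x • (c : Ω)) c.2 (hne c)
  have hH : ∀ u ∈ H, u • a = a := fun u hu => hHa hu
  have hfix : ∀ c : {y : Ω // y ≠ a}, ((f c)⁻¹ * x) • (c : Ω) = c := by
    intro c
    rw [mul_smul, ← hf c, inv_smul_smul]
  have hfix_a : ∀ c : {y : Ω // y ≠ a}, ((f c)⁻¹ * x) • a = a := by
    intro c
    rw [mul_smul, hxa, inv_smul_eq_iff, hH _ (hfH c)]
  let F : {y : Ω // y ≠ a} → H := fun c => ⟨f c, hfH c⟩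
  have hFinj : Function.Injective F := by
    intro c d hcd
    have hcd' : f c = f d := congrArg Subtype.val hcd
    by_contra hne'
    have hne'' : (c : Ω) ≠ d := fun h => hne' (Subtype.ext h)
    have h1 : (f c)⁻¹ * x = 1 :=
      eq_one_of_three hZ c.2.symm hne'' (d.2.symm) (hfix_a c) (hfix c) (by
        rw [hcd']; exact hfix d)
    apply hxH
    have : x = f c := by
      have : (f c) * ((f c)⁻¹ * x) = f c := by rw [h1, mul_one]
      simpa using this
    rw [this]; exact hfH c
  let _ : Fintype H := Fintype.ofFinite H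
  have hcard : Fintype.card {x : Ω // x ≠ a} = Fintype.card H := by
    rw [Fintype.card_subtype_compl, Fintype.card_subtype_eq]
    rw [← Nat.card_eq_fintype_card (α := H)]
    omega
  have hbij : Function.Bijective F := (Fintype.bijective_iff_injective_and_card F).mpr ⟨hFinj, hcard⟩
  obtain ⟨c, hc⟩ := hbij.2 ⟨1, H.one_mem⟩
  have h1 : f c = 1 := congrArg Subtype.val hc
  have h2 := hf c
  rw [h1, one_smul] at h2
  exact c.2 (hx c h2.symm)

/-- `H` is normalized by the stabilizer. -/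
theorem conj_mem_kernel (hZ : IsZassenhausGroup G Ω) {a : Ω} {H : Subgroup G}
    (hHcard : Nat.card H + 1 = Fintype.card Ω)
    (hHa : H ≤ MulAction.stabilizer G a)
    (hHfix : ∀ u ∈ H, u ≠ 1 → ∀ c : Ω, u • c = c → c = a) {g : G} (hg : g • a = a) {u : G} (hu : u ∈ H) :
    g * u * g⁻¹ ∈ H := by
  by_cases hu1 : u = 1
  · simp [hu1]
  · have hua : u • a = a := hHa hu
    apply mem_kernel_of_fpf hZ hHcard hHa hHfix
    · rw [mul_smul, mul_smul, inv_smul_eq_iff.mpr hg.symm, hua, hg]
    · intro c hc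
      rw [mul_smul, mul_smul, smul_eq_iff_eq_inv_smul] at hc
      have := hHfix u hu hu1 _ hc
      rw [inv_smul_eq_iff, hg] at this
      exact this

end Kernel

end Cfsg.Agent.Lib.Char.Zass
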